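import Mathlib
import Cfsg.Agent.OddHalf.MM.Main_m3
import Cfsg.Agent.PermutationGroups.TwoTransitiveNormal
import Cfsg.Agent.S0050
import Cfsg.Agent.SignalizersComponents.CoprimeBasic
import Cfsg.Agent.OddHalf.SpN.Start_m3
import Cfsg.Agent.OddHalf.Front.FE
import Cfsg.Agent.OddHalf.D9.KillAny_m3
import Cfsg.Agent.StandardComponent.AltFinal
import Mathlib.Data.Nat.Notation
import Cfsg.Agent.KFacts.MM.InvM22
import Cfsg.Agent.J4Type.Aut22
import Cfsg.Agent.Lib.ListFast
import Cfsg.Agent.OddHalf.Quat.KTwoOf_m3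
import Cfsg.Agent.KFacts.RgdOdd
import Cfsg.Agent.KFacts.RgdFixU
import Cfsg.Agent.KFacts.RgdSyl
import Cfsg.Agent.LieClassical.SympCount
import Cfsg.Agent.OddHalf.F4.EndOut_m3
import Cfsg.Agent.FastGrp
import Cfsg.Agent.Prune
set_option linter.all false

section
prune_inst 0x7fbcfefb2fb82ddfdfff7e7ffef1dffd99f89fffe6def9cbffe8e9ff0bdf030aa9e5ab850de010ff0ed762b410b87813f97ecfffee6bdc7ffffd5ff45ffbee0fe5f6bd0951d684240fbc0fff63f07f8e7f3fffffffffffffffffffffffffffbeffffffffffff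

-- part: OddHalf/SpN/TU
section
set_option linter.all false
open scoped Cfsg.Agent.FastGrp

/-!
# The Sylow 2-subgroup of `Sp_2n(F)`, `char F = 2`, in matrix entries

`pos` : the position of a signed index in the flag `e_1, …, e_n, e_{-n}, …, e_{-1}`; `Uu n F` : the upper
unitriangular elements of `Sp`.

* `Uu_isPGroup`, `sh_norm`, `sy_mem`, `sx_mem`, `iff_flag`;
* `flag_of_semi`, `flag_of_semi'` : a semisimilitude normalising `Uu` preserves the flag; `exists_of_norm` : an
  element of `Sp` normalising `Uu` is `u * sh lam`;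
* `eq_sa_of_ent` : elements with few entries are `sa U M`.
-/

set_option autoImplicit false
set_option linter.unusedSimpArgs false

namespace Cfsg.Agent.OddHalf.SpN.TU

open Cfsg Cfsg.Agent.ClassicalGeometry.SympBasic Cfsg.Agent.ClassicalGeometry.SympAutSemi
open Cfsg.Agent.OddHalf.SpN

variable {n : ℕ} {F : Type*} [Field F]

/-! ### Positions -/

/-- position of a signed index in the flag -/
def pos : Ix n → ℕ
  | Sum.inl i => i
  | Sum.inr i => 2 * n - 1 - i

@[simp] theorem pos_inl (i : Fin n) : pos (Sum.inl i : Ix n) = i := rfl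

@[simp] theorem pos_inr (i : Fin n) : pos (Sum.inr i : Ix n) = 2 * n - 1 - i := rfl

theorem pos_lt (k : Ix n) : pos k < 2 * n := by
  rcases k with i | i
  · rw [pos_inl]; omega
  · rw [pos_inr]; omega

theorem pos_neg (k : Ix n) : pos (neg k) = 2 * n - 1 - pos k := by
  rcases k with i | i
  · rfl
  · rw [neg_inr, pos_inl, pos_inr]; omega

theorem pos_inj {k l : Ix n} (h : pos k = pos l) : k = l := by
  rcases k with i | i <;> rcases l with j | j
  · rw [pos_inl, pos_inl] at h; rw [Fin.ext h]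
  · rw [pos_inl, pos_inr] at h; omega
  · rw [pos_inl, pos_inr] at h; omega
  · rw [pos_inr, pos_inr] at h
    have : i = j := Fin.ext (by omega)
    rw [this]

theorem pos_neg_le {k l : Ix n} : pos (neg k) ≤ pos (neg l) ↔ pos l ≤ pos k := by
  rw [pos_neg, pos_neg]
  have := pos_lt k
  have := pos_lt l
  omega

theorem pos_neg_lt {k l : Ix n} : pos (neg k) < pos (neg l) ↔ pos l < pos k := by
  rw [pos_neg, pos_neg]
  have := pos_lt k
  have := pos_lt l
  omega

theorem exists_pos {m : ℕ} (h : m < 2 * n) : ∃ k : Ix n, pos k = m := by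
  by_cases hm : m < n
  · exact ⟨Sum.inl ⟨m, hm⟩, rfl⟩
  · exact ⟨Sum.inr ⟨2 * n - 1 - m, by omega⟩, by rw [pos_inr]; simp only; omega⟩

/-! ### Entries -/

theorem ent_one (l k : Ix n) : ent (1 : Sy n F) l k = if l = k then 1 else 0 := by
  rw [ent, map_one, Equiv.Perm.one_apply, be_apply]

theorem ent_mul (A B : Sy n F) (l k : Ix n) : ent (A * B) l k = ∑ m, ent A l m * ent B m k := by
  rw [ent, map_mul, Equiv.Perm.mul_apply, rho_eq_sum]
  exact Finset.sum_congr rfl fun m _ => mul_comm _ _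

theorem ent_sh (lam : Fin n → Fˣ) (l k : Ix n) : ent (sh lam) l k = if l = k then (ev lam k : F) else 0 := by
  rw [ent, rho_sh, be_apply]
  by_cases h : l = k
  · subst h; simp
  · simp [h]

theorem ent_sh_mul (lam : Fin n → Fˣ) (A : Sy n F) (l k : Ix n) : ent (sh lam * A) l k = ev lam l * ent A l k := by
  rw [ent, map_mul, Equiv.Perm.mul_apply, rho_sh]; rfl

theorem ent_mul_sh (lam : Fin n → Fˣ) (A : Sy n F) (l k : Ix n) : ent (A * sh lam) l k = ent A l k * ev lam k := by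
  rw [ent_mul, Finset.sum_eq_single k]
  · rw [ent_sh, if_pos rfl]
  · intro m _ hm; rw [ent_sh, if_neg hm, mul_zero]
  · intro h; exact absurd (Finset.mem_univ _) h

section chartwo

variable [CharP F 2]

theorem form_comm (u v : Ix n → F) : sympForm n F u v = sympForm n F v u := by
  rw [sympForm_swap, CharTwo.neg_eq]

theorem ent_inv (A : Sy n F) (l k : Ix n) : ent A⁻¹ l k = ent A (neg k) (neg l) := by
  have h1 : sympForm n F (rho n F A⁻¹ (be n F k)) (be n F (neg l)) = ent A⁻¹ l k := by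
    rw [form_be, SpN.neg_neg]; rfl
  have h2 : sympForm n F (rho n F A (be n F (neg l))) (be n F k) = ent A (neg k) (neg l) := by
    rw [form_be]; rfl
  rw [← h1, ← h2, ← sympForm_rho A (rho n F A⁻¹ (be n F k)), form_comm]
  congr 1
  rw [← Equiv.Perm.mul_apply, ← map_mul, mul_inv_cancel, map_one, Equiv.Perm.one_apply]

theorem ent_sy (i : Ix n) (a : F) (l k : Ix n) :
    ent (sy i a) l k = (if l = k then 1 else 0) + if l = i ∧ k = neg i then a else 0 := by
  rw [ent, rho_sy, Pi.add_apply, Pi.smul_apply, smul_eq_mul, be_apply, be_apply, be_apply]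
  have e1 : (neg i = k) = (k = neg i) := propext eq_comm
  simp only [e1, mul_ite, mul_one, mul_zero, ite_and]

theorem ent_sx {i j : Ix n} (hd : Dj i j) (a : F) (l k : Ix n) :
    ent (sx i j a) l k = (if l = k then 1 else 0) + (if l = i ∧ k = neg j then a else 0) +
      if l = j ∧ k = neg i then a else 0 := by
  rw [ent, rho_sx hd, Pi.add_apply, Pi.add_apply, Pi.smul_apply, Pi.smul_apply, smul_eq_mul, smul_eq_mul,
    be_apply, be_apply, be_apply, be_apply, be_apply]
  have e1 : (neg i = k) = (k = neg i) := propext eq_comm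
  have e2 : (neg j = k) = (k = neg j) := propext eq_comm
  simp only [e1, e2, mul_ite, mul_one, mul_zero, ite_and]

/-! ### The group `Uu` -/

variable (n F)

/-- the upper unitriangular elements -/
def Uu : Subgroup (Sy n F) where
  carrier := {A | ∀ l k, pos k ≤ pos l → ent A l k = if l = k then 1 else 0}
  one_mem' := fun l k _ => ent_one l k
  mul_mem' := by
    intro A B hA hB l k hkl
    rw [ent_mul, Finset.sum_eq_single l]
    · rw [hA l l le_rfl, if_pos rfl, one_mul]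
      exact hB l k hkl
    · intro m _ hm
      rcases le_or_gt (pos m) (pos l) with h | h
      · rw [hA l m h, if_neg hm.symm, zero_mul]
      · rw [hB m k (hkl.trans h.le), if_neg, mul_zero]
        rintro rfl
        omega
    · intro h; exact absurd (Finset.mem_univ _) h
  inv_mem' := by
    intro A hA l k hkl
    rw [ent_inv, hA _ _ (pos_neg_le.mpr hkl)]
    simp only [neg_inj]
    congr 1
    exact propext eq_comm

variable {n F}

theorem mem_Uu {A : Sy n F} : A ∈ Uu n F ↔ ∀ l k, pos k ≤ pos l → ent A l k = if l = k then 1 else 0 := Iff.rfl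

theorem Uu_zero {A : Sy n F} (h : A ∈ Uu n F) {l k : Ix n} (hlk : pos k < pos l) : ent A l k = 0 := by
  rw [h l k hlk.le, if_neg]
  rintro rfl
  omega

theorem Uu_diag {A : Sy n F} (h : A ∈ Uu n F) (k : Ix n) : ent A k k = 1 := by
  rw [h k k le_rfl, if_pos rfl]

theorem sy_mem {i : Ix n} (h : pos i < pos (neg i)) (a : F) : sy i a ∈ Uu n F := by
  intro l k hkl
  have h1 : ¬ (l = i ∧ k = neg i) := by
    rintro ⟨rfl, rfl⟩
    omega
  rw [ent_sy, if_neg h1, add_zero]

theorem sx_mem {i j : Ix n} (h : pos i < pos (neg j)) (a : F) : sx i j a ∈ Uu n F := by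
  by_cases hd : Dj i j
  · intro l k hkl
    have h1 : ¬ (l = i ∧ k = neg j) := by
      rintro ⟨rfl, rfl⟩
      omega
    have h2 : ¬ (l = j ∧ k = neg i) := by
      rintro ⟨rfl, rfl⟩
      rw [pos_neg] at h hkl
      have := pos_lt i
      have := pos_lt l
      omega
    rw [ent_sx hd, if_neg h1, if_neg h2, add_zero, add_zero]
  · rw [sx_of_not hd]; exact one_mem _

theorem sy_inl_mem (i : Fin n) (a : F) : sy (Sum.inl i) a ∈ Uu n F :=
  sy_mem (by rw [neg_inl, pos_inl, pos_inr]; omega) a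

theorem sx_inl_inl_mem (i j : Fin n) (a : F) : sx (Sum.inl i) (Sum.inl j) a ∈ Uu n F :=
  sx_mem (by rw [neg_inl, pos_inl, pos_inr]; omega) a

theorem sx_inl_inr_mem {i j : Fin n} (h : i < j) (a : F) : sx (Sum.inl i) (Sum.inr j) a ∈ Uu n F :=
  sx_mem (by rw [neg_inr, pos_inl, pos_inl]; exact h) a

/-- the torus normalises `Uu` -/
theorem sh_norm (lam : Fin n → Fˣ) {A : Sy n F} (h : A ∈ Uu n F) : sh lam * A * (sh lam)⁻¹ ∈ Uu n F := by
  intro l k hkl
  rw [← map_inv, ent_mul_sh, ent_sh_mul, h l k hkl]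
  by_cases hlk : l = k
  · subst hlk
    rw [if_pos rfl, mul_one]
    have e : ev lam⁻¹ l = (ev lam l)⁻¹ := by rcases l with i | i <;> simp [ev]
    rw [e, Units.mul_inv]
  · rw [if_neg hlk, mul_zero, zero_mul]

/-- the elements of level `≥ j` -/
theorem sq_level {A : Sy n F} {j : ℕ} (hj : 1 ≤ j)
    (h : ∀ l k, pos k < pos l + j → ent A l k = if l = k then 1 else 0) :
    ∀ l k, pos k < pos l + (j + 1) → ent (A * A) l k = if l = k then 1 else 0 := by
  intro l k hkl
  by_cases hlk : l = k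
  · subst hlk
    rw [if_pos rfl, ent_mul, Finset.sum_eq_single l]
    · rw [h l l (by omega), if_pos rfl, mul_one]
    · intro m _ hm
      rcases lt_or_ge (pos m) (pos l + j) with h1 | h1
      · rw [h l m h1, if_neg hm.symm, zero_mul]
      · rw [h m l (by omega), if_neg hm, mul_zero]
    · intro h; exact absurd (Finset.mem_univ _) h
  · rw [if_neg hlk, ent_mul, ← Finset.sum_subset (Finset.subset_univ ({l, k} : Finset (Ix n))), Finset.sum_pair hlk]
    · rw [h l l (by omega), h k k (by omega), if_pos rfl, if_pos rfl, one_mul, mul_one, CharTwo.add_self_eq_zero]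
    · intro m _ hm
      rw [Finset.mem_insert, Finset.mem_singleton, not_or] at hm
      rcases lt_or_ge (pos m) (pos l + j) with h1 | h1
      · rw [h l m h1, if_neg (fun e => hm.1 e.symm), zero_mul]
      · rw [h m k (by omega), if_neg hm.2, mul_zero]

theorem Uu_isPGroup : IsPGroup 2 (Uu n F) := by
  intro A
  have main : ∀ i : ℕ, ∀ l k, pos k < pos l + (i + 1) →
      ent ((A : Sy n F) ^ 2 ^ i) l k = if l = k then 1 else 0 := by
    intro i
    induction i with
    | zero =>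
      intro l k hkl
      rw [pow_zero, pow_one]
      exact A.2 l k (by omega)
    | succ i ih =>
      rw [pow_succ, pow_mul, pow_two]
      exact sq_level (by omega) ih
  refine ⟨2 * n, Subtype.ext ?_⟩
  rw [Subgroup.coe_pow]
  apply ext_ent
  intro l k
  rw [main (2 * n) l k (by have := pos_lt k; omega)]
  exact (ent_one l k).symm

/-! ### The flag -/

/-- `v` is in the subspace `V_k` of the flag -/
def InV (k : ℕ) (v : Ix n → F) : Prop := ∀ m, k ≤ pos m → v m = 0

theorem Uu_sub {A : Sy n F} (hA : A ∈ Uu n F) {k : ℕ} {v : Ix n → F} (hv : InV (k + 1) v) :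
    InV k (rho n F A v - v) := by
  intro m hm
  rw [Pi.sub_apply, rho_eq_sum, Finset.sum_eq_single m]
  · rw [Uu_diag hA, mul_one, sub_self]
  · intro l _ hl
    rcases lt_or_ge (pos l) (pos m) with h | h
    · rw [Uu_zero hA h, mul_zero]
    · rw [hv l ?_, zero_mul]
      have h1 : pos l ≠ pos m := fun e => hl (pos_inj e)
      omega
  · intro h; exact absurd (Finset.mem_univ _) h

theorem inV_succ {k : ℕ} {v : Ix n → F} (h : ∀ A ∈ Uu n F, InV k (rho n F A v - v)) : InV (k + 1) v := by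
  intro m hm
  obtain ⟨m', hm'⟩ := exists_pos (n := n) (m := pos m - 1) (by have := pos_lt m; omega)
  have hlt : pos m' < pos m := by omega
  by_cases hmm : m = neg m'
  · have h1 := h (sy m' 1) (sy_mem (by rwa [← hmm]) 1) m' (by omega)
    rw [rho_sy, Pi.sub_apply, Pi.add_apply, Pi.smul_apply, smul_eq_mul, be_apply, if_pos rfl, ← hmm, add_sub_cancel_left,
      one_mul, mul_one] at h1
    exact h1
  · have hd : Dj m' (neg m) := by
      rw [dj_neg_right]
      refine ⟨fun e => ?_, fun e => hmm (by rw [e, neg_neg])⟩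
      rw [e] at hlt
      omega
    have h1 := h (sx m' (neg m) 1) (sx_mem (by rwa [neg_neg]) 1) m' (by omega)
    rw [rho_sx hd, Pi.sub_apply, Pi.add_apply, Pi.add_apply, Pi.smul_apply, Pi.smul_apply, smul_eq_mul, smul_eq_mul,
      be_apply, be_apply, if_pos rfl, if_neg hd.1, neg_neg, one_mul, mul_one, mul_zero, add_zero,
      add_sub_cancel_left] at h1
    exact h1

/-- **(2a)** an additive bijection `s` with `s⁻¹ Uu s ≤ Uu` preserves the flag -/
theorem flag_of_conj {s : Equiv.Perm (Ix n → F)} (hs : ∀ u v, s (u + v) = s u + s v)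
    (h : ∀ A ∈ Uu n F, ∃ B ∈ Uu n F, rho n F B = s⁻¹ * rho n F A * s) (k : ℕ) :
    ∀ v, InV k v → InV k (s v) := by
  have hsub : ∀ u v, s (u - v) = s u - s v := by
    intro u v
    rw [eq_sub_iff_add_eq, ← hs, sub_add_cancel]
  have h0 : s 0 = 0 := by
    have := hs 0 0
    rw [add_zero] at this
    exact (add_eq_left (a := s 0)).mp this.symm
  induction k with
  | zero =>
    intro v hv
    have hv0 : v = 0 := funext fun m => hv m (Nat.zero_le _)
    rw [hv0, h0]
    intro m _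
    rfl
  | succ k ih =>
    intro v hv
    apply inV_succ
    intro A hA
    obtain ⟨B, hB, he⟩ := h A hA
    have h1 := ih _ (Uu_sub hB hv)
    rw [hsub, he, Equiv.Perm.mul_apply, Equiv.Perm.mul_apply, perm_apply_inv_self] at h1
    exact h1

/-- **(2a)** for a semisimilitude `s` with `s Uu s⁻¹ ≤ Uu`, `F` finite -/
theorem flag_of_semi [Finite F] {s : Equiv.Perm (Ix n → F)} {φ : F ≃+* F} {l : F} (hs : IsSemi s φ l)
    (h : ∀ A ∈ Uu n F, ∃ B ∈ Uu n F, rho n F B = s * rho n F A * s⁻¹) (k : ℕ) :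
    ∀ v, InV k v → InV k (s v) := by
  classical
  apply flag_of_conj hs.1
  -- conjugation is a bijection of `Uu`
  choose! f hf hf' using h
  let g : Uu n F → Uu n F := fun A => ⟨f A, hf A A.2⟩
  have hg : Function.Injective g := by
    intro A B hAB
    have h1 : f A = f B := congrArg Subtype.val hAB
    have h2 := hf' A A.2
    rw [h1, hf' B B.2] at h2
    exact Subtype.ext (rho_injective (mul_left_cancel (mul_right_cancel h2)).symm)
  have hgs := Finite.surjective_of_injective hg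
  intro A hA
  obtain ⟨B, hB⟩ := hgs ⟨A, hA⟩
  refine ⟨B, B.2, ?_⟩
  have h1 : f B = A := congrArg Subtype.val hB
  rw [← h1, hf' B B.2]
  group

omit [CharP F 2] in
theorem inV_be {k : ℕ} {m : Ix n} (h : pos m < k) : InV k (be n F m) := by
  intro l hl
  rw [be_apply, if_neg]
  rintro rfl
  omega

/-- an element of `Sp` preserving the flag is `u * sh lam` -/
theorem exists_of_flag {A : Sy n F} (h : ∀ l k, pos k < pos l → ent A l k = 0) :
    ∃ u ∈ Uu n F, ∃ lam : Fin n → Fˣ, A = u * sh lam := by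
  have hd : ∀ k, ent A (neg k) (neg k) * ent A k k = 1 := by
    intro k
    have h1 := ent_one (F := F) k k
    rw [if_pos rfl, ← inv_mul_cancel A, ent_mul, Finset.sum_eq_single k, ent_inv] at h1
    · exact h1
    · intro m _ hm
      rw [ent_inv]
      rcases lt_or_ge (pos k) (pos m) with h2 | h2
      · rw [h m k h2, mul_zero]
      · have h3 : pos k ≠ pos m := fun e => hm (pos_inj e.symm)
        rw [h _ _ (pos_neg_lt.mpr (by omega)), zero_mul]
    · intro h; exact absurd (Finset.mem_univ _) h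
  have hne : ∀ i : Fin n, ent A (Sum.inl i) (Sum.inl i) ≠ 0 := by
    intro i h0
    have := hd (Sum.inl i)
    rw [h0, mul_zero] at this
    exact zero_ne_one this
  let lam : Fin n → Fˣ := fun i => Units.mk0 _ (hne i)
  have hev : ∀ k, (ev lam k : F) = ent A k k := by
    intro k
    rcases k with i | i
    · rfl
    · change (((lam i)⁻¹ : Fˣ) : F) = _
      rw [Units.val_inv_eq_inv_val]
      change (ent A (Sum.inl i) (Sum.inl i))⁻¹ = _
      have := hd (Sum.inl i)
      rw [neg_inl] at this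
      exact (eq_inv_of_mul_eq_one_left this).symm
  have hev' : ∀ k, ((ev lam⁻¹ k : Fˣ) : F) = (ent A k k)⁻¹ := by
    intro k
    have e : ev lam⁻¹ k = (ev lam k)⁻¹ := by rcases k with i | i <;> simp [ev]
    rw [e, Units.val_inv_eq_inv_val, hev]
  refine ⟨A * (sh lam)⁻¹, ?_, lam, by rw [inv_mul_cancel_right]⟩
  intro l k hkl
  rw [← map_inv, ent_mul_sh, hev']
  by_cases hlk : l = k
  · subst hlk
    rw [if_pos rfl]
    apply mul_inv_cancel₀
    intro h0
    have := hd l
    rw [h0, mul_zero] at this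
    exact zero_ne_one this
  · rw [if_neg hlk, h l k, zero_mul]
    have : pos l ≠ pos k := fun e => hlk (pos_inj e)
    omega

/-- **(2b)** an element of `Sp` normalising `Uu` is `u * sh lam` -/
theorem exists_of_norm [Finite F] {A : Sy n F} (h : ∀ B ∈ Uu n F, A * B * A⁻¹ ∈ Uu n F) :
    ∃ u ∈ Uu n F, ∃ lam : Fin n → Fˣ, A = u * sh lam := by
  apply exists_of_flag
  intro l k hkl
  have h1 := flag_of_semi (isSemi_rho A) (fun B hB => ⟨_, h B hB, by
    rw [map_mul, map_mul, map_inv]⟩) (pos k + 1) _ (inV_be (F := F) (m := k) (by omega)) l (by omega)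
  exact h1

end chartwo

end Cfsg.Agent.OddHalf.SpN.TU
end

-- part: OddHalf/SpN/WFrame
section
prune_inst 0x400000804082200000018001060000640060001921060000040000840048005602504292184a0011208002a5420300068110000000200000000000800011800800008000001810000000000000000000000000000000000000000000000000000000000000
set_option linter.all false
open scoped Cfsg.Agent.FastGrp

-- merged: Cfsg.Agent.OddHalf.SpN.WExist
section

/-!
# ODD D7, `K = Sp_2n(q)`: the double of a root group (section 2 of `blueprints/ODD-D7-Sp-helper297.md`)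

`Loc t x h χ` : `x : F → G` a root group commuting with the involution `t`, `h : A → G` a torus acting on it with the
character `χ`; `F1c`: `C(t) ∩ C(h(ker χ)) ∩ C(X) = ⟨t⟩ X h(ker χ)`; `mv`: every `t x(u)` is a conjugate of `t` under
`C(h(ker χ)) ∩ C(X)`.

`Dbl t x h χ` is the (canonical) double of `X`: `Loc.exists_w` gives coordinates `w : F → G`.
-/

set_option autoImplicit false

namespace Cfsg.Agent.OddHalf.SpN.WExist

open Subgroup

variable {F : Type*} [Field F] {G : Type*} [Group G] {A : Type*} [CommGroup A]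

/-- the data of a root group -/
structure Loc (t : G) (x : F → G) (h : A →* G) (χ : A →* Fˣ) : Prop where
  two : ∀ a : F, a + a = 0
  tt : t * t = 1
  x_add : ∀ u v, x (u + v) = x u * x v
  x_one : ∀ u, x u = 1 → u = 0
  tx : ∀ u, Commute t (x u)
  ne : ∀ u, x u ≠ t
  ht : ∀ a, Commute (h a) t
  hx : ∀ a u, h a * x u * (h a)⁻¹ = x (χ a * u)
  surj : Function.Surjective χ
  big : ∃ c : F, c ≠ 0 ∧ c ≠ 1
  exp : ∃ N : ℕ, Odd N ∧ ∀ a, h a ^ N = 1
  F1c : ∀ g, Commute g t → (∀ a, χ a = 1 → Commute g (h a)) → (∀ u, Commute g (x u)) →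
    ∃ u a, χ a = 1 ∧ (g = x u * h a ∨ g = t * (x u * h a))
  mv : ∀ u, ∃ g, (∀ a, χ a = 1 → Commute g (h a)) ∧ (∀ v, Commute g (x v)) ∧ g * t * g⁻¹ = t * x u

/-- `C(X) ∩ C(ker χ)`, moving `t` to `t x(u)` -/
def Mv (t : G) (x : F → G) (h : A →* G) (χ : A →* Fˣ) (g : G) (u : F) : Prop :=
  (∀ a, χ a = 1 → Commute g (h a)) ∧ (∀ v, Commute g (x v)) ∧ g * t * g⁻¹ = t * x u

/-- the 2-elements -/
def Bs (t : G) (x : F → G) (h : A →* G) (χ : A →* Fˣ) (b : G) (u : F) : Prop :=
  Mv t x h χ b u ∧ ∃ v, b * b = x v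

/-- the double of `X` -/
def Dbl (t : G) (x : F → G) (h : A →* G) (χ : A →* Fˣ) : Subgroup G :=
  closure ({g | ∃ u, g = x u} ∪ {g | ∃ b u, Bs t x h χ b u ∧ ∃ a, g = b⁻¹ * (h a * b * (h a)⁻¹)})

namespace Loc

variable {t : G} {x : F → G} {h : A →* G} {χ : A →* Fˣ}

theorem x_zero (L : Loc t x h χ) : x 0 = 1 := by
  have := L.x_add 0 0
  rw [add_zero] at this
  exact left_eq_mul.1 this

theorem x_sq (L : Loc t x h χ) (a : F) : x a * x a = 1 := by
  rw [← L.x_add, L.two, L.x_zero]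

theorem x_inv (L : Loc t x h χ) (a : F) : (x a)⁻¹ = x a :=
  inv_eq_of_mul_eq_one_left (L.x_sq a)

theorem t_inv (L : Loc t x h χ) : t⁻¹ = t := inv_eq_of_mul_eq_one_left L.tt

theorem x_inj (L : Loc t x h χ) {a b : F} (e : x a = x b) : a = b := by
  have h2 : x (a + b) = 1 := by rw [L.x_add, e, L.x_sq]
  have h3 := L.x_one _ h2
  calc a = a + (b + b) := by rw [L.two, add_zero]
    _ = (a + b) + b := by ring
    _ = b := by rw [h3, zero_add]

theorem xx (L : Loc t x h χ) (a b : F) : Commute (x a) (x b) := by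
  show x a * x b = x b * x a
  rw [← L.x_add, ← L.x_add, add_comm]

/-- odd order elements -/
theorem h_one_of_sq (L : Loc t x h χ) {a : A} (e : h a * h a = 1) : h a = 1 := by
  obtain ⟨N, ⟨k, hk⟩, hN⟩ := L.exp
  have h1 := hN a
  rw [hk, pow_succ, pow_mul, pow_two, e, one_pow, one_mul] at h1
  exact h1

theorem h_one_of_x (L : Loc t x h χ) {a : A} {u : F} (e : h a * h a = x u) : h a = 1 := by
  apply L.h_one_of_sq
  have h1 : h (a * a) = 1 := by
    apply L.h_one_of_sq
    rw [map_mul, e, L.x_sq]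
  rwa [map_mul] at h1

theorem mv_unique (L : Loc t x h χ) {g : G} {u v : F} (h1 : Mv t x h χ g u) (h2 : Mv t x h χ g v) : u = v := by
  have := h1.2.2.symm.trans h2.2.2
  exact L.x_inj (mul_left_cancel this)

theorem mv_one (L : Loc t x h χ) : Mv t x h χ 1 0 :=
  ⟨fun _ _ => Commute.one_left _, fun _ => Commute.one_left _, by rw [L.x_zero]; group⟩

theorem mv_mul (L : Loc t x h χ) {g g' : G} {u v : F} (h1 : Mv t x h χ g u) (h2 : Mv t x h χ g' v) :
    Mv t x h χ (g * g') (u + v) := by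
  refine ⟨fun a ha => (h1.1 a ha).mul_left (h2.1 a ha), fun w => (h1.2.1 w).mul_left (h2.2.1 w), ?_⟩
  calc g * g' * t * (g * g')⁻¹ = g * (g' * t * g'⁻¹) * g⁻¹ := by group
    _ = g * (t * x v) * g⁻¹ := by rw [h2.2.2]
    _ = (g * t * g⁻¹) * (g * x v * g⁻¹) := by group
    _ = t * x u * x v := by rw [h1.2.2, (h1.2.1 v).eq]; group
    _ = t * x (u + v) := by rw [L.x_add, mul_assoc]

theorem mv_inv (L : Loc t x h χ) {g : G} {u : F} (h1 : Mv t x h χ g u) : Mv t x h χ g⁻¹ u := by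
  refine ⟨fun a ha => (h1.1 a ha).inv_left, fun w => (h1.2.1 w).inv_left, ?_⟩
  have e := h1.2.2
  have e2 : t = g⁻¹ * (t * x u) * g := by rw [← e]; group
  have e3 : g⁻¹ * x u * g = x u := by rw [mul_assoc, ← (h1.2.1 u).eq]; group
  calc g⁻¹ * t * g⁻¹⁻¹ = g⁻¹ * (t * x u) * g * (g⁻¹ * x u * g)⁻¹ := by group
    _ = t * (x u)⁻¹ := by rw [e3, ← e2]
    _ = t * x u := by rw [L.x_inv]

theorem mv_h (L : Loc t x h χ) {g : G} {u : F} (h1 : Mv t x h χ g u) (a : A) :
    Mv t x h χ (h a * g * (h a)⁻¹) (χ a * u) := by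
  have hh : ∀ a b : A, Commute (h a) (h b) := fun a b => by
    show h a * h b = h b * h a
    rw [← map_mul, ← map_mul, mul_comm]
  refine ⟨fun b hb => ?_, fun w => ?_, ?_⟩
  · exact ((hh a b).mul_left (h1.1 b hb)).mul_left (hh a b).inv_left
  · have e := L.hx a⁻¹ w
    rw [map_inv, inv_inv] at e
    have e2 := (h1.2.1 (((χ a⁻¹ : Fˣ) : F) * w)).eq
    show h a * g * (h a)⁻¹ * x w = x w * (h a * g * (h a)⁻¹)
    calc h a * g * (h a)⁻¹ * x w = h a * (g * ((h a)⁻¹ * x w * h a)) * (h a)⁻¹ := by group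
      _ = h a * (((h a)⁻¹ * x w * h a) * g) * (h a)⁻¹ := by rw [e, e2]
      _ = x w * (h a * g * (h a)⁻¹) := by group
  · have e := (L.ht a).eq
    calc h a * g * (h a)⁻¹ * t * (h a * g * (h a)⁻¹)⁻¹ = h a * g * ((h a)⁻¹ * t * h a) * g⁻¹ * (h a)⁻¹ := by group
      _ = h a * g * t * g⁻¹ * (h a)⁻¹ := by
        have : (h a)⁻¹ * t * h a = t := by rw [mul_assoc, ← e]; group
        rw [this]
      _ = h a * (g * t * g⁻¹) * (h a)⁻¹ := by group
      _ = (h a * t) * x u * (h a)⁻¹ := by rw [h1.2.2]; group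
      _ = t * (h a * x u * (h a)⁻¹) := by rw [e]; group
      _ = t * x (χ a * u) := by rw [L.hx]

theorem mv_x (L : Loc t x h χ) (v : F) : Mv t x h χ (x v) 0 := by
  refine ⟨fun a ha => ?_, fun w => L.xx v w, ?_⟩
  · have := L.hx a v
    rw [ha, Units.val_one, one_mul] at this
    show x v * h a = h a * x v
    calc x v * h a = (h a * x v * (h a)⁻¹) * h a := by rw [this]
      _ = h a * x v := by group
  · rw [L.x_zero, mul_one, ← (L.tx v).eq]; group

/-- the kernel -/
theorem mv_zero (L : Loc t x h χ) {g : G} (h1 : Mv t x h χ g 0) :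
    ∃ u a, χ a = 1 ∧ (g = x u * h a ∨ g = t * (x u * h a)) := by
  apply L.F1c g _ h1.1 h1.2.1
  have := h1.2.2
  rw [L.x_zero, mul_one] at this
  show g * t = t * g
  calc g * t = g * t * g⁻¹ * g := by group
    _ = t * g := by rw [this]

theorem mv_pow (L : Loc t x h χ) {g : G} {u : F} (h1 : Mv t x h χ g u) {N : ℕ} (hN : Odd N) :
    Mv t x h χ (g ^ N) u := by
  obtain ⟨k, rfl⟩ := hN
  induction k with
  | zero => simpa using h1
  | succ k ih =>
    have e : g ^ (2 * (k + 1) + 1) = g ^ (2 * k + 1) * g * g := by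
      rw [mul_assoc, ← pow_two, ← pow_add]; ring_nf
    rw [e]
    have h2 := L.mv_mul (L.mv_mul ih h1) h1
    have e2 : u + u + u = u := by rw [L.two, zero_add]
    rwa [e2] at h2

/-- the 2-part -/
theorem exists_bs (L : Loc t x h χ) (u : F) : ∃ b, Bs t x h χ b u := by
  by_cases hu : u = 0
  · subst hu
    exact ⟨1, L.mv_one, 0, by rw [L.x_zero, one_mul]⟩
  obtain ⟨g, hg⟩ := L.mv u
  have hg' : Mv t x h χ g u := hg
  obtain ⟨N, hN, hexp⟩ := L.exp
  refine ⟨g ^ N, L.mv_pow hg' hN, ?_⟩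
  have h2 := L.mv_mul hg' hg'
  rw [L.two] at h2
  obtain ⟨v, a, ha, e⟩ := L.mv_zero h2
  have hxa : Commute (x v) (h a) := (L.mv_x v).1 a ha
  have hx1 : x v ^ N = x v := by
    obtain ⟨k, rfl⟩ := hN
    rw [pow_succ, pow_mul, pow_two, L.x_sq, one_pow, one_mul]
  have ht1 : t ^ N = t := by
    obtain ⟨k, rfl⟩ := hN
    rw [pow_succ, pow_mul, pow_two, L.tt, one_pow, one_mul]
  have e1 : g ^ N * g ^ N = (g * g) ^ N := by
    rw [(Commute.refl g).mul_pow]
  rcases e with e | e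
  · refine ⟨v, ?_⟩
    rw [e1, e, hxa.mul_pow, hexp, mul_one, hx1]
  · exfalso
    have e3 : g ^ N * g ^ N = t * x v := by
      rw [e1, e, ((L.tx v).mul_right (L.ht a).symm).mul_pow, hxa.mul_pow, hexp, mul_one, hx1, ht1]
    have h3 := L.mv_pow hg' hN
    have h4 : g ^ N * (t * x v) * (g ^ N)⁻¹ = t * x v := by rw [← e3]; group
    have h5 : g ^ N * (t * x v) * (g ^ N)⁻¹ = t * x u * x v := by
      calc g ^ N * (t * x v) * (g ^ N)⁻¹ = (g ^ N * t * (g ^ N)⁻¹) * (g ^ N * x v * (g ^ N)⁻¹) := by group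
        _ = t * x u * x v := by rw [h3.2.2, (h3.2.1 v).eq]; group
    rw [h4, mul_assoc, ← L.x_add] at h5
    have h6 := L.x_inj (mul_left_cancel h5)
    apply hu
    have : u + v = 0 + v := by rw [zero_add]; exact h6.symm
    exact add_right_cancel this

theorem bs_zero (L : Loc t x h χ) {b : G} (hb : Bs t x h χ b 0) : ∃ v, b = x v ∨ b = t * x v := by
  obtain ⟨h1, v, hv⟩ := hb
  obtain ⟨u, a, ha, e⟩ := L.mv_zero h1
  have hxa : Commute (x u) (h a) := (L.mv_x u).1 a ha
  have key : h a * h a = x v := by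
    rcases e with e | e
    · rw [← hv, e]
      calc h a * h a = (x u * x u) * (h a * h a) := by rw [L.x_sq, one_mul]
        _ = x u * (x u * h a) * h a := by group
        _ = x u * (h a * x u) * h a := by rw [hxa.eq]
        _ = x u * h a * (x u * h a) := by group
    · rw [← hv, e]
      have e1 : Commute t (x u * h a) := (L.tx u).mul_right (L.ht a).symm
      calc h a * h a = (t * t) * (x u * x u) * (h a * h a) := by rw [L.x_sq, L.tt, one_mul, one_mul]
        _ = t * t * (x u * (x u * h a) * h a) := by group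
        _ = t * t * (x u * (h a * x u) * h a) := by rw [hxa.eq]
        _ = t * (t * (x u * h a)) * (x u * h a) := by group
        _ = t * ((x u * h a) * t) * (x u * h a) := by rw [e1.eq]
        _ = t * (x u * h a) * (t * (x u * h a)) := by group
  have h3 := L.h_one_of_x key
  rw [h3, mul_one] at e
  exact ⟨u, e⟩

/-- commutators of 2-elements are in `X` -/
theorem bs_comm (L : Loc t x h χ) {b b' : G} {u u' : F} (hb : Bs t x h χ b u) (hb' : Bs t x h χ b' u') :
    ∃ v, b * b' = x v * (b' * b) := by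
  obtain ⟨h1, s, hs⟩ := hb
  obtain ⟨h1', s', hs'⟩ := hb'
  set k := b * b' * b⁻¹ * b'⁻¹ with hk
  have hk0 : Mv t x h χ k 0 := by
    have h2 := L.mv_mul (L.mv_mul (L.mv_mul h1 h1') (L.mv_inv h1)) (L.mv_inv h1')
    have e : u + u' + u + u' = 0 := by
      calc u + u' + u + u' = (u + u) + (u' + u') := by ring
        _ = 0 := by rw [L.two, L.two, add_zero]
    rwa [e] at h2
  have e1 : k * (b' * k * b'⁻¹) = 1 := by
    have e2 : (k * b') * (k * b') = b' * b' := by
      have : k * b' = b * b' * b⁻¹ := by rw [hk]; group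
      rw [this]
      calc b * b' * b⁻¹ * (b * b' * b⁻¹) = b * (b' * b') * b⁻¹ := by group
        _ = b' * b' := by rw [hs', (h1.2.1 s').eq]; group
    calc k * (b' * k * b'⁻¹) = (k * b') * (k * b') * (b' * b')⁻¹ := by group
      _ = 1 := by rw [e2]; group
  have e1' : b * k * b⁻¹ = k⁻¹ := by
    have e2 : (k⁻¹ * b) * (k⁻¹ * b) = b * b := by
      have : k⁻¹ * b = b' * b * b'⁻¹ := by rw [hk]; group
      rw [this]
      calc b' * b * b'⁻¹ * (b' * b * b'⁻¹) = b' * (b * b) * b'⁻¹ := by group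
        _ = b * b := by rw [hs, (h1'.2.1 s).eq]; group
    have e3 : k⁻¹ * (b * k⁻¹ * b⁻¹) = 1 := by
      calc k⁻¹ * (b * k⁻¹ * b⁻¹) = (k⁻¹ * b) * (k⁻¹ * b) * (b * b)⁻¹ := by group
        _ = 1 := by rw [e2]; group
    have e4 : b * k⁻¹ * b⁻¹ = k := by
      calc b * k⁻¹ * b⁻¹ = k * (k⁻¹ * (b * k⁻¹ * b⁻¹)) := by group
        _ = k := by rw [e3, mul_one]
    calc b * k * b⁻¹ = (b * k⁻¹ * b⁻¹)⁻¹ := by group
      _ = k⁻¹ := by rw [e4]
  obtain ⟨v, a, ha, e⟩ := L.mv_zero hk0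
  have hxa : Commute (x v) (h a) := (L.mv_x v).1 a ha
  have hba : b' * h a * b'⁻¹ = h a := by rw [(h1'.1 a ha).eq]; group
  have hbx : b' * x v * b'⁻¹ = x v := by rw [(h1'.2.1 v).eq]; group
  rcases e with e | e
  · have e5 : h a * h a = x 0 := by
      rw [L.x_zero]
      rw [e] at e1
      calc h a * h a = (x v * x v) * (h a * h a) := by rw [L.x_sq, one_mul]
        _ = x v * (x v * h a) * h a := by group
        _ = x v * (h a * x v) * h a := by rw [hxa.eq]
        _ = x v * h a * ((b' * x v * b'⁻¹) * (b' * h a * b'⁻¹)) := by rw [hba, hbx]; group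
        _ = x v * h a * (b' * (x v * h a) * b'⁻¹) := by group
        _ = 1 := e1
    have e6 := L.h_one_of_x e5
    rw [e6, mul_one] at e
    refine ⟨v, ?_⟩
    rw [← e, hk]; group
  · exfalso
    have hta : Commute t (h a) := (L.ht a).symm
    -- `u' = 0`
    have e5 : h a * h a = x u' := by
      rw [e] at e1
      have e7 : t * (x v * h a) * (b' * (t * (x v * h a)) * b'⁻¹) = x u' * (h a * h a) := by
        calc t * (x v * h a) * (b' * (t * (x v * h a)) * b'⁻¹)
            = t * (x v * h a) * ((b' * t * b'⁻¹) * (b' * x v * b'⁻¹) * (b' * h a * b'⁻¹)) := by group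
          _ = t * (x v * h a) * (t * x u' * x v * h a) := by rw [h1'.2.2, hbx, hba]
          _ = t * x v * (h a * t) * x u' * x v * h a := by group
          _ = t * (x v * t) * h a * x u' * x v * h a := by rw [← hta.eq]; group
          _ = (t * t) * x v * (h a * x u') * x v * h a := by rw [← (L.tx v).eq]; group
          _ = x v * x u' * (h a * x v) * h a := by
            rw [L.tt, one_mul, ← ((L.mv_x u').1 a ha).eq]; group
          _ = (x v * x u') * (x v * h a) * h a := by rw [← hxa.eq]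
          _ = (x u' * x v) * (x v * h a) * h a := by rw [(L.xx v u').eq]
          _ = x u' * (x v * x v) * (h a * h a) := by group
          _ = x u' * (h a * h a) := by rw [L.x_sq, mul_one]
      rw [e7] at e1
      have e8 : h a * h a = (x u')⁻¹ := by
        calc h a * h a = (x u')⁻¹ * (x u' * (h a * h a)) := by group
          _ = (x u')⁻¹ := by rw [e1, mul_one]
      rw [e8, L.x_inv]
    have e6 := L.h_one_of_x e5
    have hu' : u' = 0 := by
      rw [e6, mul_one] at e5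
      exact L.x_one _ e5.symm
    rw [e6, mul_one] at e
    have hu : u = 0 := by
      rw [e] at e1'
      have e7 : b * (t * x v) * b⁻¹ = t * x u * x v := by
        calc b * (t * x v) * b⁻¹ = (b * t * b⁻¹) * (b * x v * b⁻¹) := by group
          _ = t * x u * x v := by rw [h1.2.2, (h1.2.1 v).eq]; group
      have e8 : (t * x v)⁻¹ = t * x v := by
        rw [mul_inv_rev, L.x_inv, L.t_inv, ← (L.tx v).eq]
      rw [e7, e8, mul_assoc, ← L.x_add] at e1'
      have e9 := L.x_inj (mul_left_cancel e1')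
      have : u + v = 0 + v := by rw [zero_add]; exact e9
      exact add_right_cancel this
    subst hu hu'
    obtain ⟨p, hp⟩ := L.bs_zero ⟨h1, s, hs⟩
    obtain ⟨p', hp'⟩ := L.bs_zero ⟨h1', s', hs'⟩
    have hcomm : Commute b b' := by
      rcases hp with rfl | rfl <;> rcases hp' with rfl | rfl
      · exact L.xx _ _
      · exact (L.tx _).symm.mul_right (L.xx _ _)
      · exact (L.tx _).mul_left (L.xx _ _)
      · exact ((Commute.refl t).mul_right (L.tx _)).mul_left ((L.tx _).symm.mul_right (L.xx _ _))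
    have hk1 : k = 1 := by rw [hk, hcomm.eq]; group
    rw [e] at hk1
    apply L.ne v
    have : t⁻¹ = x v := inv_eq_of_mul_eq_one_right hk1
    rw [← this, L.t_inv]

theorem bs_mul (L : Loc t x h χ) {b b' : G} {u u' : F} (hb : Bs t x h χ b u) (hb' : Bs t x h χ b' u') :
    Bs t x h χ (b * b') (u + u') := by
  refine ⟨L.mv_mul hb.1 hb'.1, ?_⟩
  obtain ⟨v, hv⟩ := L.bs_comm hb' hb
  obtain ⟨s, hs⟩ := hb.2
  obtain ⟨s', hs'⟩ := hb'.2
  refine ⟨v + (s + s'), ?_⟩
  have e := (hb.1.2.1 v).eq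
  calc b * b' * (b * b') = b * (b' * b) * b' := by group
    _ = (b * x v) * (b * b') * b' := by rw [hv]; group
    _ = x v * (b * b) * (b' * b') := by rw [e]; group
    _ = x (v + (s + s')) := by rw [hs, hs', L.x_add, L.x_add, mul_assoc]

theorem bs_inv (L : Loc t x h χ) {b : G} {u : F} (hb : Bs t x h χ b u) : Bs t x h χ b⁻¹ u := by
  refine ⟨L.mv_inv hb.1, ?_⟩
  obtain ⟨s, hs⟩ := hb.2
  refine ⟨s, ?_⟩
  rw [← mul_inv_rev, hs, L.x_inv]

theorem bs_h (L : Loc t x h χ) {b : G} {u : F} (hb : Bs t x h χ b u) (a : A) :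
    Bs t x h χ (h a * b * (h a)⁻¹) (χ a * u) := by
  refine ⟨L.mv_h hb.1 a, ?_⟩
  obtain ⟨s, hs⟩ := hb.2
  refine ⟨χ a * s, ?_⟩
  rw [← L.hx, ← hs]; group

theorem bs_x (L : Loc t x h χ) (v : F) : Bs t x h χ (x v) 0 := ⟨L.mv_x v, 0, by rw [L.x_sq, L.x_zero]⟩

/-- `b⁻¹ b^c` -/
def dl (h : A →* G) (c : A) (b : G) : G := b⁻¹ * (h c * b * (h c)⁻¹)

theorem bs_dl (L : Loc t x h χ) {b : G} {u : F} (hb : Bs t x h χ b u) (c : A) :
    Bs t x h χ (dl h c b) (u + χ c * u) := L.bs_mul (L.bs_inv hb) (L.bs_h hb c)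

/-- the group of the `b⁻¹ b^c x` -/
def Wc (t : G) (x : F → G) (h : A →* G) (χ : A →* Fˣ) (c : A) (g : G) : Prop :=
  ∃ b u v, Bs t x h χ b u ∧ g = dl h c b * x v

theorem wc_bs (L : Loc t x h χ) {c : A} {g : G} (hg : Wc t x h χ c g) : ∃ u, Bs t x h χ g u := by
  obtain ⟨b, u, v, hb, rfl⟩ := hg
  exact ⟨_, L.bs_mul (L.bs_dl hb c) (L.bs_x v)⟩

theorem wc_mul (L : Loc t x h χ) {c : A} {g g' : G} (hg : Wc t x h χ c g) (hg' : Wc t x h χ c g') :
    Wc t x h χ c (g * g') := by
  obtain ⟨b, u, v, hb, rfl⟩ := hg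
  obtain ⟨b', u', v', hb', rfl⟩ := hg'
  -- `δ(b b') = b'⁻¹ δ(b) c(b')`
  obtain ⟨r, hr⟩ := L.bs_comm (L.bs_dl hb c) (L.bs_inv hb')
  refine ⟨b * b', u + u', r + v + v', L.bs_mul hb hb', ?_⟩
  have hd := L.bs_dl hb c
  have hd' := L.bs_dl hb' c
  have e1 : dl h c b * x v * (dl h c b' * x v') = dl h c b * dl h c b' * x (v + v') := by
    have e := (hd'.1.2.1 v).eq
    calc dl h c b * x v * (dl h c b' * x v') = dl h c b * (x v * dl h c b') * x v' := by group
      _ = dl h c b * (dl h c b' * x v) * x v' := by rw [e]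
      _ = dl h c b * dl h c b' * (x v * x v') := by group
      _ = dl h c b * dl h c b' * x (v + v') := by rw [L.x_add]
  have e2 : dl h c b * dl h c b' = x r * dl h c (b * b') := by
    calc dl h c b * dl h c b' = (dl h c b * b'⁻¹) * (h c * b' * (h c)⁻¹) := by
          show dl h c b * (b'⁻¹ * (h c * b' * (h c)⁻¹)) = _
          group
      _ = x r * (b'⁻¹ * dl h c b) * (h c * b' * (h c)⁻¹) := by rw [hr]
      _ = x r * dl h c (b * b') := by
          unfold dl
          group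
  have e3 : x r * dl h c (b * b') = dl h c (b * b') * x r := ((L.bs_dl (L.bs_mul hb hb') c).1.2.1 r).eq.symm
  rw [e1, e2, e3, mul_assoc, ← L.x_add, add_assoc]

theorem wc_x (L : Loc t x h χ) (c : A) (v : F) : Wc t x h χ c (x v) :=
  ⟨1, 0, v, ⟨L.mv_one, 0, by rw [L.x_zero, one_mul]⟩, by unfold dl; group⟩

theorem wc_inv (L : Loc t x h χ) {c : A} {g : G} (hg : Wc t x h χ c g) : Wc t x h χ c g⁻¹ := by
  obtain ⟨u, h1, s, hs⟩ := L.wc_bs hg
  have e : g⁻¹ = g * x s := by
    rw [inv_eq_iff_mul_eq_one]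
    calc g * (g * x s) = (g * g) * x s := by group
      _ = 1 := by rw [hs, L.x_sq]
  rw [e]
  exact L.wc_mul hg (L.wc_x c s)

/-- `t` and its coset are not in `Wc` -/
theorem wc_zero (L : Loc t x h χ) {c : A} (hc : χ c ≠ 1) {g : G} (hg : Wc t x h χ c g)
    (h0 : Bs t x h χ g 0) : ∃ v, g = x v := by
  obtain ⟨b, u, v, hb, rfl⟩ := hg
  have h1 := L.bs_mul (L.bs_dl hb c) (L.bs_x v)
  have h2 := L.mv_unique h1.1 h0.1
  have h3 : u * (1 + χ c) = 0 := by rw [← h2]; ring
  have h4 : (1 : F) + χ c ≠ 0 := by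
    intro h5
    apply hc
    have : (χ c : F) = 1 := by
      calc (χ c : F) = (1 + 1) + χ c := by rw [L.two, zero_add]
        _ = 1 + (1 + χ c) := by ring
        _ = 1 := by rw [h5, add_zero]
    exact Units.ext this
  have h5 : u = 0 := (mul_eq_zero.1 h3).resolve_right h4
  subst h5
  obtain ⟨p, hp⟩ := L.bs_zero hb
  have ec := (L.ht c).eq
  rcases hp with rfl | rfl
  · refine ⟨p + χ c * p + v, ?_⟩
    unfold dl
    rw [L.hx, L.x_inv, ← L.x_add, ← L.x_add]
  · refine ⟨p + χ c * p + v, ?_⟩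
    unfold dl
    have e1 : h c * (t * x p) * (h c)⁻¹ = t * x (χ c * p) := by
      calc h c * (t * x p) * (h c)⁻¹ = (h c * t) * x p * (h c)⁻¹ := by group
        _ = t * (h c * x p * (h c)⁻¹) := by rw [ec]; group
        _ = t * x (χ c * p) := by rw [L.hx]
    rw [e1, mul_inv_rev, L.x_inv, L.t_inv, L.x_add, L.x_add]
    calc x p * t * (t * x (χ c * p)) * x v = x p * (t * t) * x (χ c * p) * x v := by group
      _ = _ := by rw [L.tt]; group

theorem exists_wc (L : Loc t x h χ) {c : A} (hc : χ c ≠ 1) (u : F) : ∃ g, Wc t x h χ c g ∧ Bs t x h χ g u := by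
  have h4 : (1 : F) + χ c ≠ 0 := by
    intro h5
    apply hc
    have : (χ c : F) = 1 := by
      calc (χ c : F) = (1 + 1) + χ c := by rw [L.two, zero_add]
        _ = 1 + (1 + χ c) := by ring
        _ = 1 := by rw [h5, add_zero]
    exact Units.ext this
  obtain ⟨b, hb⟩ := L.exists_bs (u / (1 + χ c))
  have h1 := L.bs_dl hb c
  have e : u / (1 + χ c) + χ c * (u / (1 + χ c)) = u := by field_simp
  rw [e] at h1
  exact ⟨dl h c b, ⟨b, _, 0, hb, by rw [L.x_zero, mul_one]⟩, h1⟩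

/-- every 2-element is in `Wc` or in `t Wc` -/
theorem wc_or (L : Loc t x h χ) {c : A} (hc : χ c ≠ 1) {b : G} {u : F} (hb : Bs t x h χ b u) :
    Wc t x h χ c b ∨ ∃ g, Wc t x h χ c g ∧ b = g * t := by
  obtain ⟨g, hg, hg1⟩ := L.exists_wc hc u
  have h1 := L.bs_mul (L.bs_inv hg1) hb
  rw [L.two] at h1
  obtain ⟨v, hv | hv⟩ := L.bs_zero h1
  · left
    have : b = g * x v := by rw [← hv]; group
    rw [this]; exact L.wc_mul hg (L.wc_x c v)
  · right
    refine ⟨g * x v, L.wc_mul hg (L.wc_x c v), ?_⟩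
    rw [mul_assoc, ← (L.tx v).eq, ← hv]; group

theorem wc_h (L : Loc t x h χ) {c : A} {g : G} (hg : Wc t x h χ c g) (a : A) :
    Wc t x h χ c (h a * g * (h a)⁻¹) := by
  obtain ⟨b, u, v, hb, rfl⟩ := hg
  refine ⟨h a * b * (h a)⁻¹, _, χ a * v, L.bs_h hb a, ?_⟩
  have hh : h a * h c = h c * h a := by rw [← map_mul, ← map_mul, mul_comm]
  have hh' : (h c)⁻¹ * (h a)⁻¹ = (h a)⁻¹ * (h c)⁻¹ := by rw [← mul_inv_rev, ← mul_inv_rev, hh]
  rw [← L.hx]
  unfold dl
  calc h a * (b⁻¹ * (h c * b * (h c)⁻¹) * x v) * (h a)⁻¹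
      = h a * b⁻¹ * ((h a)⁻¹ * (h a * h c)) * b * (h c)⁻¹ * x v * (h a)⁻¹ := by group
    _ = (h a * b⁻¹ * (h a)⁻¹) * h c * h a * b * ((h c)⁻¹ * (h a)⁻¹) * (h a * x v * (h a)⁻¹) := by
        rw [hh]; group
    _ = (h a * b * (h a)⁻¹)⁻¹ * (h c * (h a * b * (h a)⁻¹) * (h c)⁻¹) * (h a * x v * (h a)⁻¹) := by
        rw [hh']; group

theorem wc_dl (L : Loc t x h χ) {c : A} (hc : χ c ≠ 1) {b : G} {u : F} (hb : Bs t x h χ b u) (a : A) :
    Wc t x h χ c (b⁻¹ * (h a * b * (h a)⁻¹)) := by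
  rcases L.wc_or hc hb with h1 | ⟨g, hg, rfl⟩
  · exact L.wc_mul (L.wc_inv h1) (L.wc_h h1 a)
  · have h1 := L.wc_mul (L.wc_inv hg) (L.wc_h hg a)
    obtain ⟨v, hv⟩ := L.wc_bs h1
    have e1 : (g * t)⁻¹ * (h a * (g * t) * (h a)⁻¹) = (g⁻¹ * (h a * g * (h a)⁻¹)) * x v := by
      have e2 : h a * (g * t) * (h a)⁻¹ = h a * g * (h a)⁻¹ * t := by
        have := (L.ht a).inv_left.eq
        calc h a * (g * t) * (h a)⁻¹ = h a * g * (t * (h a)⁻¹) := by group
          _ = h a * g * (h a)⁻¹ * t := by rw [← this]; group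
      rw [e2, mul_inv_rev, L.t_inv]
      set m := g⁻¹ * (h a * g * (h a)⁻¹) with hm
      have e3 := hv.1.2.2
      have e4 := (hv.1.2.1 v).eq
      calc t * g⁻¹ * (h a * g * (h a)⁻¹ * t) = t * m * t := by rw [hm]; group
        _ = t * (m * t * m⁻¹) * m := by group
        _ = (t * t) * x v * m := by rw [e3]; group
        _ = m * x v := by rw [L.tt, one_mul, e4]
    rw [e1]
    exact L.wc_mul h1 (L.wc_x c v)

theorem mem_dbl_iff (L : Loc t x h χ) {c : A} (hc : χ c ≠ 1) {g : G} : g ∈ Dbl t x h χ ↔ Wc t x h χ c g := by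
  constructor
  · intro hg
    refine closure_induction (p := fun g _ => Wc t x h χ c g) ?_ ?_ ?_ ?_ hg
    · rintro y (⟨u, rfl⟩ | ⟨b, u, hb, a, rfl⟩)
      · exact L.wc_x c u
      · exact L.wc_dl hc hb a
    · have := L.wc_x c 0
      rwa [L.x_zero] at this
    · intro y z _ _ hy hz
      exact L.wc_mul hy hz
    · intro y _ hy
      exact L.wc_inv hy
  · rintro ⟨b, u, v, hb, rfl⟩
    refine mul_mem (subset_closure (Or.inr ⟨b, u, hb, c, rfl⟩)) (subset_closure (Or.inl ⟨v, rfl⟩))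

theorem exists_c (L : Loc t x h χ) : ∃ c, χ c ≠ 1 := by
  obtain ⟨c, h0, h1⟩ := L.big
  obtain ⟨a, ha⟩ := L.surj (Units.mk0 c h0)
  refine ⟨a, fun h2 => h1 ?_⟩
  rw [h2] at ha
  have := congrArg Units.val ha
  simpa using this.symm

/-- the elements of the double -/
theorem dbl_bs (L : Loc t x h χ) {g : G} (hg : g ∈ Dbl t x h χ) : ∃ u, Bs t x h χ g u := by
  obtain ⟨c, hc⟩ := L.exists_c
  exact L.wc_bs ((L.mem_dbl_iff hc).1 hg)

theorem dbl_zero (L : Loc t x h χ) {g : G} (hg : g ∈ Dbl t x h χ) (h0 : Mv t x h χ g 0) : ∃ v, g = x v := by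
  obtain ⟨c, hc⟩ := L.exists_c
  obtain ⟨u, hu⟩ := L.dbl_bs hg
  have : u = 0 := L.mv_unique hu.1 h0
  subst this
  exact L.wc_zero hc ((L.mem_dbl_iff hc).1 hg) hu

theorem x_mem_dbl (_ : Loc t x h χ) (u : F) : x u ∈ Dbl t x h χ := subset_closure (Or.inl ⟨u, rfl⟩)

theorem exists_dbl (L : Loc t x h χ) (u : F) : ∃ g ∈ Dbl t x h χ, Bs t x h χ g u := by
  obtain ⟨c, hc⟩ := L.exists_c
  obtain ⟨g, hg, hg1⟩ := L.exists_wc hc u
  exact ⟨g, (L.mem_dbl_iff hc).2 hg, hg1⟩

theorem dbl_h (L : Loc t x h χ) {g : G} (hg : g ∈ Dbl t x h χ) (a : A) : h a * g * (h a)⁻¹ ∈ Dbl t x h χ := by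
  obtain ⟨c, hc⟩ := L.exists_c
  exact (L.mem_dbl_iff hc).2 (L.wc_h ((L.mem_dbl_iff hc).1 hg) a)

/-- **canonical**: elements moving `t` inside `tX`, centralising `X` and `h(ker χ)` -/
theorem canonical (L : Loc t x h χ) {g : G} {u : F} (hg : Mv t x h χ g u) :
    ∃ w ∈ Dbl t x h χ, Bs t x h χ w u ∧ ∃ a, χ a = 1 ∧ (g = w * h a ∨ g = w * t * h a) := by
  obtain ⟨w, hw, hw1⟩ := L.exists_dbl u
  have h1 := L.mv_mul (L.mv_inv hw1.1) hg
  rw [L.two] at h1
  obtain ⟨v, a, ha, e⟩ := L.mv_zero h1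
  have hb := L.bs_mul hw1 (L.bs_x v)
  rw [add_zero] at hb
  refine ⟨w * x v, mul_mem hw (L.x_mem_dbl v), hb, a, ha, ?_⟩
  rcases e with e | e
  · left
    rw [mul_assoc, ← e]; group
  · right
    calc g = w * (w⁻¹ * g) := by group
      _ = w * (t * x v) * h a := by rw [e]; group
      _ = w * x v * t * h a := by rw [(L.tx v).eq]; group

/-- **Coordinates** of the double. -/
theorem exists_w (L : Loc t x h χ) (hsq : ∀ a : F, ∃ b, b ^ 2 = a) : ∃ w : F → G, w 0 = 1 ∧
    (∀ g, g ∈ Dbl t x h χ ↔ ∃ u v, g = w u * x v) ∧ (∀ u, Bs t x h χ (w u) u) ∧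
    (∀ a u, h a * w u * (h a)⁻¹ = w (χ a * u)) ∧ (∀ u v, Commute (w u) (w v)) ∧
    ∃ c, ∀ u, w u * w u = x (c * u) := by
  classical
  obtain ⟨w1, hw1, hb1⟩ := L.exists_dbl 1
  have hs : ∀ u : Fˣ, ∃ a, χ a = u := L.surj
  choose s hs using hs
  let w : F → G := fun u => if hu : u = 0 then 1 else h (s (Units.mk0 u hu)) * w1 * (h (s (Units.mk0 u hu)))⁻¹
  have w0 : w 0 = 1 := dif_pos rfl
  have key : ∀ (a : A), w (χ a) = h a * w1 * (h a)⁻¹ := by
    intro a
    have hne : (χ a : F) ≠ 0 := (χ a).ne_zero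
    have e0 : Units.mk0 (χ a : F) hne = χ a := Units.ext rfl
    have e1 : w (χ a) = h (s (χ a)) * w1 * (h (s (χ a)))⁻¹ := by
      simp only [w]
      rw [dif_neg hne, e0]
    rw [e1]
    set b := s (χ a) with hb
    have e2 : χ (a⁻¹ * b) = 1 := by rw [map_mul, map_inv, hb, hs, inv_mul_cancel]
    have e3 := (hb1.1.1 _ e2).eq
    calc h b * w1 * (h b)⁻¹ = h a * (h (a⁻¹ * b) * w1) * (h b)⁻¹ := by rw [map_mul, map_inv]; group
      _ = h a * (w1 * h (a⁻¹ * b)) * (h b)⁻¹ := by rw [e3]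
      _ = h a * w1 * (h a)⁻¹ := by rw [map_mul, map_inv]; group
  have keyu : ∀ u : F, u ≠ 0 → ∃ a, (χ a : F) = u := fun u hu => ⟨s (Units.mk0 u hu), by rw [hs]; rfl⟩
  have eqv : ∀ a u, h a * w u * (h a)⁻¹ = w (χ a * u) := by
    intro a u
    by_cases hu : u = 0
    · subst hu
      rw [mul_zero, w0]; group
    · obtain ⟨b, rfl⟩ := keyu u hu
      rw [← Units.val_mul, ← map_mul, key, key, map_mul]; group
  have bw : ∀ u, Bs t x h χ (w u) u := by
    intro u
    by_cases hu : u = 0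
    · subst hu
      rw [w0]; exact ⟨L.mv_one, 0, by rw [L.x_zero, one_mul]⟩
    · obtain ⟨b, rfl⟩ := keyu u hu
      rw [key]
      have := L.bs_h hb1 b
      rwa [mul_one] at this
  have dw : ∀ u, w u ∈ Dbl t x h χ := by
    intro u
    by_cases hu : u = 0
    · subst hu
      rw [w0]; exact one_mem _
    · obtain ⟨b, rfl⟩ := keyu u hu
      rw [key]
      exact L.dbl_h hw1 b
  have mem : ∀ g, g ∈ Dbl t x h χ ↔ ∃ u v, g = w u * x v := by
    intro g
    constructor
    · intro hg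
      obtain ⟨u, hu⟩ := L.dbl_bs hg
      have h1 := L.mv_mul (L.mv_inv (bw u).1) hu.1
      rw [L.two] at h1
      obtain ⟨v, hv⟩ := L.dbl_zero (mul_mem (inv_mem (dw u)) hg) h1
      exact ⟨u, v, by rw [← hv]; group⟩
    · rintro ⟨u, v, rfl⟩
      exact mul_mem (dw u) (L.x_mem_dbl v)
  -- the commutator form
  have cm : ∀ v, ∃ g, w 1 * w v = x g * (w v * w 1) := fun v => L.bs_comm (bw 1) (bw v)
  choose g hg using cm
  have add : ∀ u v, ∃ r, w (u + v) = w u * w v * x r := by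
    intro u v
    obtain ⟨p, r, hr⟩ := (mem (w u * w v)).1 (mul_mem (dw u) (dw v))
    have h1 := L.bs_mul (bw u) (bw v)
    have h2 := L.bs_mul (bw p) (L.bs_x r)
    rw [← hr, add_zero] at h2
    have : u + v = p := L.mv_unique h1.1 h2.1
    subst this
    refine ⟨r, ?_⟩
    rw [hr, mul_assoc, L.x_sq, mul_one]
  have g_add : ∀ u v, g (u + v) = g u + g v := by
    intro u v
    apply L.x_inj
    obtain ⟨r, hr⟩ := add u v
    have e := hg (u + v)
    rw [hr] at e
    have c1 := ((bw 1).1.2.1 r).eq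
    have c2 := ((bw u).1.2.1 (g v)).eq
    have e2 : w 1 * (w u * w v * x r) = x (g u) * x (g v) * (w u * w v * x r * w 1) := by
      calc w 1 * (w u * w v * x r) = (w 1 * w u) * w v * x r := by group
        _ = x (g u) * w u * (w 1 * w v) * x r := by rw [hg u]; group
        _ = x (g u) * (w u * x (g v)) * (w v * (w 1 * x r)) := by rw [hg v]; group
        _ = x (g u) * (x (g v) * w u) * (w v * (x r * w 1)) := by rw [c1, c2]
        _ = _ := by group
    rw [e2] at e
    rw [L.x_add]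
    exact (mul_right_cancel e).symm
  have g_one : g 1 = 0 := by
    apply L.x_one
    have e := hg 1
    exact (mul_eq_right.1 e.symm)
  have g_inv : ∀ v, v ≠ 0 → g v = v * g v⁻¹ := by
    intro v hv
    obtain ⟨a, ha⟩ := keyu v hv
    apply L.x_inj
    have e1 := hg v⁻¹
    -- conjugate by `h a`
    have e2 : h a * (w 1 * w v⁻¹) * (h a)⁻¹ = w v * w 1 := by
      have f1 := eqv a 1
      have f2 := eqv a v⁻¹
      rw [ha, mul_one] at f1
      rw [ha, mul_inv_cancel₀ hv] at f2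
      rw [← f1, ← f2]; group
    have e3 : h a * (x (g v⁻¹) * (w v⁻¹ * w 1)) * (h a)⁻¹ = x (v * g v⁻¹) * (w 1 * w v) := by
      have f1 := eqv a 1
      have f2 := eqv a v⁻¹
      rw [ha, mul_one] at f1
      rw [ha, mul_inv_cancel₀ hv] at f2
      rw [← f1, ← f2, ← ha, ← L.hx, ha]; group
    rw [e1, e3] at e2
    have e4 := hg v
    rw [← e2] at e4
    have e5 : x (g v) * x (v * g v⁻¹) = 1 := by
      have : w 1 * w v = x (g v) * x (v * g v⁻¹) * (w 1 * w v) := by
        calc w 1 * w v = x (g v) * (x (v * g v⁻¹) * (w 1 * w v)) := e4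
          _ = _ := by group
      exact (mul_eq_right.1 this.symm)
    calc x (g v) = x (g v) * x (v * g v⁻¹) * (x (v * g v⁻¹))⁻¹ := by group
      _ = x (v * g v⁻¹) := by rw [e5, one_mul, L.x_inv]
  have g_sq : ∀ u, g (u ^ 2) = 0 := by
    intro u
    have self : ∀ a : F, a + a = 0 := L.two
    have g0 : g 0 = 0 := by
      have := g_add 0 0
      rw [add_zero] at this
      exact left_eq_add.1 this
    by_cases hu : u = 0
    · subst hu; rw [zero_pow two_ne_zero, g0]
    by_cases hu1 : u = 1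
    · subst hu1; rw [one_pow, g_one]
    have hu2 : u + 1 ≠ 0 := by
      intro h
      apply hu1
      calc u = u + (1 + 1) := by rw [self, add_zero]
        _ = (u + 1) + 1 := by ring
        _ = 1 := by rw [h, zero_add]
    have hu3 : u ^ 2 + u ≠ 0 := by
      have : u ^ 2 + u = u * (u + 1) := by ring
      rw [this]; exact mul_ne_zero hu hu2
    have e1 : (u ^ 2 + u)⁻¹ = u⁻¹ + (u + 1)⁻¹ := by
      have e0 : u ^ 2 + u = u * (u + 1) := by ring
      rw [e0]
      field_simp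
      calc (1 : F) = (u + u) + 1 := by rw [self, zero_add]
        _ = u + 1 + u := by ring
    have e2 := g_inv _ hu3
    rw [e1, g_add, g_add u⁻¹] at e2
    have e3 := g_inv _ hu
    have e4 := g_inv _ hu2
    have e5 : g u⁻¹ = u⁻¹ * g u := by rw [e3]; field_simp
    have e6 : g (u + 1)⁻¹ = (u + 1)⁻¹ * g (u + 1) := by rw [e4]; field_simp
    rw [e5, e6, g_add u 1, g_one, add_zero] at e2
    have e7 : (u ^ 2 + u) * (u⁻¹ * g u + (u + 1)⁻¹ * g u) = g u := by
      have e8 : u⁻¹ * g u + (u + 1)⁻¹ * g u = (u ^ 2 + u)⁻¹ * g u := by rw [e1]; ring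
      rw [e8, ← mul_assoc, mul_inv_cancel₀ hu3, one_mul]
    rw [e7] at e2
    exact add_eq_right.1 e2
  have g_zero : ∀ u, g u = 0 := by
    intro u
    obtain ⟨v, rfl⟩ := hsq u
    exact g_sq v
  have comm1 : ∀ v, Commute (w 1) (w v) := by
    intro v
    have := hg v
    rw [g_zero, L.x_zero, one_mul] at this
    exact this
  have comm : ∀ u v, Commute (w u) (w v) := by
    intro u v
    by_cases hu : u = 0
    · subst hu; rw [w0]; exact Commute.one_left _
    obtain ⟨a, rfl⟩ := keyu u hu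
    have f1 := eqv a 1
    have f2 := eqv a ((χ a : F)⁻¹ * v)
    rw [mul_one] at f1
    rw [← mul_assoc, mul_inv_cancel₀ hu, one_mul] at f2
    rw [← f1, ← f2]
    have e := (comm1 ((χ a : F)⁻¹ * v)).eq
    show h a * w 1 * (h a)⁻¹ * (h a * w ((χ a : F)⁻¹ * v) * (h a)⁻¹) = _
    calc _ = h a * (w 1 * w ((χ a : F)⁻¹ * v)) * (h a)⁻¹ := by group
      _ = h a * (w ((χ a : F)⁻¹ * v) * w 1) * (h a)⁻¹ := by rw [e]
      _ = _ := by group
  refine ⟨w, w0, mem, bw, eqv, comm, ?_⟩
  obtain ⟨c, hc⟩ := (bw 1).2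
  refine ⟨c, fun u => ?_⟩
  by_cases hu : u = 0
  · subst hu; rw [w0, mul_zero, L.x_zero, one_mul]
  obtain ⟨a, rfl⟩ := keyu u hu
  have f1 := eqv a 1
  rw [mul_one] at f1
  rw [← f1]
  calc h a * w 1 * (h a)⁻¹ * (h a * w 1 * (h a)⁻¹) = h a * (w 1 * w 1) * (h a)⁻¹ := by group
    _ = x (c * χ a) := by rw [hc, L.hx, mul_comm]

end Loc

end Cfsg.Agent.OddHalf.SpN.WExist

end

-- merged: Cfsg.Agent.OddHalf.SpN.WCent
section

/-!
# ODD D7, `K = Sp_2n(q)`, `q > 2`: torus fixed points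

* `one k c` : the torus element with `ev k = c`, trivial on the other pairs;
* `ent_zero_of_torus` : entries of an element commuting with a torus element;
* `F1c_y`, `F1c_x` : `C(t) ∩ C(H_r) ∩ C(X_r) = ⟨t⟩ X_r H_r`.
-/

set_option autoImplicit false

namespace Cfsg.Agent.OddHalf.SpN

open Cfsg Cfsg.Agent.ClassicalGeometry.SympBasic Cfsg.Agent.ClassicalGeometry.SympAutSemi
open scoped Matrix commutatorElement

variable {n : ℕ} {F : Type*} [Field F]

/-- evaluation as a character -/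
def evM (i : Ix n) : (Fin n → Fˣ) →* Fˣ where
  toFun lam := ev lam i
  map_one' := by rcases i with i | i <;> simp [ev]
  map_mul' a b := by rcases i with i | i <;> simp [ev, mul_comm]

@[simp] theorem evM_apply (i : Ix n) (lam : Fin n → Fˣ) : evM i lam = ev lam i := rfl

theorem ev_mulW (a b : Fin n → Fˣ) (i : Ix n) : ev (a * b) i = ev a i * ev b i := map_mul (evM i) a b

/-- the character of `Y_i` -/
def chiy (i : Ix n) : (Fin n → Fˣ) →* Fˣ := evM i * evM i

/-- the character of `X_ij` -/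
def chix (i j : Ix n) : (Fin n → Fˣ) →* Fˣ := evM i * evM j

@[simp] theorem chiy_apply (i : Ix n) (lam : Fin n → Fˣ) : chiy i lam = ev lam i * ev lam i := rfl

@[simp] theorem chix_apply (i j : Ix n) (lam : Fin n → Fˣ) : chix i j lam = ev lam i * ev lam j := rfl

/-- the torus element with value `c` at `k`, `c⁻¹` at `-k`, `1` elsewhere -/
def one (k : Ix n) (c : Fˣ) : Fin n → Fˣ :=
  Sum.elim (fun i => Function.update 1 i c) (fun i => Function.update 1 i c⁻¹) k

@[simp] theorem ev_one_self (k : Ix n) (c : Fˣ) : ev (one k c) k = c := by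
  rcases k with i | i <;> simp [ev, one]

@[simp] theorem ev_one_neg (k : Ix n) (c : Fˣ) : ev (one k c) (neg k) = c⁻¹ := by
  rw [ev_neg, ev_one_self]

theorem ev_one_ne {k m : Ix n} (h : Dj m k) (c : Fˣ) : ev (one k c) m = 1 := by
  rcases k with i | i <;> rcases m with j | j
  · have : j ≠ i := fun e => h.1 (by rw [e])
    simp [ev, one, Function.update_of_ne this]
  · have : j ≠ i := fun e => h.2 (by rw [e]; rfl)
    simp [ev, one, Function.update_of_ne this]
  · have : j ≠ i := fun e => h.2 (by rw [e]; rfl)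
    simp [ev, one, Function.update_of_ne this]
  · have : j ≠ i := fun e => h.1 (by rw [e])
    simp [ev, one, Function.update_of_ne this]

theorem rho_sh_be (lam : Fin n → Fˣ) (k : Ix n) :
    rho n F (sh lam) (be n F k) = (ev lam k : F) • be n F k := by
  ext l
  rw [rho_sh, Pi.smul_apply, smul_eq_mul, be_apply]
  split_ifs with h
  · rw [h]
  · rw [mul_zero, mul_zero]

/-- entries of an element commuting with a torus element -/
theorem ent_zero_of_torus {A : Sy n F} {lam : Fin n → Fˣ} (h : Commute A (sh lam)) {l k : Ix n}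
    (hne : ev lam l ≠ ev lam k) : ent A l k = 0 := by
  have h1 := congrArg (fun B => rho n F B (be n F k) l) h.eq
  simp only [map_mul, Equiv.Perm.mul_apply] at h1
  rw [rho_sh_be, rho_smul, Pi.smul_apply, smul_eq_mul, rho_sh] at h1
  have h2 : ((ev lam l : F) - ev lam k) * ent A l k = 0 := by
    rw [ent]; linear_combination -h1
  rcases mul_eq_zero.1 h2 with h3 | h3
  · exact absurd (Units.ext (sub_eq_zero.1 h3)) hne
  · exact h3

section chartwo

variable [CharP F 2]

theorem inv_ne_self {c : Fˣ} (h : c ≠ 1) : c⁻¹ ≠ c := by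
  intro e
  apply h
  have h1 : c * c = 1 := by
    calc c * c = c * c⁻¹ := by rw [e]
      _ = 1 := mul_inv_cancel c
  have h2 : ((c : F) - 1) * (c - 1) = 0 := by
    have h3 : (c : F) * c = 1 := by rw [← Units.val_mul, h1]; rfl
    linear_combination h3 - ((c : F) - 1) * (two0 : (2 : F) = 0)
  exact Units.ext (sub_eq_zero.1 (mul_self_eq_zero.1 h2))

/-- a line `e_k` fixed by the torus: the entries outside the diagonal vanish -/
theorem ent_off {A : Sy n F} {k : Ix n} {c : Fˣ} (hc : c ≠ 1) (h : Commute A (sh (one k c))) {l : Ix n}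
    (hl : l ≠ k) : ent A l k = 0 ∧ ent A k l = 0 := by
  have hne : ev (one k c) l ≠ ev (one k c) k := by
    rw [ev_one_self]
    by_cases h2 : l = neg k
    · rw [h2, ev_one_neg]; exact inv_ne_self hc
    · rw [ev_one_ne ⟨hl, h2⟩]; exact hc.symm
  exact ⟨ent_zero_of_torus h hne, ent_zero_of_torus h hne.symm⟩

theorem diag_mul {A : Sy n F} {k : Ix n} (h : ∀ l, l ≠ k → ent A l k = 0) :
    ent A k k * ent A (neg k) (neg k) = 1 := by
  have h5 := ent_form A k (neg k)
  rw [neg_neg, if_pos rfl, Finset.sum_eq_single (neg k)] at h5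
  · rwa [neg_neg] at h5
  · intro m _ hm
    rw [h (neg m) (fun e => hm (by rw [← e, neg_neg])), zero_mul]
  · intro h; exact absurd (Finset.mem_univ _) h

omit [CharP F 2] in
/-- the torus element with given diagonal entries -/
theorem exists_lamW {A : Sy n F} (h : ∀ k, ent A k k * ent A (neg k) (neg k) = 1) :
    ∃ lam : Fin n → Fˣ, ∀ k, (ev lam k : F) = ent A k k := by
  have hne : ∀ k, ent A k k ≠ 0 := fun k e => by
    have := h k
    rw [e, zero_mul] at this
    exact zero_ne_one this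
  refine ⟨fun i => Units.mk0 (ent A (Sum.inl i) (Sum.inl i)) (hne _), ?_⟩
  rintro (i | i)
  · rfl
  · have h1 := h (Sum.inl i)
    rw [neg_inl] at h1
    simp only [ev, Sum.elim_inr, Units.val_inv_eq_inv_val, Units.val_mk0]
    exact (eq_inv_of_mul_eq_one_right h1).symm

/-- **F1c** for `Y_i` in `Sp` -/
theorem F1c_sy {A : Sy n F} {i : Ix n} {c : Fˣ} (hc : c ≠ 1) (h : Commute A (sy i 1))
    (ht : ∀ lam, ev lam i = 1 → Commute A (sh lam)) :
    ∃ u lam, ev lam i = 1 ∧ A = sy i u * sh lam := by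
  have cy := cy_of_comm h
  have off : ∀ k, Dj k i → ∀ l, l ≠ k → ent A l k = 0 ∧ ent A k l = 0 := fun k hk l hl =>
    ent_off hc (ht _ (ev_one_ne hk.symm c)) hl
  have hd : ∀ k, ent A k k * ent A (neg k) (neg k) = 1 := by
    intro k
    by_cases h1 : k = i
    · rw [h1, cy.diag, cy.diag', mul_one]
    by_cases h2 : k = neg i
    · rw [h2, neg_neg, cy.diag, cy.diag', mul_one]
    · exact diag_mul fun l hl => (off k ⟨h1, h2⟩ l hl).1
  obtain ⟨lam, hlam⟩ := exists_lamW hd
  have hi : ev lam i = 1 := Units.ext (by rw [hlam, cy.diag]; rfl)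
  refine ⟨ent A i (neg i), lam, hi, ?_⟩
  apply ext_ent
  intro l k
  have e : ent (sy i (ent A i (neg i)) * sh lam) l k =
      ev lam k * ((if l = k then 1 else 0) + ent A i (neg i) * (if neg i = k then 1 else 0) * (if l = i then 1 else 0)) := by
    rw [ent, map_mul, Equiv.Perm.mul_apply, rho_sh_be, rho_smul, rho_sy]
    simp only [Pi.smul_apply, Pi.add_apply, smul_eq_mul, be_apply]
  rw [e]
  by_cases h1 : k = i
  · subst h1
    rw [if_neg (neg_ne k), hi]
    by_cases h2 : l = k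
    · rw [h2, cy.diag, if_pos rfl]; simp
    · rw [cy.col l h2, if_neg h2]; simp
  by_cases h2 : k = neg i
  · subst h2
    rw [if_pos rfl, ev_neg, hi]
    by_cases h3 : l = neg i
    · rw [h3, cy.diag', if_pos rfl, if_neg (neg_ne i)]; simp
    · rw [if_neg h3]
      by_cases h4 : l = i
      · rw [h4, if_pos rfl]; simp
      · rw [if_neg h4, (off l ⟨h4, h3⟩ (neg i) (fun e => h3 e.symm)).2]; simp
  · have g1 : neg i ≠ k := fun e => h2 e.symm
    rw [if_neg g1]
    by_cases h3 : l = k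
    · rw [h3, if_pos rfl, hlam]; simp
    · rw [if_neg h3, (off k ⟨h1, h2⟩ l h3).1]; simp

/-- **F1c** for `X_ij` in `Sp` -/
theorem F1c_sx {A : Sy n F} {i j : Ix n} (hij : Dj i j) {c : Fˣ} (hc : c ≠ 1) (h : Commute A (sx i j 1))
    (ht : ∀ lam, ev lam i * ev lam j = 1 → Commute A (sh lam)) :
    ∃ u lam, ev lam i * ev lam j = 1 ∧ A = sx i j u * sh lam := by
  have cx := cx_of_comm hij h
  have hne := hij.1
  have n1 : neg j ≠ i := fun e => hij.2 e.symm
  have n2 : neg i ≠ j := fun e => hij.2 (by rw [← e, neg_neg])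
  have n3 : neg i ≠ neg j := fun e => hne (neg_inj.mp e)
  have off : ∀ k, Dj k i → Dj k j → ∀ l, l ≠ k → ent A l k = 0 ∧ ent A k l = 0 := fun k hk hk' l hl =>
    ent_off hc (ht _ (by rw [ev_one_ne hk.symm c, ev_one_ne hk'.symm c, one_mul])) hl
  -- the torus element `c, c⁻¹`
  have hcc := inv_ne_self hc
  set mu : Fin n → Fˣ := one i c * one j c⁻¹ with hmu
  have mi : ev mu i = c := by rw [hmu, ev_mulW, ev_one_self, ev_one_ne hij, mul_one]
  have mj : ev mu j = c⁻¹ := by rw [hmu, ev_mulW, ev_one_self, ev_one_ne hij.symm, one_mul]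
  have hA := ht mu (by rw [mi, mj, mul_inv_cancel])
  have mi' : ev mu (neg i) = c⁻¹ := by rw [ev_neg, mi]
  have mj' : ev mu (neg j) = c := by rw [ev_neg, mj, inv_inv]
  have eij : ent A i j = 0 := ent_zero_of_torus hA (by rw [mi, mj]; exact hcc.symm)
  have eji : ent A j i = 0 := ent_zero_of_torus hA (by rw [mi, mj]; exact hcc)
  have eii' : ent A i (neg i) = 0 := ent_zero_of_torus hA (by rw [mi, mi']; exact hcc.symm)
  have ejj' : ent A j (neg j) = 0 := ent_zero_of_torus hA (by rw [mj, mj']; exact hcc)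
  have coli : ∀ l, l ≠ i → ent A l i = 0 := fun l hl => by
    by_cases hl' : l = j
    · rw [hl', eji]
    · exact cx.coli l hl hl'
  have colj : ∀ l, l ≠ j → ent A l j = 0 := fun l hl => by
    by_cases hl' : l = i
    · rw [hl', eij]
    · exact cx.colj l hl' hl
  have d1 := diag_mul coli
  have d2 := diag_mul colj
  have hd : ∀ k, ent A k k * ent A (neg k) (neg k) = 1 := by
    intro k
    by_cases h1 : k = i
    · rw [h1]; exact d1
    by_cases h2 : k = neg i
    · rw [h2, neg_neg, mul_comm]; exact d1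
    by_cases h3 : k = j
    · rw [h3]; exact d2
    by_cases h4 : k = neg j
    · rw [h4, neg_neg, mul_comm]; exact d2
    · exact diag_mul fun l hl => (off k ⟨h1, h2⟩ ⟨h3, h4⟩ l hl).1
  obtain ⟨lam, hlam⟩ := exists_lamW hd
  have hi : ev lam i * ev lam j = 1 := Units.ext (by
    rw [Units.val_mul, hlam, hlam, cx.jj]; exact d1)
  -- `d = A_ii = A_{-j,-j}`, `d' = A_jj = A_{-i,-i}`
  have hii : (ev lam i : F) = ent A i i := hlam i
  have hjj : (ev lam j : F) = ent A j j := hlam j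
  have hii' : (ev lam (neg i) : F) = ent A j j := by rw [hlam, cx.jj]
  have hjj' : (ev lam (neg j) : F) = ent A i i := by rw [hlam, cx.ii]
  -- the form between `A e_{-i}` and `A e_{-j}`
  have hf := ent_form A (neg i) (neg j)
  rw [neg_neg, if_neg n2] at hf
  have hsum : ∑ k : Ix n, ent A (neg k) (neg i) * ent A k (neg j) =
      ent A (neg i) (neg i) * ent A i (neg j) + ent A j (neg i) * ent A (neg j) (neg j) := by
    rw [← Finset.sum_subset (Finset.subset_univ ({i, neg j} : Finset (Ix n))), Finset.sum_pair n1.symm, neg_neg]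
    intro k _ hk
    rw [Finset.mem_insert, Finset.mem_singleton, not_or] at hk
    by_cases k1 : k = j
    · rw [k1, ejj', mul_zero]
    by_cases k2 : k = neg i
    · rw [k2, neg_neg, eii', zero_mul]
    · rw [(off k ⟨hk.1, k2⟩ ⟨k1, hk.2⟩ (neg j) (fun e => hk.2 e.symm)).2, mul_zero]
  rw [hsum] at hf
  have hne1 : ent A i i ≠ 0 := by rw [← hii]; exact (ev lam i).ne_zero
  have hdd : ent A i i * ent A j j = 1 := by rw [← hii, ← hjj, ← Units.val_mul, hi]; rfl
  set u := ent A j j * ent A i (neg j) with hu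
  have e1 : ent A i (neg j) = ev lam (neg j) * u := by
    rw [hjj', hu, ← mul_assoc, hdd, one_mul]
  have e2 : ent A j (neg i) = ev lam (neg i) * u := by
    rw [← cx.jj, ← cx.ii] at hf
    rw [hii', hu]
    have : ent A i i * ent A j (neg i) = ent A j j * ent A i (neg j) := by
      linear_combination hf - (ent A j j * ent A i (neg j)) * (two0 : (2 : F) = 0)
    calc ent A j (neg i) = (ent A i i * ent A j j) * ent A j (neg i) := by rw [hdd, one_mul]
      _ = ent A j j * (ent A i i * ent A j (neg i)) := by ring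
      _ = ent A j j * (ent A j j * ent A i (neg j)) := by rw [this]
  refine ⟨u, lam, hi, ?_⟩
  apply ext_ent
  intro l k
  have e : ent (sx i j u * sh lam) l k =
      ev lam k * ((if l = k then 1 else 0) + u * (if neg j = k then 1 else 0) * (if l = i then 1 else 0) +
        u * (if neg i = k then 1 else 0) * (if l = j then 1 else 0)) := by
    rw [ent, map_mul, Equiv.Perm.mul_apply, rho_sh_be, rho_smul, rho_sx hij]
    simp only [Pi.smul_apply, Pi.add_apply, smul_eq_mul, be_apply]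
  rw [e]
  by_cases h1 : k = i
  · subst h1
    rw [if_neg (neg_ne k), if_neg n1]
    by_cases h2 : l = k
    · rw [h2, if_pos rfl, hlam]; simp
    · rw [coli l h2, if_neg h2]; simp
  by_cases h2 : k = j
  · subst h2
    rw [if_neg (neg_ne k), if_neg n2]
    by_cases h3 : l = k
    · rw [h3, if_pos rfl, hlam]; simp
    · rw [colj l h3, if_neg h3]; simp
  by_cases h3 : k = neg i
  · subst h3
    rw [if_pos rfl, if_neg n3.symm]
    by_cases h4 : l = neg i
    · rw [h4, if_pos rfl, if_neg n2, hlam]; simp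
    · rw [if_neg h4]
      by_cases h5 : l = j
      · rw [h5, if_pos rfl, e2]; simp
      · rw [if_neg h5]
        by_cases h6 : l = i
        · rw [h6, eii']; simp
        by_cases h7 : l = neg j
        · have h8 : ent A (neg j) (neg i) = 0 := by rw [← cx.ij, eij]
          rw [h7, h8]; simp
        · rw [(off l ⟨h6, h4⟩ ⟨h5, h7⟩ (neg i) (fun e => h4 e.symm)).2]; simp
  by_cases h4 : k = neg j
  · subst h4
    rw [if_pos rfl, if_neg n3]
    by_cases h5 : l = neg j
    · rw [h5, if_pos rfl, if_neg n1, hlam]; simp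
    · rw [if_neg h5]
      by_cases h6 : l = i
      · rw [h6, if_pos rfl, e1]; simp
      · rw [if_neg h6]
        by_cases h7 : l = j
        · rw [h7, ejj']; simp
        by_cases h8 : l = neg i
        · have h9 : ent A (neg i) (neg j) = 0 := by rw [← cx.ji, eji]
          rw [h8, h9]; simp
        · rw [(off l ⟨h6, h8⟩ ⟨h7, h5⟩ (neg j) (fun e => h5 e.symm)).2]; simp
  · have g1 : neg j ≠ k := fun e => h4 e.symm
    have g2 : neg i ≠ k := fun e => h3 e.symm
    rw [if_neg g1, if_neg g2]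
    by_cases h5 : l = k
    · rw [h5, if_pos rfl, hlam]; simp
    · rw [if_neg h5, (off k ⟨h1, h3⟩ ⟨h2, h4⟩ l h5).1]; simp

end chartwo

end Cfsg.Agent.OddHalf.SpN

end

-- merged: Cfsg.Agent.OddHalf.SpN.WTrans
section

/-!
# ODD D7, `K = Sp_2n(q)`: translations (section 2 of `blueprints/ODD-D7-Sp-helper297.md`)

`B` acts on the coset `tX` (`X` an elementary abelian 2-group commuting with `t`), transitively, and
`H ≤ B ∩ C(t)` is transitive on `X#`.  If an element of `B` fixing two points of `tX` acts trivially,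
then the elements of `B` centralising `X` are transitive on `tX`.
-/

set_option autoImplicit false

namespace Cfsg.Agent.OddHalf.SpN.WTrans

open MulAction

variable {G : Type*} [Group G]

/-- the coset `tX` -/
def Om (t : G) (X : Subgroup G) : Type _ := {y : G // t⁻¹ * y ∈ X}

variable {t : G} {X : Subgroup G}

theorem Om.ext {a b : Om t X} (h : a.1 = b.1) : a = b := Subtype.ext h

/-- conjugation action of `B` on `tX` -/
def act (B : Subgroup G) (BX : ∀ b ∈ B, ∀ x ∈ X, b * x * b⁻¹ ∈ X)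
    (Bt : ∀ b ∈ B, t⁻¹ * (b * t * b⁻¹) ∈ X) : MulAction B (Om t X) where
  smul b y := ⟨b * y.1 * (b : G)⁻¹, by
    have h1 := Bt b.1 b.2
    have h2 := BX b.1 b.2 _ y.2
    have := X.mul_mem h1 h2
    convert this using 1
    group⟩
  one_smul y := Om.ext (by show (1 : G) * y.1 * (1 : G)⁻¹ = y.1; group)
  mul_smul a b y := Om.ext (by
    show (a.1 * b.1) * y.1 * (a.1 * b.1)⁻¹ = a.1 * (b.1 * y.1 * (b.1)⁻¹) * (a.1)⁻¹
    group)

theorem exists_translation [Finite G] (B H : Subgroup G)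
    (X2 : ∀ x ∈ X, x * x = 1) (Xt : ∀ x ∈ X, t * x = x * t)
    (BX : ∀ b ∈ B, ∀ x ∈ X, b * x * b⁻¹ ∈ X)
    (Bt : ∀ b ∈ B, t⁻¹ * (b * t * b⁻¹) ∈ X)
    (HB : H ≤ B) (Ht : ∀ h ∈ H, h * t = t * h)
    (Htr : ∀ x ∈ X, x ≠ 1 → ∀ y ∈ X, y ≠ 1 → ∃ h ∈ H, h * x * h⁻¹ = y)
    (Btr : ∀ x ∈ X, ∃ b ∈ B, b * t * b⁻¹ = t * x)
    (two : ∀ b ∈ B, b * t = t * b → ∀ x ∈ X, x ≠ 1 → b * x = x * b → ∀ y ∈ X, b * y = y * b) :
    ∀ x ∈ X, ∃ b ∈ B, (∀ y ∈ X, b * y = y * b) ∧ b * t * b⁻¹ = t * x := by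
  classical
  intro x₀ hx₀
  by_cases hx₀1 : x₀ = 1
  · exact ⟨1, B.one_mem, fun y _ => by simp, by simp [hx₀1]⟩
  letI : MulAction B (Om t X) := act B BX Bt
  have smul_val : ∀ (b : B) (y : Om t X), (b • y).1 = b.1 * y.1 * (b.1)⁻¹ := fun _ _ => rfl
  haveI : Finite (Om t X) := Subtype.finite
  let o : Om t X := ⟨t, by simp⟩
  let p (x : X) : Om t X := ⟨t * x, by simp⟩
  have hp : ∀ y : Om t X, ∃ x : X, y = p x := fun y => ⟨⟨t⁻¹ * y.1, y.2⟩, Om.ext (by simp [p])⟩
  have hne : o ≠ p ⟨x₀, hx₀⟩ := by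
    intro h
    have := congrArg Subtype.val h
    simp only [o, p] at this
    apply hx₀1
    have h2 : t * 1 = t * x₀ := by simpa using this
    exact (mul_left_cancel h2).symm
  haveI : Nontrivial (Om t X) := ⟨⟨_, _, hne⟩⟩
  -- transitivity
  have htr1 : ∀ y : Om t X, ∃ b : B, b • o = y := by
    intro y
    obtain ⟨x, rfl⟩ := hp y
    obtain ⟨b, hb, e⟩ := Btr x x.2
    exact ⟨⟨b, hb⟩, Om.ext (by rw [smul_val]; exact e)⟩
  have h2o : ∀ y z : Om t X, y ≠ o → z ≠ o → ∃ b : B, b • o = o ∧ b • y = z := by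
    intro y z hy hz
    obtain ⟨x, rfl⟩ := hp y
    obtain ⟨x', rfl⟩ := hp z
    have hx1 : (x : G) ≠ 1 := fun h => hy (Om.ext (by simp [p, o, h]))
    have hx1' : (x' : G) ≠ 1 := fun h => hz (Om.ext (by simp [p, o, h]))
    obtain ⟨h, hh, e⟩ := Htr x x.2 hx1 x' x'.2 hx1'
    refine ⟨⟨h, HB hh⟩, Om.ext ?_, Om.ext ?_⟩
    · rw [smul_val]
      show h * t * h⁻¹ = t
      rw [Ht h hh]; group
    · rw [smul_val]
      show h * (t * x) * h⁻¹ = t * x'
      rw [← e, ← mul_assoc, Ht h hh]; group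
  have h2 : ∀ a b c d : Om t X, a ≠ b → c ≠ d → ∃ g : B, g • a = c ∧ g • b = d := by
    intro a b c d hab hcd
    obtain ⟨g1, hg1⟩ := htr1 a
    obtain ⟨g2, hg2⟩ := htr1 c
    obtain ⟨k, hk1, hk2⟩ := h2o (g1⁻¹ • b) (g2⁻¹ • d)
      (by intro h; apply hab; rw [← hg1]; rw [inv_smul_eq_iff] at h; exact h.symm)
      (by intro h; apply hcd; rw [← hg2]; rw [inv_smul_eq_iff] at h; exact h.symm)
    refine ⟨g2 * k * g1⁻¹, ?_, ?_⟩
    · rw [mul_smul, mul_smul, ← hg1, inv_smul_smul, hk1, hg2]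
    · rw [mul_smul, mul_smul, hk2, smul_inv_smul]
  -- the permutation group
  let Θ : Subgroup (Equiv.Perm (Om t X)) := (MulAction.toPermHom B (Om t X)).range
  have hΘ : ∀ g : Θ, ∃ b : B, ∀ y : Om t X, g • y = b • y := by
    rintro ⟨g, b, rfl⟩
    exact ⟨b, fun y => rfl⟩
  have hΘ' : ∀ b : B, ∃ g : Θ, ∀ y : Om t X, g • y = b • y := fun b => ⟨⟨_, b, rfl⟩, fun y => rfl⟩
  have h2Θ : ∀ a b c d : Om t X, a ≠ b → c ≠ d → ∃ g : Θ, g • a = c ∧ g • b = d := by
    intro a b c d hab hcd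
    obtain ⟨g, e1, e2⟩ := h2 a b c d hab hcd
    obtain ⟨g', hg'⟩ := hΘ' g
    exact ⟨g', by rw [hg', e1], by rw [hg', e2]⟩
  haveI : IsPretransitive (⊤ : Subgroup Θ) (Om t X) := by
    constructor
    intro a b
    by_cases hab : a = b
    · exact ⟨1, by rw [one_smul]; exact hab⟩
    · obtain ⟨g, e1, -⟩ := h2Θ a b b a hab (Ne.symm hab)
      exact ⟨⟨g, Subgroup.mem_top g⟩, e1⟩
  -- elements fixing two points act trivially
  have hfix : ∀ b : B, ∀ y z : Om t X, y ≠ z → b • y = y → b • z = z → ∀ w : Om t X, b • w = w := by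
    intro b y z hyz hy hz w
    obtain ⟨g, hg⟩ := htr1 y
    have e1 : (g⁻¹ * b * g) • o = o := by
      rw [mul_smul, mul_smul, hg, hy, ← hg, inv_smul_smul]
    have e2 : (g⁻¹ * b * g) • (g⁻¹ • z) = g⁻¹ • z := by
      rw [mul_smul, mul_smul, smul_inv_smul, hz]
    obtain ⟨x, hx⟩ := hp (g⁻¹ • z)
    have hx1 : (x : G) ≠ 1 := by
      intro h
      apply hyz
      have : g⁻¹ • z = o := by rw [hx]; exact Om.ext (by simp [p, o, h])
      rw [inv_smul_eq_iff] at this
      rw [this, hg]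
    set c := g⁻¹ * b * g with hc
    have c1 : c.1 * t = t * c.1 := by
      have := congrArg Subtype.val e1
      rw [smul_val] at this
      have h3 : c.1 * t * (c.1)⁻¹ = t := this
      calc c.1 * t = c.1 * t * (c.1)⁻¹ * c.1 := by group
        _ = t * c.1 := by rw [h3]
    have c2 : c.1 * x.1 = x.1 * c.1 := by
      have := congrArg Subtype.val e2
      rw [hx, smul_val] at this
      have h3 : c.1 * (t * x.1) * (c.1)⁻¹ = t * x.1 := this
      have h4 : c.1 * (t * x.1) = t * x.1 * c.1 := by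
        calc c.1 * (t * x.1) = c.1 * (t * x.1) * (c.1)⁻¹ * c.1 := by group
          _ = t * x.1 * c.1 := by rw [h3]
      rw [← mul_assoc, c1, mul_assoc, mul_assoc] at h4
      exact mul_left_cancel h4
    have c3 := two c.1 c.2 c1 x.1 x.2 hx1 c2
    have hall : ∀ v : Om t X, c • v = v := by
      intro v
      obtain ⟨x', rfl⟩ := hp v
      apply Om.ext
      rw [smul_val]
      show c.1 * (t * x'.1) * (c.1)⁻¹ = t * x'.1
      rw [← mul_assoc, c1, mul_assoc t, c3 x'.1 x'.2]; group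
    have := hall (g⁻¹ • w)
    rw [hc, mul_smul, mul_smul, smul_inv_smul] at this
    have h5 := congrArg (fun v => g • v) this
    simp only [smul_inv_smul] at h5
    exact h5
  have h1Θ : ∀ a b : Om t X, a ≠ b → ∀ g ∈ (⊤ : Subgroup Θ), g • a = a → g • b = b → g = 1 := by
    intro a b hab g _ ha hb
    obtain ⟨c, hc⟩ := hΘ g
    apply Subtype.ext
    apply Equiv.ext
    intro w
    have := hfix c a b hab (by rw [← hc, ha]) (by rw [← hc, hb]) w
    rw [← hc] at this
    exact this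
  obtain ⟨K, hKn, -, hKt, hKs, -⟩ :=
    Cfsg.Agent.PermutationGroups.TwoTransitiveNormal.exists_regular_normal_of_two_point_trivial
      h2Θ ⊤ h1Θ
  -- the preimage `M` of `K` in `B`
  let f : B →* Θ := (MulAction.toPermHom B (Om t X)).rangeRestrict
  have hf : ∀ (b : B) (y : Om t X), f b • y = b • y := fun b y => rfl
  -- `K` is a 2-group
  have hX2 : IsPGroup 2 X := by
    intro x
    refine ⟨1, ?_⟩
    rw [pow_one]
    apply Subtype.ext
    have := X2 x.1 x.2
    simp [pow_two, this]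
  have hcardO : Nat.card (Om t X) = Nat.card X :=
    Nat.card_congr
      { toFun := fun y => ⟨t⁻¹ * y.1, y.2⟩
        invFun := fun x => p x
        left_inv := fun y => Om.ext (by simp [p])
        right_inv := fun x => Subtype.ext (by simp [p]) }
  have hKcard : Nat.card K = Nat.card X := by
    rw [← hcardO]
    have e1 := MulAction.index_stabilizer_of_transitive K o
    rw [hKs o, Subgroup.index_bot] at e1
    exact e1
  have hK2 : IsPGroup 2 K := by
    obtain ⟨n, hn⟩ := IsPGroup.iff_card.1 hX2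
    exact IsPGroup.of_card (n := n) (hKcard.trans hn)
  -- `K` acts on `X` by conjugation: linear action of `Θ` on `X`
  -- an element of `B` acting trivially on `tX` centralises `X`
  have hker : ∀ b : B, f b = 1 → ∀ x ∈ X, b.1 * x = x * b.1 := by
    intro b hb x hx
    have h0 : ∀ y : Om t X, b • y = y := by
      intro y; rw [← hf, hb, one_smul]
    have e0 := congrArg Subtype.val (h0 o)
    have e1 := congrArg Subtype.val (h0 (p ⟨x, hx⟩))
    rw [smul_val] at e0 e1
    have e0' : b.1 * t * (b.1)⁻¹ = t := e0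
    have e1' : b.1 * (t * x) * (b.1)⁻¹ = t * x := e1
    have e2 : b.1 * x * (b.1)⁻¹ = x := by
      have : b.1 * (t * x) * (b.1)⁻¹ = (b.1 * t * (b.1)⁻¹) * (b.1 * x * (b.1)⁻¹) := by group
      rw [this, e0'] at e1'
      exact mul_left_cancel e1'
    calc b.1 * x = b.1 * x * (b.1)⁻¹ * b.1 := by group
      _ = x * b.1 := by rw [e2]
  let lin : B →* MulAut X :=
    { toFun := fun b =>
        { toFun := fun x => ⟨b.1 * x.1 * (b.1)⁻¹, BX b.1 b.2 x.1 x.2⟩
          invFun := fun x => ⟨(b.1)⁻¹ * x.1 * b.1, by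
            have := BX (b⁻¹).1 (b⁻¹).2 x.1 x.2
            simpa using this⟩
          left_inv := fun x => Subtype.ext (by
            show (b.1)⁻¹ * (b.1 * x.1 * (b.1)⁻¹) * b.1 = x.1
            group)
          right_inv := fun x => Subtype.ext (by
            show b.1 * ((b.1)⁻¹ * x.1 * b.1) * (b.1)⁻¹ = x.1
            group)
          map_mul' := fun x y => Subtype.ext (by
            show b.1 * (x.1 * y.1) * (b.1)⁻¹ = (b.1 * x.1 * (b.1)⁻¹) * (b.1 * y.1 * (b.1)⁻¹)
            group) }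
      map_one' := by
        ext x
        show (1 : G) * x.1 * (1 : G)⁻¹ = x.1
        group
      map_mul' := fun a b => by
        ext x
        show (a.1 * b.1) * x.1 * (a.1 * b.1)⁻¹ = a.1 * (b.1 * x.1 * (b.1)⁻¹) * (a.1)⁻¹
        group }
  have hlin : ∀ (b : B) (x : X), ((lin b) x).1 = b.1 * x.1 * (b.1)⁻¹ := fun _ _ => rfl
  -- the set of fixed points of `M`
  let M : Subgroup B := K.comap f
  have hfs : Function.Surjective f := MonoidHom.rangeRestrict_surjective _
  let C : Subgroup X :=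
    { carrier := {x | ∀ m ∈ M, lin m x = x}
      mul_mem' := fun {a b} ha hb m hm => by rw [map_mul, ha m hm, hb m hm]
      one_mem' := fun m _ => map_one _
      inv_mem' := fun {a} ha m hm => by rw [map_inv, ha m hm] }
  -- C is nontrivial
  have hCne : ∃ x : X, x ∈ C ∧ x ≠ 1 := by
    -- the group K acts on X
    have hwd : ∀ m m' : B, f m = f m' → lin m = lin m' := by
      intro m m' h
      have h3 : f (m⁻¹ * m') = 1 := by rw [map_mul, map_inv, h, inv_mul_cancel]
      have h4 := hker _ h3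
      ext x
      rw [hlin, hlin]
      have h5 := h4 x.1 x.2
      have h6 : (m.1)⁻¹ * m'.1 * x.1 = x.1 * ((m.1)⁻¹ * m'.1) := h5
      calc m.1 * x.1 * (m.1)⁻¹ = m.1 * (x.1 * ((m.1)⁻¹ * m'.1)) * (m'.1)⁻¹ := by group
        _ = m.1 * ((m.1)⁻¹ * m'.1 * x.1) * (m'.1)⁻¹ := by rw [h6]
        _ = m'.1 * x.1 * (m'.1)⁻¹ := by group
    have hkerle : f.ker ≤ lin.ker := by
      intro m hm
      rw [MonoidHom.mem_ker] at hm ⊢
      rw [hwd m 1 (by rw [hm, map_one]), map_one]
    let g : Θ →* MulAut X := f.liftOfSurjective hfs ⟨lin, hkerle⟩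
    have hg : ∀ m : B, g (f m) = lin m := fun m => by
      have := MonoidHom.liftOfRightInverse_comp_apply f (Function.surjInv hfs)
        (Function.rightInverse_surjInv hfs) ⟨lin, hkerle⟩ m
      exact this
    letI : MulAction K X := MulAction.compHom X (g.comp K.subtype)
    have hsm : ∀ (k : K) (x : X), k • x = g k.1 x := fun _ _ => rfl
    have hcard := hK2.card_modEq_card_fixedPoints X
    obtain ⟨n, hn⟩ := IsPGroup.iff_card.1 hX2
    have h1 : (1 : X) ∈ MulAction.fixedPoints K X := fun k => by rw [hsm]; exact map_one _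
    have hn0 : n ≠ 0 := by
      rintro rfl
      rw [pow_zero] at hn
      have : Subsingleton X := (Nat.card_eq_one_iff_unique.1 hn).1
      apply hx₀1
      exact congrArg Subtype.val (Subsingleton.elim (⟨x₀, hx₀⟩ : X) 1)
    have hpX : 2 ∣ Nat.card X := by rw [hn]; exact dvd_pow_self 2 hn0
    obtain ⟨y, hy, hy1⟩ := hK2.exists_fixed_point_of_prime_dvd_card_of_fixed_point X hpX h1
    refine ⟨y, ?_, hy1.symm⟩
    intro m hm
    have h7 : f m ∈ K := hm
    have := hy ⟨f m, h7⟩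
    rw [hsm] at this
    rw [← hg m]
    exact this
  obtain ⟨y, hyC, hy1⟩ := hCne
  -- C is invariant under B
  have hCall : ∀ x : X, x ∈ C := by
    intro x
    by_cases hx1 : x = 1
    · rw [hx1]; exact C.one_mem
    obtain ⟨h, hh, e⟩ := Htr y.1 y.2 (fun h => hy1 (Subtype.ext h)) x.1 x.2
      (fun h => hx1 (Subtype.ext h))
    intro m hm
    have hhm : (⟨h, HB hh⟩ : B)⁻¹ * m * ⟨h, HB hh⟩ ∈ M := by
      show f _ ∈ K
      rw [map_mul, map_mul, map_inv]
      have := hKn.conj_mem (f m) hm (f ⟨h, HB hh⟩)⁻¹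
      simpa using this
    have h8 := congrArg Subtype.val (hyC _ hhm)
    rw [hlin] at h8
    apply Subtype.ext
    rw [hlin]
    have h9 : h⁻¹ * m.1 * h * y.1 * (h⁻¹ * m.1 * h)⁻¹ = y.1 := h8
    rw [← e]
    calc m.1 * (h * y.1 * h⁻¹) * (m.1)⁻¹ = h * (h⁻¹ * m.1 * h * y.1 * (h⁻¹ * m.1 * h)⁻¹) * h⁻¹ := by
          group
      _ = h * y.1 * h⁻¹ := by rw [h9]
  -- conclusion
  obtain ⟨k, hk⟩ := hKt.exists_smul_eq o (p ⟨x₀, hx₀⟩)
  obtain ⟨b, hb⟩ := hfs k.1
  have hbM : b ∈ M := by show f b ∈ K; rw [hb]; exact k.2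
  refine ⟨b.1, b.2, ?_, ?_⟩
  · intro y hy
    have := congrArg Subtype.val (hCall ⟨y, hy⟩ b hbM)
    rw [hlin] at this
    have h10 : b.1 * y * (b.1)⁻¹ = y := this
    calc b.1 * y = b.1 * y * (b.1)⁻¹ * b.1 := by group
      _ = y * b.1 := by rw [h10]
  · have h11 : k • o = b • o := by
      show k.1 • o = b • o
      rw [← hb, hf]
    rw [h11] at hk
    have := congrArg Subtype.val hk
    rw [smul_val] at this
    exact this

end Cfsg.Agent.OddHalf.SpN.WTrans

end

-- merged: Cfsg.Agent.OddHalf.SpN.WTorus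
section

/-!
# ODD D7, `K = Sp_2n(q)`: translations centralising the torus `Hr`
(section 2 of `blueprints/ODD-D7-Sp-helper297.md`, second step)
-/

set_option autoImplicit false

namespace Cfsg.Agent.OddHalf.SpN.WTorus

variable {G : Type*} [Group G]

open Subgroup

/-- the group `{g ∈ N(T) ∩ N(X) : t^g ∈ tX}` -/
def BB (t : G) (T X : Subgroup G) : Subgroup G where
  carrier := {g | g ∈ normalizer (T : Set G) ∧ g ∈ normalizer (X : Set G) ∧ t⁻¹ * (g * t * g⁻¹) ∈ X}
  mul_mem' := by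
    rintro a b ⟨a1, a2, a3⟩ ⟨b1, b2, b3⟩
    refine ⟨mul_mem a1 b1, mul_mem a2 b2, ?_⟩
    have h := (mem_normalizer_iff.1 a2 _).1 b3
    have := X.mul_mem a3 h
    convert this using 1
    group
  one_mem' := ⟨one_mem _, one_mem _, by simp⟩
  inv_mem' := by
    rintro a ⟨a1, a2, a3⟩
    refine ⟨inv_mem a1, inv_mem a2, ?_⟩
    have h := (mem_normalizer_iff.1 (inv_mem a2) _).1 (X.inv_mem a3)
    have h2 : t⁻¹ * (a⁻¹ * t * a⁻¹⁻¹) = a⁻¹ * (t⁻¹ * (a * t * a⁻¹))⁻¹ * a⁻¹⁻¹ := by group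
    rw [h2]; exact h

/-- the input: `T` a 2-group containing `t, X` centrally, `H` an odd abelian group acting
transitively on `X#`, `Hr = C_H(X)`, the two local facts `F1a`, `F1b` and the fusion `fus`. -/
structure Inp (t : G) (T X H Hr : Subgroup G) : Prop where
  T2 : IsPGroup 2 T
  XT : X ≤ T
  Tt : ∀ g ∈ T, g * t = t * g
  TX : ∀ g ∈ T, ∀ x ∈ X, g * x = x * g
  X2 : ∀ x ∈ X, x * x = 1
  Hc : ∀ a ∈ H, ∀ b ∈ H, a * b = b * a
  Hodd : Odd (Nat.card H)
  Ht : ∀ h ∈ H, h * t = t * h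
  HT : ∀ h ∈ H, h ∈ normalizer (T : Set G)
  HX : ∀ h ∈ H, h ∈ normalizer (X : Set G)
  tr : ∀ x ∈ X, x ≠ 1 → ∀ y ∈ X, y ≠ 1 → ∃ h ∈ H, h * x * h⁻¹ = y
  mv : ∃ x ∈ X, ∃ h ∈ H, h * x ≠ x * h
  HrH : Hr ≤ H
  HrX : ∀ h ∈ Hr, ∀ x ∈ X, h * x = x * h
  F1a : ∀ g ∈ normalizer (T : Set G), g * t = t * g → (∀ x ∈ X, g * x = x * g) → g ∈ T ⊔ Hr
  F1b : ∀ g ∈ normalizer (T : Set G), g * t = t * g → (∀ h ∈ Hr, g * h = h * g) →
    ∃ h ∈ H, ∀ x ∈ X, g * x * g⁻¹ = h * x * h⁻¹
  fus : ∀ x ∈ X, ∃ g ∈ normalizer (T : Set G), g ∈ normalizer (X : Set G) ∧ g * t * g⁻¹ = t * x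

namespace Inp

variable {t : G} {T X H Hr : Subgroup G}

theorem Xt (I : Inp t T X H Hr) : ∀ x ∈ X, t * x = x * t := fun x hx => (I.Tt x (I.XT hx)).symm

theorem conj_mem (X : Subgroup G) {g : G} (hg : g ∈ normalizer (X : Set G)) {x : G} (hx : x ∈ X) :
    g * x * g⁻¹ ∈ X := (mem_normalizer_iff.1 hg x).1 hx

/-- elements of `T ⊔ Hr` commute with `t` and `X` -/
theorem comm_sup (I : Inp t T X H Hr) : ∀ g ∈ T ⊔ Hr, g * t = t * g ∧ ∀ x ∈ X, g * x = x * g := by
  have hle : T ⊔ Hr ≤ centralizer ({t} : Set G) ⊓ centralizer (X : Set G) := by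
    refine sup_le ?_ ?_
    · intro g hg
      refine ⟨mem_centralizer_iff.2 ?_, mem_centralizer_iff.2 ?_⟩
      · rintro x rfl; exact (I.Tt g hg).symm
      · intro x hx; exact (I.TX g hg x hx).symm
    · intro g hg
      refine ⟨mem_centralizer_iff.2 ?_, mem_centralizer_iff.2 ?_⟩
      · rintro x rfl; exact (I.Ht g (I.HrH hg)).symm
      · intro x hx; exact (I.HrX g hg x hx).symm
  intro g hg
  obtain ⟨h1, h2⟩ := hle hg
  exact ⟨(mem_centralizer_iff.1 h1 t rfl).symm, fun x hx => (mem_centralizer_iff.1 h2 x hx).symm⟩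

theorem Hr_norm (I : Inp t T X H Hr) : Hr ≤ normalizer (T : Set G) := fun h hh => I.HT h (I.HrH hh)

/-- every coset element `tx` is reached by an element normalising `T`, `X`, `Hr` -/
theorem exists_norm [Finite G] (I : Inp t T X H Hr) : ∀ x ∈ X, ∃ g ∈ BB t T X,
    g ∈ normalizer (Hr : Set G) ∧ g * t * g⁻¹ = t * x := by
  intro x hx
  obtain ⟨g, g1, g2, g3⟩ := I.fus x hx
  have hgB : g ∈ BB t T X := ⟨g1, g2, by rw [g3]; simpa using hx⟩
  set B := BB t T X with hB
  -- `T ⊔ Hr` is contained in `B` and normalised by `B`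
  have hTB : T ≤ B := fun y hy => ⟨le_normalizer hy, by
    rw [mem_normalizer_iff]
    intro z
    constructor
    · intro hz; rw [I.TX y hy z hz]; simpa using hz
    · intro hz
      have h := I.TX y hy _ hz
      have : z = y * z * y⁻¹ := by
        have h2 : y * (y * z * y⁻¹) * y⁻¹ = y * z * y⁻¹ := by rw [h]; group
        have h3 : y * z * y⁻¹ = z := by
          have := congrArg (fun v => y⁻¹ * v * y) h2
          calc y * z * y⁻¹ = y⁻¹ * (y * (y * z * y⁻¹) * y⁻¹) * y := by group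
            _ = y⁻¹ * (y * z * y⁻¹) * y := this
            _ = z := by group
        exact h3.symm
      rw [this]; exact hz, by
    rw [I.Tt y hy]; simp⟩
  have hHrB : Hr ≤ B := fun y hy => ⟨I.HT y (I.HrH hy), I.HX y (I.HrH hy), by
    rw [I.Ht y (I.HrH hy)]; simp⟩
  have hLB : T ⊔ Hr ≤ B := sup_le hTB hHrB
  have hLn : ∀ b ∈ B, ∀ y ∈ T ⊔ Hr, b * y * b⁻¹ ∈ T ⊔ Hr := by
    intro b hb y hy
    obtain ⟨b1, b2, b3⟩ := hb
    obtain ⟨c1, c2⟩ := I.comm_sup y hy
    have hyN : y ∈ normalizer (T : Set G) := (hLB hy).1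
    have d2 : ∀ z ∈ X, (b * y * b⁻¹) * z = z * (b * y * b⁻¹) := by
      intro z hz
      have hz' : b⁻¹ * z * b ∈ X := by
        have := conj_mem X (inv_mem b2) hz
        simpa using this
      have e := c2 _ hz'
      calc b * y * b⁻¹ * z = b * (y * (b⁻¹ * z * b)) * b⁻¹ := by group
        _ = b * (b⁻¹ * z * b * y) * b⁻¹ := by rw [e]
        _ = z * (b * y * b⁻¹) := by group
    refine I.F1a _ (mul_mem (mul_mem b1 hyN) (inv_mem b1)) ?_ d2
    -- b y b⁻¹ commutes with b t b⁻¹ = t x₁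
    set x1 := t⁻¹ * (b * t * b⁻¹) with hx1
    have e1 : b * t * b⁻¹ = t * x1 := by rw [hx1]; group
    have e2 : (b * y * b⁻¹) * (t * x1) = (t * x1) * (b * y * b⁻¹) := by
      rw [← e1]
      calc b * y * b⁻¹ * (b * t * b⁻¹) = b * (y * t) * b⁻¹ := by group
        _ = b * (t * y) * b⁻¹ := by rw [c1]
        _ = b * t * b⁻¹ * (b * y * b⁻¹) := by group
    have e3 := d2 x1 b3
    have e4 : (b * y * b⁻¹) * t * x1 = t * (b * y * b⁻¹) * x1 := by
      calc (b * y * b⁻¹) * t * x1 = (b * y * b⁻¹) * (t * x1) := by group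
        _ = (t * x1) * (b * y * b⁻¹) := e2
        _ = t * (x1 * (b * y * b⁻¹)) := by group
        _ = t * ((b * y * b⁻¹) * x1) := by rw [e3]
        _ = t * (b * y * b⁻¹) * x1 := by group
    exact mul_right_cancel e4
  -- Frattini in the group `B`
  let L' : Subgroup B := (T ⊔ Hr).subgroupOf B
  let H' : Subgroup B := Hr.subgroupOf B
  have hL'n : L'.Normal := by
    constructor
    intro y hy b
    rw [mem_subgroupOf] at hy ⊢
    exact hLn b.1 b.2 y.1 hy
  have hH'L' : H' ≤ L' := fun y hy => by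
    rw [mem_subgroupOf] at hy ⊢
    exact (le_sup_right : Hr ≤ T ⊔ Hr) hy
  have hTn : T ≤ normalizer (T : Set G) := le_normalizer
  -- cardinalities
  have hcop : Nat.Coprime (Nat.card Hr) (Nat.card T) := by
    obtain ⟨n, hn⟩ := IsPGroup.iff_card.1 I.T2
    rw [hn]
    have h1 : Nat.card Hr ∣ Nat.card H := Subgroup.card_dvd_of_le I.HrH
    have h2 : Odd (Nat.card Hr) := Odd.of_dvd_nat I.Hodd h1
    exact Nat.Coprime.pow_right n h2.coprime_two_right
  have hrel : (Nat.card H').Coprime (H'.relIndex L') := by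
    have e1 : Nat.card H' = Nat.card Hr := by
      have := Nat.card_congr (Subgroup.subgroupOfEquivOfLe hHrB).toEquiv
      exact this
    have e2 : H'.relIndex L' = Hr.relIndex (T ⊔ Hr) := by
      exact Subgroup.relIndex_subgroupOf hLB
    rw [e1, e2]
    have e3 : Nat.card (T ⊔ Hr : Subgroup G) ∣ Nat.card T * Nat.card Hr :=
      SignalizersComponents.CoprimeBasic.card_sup_dvd I.Hr_norm
    have e4 : Nat.card Hr * Hr.relIndex (T ⊔ Hr) = Nat.card (T ⊔ Hr : Subgroup G) := by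
      have := Subgroup.relIndex_mul_relIndex ⊥ Hr (T ⊔ Hr) bot_le le_sup_right
      rwa [relIndex_bot_left, relIndex_bot_left] at this
    have e5 : Hr.relIndex (T ⊔ Hr) ∣ Nat.card T := by
      rw [← e4, mul_comm (Nat.card T)] at e3
      exact Nat.dvd_of_mul_dvd_mul_left Nat.card_pos e3
    exact Nat.Coprime.coprime_dvd_right e5 hcop
  have hsol : Group.IsSolvable L' := by
    have h1 : Group.IsSolvable (T ⊔ Hr : Subgroup G) := by
      refine SignalizersComponents.CoprimeBasic.isSolvable_sup I.Hr_norm ?_ ?_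
      · have := I.T2.isNilpotent
        infer_instance
      · exact Group.isSolvable_of_comm fun a b => Subtype.ext (I.Hc _ (I.HrH a.2) _ (I.HrH b.2))
    exact Group.isSolvable_of_isSolvable_injective
      (f := ((Subgroup.subgroupOfEquivOfLe hLB).toMonoidHom))
      (Subgroup.subgroupOfEquivOfLe hLB).injective
  have hfr := S0050.result L' hsol H' hH'L' hrel
  have hgt : (⟨g, hgB⟩ : B) ∈ L' ⊔ normalizer (H' : Set B) := by rw [hfr]; exact mem_top _
  obtain ⟨l, hl, k, hk, hlk⟩ := (Subgroup.mem_sup_of_normal_left).1 hgt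
  have hl' : l.1 ∈ T ⊔ Hr := hl
  obtain ⟨l1, l2⟩ := I.comm_sup _ hl'
  have hgk : g = l.1 * k.1 := by
    have := congrArg Subtype.val hlk
    exact this.symm
  refine ⟨k.1, k.2, ?_, ?_⟩
  · rw [mem_normalizer_iff] at hk ⊢
    intro z
    constructor
    · intro hz
      exact (hk ⟨z, hHrB hz⟩).1 hz
    · intro hz
      have hz' : z ∈ B := by
        have h1 : k.1 * z * k.1⁻¹ ∈ B := hHrB hz
        have h2 : k.1⁻¹ * (k.1 * z * k.1⁻¹) * k.1 ∈ B := mul_mem (mul_mem (inv_mem k.2) h1) k.2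
        have h3 : k.1⁻¹ * (k.1 * z * k.1⁻¹) * k.1 = z := by group
        rwa [h3] at h2
      exact (hk ⟨z, hz'⟩).2 hz
  · have e1 : k.1 = l.1⁻¹ * g := by rw [hgk]; group
    have e2 := l2 x hx
    calc k.1 * t * k.1⁻¹ = l.1⁻¹ * (g * t * g⁻¹) * l.1 := by rw [e1]; group
      _ = l.1⁻¹ * (t * x) * l.1 := by rw [g3]
      _ = l.1⁻¹ * (t * (x * l.1)) := by group
      _ = l.1⁻¹ * (t * (l.1 * x)) := by rw [e2]
      _ = l.1⁻¹ * ((t * l.1) * x) := by group
      _ = l.1⁻¹ * ((l.1 * t) * x) := by rw [l1]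
      _ = t * x := by group

theorem H_le_BB (I : Inp t T X H Hr) : H ≤ BB t T X := fun y hy => ⟨I.HT y hy, I.HX y hy, by
    rw [I.Ht y hy]; simp⟩

theorem H_le_cent (I : Inp t T X H Hr) : H ≤ centralizer (Hr : Set G) := fun y hy => by
  rw [mem_centralizer_iff]
  intro z hz
  exact I.Hc _ (I.HrH hz) _ hy

/-- every coset element `tx` is reached by an element of `N(T) ∩ N(X)` centralising `Hr` -/
theorem exists_cent [Finite G] (I : Inp t T X H Hr) : ∀ x ∈ X,
    ∃ g ∈ BB t T X ⊓ centralizer (Hr : Set G), g * t * g⁻¹ = t * x := by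
  by_cases hA : ∃ b ∈ BB t T X ⊓ centralizer (Hr : Set G), b * t ≠ t * b
  · obtain ⟨b, hb, hbt⟩ := hA
    intro x hx
    by_cases hx1 : x = 1
    · exact ⟨1, one_mem _, by simp [hx1]⟩
    have hb3 := hb.1.2.2
    obtain ⟨h, hh, e⟩ := I.tr (t⁻¹ * (b * t * b⁻¹)) hb3 (by
      intro h0
      apply hbt
      have : b * t * b⁻¹ = t := by
        have h1 : t * (t⁻¹ * (b * t * b⁻¹)) = t * 1 := by rw [h0]
        rw [← mul_assoc, mul_inv_cancel, one_mul, mul_one] at h1
        exact h1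
      calc b * t = b * t * b⁻¹ * b := by group
        _ = t * b := by rw [this]) x hx hx1
    refine ⟨h * b, mul_mem ⟨I.H_le_BB hh, I.H_le_cent hh⟩ hb, ?_⟩
    have e2 := I.Ht h hh
    calc h * b * t * (h * b)⁻¹ = (h * t) * (t⁻¹ * (b * t * b⁻¹)) * h⁻¹ := by group
      _ = (t * h) * (t⁻¹ * (b * t * b⁻¹)) * h⁻¹ := by rw [e2]
      _ = t * (h * (t⁻¹ * (b * t * b⁻¹)) * h⁻¹) := by group
      _ = t * x := by rw [e]
  · exfalso
    push Not at hA
    obtain ⟨x, hx, h, hh, hne⟩ := I.mv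
    obtain ⟨g, g1, g2, g3⟩ := I.exists_norm x hx
    have hc : g⁻¹ * h * g ∈ BB t T X ⊓ centralizer (Hr : Set G) := by
      refine ⟨(BB t T X).mul_mem ((BB t T X).mul_mem (inv_mem g1) (I.H_le_BB hh)) g1, ?_⟩
      have h1 := mem_centralizer_iff.1 (I.H_le_cent hh)
      change g⁻¹ * h * g ∈ centralizer (Hr : Set G)
      rw [mem_centralizer_iff]
      intro z hz
      have hz' : g * z * g⁻¹ ∈ Hr := (mem_normalizer_iff.1 g2 z).1 hz
      have e := h1 _ hz'
      calc z * (g⁻¹ * h * g) = g⁻¹ * (g * z * g⁻¹ * h) * g := by group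
        _ = g⁻¹ * (h * (g * z * g⁻¹)) * g := by rw [e]
        _ = g⁻¹ * h * g * z := by group
    have e1 := hA _ hc
    apply hne
    have e2 := I.Ht h hh
    have e3 : h * (t * x) = (t * x) * h := by
      rw [← g3]
      calc h * (g * t * g⁻¹) = g * (g⁻¹ * h * g * t) * g⁻¹ := by group
        _ = g * (t * (g⁻¹ * h * g)) * g⁻¹ := by rw [e1]
        _ = g * t * g⁻¹ * h := by group
    have e4 : t * (h * x) = t * (x * h) := by
      rw [← mul_assoc, ← e2, mul_assoc, e3, mul_assoc]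
    exact mul_left_cancel e4

/-- **translations**: every `tx` is reached by an element of `N(T)` centralising `Hr` and `X` -/
theorem exists_transl [Finite G] (I : Inp t T X H Hr) : ∀ x ∈ X, ∃ g ∈ normalizer (T : Set G),
    (∀ h ∈ Hr, g * h = h * g) ∧ (∀ y ∈ X, g * y = y * g) ∧ g * t * g⁻¹ = t * x := by
  intro x hx
  obtain ⟨b, hb, b1, b2⟩ := WTrans.exists_translation (t := t) (X := X)
    (BB t T X ⊓ centralizer (Hr : Set G)) H I.X2 I.Xt
    (fun b hb x hx => conj_mem X hb.1.2.1 hx) (fun b hb => hb.1.2.2)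
    (fun h hh => ⟨I.H_le_BB hh, I.H_le_cent hh⟩) I.Ht I.tr I.exists_cent
    (by
      intro b hb hbt x hx hx1 hbx y hy
      have hbc : ∀ h ∈ Hr, b * h = h * b := fun h hh => (mem_centralizer_iff.1 hb.2 h hh).symm
      obtain ⟨h, hh, e⟩ := I.F1b b hb.1.1 hbt hbc
      by_cases hy1 : y = 1
      · simp [hy1]
      obtain ⟨k, hk, ek⟩ := I.tr x hx hx1 y hy hy1
      have e1 : h * x * h⁻¹ = x := by rw [← e x hx, hbx]; group
      have e2 := e y hy
      have e3 : h * y * h⁻¹ = y := by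
        rw [← ek]
        calc h * (k * x * k⁻¹) * h⁻¹ = (h * k) * x * (h * k)⁻¹ := by group
          _ = (k * h) * x * (k * h)⁻¹ := by rw [I.Hc h hh k hk]
          _ = k * (h * x * h⁻¹) * k⁻¹ := by group
          _ = k * x * k⁻¹ := by rw [e1]
      rw [e3] at e2
      calc b * y = b * y * b⁻¹ * b := by group
        _ = y * b := by rw [e2]) x hx
  exact ⟨b, hb.1.1, fun h hh => (mem_centralizer_iff.1 hb.2 h hh).symm, b1, b2⟩

end Inp

end Cfsg.Agent.OddHalf.SpN.WTorus

end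

-- merged: Cfsg.Agent.OddHalf.SpN.WFrame
section

/-!
# ODD D7, `K = Sp_2n(q)`, `q > 2`: the doubles of the root groups of a `Frame`

* `exists_W` : the Weyl group is transitive on tuples of signed indices;
* `R.V i`, `R.Wd i j` : canonical doubles of `Y_i`, `X_ij`; Weyl conjugation;
* `R.MvY i`, `R.MvX i j` : `Y_i`, `X_ij` are moved; `locY`, `locX` : the instances of `WExist.Loc`;
* `mv_of_inp` : from `WTorus.Inp`.
-/

set_option autoImplicit false

namespace Cfsg.Agent.OddHalf.SpN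

open Cfsg Cfsg.Agent.ClassicalGeometry.SympBasic Cfsg.Agent.ClassicalGeometry.SympAutSemi
open scoped Matrix commutatorElement
open WExist Subgroup

variable {n : ℕ} {F : Type*} [Field F]

theorem tr_left {i j : Ix n} (h : Dj i j) : tr i j i = j := by
  have h1 : neg j ≠ i := fun e => h.2 e.symm
  simp only [tr, Equiv.Perm.mul_apply]
  rw [Equiv.swap_apply_of_ne_of_ne (ne_neg i) h1.symm, Equiv.swap_apply_left]

theorem tr_fix {i j k : Ix n} (h1 : Dj k i) (h2 : Dj k j) : tr i j k = k := by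
  simp only [tr, Equiv.Perm.mul_apply]
  rw [Equiv.swap_apply_of_ne_of_ne h1.2 h2.2, Equiv.swap_apply_of_ne_of_ne h1.1 h2.1]

theorem sg_left (i : Ix n) : sg i i = neg i := Equiv.swap_apply_left _ _

theorem sg_fix {i k : Ix n} (h1 : Dj k i) : sg i k = k := Equiv.swap_apply_of_ne_of_ne h1.1 h1.2

/-- the Weyl group is transitive on tuples -/
theorem exists_W {m : ℕ} (f g : Fin m → Ix n) (hf : ∀ a b, a ≠ b → Dj (f a) (f b))
    (hg : ∀ a b, a ≠ b → Dj (g a) (g b)) : ∃ s : W n, ∀ a, s.1 (f a) = g a := by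
  induction m with
  | zero => exact ⟨1, fun a => a.elim0⟩
  | succ m ih =>
    obtain ⟨s, hs⟩ := ih (fun a => f a.castSucc) (fun a => g a.castSucc)
      (fun a b hab => hf _ _ fun e => hab (Fin.castSucc_injective m e))
      (fun a b hab => hg _ _ fun e => hab (Fin.castSucc_injective m e))
    set p := s.1 (f (Fin.last m)) with hp
    set r := g (Fin.last m) with hr
    have h1 : ∀ a : Fin m, Dj (g a.castSucc) p := fun a => by
      rw [← hs a, hp, W_dj]
      exact hf _ _ (Fin.castSucc_lt_last a).ne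
    have h2 : ∀ a : Fin m, Dj (g a.castSucc) r := fun a => hg _ _ (Fin.castSucc_lt_last a).ne
    have key : ∃ s' : W n, s'.1 p = r ∧ ∀ a : Fin m, s'.1 (g a.castSucc) = g a.castSucc := by
      by_cases e1 : p = r
      · exact ⟨1, e1, fun a => rfl⟩
      by_cases e2 : p = neg r
      · refine ⟨⟨sg p, sg_mem p⟩, ?_, fun a => sg_fix (h1 a)⟩
        show sg p p = r
        rw [sg_left, e2, neg_neg]
      · exact ⟨⟨tr p r, tr_mem ⟨e1, e2⟩⟩, tr_left ⟨e1, e2⟩, fun a => tr_fix (h1 a) (h2 a)⟩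
    obtain ⟨s', hs1, hs2⟩ := key
    refine ⟨s' * s, fun a => ?_⟩
    refine Fin.lastCases ?_ (fun a => ?_) a
    · exact hs1
    · show s'.1 (s.1 (f a.castSucc)) = _
      rw [hs a, hs2]

theorem exists_W1 (i j : Ix n) : ∃ s : W n, s.1 i = j := by
  obtain ⟨s, hs⟩ := exists_W (fun _ : Fin 1 => i) (fun _ => j) (fun a b h => absurd (Subsingleton.elim a b) h)
    (fun a b h => absurd (Subsingleton.elim a b) h)
  exact ⟨s, hs 0⟩

theorem exists_W2 {i j k l : Ix n} (h : Dj i j) (h' : Dj k l) : ∃ s : W n, s.1 i = k ∧ s.1 j = l := by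
  obtain ⟨s, hs⟩ := exists_W ![i, j] ![k, l]
    (by intro a b hab; fin_cases a <;> fin_cases b <;> first | exact absurd rfl hab | exact h | exact h.symm)
    (by intro a b hab; fin_cases a <;> fin_cases b <;> first | exact absurd rfl hab | exact h' | exact h'.symm)
  exact ⟨s, hs 0, hs 1⟩

theorem exists_W3 {i j k i' j' k' : Ix n} (h1 : Dj i j) (h2 : Dj i k) (h3 : Dj j k) (h1' : Dj i' j')
    (h2' : Dj i' k') (h3' : Dj j' k') : ∃ s : W n, s.1 i = i' ∧ s.1 j = j' ∧ s.1 k = k' := by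
  obtain ⟨s, hs⟩ := exists_W ![i, j, k] ![i', j', k']
    (by
      intro a b hab
      fin_cases a <;> fin_cases b <;>
        first
        | exact absurd rfl hab
        | exact h1
        | exact h1.symm
        | exact h2
        | exact h2.symm
        | exact h3
        | exact h3.symm)
    (by
      intro a b hab
      fin_cases a <;> fin_cases b <;>
        first
        | exact absurd rfl hab
        | exact h1'
        | exact h1'.symm
        | exact h2'
        | exact h2'.symm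
        | exact h3'
        | exact h3'.symm)
  exact ⟨s, hs 0, hs 1, hs 2⟩

/-- action of the Weyl group on the torus -/
def actH (s : W n) (lam : Fin n → Fˣ) : Fin n → Fˣ := fun i => ev lam (s.1⁻¹ (Sum.inl i))

theorem ev_actH (s : W n) (lam : Fin n → Fˣ) (k : Ix n) : ev (actH s lam) k = ev lam (s.1⁻¹ k) := by
  rcases k with i | i
  · rfl
  · have h1 : (Sum.inr i : Ix n) = neg (Sum.inl i) := rfl
    rw [h1, W_inv_neg, ev_neg, ev_neg]; rfl

theorem ev_actH' (s : W n) (lam : Fin n → Fˣ) (k : Ix n) : ev (actH s lam) (s.1 k) = ev lam k := by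
  rw [ev_actH, perm_inv_apply_self]

section general

/-! ### conjugation of doubles -/

variable {G : Type*} [Group G] {A : Type*} [CommGroup A]

/-- `m` maps the data `(x, h, χ)` to `(x', h, χ')` -/
structure Cjg (t : G) (h : A →* G) (m : G) (x x' : F → G) (χ χ' : A →* Fˣ) : Prop where
  mt : Commute m t
  mx : ∀ u, m * x u * m⁻¹ = x' u
  mh : ∀ a, ∃ b, m * h a * m⁻¹ = h b ∧ χ' b = χ a
  mh' : ∀ b, ∃ a, m * h a * m⁻¹ = h b ∧ χ' b = χ a

variable {t : G} {h : A →* G} {m : G} {x x' : F → G} {χ χ' : A →* Fˣ}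

theorem Cjg.mv (C : Cjg t h m x x' χ χ') {g : G} {u : F} (hg : Mv t x h χ g u) :
    Mv t x' h χ' (m * g * m⁻¹) u := by
  refine ⟨fun b hb => ?_, fun v => ?_, ?_⟩
  · obtain ⟨a, e1, e2⟩ := C.mh' b
    rw [hb] at e2
    rw [← e1]
    have e := (hg.1 a e2.symm).eq
    show m * g * m⁻¹ * (m * h a * m⁻¹) = _
    calc m * g * m⁻¹ * (m * h a * m⁻¹) = m * (g * h a) * m⁻¹ := by group
      _ = m * (h a * g) * m⁻¹ := by rw [e]
      _ = m * h a * m⁻¹ * (m * g * m⁻¹) := by group
  · rw [← C.mx]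
    have e := (hg.2.1 v).eq
    show m * g * m⁻¹ * (m * x v * m⁻¹) = _
    calc m * g * m⁻¹ * (m * x v * m⁻¹) = m * (g * x v) * m⁻¹ := by group
      _ = m * (x v * g) * m⁻¹ := by rw [e]
      _ = m * x v * m⁻¹ * (m * g * m⁻¹) := by group
  · have e : m⁻¹ * t * m = t := by rw [mul_assoc, ← C.mt.eq]; group
    have e2 : m * t * m⁻¹ = t := by rw [C.mt.eq]; group
    calc m * g * m⁻¹ * t * (m * g * m⁻¹)⁻¹ = m * (g * (m⁻¹ * t * m) * g⁻¹) * m⁻¹ := by group
      _ = m * (t * x u) * m⁻¹ := by rw [e, hg.2.2]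
      _ = (m * t * m⁻¹) * (m * x u * m⁻¹) := by group
      _ = t * x' u := by rw [e2, C.mx]

theorem Cjg.bs (C : Cjg t h m x x' χ χ') {g : G} {u : F} (hg : Bs t x h χ g u) :
    Bs t x' h χ' (m * g * m⁻¹) u := by
  refine ⟨C.mv hg.1, ?_⟩
  obtain ⟨v, hv⟩ := hg.2
  refine ⟨v, ?_⟩
  rw [← C.mx, ← hv]; group

theorem Cjg.dbl (C : Cjg t h m x x' χ χ') {g : G} (hg : g ∈ Dbl t x h χ) :
    m * g * m⁻¹ ∈ Dbl t x' h χ' := by
  refine closure_induction (p := fun g _ => m * g * m⁻¹ ∈ Dbl t x' h χ') ?_ ?_ ?_ ?_ hg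
  · rintro y (⟨u, rfl⟩ | ⟨b, u, hb, a, rfl⟩)
    · rw [C.mx]; exact subset_closure (Or.inl ⟨u, rfl⟩)
    · obtain ⟨c, e1, _⟩ := C.mh a
      have e : m * (b⁻¹ * (h a * b * (h a)⁻¹)) * m⁻¹ = (m * b * m⁻¹)⁻¹ * (h c * (m * b * m⁻¹) * (h c)⁻¹) := by
        rw [← e1]; group
      rw [e]
      exact subset_closure (Or.inr ⟨_, u, C.bs hb, c, rfl⟩)
  · have : m * 1 * m⁻¹ = 1 := by group
    rw [this]; exact one_mem _
  · intro y z _ _ hy hz
    have : m * (y * z) * m⁻¹ = (m * y * m⁻¹) * (m * z * m⁻¹) := by group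
    rw [this]; exact mul_mem hy hz
  · intro y _ hy
    have : m * y⁻¹ * m⁻¹ = (m * y * m⁻¹)⁻¹ := by group
    rw [this]; exact inv_mem hy

end general

end Cfsg.Agent.OddHalf.SpN

namespace Cfsg.Agent.OddHalf.SpN.WExist.Loc

open Subgroup

variable {F : Type*} [Field F] {G : Type*} [Group G] {A : Type*} [CommGroup A]
  {t : G} {x : F → G} {h : A →* G} {χ : A →* Fˣ}

/-- the double is in every subgroup containing `X`, `t`, `h(ker χ)` and moving elements -/
theorem dbl_le (L : Loc t x h χ) (N : Subgroup G) (hx : ∀ u, x u ∈ N) (ht : t ∈ N)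
    (hh : ∀ a, χ a = 1 → h a ∈ N) (hmv : ∀ u, ∃ g ∈ N, Mv t x h χ g u) : Dbl t x h χ ≤ N := by
  intro g' hg'
  obtain ⟨u, hu⟩ := L.dbl_bs hg'
  obtain ⟨g, hg, hg1⟩ := hmv u
  obtain ⟨w, hw, hw1, a, ha, e⟩ := L.canonical hg1
  have hwN : w ∈ N := by
    rcases e with e | e
    · have : w = g * (h a)⁻¹ := by rw [e]; group
      rw [this]; exact mul_mem hg (inv_mem (hh a ha))
    · have : w = g * (h a)⁻¹ * t⁻¹ := by rw [e]; group
      rw [this]; exact mul_mem (mul_mem hg (inv_mem (hh a ha))) (inv_mem ht)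
  have h1 := L.mv_mul (L.mv_inv hw1.1) hu.1
  rw [L.two] at h1
  obtain ⟨v, hv⟩ := L.dbl_zero (mul_mem (inv_mem hw) hg') h1
  have : g' = w * x v := by rw [← hv]; group
  rw [this]; exact mul_mem hwN (hx v)

/-- `t g t = g x(u)` -/
theorem tgt (L : Loc t x h χ) {g : G} {u : F} (hg : Mv t x h χ g u) : t * g * t = g * x u := by
  have e1 : g * t = t * (x u * g) := by
    calc g * t = g * t * g⁻¹ * g := by group
      _ = t * (x u * g) := by rw [hg.2.2]; group
  calc t * g * t = t * (g * t) := by group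
    _ = (t * t) * (x u * g) := by rw [e1]; group
    _ = g * x u := by rw [L.tt, one_mul, (hg.2.1 u).eq]

theorem of_tgt (L : Loc t x h χ) {g : G} {u v : F} (hg : Mv t x h χ g u) (e : t * g * t = g * x v) : u = v := by
  rw [L.tgt hg] at e
  exact L.x_inj (mul_left_cancel e)

end Cfsg.Agent.OddHalf.SpN.WExist.Loc

namespace Cfsg.Agent.OddHalf.SpN

open Cfsg Cfsg.Agent.ClassicalGeometry.SympBasic Cfsg.Agent.ClassicalGeometry.SympAutSemi
open scoped Matrix commutatorElement
open WExist Subgroup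

variable {n : ℕ} {F : Type*} [Field F]

/-- the root group as a subgroup -/
def xs {G : Type*} [Group G] (x : F → G) (hadd : ∀ u v, x (u + v) = x u * x v) (hinv : ∀ u, x u * x u = 1) :
    Subgroup G where
  carrier := {g | ∃ u, g = x u}
  mul_mem' := by
    rintro a b ⟨u, rfl⟩ ⟨v, rfl⟩
    exact ⟨u + v, (hadd u v).symm⟩
  one_mem' := by
    refine ⟨0, ?_⟩
    have := hadd 0 0
    rw [add_zero] at this
    exact (left_eq_mul.1 this).symm
  inv_mem' := by
    rintro a ⟨u, rfl⟩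
    exact ⟨u, inv_eq_of_mul_eq_one_left (hinv u)⟩

/-- **Translations** in coordinates, from `WTorus`. -/
theorem mv_of_inp {G : Type*} [Group G] [Finite G] {A : Type*} [CommGroup A] {t : G} {x : F → G} {h : A →* G}
    {χ : A →* Fˣ} (two : ∀ a : F, a + a = 0) (x_add : ∀ u v, x (u + v) = x u * x v)
    (ht : ∀ a, Commute (h a) t) (hx : ∀ a u, h a * x u * (h a)⁻¹ = x (χ a * u))
    (surj : Function.Surjective χ) (big : ∃ c : F, c ≠ 0 ∧ c ≠ 1) (x_one : ∀ u, x u = 1 → u = 0)
    (hodd : Odd (Nat.card h.range)) (T : Subgroup G)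
    (T2 : IsPGroup 2 T) (xT : ∀ u, x u ∈ T) (Tt : ∀ g ∈ T, g * t = t * g)
    (Tx : ∀ g ∈ T, ∀ u, g * x u = x u * g) (hT : ∀ a, h a ∈ normalizer (T : Set G))
    (F1a : ∀ g ∈ normalizer (T : Set G), g * t = t * g → (∀ u, g * x u = x u * g) →
      ∃ τ ∈ T, ∃ a, χ a = 1 ∧ g = τ * h a)
    (F1b : ∀ g ∈ normalizer (T : Set G), g * t = t * g → (∀ a, χ a = 1 → g * h a = h a * g) →
      ∃ a, ∀ u, g * x u * g⁻¹ = x (χ a * u))
    (fus : ∀ u, ∃ g ∈ normalizer (T : Set G), (∀ y, (∃ v, y = x v) ↔ ∃ v, g * y * g⁻¹ = x v) ∧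
      g * t * g⁻¹ = t * x u) :
    ∀ u, ∃ g ∈ normalizer (T : Set G), Mv t x h χ g u := by
  have x0 : x 0 = 1 := by
    have := x_add 0 0
    rw [add_zero] at this
    exact left_eq_mul.1 this
  have hinv : ∀ u, x u * x u = 1 := fun u => by rw [← x_add, two, x0]
  have hneg : ∀ u v, x u = x v → u = v := by
    intro a b e
    have h2 : x (a + b) = 1 := by rw [x_add, e, hinv]
    have h3 := x_one _ h2
    calc a = a + (b + b) := by rw [two, add_zero]
      _ = (a + b) + b := by ring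
      _ = b := by rw [h3, zero_add]
  set X := xs x x_add hinv with hX
  have memX : ∀ y, y ∈ X ↔ ∃ u, y = x u := fun y => Iff.rfl
  set H := h.range with hH
  set Hr := (χ.ker).map h with hHr
  have memHr : ∀ y, y ∈ Hr ↔ ∃ a, χ a = 1 ∧ h a = y := fun y => by
    rw [hHr, Subgroup.mem_map]; rfl
  have I : WTorus.Inp t T X H Hr :=
    { T2 := T2
      XT := by rintro y ⟨u, rfl⟩; exact xT u
      Tt := Tt
      TX := by rintro g hg y ⟨u, rfl⟩; exact Tx g hg u
      X2 := by rintro y ⟨u, rfl⟩; exact hinv u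
      Hc := by
        rintro a ⟨a, rfl⟩ b ⟨b, rfl⟩
        rw [← map_mul, ← map_mul, mul_comm]
      Hodd := hodd
      Ht := by rintro a ⟨a, rfl⟩; exact ht a
      HT := by rintro a ⟨a, rfl⟩; exact hT a
      HX := by
        rintro a ⟨a, rfl⟩
        rw [mem_normalizer_iff]
        intro y
        constructor
        · rintro ⟨u, rfl⟩
          exact ⟨_, hx a u⟩
        · rintro ⟨u, e⟩
          refine ⟨((χ a : Fˣ) : F)⁻¹ * u, ?_⟩
          have e2 := hx a (((χ a : Fˣ) : F)⁻¹ * u)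
          rw [← mul_assoc, mul_inv_cancel₀ (χ a).ne_zero, one_mul, ← e] at e2
          exact (mul_left_cancel (mul_right_cancel e2)).symm
      tr := by
        rintro y ⟨u, rfl⟩ hu z ⟨v, rfl⟩ hv
        have hu0 : u ≠ 0 := fun e => hu (by rw [e, x0])
        have hv0 : v ≠ 0 := fun e => hv (by rw [e, x0])
        obtain ⟨a, ha⟩ := surj (Units.mk0 (v / u) (div_ne_zero hv0 hu0))
        refine ⟨h a, ⟨a, rfl⟩, ?_⟩
        rw [hx, ha, Units.val_mk0, div_mul_cancel₀ _ hu0]
      mv := by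
        obtain ⟨c, c0, c1⟩ := big
        obtain ⟨a, ha⟩ := surj (Units.mk0 c c0)
        refine ⟨x 1, ⟨1, rfl⟩, h a, ⟨a, rfl⟩, fun e => c1 ?_⟩
        have e2 := hx a 1
        rw [ha, Units.val_mk0, mul_one, e] at e2
        apply hneg
        rw [← e2]; group
      HrH := by
        intro y hy
        obtain ⟨a, _, rfl⟩ := (memHr y).1 hy
        exact ⟨a, rfl⟩
      HrX := by
        rintro y hy z ⟨u, rfl⟩
        obtain ⟨a, ha, rfl⟩ := (memHr y).1 hy
        have := hx a u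
        rw [ha, Units.val_one, one_mul] at this
        calc h a * x u = h a * x u * (h a)⁻¹ * h a := by group
          _ = x u * h a := by rw [this]
      F1a := by
        intro g hg hgt hgX
        obtain ⟨τ, hτ, a, ha, rfl⟩ := F1a g hg hgt (fun u => hgX _ ⟨u, rfl⟩)
        exact mul_mem ((le_sup_left : T ≤ T ⊔ Hr) hτ) ((le_sup_right : Hr ≤ T ⊔ Hr) ((memHr _).2 ⟨a, ha, rfl⟩))
      F1b := by
        intro g hg hgt hgH
        obtain ⟨a, ha⟩ := F1b g hg hgt (fun a ha => hgH _ ((memHr _).2 ⟨a, ha, rfl⟩))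
        refine ⟨h a, ⟨a, rfl⟩, ?_⟩
        rintro y ⟨u, rfl⟩
        rw [ha, hx]
      fus := by
        rintro y ⟨u, rfl⟩
        obtain ⟨g, hg, h1, h2⟩ := fus u
        refine ⟨g, hg, ?_, h2⟩
        rw [mem_normalizer_iff]
        intro z
        exact h1 z }
  intro u
  obtain ⟨g, hg, h1, h2, h3⟩ := I.exists_transl (x u) ⟨u, rfl⟩
  exact ⟨g, hg, fun a ha => h1 _ ((memHr _).2 ⟨a, ha, rfl⟩), fun v => h2 _ ⟨v, rfl⟩, h3⟩

end Cfsg.Agent.OddHalf.SpN

end

private theorem dce_2aafea1f14ba : _root_.True := by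
  try have : _root_.True := by simp only [_root_.Cfsg.Agent.OddHalf.SpN.one.eq_1]
  exact _root_.True.intro
end

-- part: OddHalf/SpN/WT1
section
prune_inst 0x4101045045522020000180010e2002640360001921060000050000b4007ce55602543a921fc8009120810a244203c002813000010421000000a000000011d01a0800842021381a104260009808000000000000000000000000000000000041000000000000
set_option linter.all false
open scoped Cfsg.Agent.FastGrp

/-!
# ODD D7, `K = Sp_2n(q)`, `q` even: `T₁ = ⟨t⟩ U` (helper297)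

* `Uu_comm_sy`, `Uu_comm_sx` : `Y_1`, `X_12` are central in `U = Uu n F` (`TU.lean`);
* `R.T1` : `⟨t⟩ U`, `R.ι_mem_T1_iff`, `R.T1_t`, `R.h_T1`, `R.T1_pgroup`.
-/

set_option autoImplicit false

namespace Cfsg.Agent.OddHalf.SpN

open Cfsg Cfsg.Agent.ClassicalGeometry.SympBasic Cfsg.Agent.ClassicalGeometry.SympAutSemi
open scoped Matrix commutatorElement
open Subgroup TU

variable {n : ℕ} {F : Type*} [Field F]

section mat

variable [CharP F 2]

/-- `Y_1` is central in `U` -/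
theorem Uu_comm_sy {A : Sy n F} (hA : A ∈ Uu n F) {i : Ix n} (hi : pos i = 0) (a : F) : Commute A (sy i a) := by
  have hrow : ∀ v, rho n F A v (neg i) = v (neg i) := by
    intro v
    rw [rho_eq_sum, Finset.sum_eq_single (neg i)]
    · rw [Uu_diag hA, mul_one]
    · intro k _ hk
      rw [Uu_zero hA, mul_zero]
      rcases lt_or_ge (pos k) (pos (neg i)) with h | h
      · exact h
      · exfalso; apply hk
        apply pos_inj
        have := pos_lt k
        rw [pos_neg] at h ⊢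
        omega
    · intro h; exact absurd (Finset.mem_univ _) h
  have hcol : rho n F A (be n F i) = be n F i := by
    ext l
    rw [be_apply]
    exact hA l i (by omega)
  apply rho_injective
  ext v l
  rw [map_mul, map_mul, Equiv.Perm.mul_apply, Equiv.Perm.mul_apply, rho_sy, rho_sy, rho_add, rho_smul, hcol, hrow]

/-- `X_12` is central in `U` -/
theorem Uu_comm_sx {A : Sy n F} (hA : A ∈ Uu n F) {i j : Ix n} (hi : pos i = 0) (hj : pos j = 1) (hd : Dj i j)
    (a : F) : Commute A (sx i j a) := by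
  have hn : 2 ≤ n := by
    by_contra h
    have h1 := pos_lt i
    have h2 := pos_lt (neg j)
    apply hd.2
    apply pos_inj
    rw [pos_neg]; omega
  have hrow : ∀ v, rho n F A v (neg i) = v (neg i) := by
    intro v
    rw [rho_eq_sum, Finset.sum_eq_single (neg i)]
    · rw [Uu_diag hA, mul_one]
    · intro k _ hk
      rw [Uu_zero hA, mul_zero]
      rcases lt_or_ge (pos k) (pos (neg i)) with h | h
      · exact h
      · exfalso; apply hk
        apply pos_inj
        have := pos_lt k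
        rw [pos_neg] at h ⊢
        omega
    · intro h; exact absurd (Finset.mem_univ _) h
  have hne : neg i ≠ neg j := fun e => hd.1 (neg_inj.mp e)
  have hrow' : ∀ v, rho n F A v (neg j) = v (neg j) + v (neg i) * ent A (neg j) (neg i) := by
    intro v
    rw [rho_eq_sum, ← Finset.sum_subset (Finset.subset_univ ({neg j, neg i} : Finset (Ix n))),
      Finset.sum_pair hne.symm, Uu_diag hA, mul_one]
    intro k _ hk
    rw [Finset.mem_insert, Finset.mem_singleton, not_or] at hk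
    rw [Uu_zero hA, mul_zero]
    rcases lt_or_ge (pos k) (pos (neg j)) with h | h
    · exact h
    · exfalso
      have h1 := pos_lt k
      rw [pos_neg] at h
      rcases Nat.lt_or_ge (pos k) (2 * n - 1) with h2 | h2
      · apply hk.1; apply pos_inj; rw [pos_neg]; omega
      · apply hk.2; apply pos_inj; rw [pos_neg]; omega
  have hcol : rho n F A (be n F i) = be n F i := by
    ext l
    rw [be_apply]
    exact hA l i (by omega)
  have hcol' : rho n F A (be n F j) = be n F j + ent A i j • be n F i := by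
    ext l
    rw [Pi.add_apply, Pi.smul_apply, be_apply, be_apply, smul_eq_mul]
    show ent A l j = _
    by_cases h1 : l = i
    · subst h1
      rw [if_neg hd.1, if_pos rfl]; ring
    · rw [if_neg h1, hA l j (by
        have : pos l ≠ 0 := fun e => h1 (pos_inj (by omega))
        omega)]
      ring
  have hc : ent A (neg j) (neg i) = ent A i j := by
    rw [← ent_inv]
    -- `A⁻¹ e_j = e_j + c e_i`
    have hI := inv_mem hA
    have e1 : ent (A⁻¹ * A) i j = 0 := by rw [inv_mul_cancel, ent_one, if_neg hd.1]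
    rw [ent_mul, ← Finset.sum_subset (Finset.subset_univ ({i, j} : Finset (Ix n))), Finset.sum_pair hd.1,
      Uu_diag hI, Uu_diag hA] at e1
    · linear_combination e1 - ent A i j * (two0 : (2 : F) = 0)
    · intro k _ hk
      rw [Finset.mem_insert, Finset.mem_singleton, not_or] at hk
      rw [Uu_zero hA, mul_zero]
      have h1 : pos k ≠ 0 := fun e => hk.1 (pos_inj (by omega))
      have h2 : pos k ≠ 1 := fun e => hk.2 (pos_inj (by omega))
      omega
  apply rho_injective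
  ext v l
  rw [map_mul, map_mul, Equiv.Perm.mul_apply, Equiv.Perm.mul_apply, rho_sx hd, rho_sx hd, rho_add, rho_add, rho_smul,
    rho_smul, hcol, hcol', hrow, hrow', hc]
  simp only [Pi.add_apply, Pi.smul_apply, smul_eq_mul]
  ring

end mat

namespace Frame

variable {G : Type*} [Group G] (R : Frame n F G) [CharP F 2]

/-- `T₁ = ⟨t⟩ U` -/
def T1 : Subgroup G where
  carrier := {g | ∃ A ∈ Uu n F, g = R.ι A ∨ g = R.t * R.ι A}
  one_mem' := ⟨1, one_mem _, Or.inl (map_one _).symm⟩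
  mul_mem' := by
    rintro a b ⟨A, hA, ha⟩ ⟨B, hB, hb⟩
    refine ⟨A * B, mul_mem hA hB, ?_⟩
    have e := (R.comm A).eq
    rcases ha with rfl | rfl <;> rcases hb with rfl | rfl
    · left; rw [map_mul]
    · right; rw [map_mul, ← mul_assoc, e, mul_assoc]
    · right; rw [map_mul, mul_assoc]
    · left
      rw [map_mul]
      calc R.t * R.ι A * (R.t * R.ι B) = R.t * (R.ι A * R.t) * R.ι B := by group
        _ = (R.t * R.t) * R.ι A * R.ι B := by rw [e]; group
        _ = _ := by rw [R.tt, one_mul]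
  inv_mem' := by
    rintro a ⟨A, hA, ha⟩
    refine ⟨A⁻¹, inv_mem hA, ?_⟩
    rcases ha with rfl | rfl
    · left; rw [map_inv]
    · right
      have e := ((R.comm A).inv_left).eq
      rw [mul_inv_rev, R.t_inv, map_inv, e]

theorem ι_mem_T1 {A : Sy n F} (hA : A ∈ Uu n F) : R.ι A ∈ R.T1 := ⟨A, hA, Or.inl rfl⟩

theorem t_mem_T1 : R.t ∈ R.T1 := ⟨1, one_mem _, Or.inr (by rw [map_one, mul_one])⟩

/-- `K ∩ T₁ = U` -/
theorem ι_mem_T1_iff {A : Sy n F} : R.ι A ∈ R.T1 ↔ A ∈ Uu n F := by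
  constructor
  · rintro ⟨B, hB, h | h⟩
    · rwa [R.inj h]
    · exfalso
      apply R.tK (A * B⁻¹)
      rw [map_mul, map_inv, h]; group
  · exact R.ι_mem_T1

theorem T1_t {g : G} (hg : g ∈ R.T1) : g * R.t = R.t * g := by
  obtain ⟨A, -, h | h⟩ := hg
  · rw [h]; exact R.comm A
  · rw [h, mul_assoc, (R.comm A).eq]

theorem h_T1 (lam : Fin n → Fˣ) : R.h lam ∈ normalizer (R.T1 : Set G) := by
  have key : ∀ lam : Fin n → Fˣ, ∀ g ∈ R.T1, R.h lam * g * (R.h lam)⁻¹ ∈ R.T1 := by
    rintro lam g ⟨A, hA, h⟩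
    refine ⟨sh lam * A * (sh lam)⁻¹, ?_, ?_⟩
    · exact sh_norm lam hA
    · rcases h with rfl | rfl
      · left
        rw [map_mul, map_mul, map_inv]; rfl
      · right
        have e := (R.h_t lam).eq
        rw [map_mul, map_mul, map_inv]
        calc R.h lam * (R.t * R.ι A) * (R.h lam)⁻¹ = (R.h lam * R.t) * R.ι A * (R.h lam)⁻¹ := by group
          _ = R.t * (R.h lam * R.ι A * (R.h lam)⁻¹) := by rw [e]; group
  rw [mem_normalizer_iff]
  intro g
  refine ⟨key lam g, fun h => ?_⟩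
  have := key lam⁻¹ _ h
  rw [map_inv] at this
  have e : (R.h lam)⁻¹ * (R.h lam * g * (R.h lam)⁻¹) * (R.h lam)⁻¹⁻¹ = g := by group
  rwa [e] at this

theorem T1_pgroup : IsPGroup 2 R.T1 := by
  rintro ⟨g, A, hA, h⟩
  obtain ⟨k, hk⟩ := Uu_isPGroup (⟨A, hA⟩ : Uu n F)
  have hk' : A ^ 2 ^ k = 1 := congrArg Subtype.val hk
  refine ⟨k + 1, Subtype.ext ?_⟩
  have h1 : g ^ 2 ^ (k + 1) = 1 := by
    rw [pow_succ, pow_mul]
    rcases h with rfl | rfl
    · rw [← map_pow, hk', map_one, one_pow]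
    · rw [((R.comm A).symm).mul_pow, ← map_pow, hk', map_one, mul_one, ← pow_mul, mul_comm, pow_mul, pow_two, R.tt,
        one_pow]
  exact h1

end Frame

end Cfsg.Agent.OddHalf.SpN
end

-- part: OddHalf/SpN/WInst
section
prune_inst 0x4201044046122020000180000e00026601600019210600001406000400c89054025400920b63001100000a2c44038006813000010420000000a000000011d0080802902029099ac00160009000000000000000000000000000000000000000000000000000
set_option linter.all false
open scoped Cfsg.Agent.FastGrp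

/-!
# ODD D7, `K = Sp_2n(q)`, `q > 2`: the doubles of `Y_1`, `X_12` exist and normalise `T₁ = ⟨t⟩ U` (helper297)

* `R.V i`, `R.Wd i j` : the canonical doubles of `Y_i`, `X_ij`; `V_w`, `Wd_w` Weyl conjugation;
* `R.MvY i`, `R.MvX i j` : `Y_i`, `X_ij` are moved; `locY`, `locX` : then `WExist.Loc` holds;
* `R.mvY`, `R.mvX` : from the fusion `Fus R.t R.T1 (Y_1)`, `Fus R.t R.T1 (X_12)`;
* `V_norm`, `Wd_norm` : `V 1`, `Wd 1 2` normalise `R.T1`.
-/

set_option autoImplicit false

namespace Cfsg.Agent.OddHalf.SpN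

open Cfsg Cfsg.Agent.ClassicalGeometry.SympBasic Cfsg.Agent.ClassicalGeometry.SympAutSemi
open scoped Matrix commutatorElement
open WExist Subgroup TU

variable {n : ℕ} {F : Type*} [Field F]

theorem chiy_surj [Finite F] [CharP F 2] (i : Ix n) : Function.Surjective (chiy (F := F) i) := by
  intro c
  obtain ⟨d, hd⟩ : ∃ d : F, d * d = c := by
    have hinj : Function.Injective (fun c : F => c * c) := by
      intro a b hab
      have hab' : a * a = b * b := hab
      have : (a - b) * (a - b) = 0 := by linear_combination hab' - (a * b - b * b) * (two0 : (2 : F) = 0)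
      exact sub_eq_zero.mp (mul_self_eq_zero.mp this)
    exact (Finite.injective_iff_surjective.mp hinj) c
  have hd0 : d ≠ 0 := by
    rintro rfl
    exact c.ne_zero (by rw [← hd, mul_zero])
  refine ⟨one i (Units.mk0 d hd0), ?_⟩
  rw [chiy_apply, ev_one_self]
  exact Units.ext hd

theorem chix_surj {i j : Ix n} (hij : Dj i j) : Function.Surjective (chix (F := F) i j) := by
  intro c
  refine ⟨one i c, ?_⟩
  rw [chix_apply, ev_one_self, ev_one_ne hij.symm, mul_one]

/-- odd exponent of the torus -/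
theorem exists_exp [Finite F] [CharP F 2] : ∃ N : ℕ, Odd N ∧ ∀ a : Fin n → Fˣ, a ^ N = 1 := by
  have := Fintype.ofFinite F
  refine ⟨Nat.card Fˣ, ?_, fun a => ?_⟩
  · rw [Nat.card_units, Nat.card_eq_fintype_card]
    have heven : 2 ∣ Fintype.card F := by
      obtain ⟨k, hp, hc⟩ := FiniteField.card F 2
      rw [hc]; exact dvd_pow_self 2 k.pos.ne'
    have hpos : 0 < Fintype.card F := Fintype.card_pos
    obtain ⟨m, hm⟩ := heven
    exact ⟨m - 1, by omega⟩
  · funext i
    rw [Pi.pow_apply, Pi.one_apply]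
    exact pow_card_eq_one'

theorem odd_card_torus [Finite F] [CharP F 2] : Odd (Nat.card (Fin n → Fˣ)) := by
  have := Fintype.ofFinite F
  rw [Nat.card_fun]
  apply Odd.pow
  rw [Nat.card_units, Nat.card_eq_fintype_card]
  have heven : 2 ∣ Fintype.card F := by
    obtain ⟨k, hp, hc⟩ := FiniteField.card F 2
    rw [hc]; exact dvd_pow_self 2 k.pos.ne'
  have hpos : 0 < Fintype.card F := Fintype.card_pos
  obtain ⟨m, hm⟩ := heven
  exact ⟨m - 1, by omega⟩

namespace Frame

variable {G : Type*} [Group G] (R : Frame n F G)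

/-- the double of `Y_i` -/
noncomputable def V (i : Ix n) : Subgroup G := Dbl R.t (R.y i) R.h (chiy i)

/-- the double of `X_ij` -/
noncomputable def Wd (i j : Ix n) : Subgroup G := Dbl R.t (R.x i j) R.h (chix i j)

/-- `Y_i` is moved -/
def MvY (i : Ix n) : Prop := ∀ u, ∃ g, Mv R.t (R.y i) R.h (chiy i) g u

/-- `X_ij` is moved -/
def MvX (i j : Ix n) : Prop := ∀ u, ∃ g, Mv R.t (R.x i j) R.h (chix i j) g u

variable [CharP F 2]

theorem hy (lam : Fin n → Fˣ) (i : Ix n) (u : F) :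
    R.h lam * R.y i u * (R.h lam)⁻¹ = R.y i (chiy i lam * u) := by
  rw [R.h_y, chiy_apply, Units.val_mul, pow_two]

theorem hx (lam : Fin n → Fˣ) (i j : Ix n) (u : F) :
    R.h lam * R.x i j u * (R.h lam)⁻¹ = R.x i j (chix i j lam * u) := by
  rw [R.h_x, chix_apply, Units.val_mul]

variable [Finite F]

theorem locY (hn : 3 ≤ n) (hq : ∃ c : F, c ≠ 0 ∧ c ≠ 1) {i : Ix n} (h : R.MvY i) :
    Loc R.t (R.y i) R.h (chiy i) where
  two := CharTwo.add_self_eq_zero
  tt := R.tt
  x_add := R.y_add i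
  x_one := fun _ => R.y_eq_one
  tx := fun u => (R.y_t i u).symm
  ne := fun u => R.tK _
  ht := R.h_t
  hx := fun lam u => R.hy lam i u
  surj := chiy_surj i
  big := hq
  exp := by
    obtain ⟨N, hN, h1⟩ := exists_exp (n := n) (F := F)
    exact ⟨N, hN, fun a => by rw [← map_pow, h1, map_one]⟩
  mv := h
  F1c := by
    intro g hg hgH hgX
    obtain ⟨A, hA⟩ := R.ct_comm_y hn hg hgX
    obtain ⟨c, c0, c1⟩ := hq
    have h1 : Commute A (sy i 1) := comm_of R hA (hgX 1)
    obtain ⟨u, lam, hl, e⟩ := F1c_sy (c := Units.mk0 c c0) (fun e => c1 (congrArg Units.val e)) h1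
      (fun lam hl => comm_of R hA (hgH lam (by rw [chiy_apply, hl, one_mul])))
    refine ⟨u, lam, by rw [chiy_apply, hl, one_mul], ?_⟩
    subst e
    rw [map_mul] at hA
    exact hA

theorem locX (hn : 3 ≤ n) (hq : ∃ c : F, c ≠ 0 ∧ c ≠ 1) {i j : Ix n} (hij : Dj i j) (h : R.MvX i j) :
    Loc R.t (R.x i j) R.h (chix i j) where
  two := CharTwo.add_self_eq_zero
  tt := R.tt
  x_add := R.x_add i j
  x_one := fun _ => R.x_eq_one hij
  tx := fun u => (R.x_t i j u).symm
  ne := fun u => R.tK _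
  ht := R.h_t
  hx := fun lam u => R.hx lam i j u
  surj := chix_surj hij
  big := hq
  exp := by
    obtain ⟨N, hN, h1⟩ := exists_exp (n := n) (F := F)
    exact ⟨N, hN, fun a => by rw [← map_pow, h1, map_one]⟩
  mv := h
  F1c := by
    intro g hg hgH hgX
    obtain ⟨A, hA⟩ := R.ct_comm_x hn hg hij hgX
    obtain ⟨c, c0, c1⟩ := hq
    have h1 : Commute A (sx i j 1) := comm_of R hA (hgX 1)
    obtain ⟨u, lam, hl, e⟩ := F1c_sx hij (c := Units.mk0 c c0) (fun e => c1 (congrArg Units.val e)) h1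
      (fun lam hl => comm_of R hA (hgH lam (by rw [chix_apply, hl])))
    refine ⟨u, lam, by rw [chix_apply, hl], ?_⟩
    subst e
    rw [map_mul] at hA
    exact hA

omit [Finite F] in
theorem cjgY (s : W n) (i : Ix n) : Cjg R.t R.h (R.w s) (R.y i) (R.y (s.1 i)) (chiy i) (chiy (s.1 i)) where
  mt := R.w_t s
  mx := fun u => R.w_y s i u
  mh := fun lam => ⟨actH s lam, R.w_h s _ _ (ev_actH' s lam), by rw [chiy_apply, chiy_apply, ev_actH']⟩
  mh' := fun mu => by
    have e : ∀ k, ev mu (s.1 k) = ev (actH s⁻¹ mu) k := fun k => by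
      rw [ev_actH]
      congr 1
    refine ⟨actH s⁻¹ mu, R.w_h s _ _ e, ?_⟩
    rw [chiy_apply, chiy_apply, e]

omit [Finite F] in
theorem cjgX (s : W n) (i j : Ix n) :
    Cjg R.t R.h (R.w s) (R.x i j) (R.x (s.1 i) (s.1 j)) (chix i j) (chix (s.1 i) (s.1 j)) where
  mt := R.w_t s
  mx := fun u => R.w_x s i j u
  mh := fun lam => ⟨actH s lam, R.w_h s _ _ (ev_actH' s lam), by rw [chix_apply, chix_apply, ev_actH', ev_actH']⟩
  mh' := fun mu => by
    have e : ∀ k, ev mu (s.1 k) = ev (actH s⁻¹ mu) k := fun k => by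
      rw [ev_actH]
      congr 1
    refine ⟨actH s⁻¹ mu, R.w_h s _ _ e, ?_⟩
    rw [chix_apply, chix_apply, e, e]

omit [Finite F] in
theorem V_w (s : W n) {i : Ix n} {g : G} (hg : g ∈ R.V i) : R.w s * g * (R.w s)⁻¹ ∈ R.V (s.1 i) :=
  (R.cjgY s i).dbl hg

omit [Finite F] in
theorem Wd_w (s : W n) {i j : Ix n} {g : G} (hg : g ∈ R.Wd i j) :
    R.w s * g * (R.w s)⁻¹ ∈ R.Wd (s.1 i) (s.1 j) :=
  (R.cjgX s i j).dbl hg

omit [Finite F] in
theorem MvY_w (s : W n) {i : Ix n} (h : R.MvY i) : R.MvY (s.1 i) := fun u => by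
  obtain ⟨g, hg⟩ := h u
  exact ⟨_, (R.cjgY s i).mv hg⟩

omit [Finite F] in
theorem MvX_w (s : W n) {i j : Ix n} (h : R.MvX i j) : R.MvX (s.1 i) (s.1 j) := fun u => by
  obtain ⟨g, hg⟩ := h u
  exact ⟨_, (R.cjgX s i j).mv hg⟩

omit [Finite F] in
theorem MvY_all {i : Ix n} (h : R.MvY i) (j : Ix n) : R.MvY j := by
  obtain ⟨s, rfl⟩ := exists_W1 i j
  exact R.MvY_w s h

omit [Finite F] in
theorem MvX_all {i j : Ix n} (hij : Dj i j) (h : R.MvX i j) {k l : Ix n} (hkl : Dj k l) : R.MvX k l := by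
  obtain ⟨s, rfl, rfl⟩ := exists_W2 hij hkl
  exact R.MvX_w s h

/-! ### F1a, F1b -/

/-- an element of `N(T₁) ∩ C(t)` inducing an inner automorphism of `K` is `τ h(λ)` -/
theorem exists_T1_h {g : G} (hg : g ∈ normalizer (R.T1 : Set G)) (hgt : g * R.t = R.t * g) {A : Sy n F}
    (hA : g = R.ι A ∨ g = R.t * R.ι A) : ∃ τ ∈ R.T1, ∃ lam, g = τ * R.h lam := by
  have hnorm : ∀ B ∈ Uu n F, A * B * A⁻¹ ∈ Uu n F := by
    intro B hB
    rw [← R.ι_mem_T1_iff]
    have h1 := (mem_normalizer_iff.1 hg _).1 (R.ι_mem_T1 hB)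
    have h2 : g * R.ι B * g⁻¹ = R.ι (A * B * A⁻¹) := by
      rw [map_mul, map_mul, map_inv]
      rcases hA with rfl | rfl
      · rfl
      · have e : R.t * (R.ι A * R.ι B * (R.ι A)⁻¹) = (R.ι A * R.ι B * (R.ι A)⁻¹) * R.t := by
          have := (R.comm (A * B * A⁻¹)).eq
          rw [map_mul, map_mul, map_inv] at this
          exact this.symm
        calc R.t * R.ι A * R.ι B * (R.t * R.ι A)⁻¹ = R.t * (R.ι A * R.ι B * (R.ι A)⁻¹) * R.t⁻¹ := by group
          _ = _ := by rw [e]; group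
    rwa [h2] at h1
  obtain ⟨u, hu, lam, rfl⟩ := exists_of_norm hnorm
  rw [map_mul] at hA
  rcases hA with rfl | rfl
  · exact ⟨R.ι u, R.ι_mem_T1 hu, lam, rfl⟩
  · exact ⟨R.t * R.ι u, ⟨u, hu, Or.inr rfl⟩, lam, by rw [mul_assoc]; rfl⟩

/-- an element of `N(T₁) ∩ C(t)` centralising `h(one m c)` for all `c`, `m` positive, is in `⟨t⟩ K` -/
theorem ct_comm_h (hn : 3 ≤ n) {g : G} (hg : g ∈ normalizer (R.T1 : Set G)) (hgt : Commute g R.t) (m : Fin n)
    (hc : ∀ c : Fˣ, Commute g (R.h (one (Sum.inl m) c))) : ∃ A, g = R.ι A ∨ g = R.t * R.ι A := by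
  obtain ⟨s, hs⟩ := R.exists_semi hn hgt
  obtain ⟨φ, l, hl, hφ⟩ := s.2
  have hU : ∀ A ∈ Uu n F, ∃ B ∈ Uu n F, rho n F B = s.1 * rho n F A * s.1⁻¹ := by
    intro A hA
    refine ⟨conjHom n F s A, ?_, rho_conjHom _ _⟩
    rw [← R.ι_mem_T1_iff, ← hs]
    exact (mem_normalizer_iff.1 hg _).1 (R.ι_mem_T1 hA)
  have hflag := flag_of_semi hφ hU
  have h0 : s.1 0 = 0 := by
    have := hφ.1 0 0
    rw [add_zero] at this
    exact (add_eq_left (a := s.1 0)).mp this.symm
  set v := s.1 (be n F (Sum.inl m)) with hv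
  have hv0 : v ≠ 0 := by
    intro e
    have : be n F (Sum.inl m) = 0 := s.1.injective (by rw [← hv, e, h0])
    have h1 := congrFun this (Sum.inl m)
    rw [be_apply, if_pos rfl] at h1
    exact one_ne_zero h1
  have hvm : InV (pos (Sum.inl m : Ix n) + 1) v := hflag _ _ (inV_be (by omega))
  have key : ∀ c : Fˣ, c ≠ 1 → φ c = c := by
    intro c hc1
    have h1 : conjHom n F s (sh (one (Sum.inl m) c)) = sh (one (Sum.inl m) c) := by
      apply R.inj
      rw [← hs]
      exact (mul_inv_eq_iff_eq_mul).mpr (hc c)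
    have h2 : ∀ l, φ c * v l = ev (one (Sum.inl m) c) l * v l := by
      intro l
      have h3 := congrArg (fun B => rho n F B v l) h1
      simp only [rho_conjHom, Equiv.Perm.mul_apply] at h3
      rw [hv, perm_inv_apply_self, rho_sh_be, ev_one_self, hφ.2.1, ← hv, rho_sh] at h3
      exact h3
    obtain ⟨l, hl⟩ : ∃ l, v l ≠ 0 := by
      by_contra hcon
      push Not at hcon
      exact hv0 (funext hcon)
    have h3 : φ c = ev (one (Sum.inl m) c) l := mul_right_cancel₀ hl (h2 l)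
    have h4 : pos l ≤ pos (Sum.inl m : Ix n) := by
      by_contra h5
      exact hl (hvm l (by omega))
    by_cases h5 : l = Sum.inl m
    · rw [h3, h5, ev_one_self]
    · exfalso
      have h6 : l ≠ neg (Sum.inl m) := by
        rintro rfl
        rw [pos_neg, pos_inl] at h4
        omega
      rw [ev_one_ne ⟨h5, h6⟩] at h3
      apply hc1
      apply Units.ext
      apply φ.injective
      rw [h3, Units.val_one, map_one]
  have hrefl : φ = RingEquiv.refl F := by
    ext c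
    by_cases h1 : c = 0
    · rw [h1, map_zero, map_zero]
    by_cases h2 : c = 1
    · rw [h2, map_one, map_one]
    · exact key (Units.mk0 c h1) (fun e => h2 (congrArg Units.val e))
  subst hrefl
  exact R.mem_K_of_sim hgt hl hφ hs

omit [Finite F] in
theorem T1_y {i : Ix n} (hi : pos i = 0) : ∀ g ∈ R.T1, ∀ u, g * R.y i u = R.y i u * g := by
  rintro g ⟨A, hA, h⟩ u
  have h1 : Commute (R.ι A) (R.y i u) := by
    show R.ι A * R.ι (sy i u) = R.ι (sy i u) * R.ι A
    rw [← map_mul, ← map_mul, (Uu_comm_sy hA hi u).eq]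
  rcases h with rfl | rfl
  · exact h1
  · exact (((R.y_t i u).symm).mul_left h1).eq

omit [Finite F] in
theorem T1_x {i j : Ix n} (hi : pos i = 0) (hj : pos j = 1) (hd : Dj i j) :
    ∀ g ∈ R.T1, ∀ u, g * R.x i j u = R.x i j u * g := by
  rintro g ⟨A, hA, h⟩ u
  have h1 : Commute (R.ι A) (R.x i j u) := by
    show R.ι A * R.ι (sx i j u) = R.ι (sx i j u) * R.ι A
    rw [← map_mul, ← map_mul, (Uu_comm_sx hA hi hj hd u).eq]
  rcases h with rfl | rfl
  · exact h1
  · exact (((R.x_t i j u).symm).mul_left h1).eq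

theorem odd_range : Odd (Nat.card R.h.range) := by
  have h1 : Nat.card R.h.range ∣ Nat.card (Fin n → Fˣ) := Subgroup.card_range_dvd R.h
  exact Odd.of_dvd_nat odd_card_torus h1

/-- **Section 2 for the long root groups** -/
theorem mvY [Finite G] (hn : 3 ≤ n) (hq : ∃ c : F, c ≠ 0 ∧ c ≠ 1) {i : Ix n} (hi : pos i = 0)
    (fus : ∀ u, ∃ g ∈ normalizer (R.T1 : Set G), (∀ y, (∃ v, y = R.y i v) ↔ ∃ v, g * y * g⁻¹ = R.y i v) ∧
      g * R.t * g⁻¹ = R.t * R.y i u) :
    ∀ u, ∃ g ∈ normalizer (R.T1 : Set G), Mv R.t (R.y i) R.h (chiy i) g u := by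
  have hin : i = Sum.inl ⟨0, by omega⟩ := pos_inj (by rw [hi]; rfl)
  apply mv_of_inp CharTwo.add_self_eq_zero (R.y_add i) R.h_t (fun lam u => R.hy lam i u) (chiy_surj i) hq
    (fun _ => R.y_eq_one) R.odd_range R.T1 R.T1_pgroup
    (fun u => R.ι_mem_T1 (sy_mem (by rw [pos_neg, hi]; omega) u)) (fun g hg => R.T1_t hg) (R.T1_y hi) R.h_T1
  · intro g hg hgt hgX
    obtain ⟨A, hA⟩ := R.ct_comm_y hn hgt hgX
    obtain ⟨τ, hτ, lam, rfl⟩ := R.exists_T1_h hg hgt hA
    refine ⟨τ, hτ, lam, ?_, rfl⟩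
    -- `h lam` commutes with `Y_i`
    have e1 := R.T1_y hi τ hτ 1
    have e2 := hgX 1
    have e3 : R.h lam * R.y i 1 * (R.h lam)⁻¹ = R.y i 1 := by
      have e4 : τ * (R.h lam * R.y i 1) = τ * (R.y i 1 * R.h lam) := by
        rw [← mul_assoc, e2, ← mul_assoc, ← mul_assoc, e1]
      rw [mul_left_cancel e4]; group
    rw [R.hy] at e3
    have e5 := R.y_inj e3
    rw [mul_one] at e5
    exact Units.ext e5
  · intro g hg hgt hgH
    obtain ⟨A, hA⟩ := R.ct_comm_h hn hg hgt ⟨1, by omega⟩ (fun c => hgH _ (by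
      have hdj : Dj i (Sum.inl ⟨1, by omega⟩) := by
        rw [hin]
        exact ⟨fun e => by simp at e, fun e => by simp at e⟩
      rw [chiy_apply, ev_one_ne hdj, one_mul]))
    obtain ⟨τ, hτ, lam, rfl⟩ := R.exists_T1_h hg hgt hA
    refine ⟨lam, fun u => ?_⟩
    have e1 := R.T1_y hi τ hτ (chiy i lam * u)
    calc τ * R.h lam * R.y i u * (τ * R.h lam)⁻¹ = τ * (R.h lam * R.y i u * (R.h lam)⁻¹) * τ⁻¹ := by group
      _ = R.y i (chiy i lam * u) := by rw [R.hy, e1]; group
  · exact fus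

/-- **Section 2 for the short root groups** -/
theorem mvX [Finite G] (hn : 3 ≤ n) (hq : ∃ c : F, c ≠ 0 ∧ c ≠ 1) {i j : Ix n} (hi : pos i = 0) (hj : pos j = 1)
    (fus : ∀ u, ∃ g ∈ normalizer (R.T1 : Set G), (∀ y, (∃ v, y = R.x i j v) ↔ ∃ v, g * y * g⁻¹ = R.x i j v) ∧
      g * R.t * g⁻¹ = R.t * R.x i j u) :
    ∀ u, ∃ g ∈ normalizer (R.T1 : Set G), Mv R.t (R.x i j) R.h (chix i j) g u := by
  have hin : i = Sum.inl ⟨0, by omega⟩ := pos_inj (by rw [hi]; rfl)
  have hjn : j = Sum.inl ⟨1, by omega⟩ := pos_inj (by rw [hj]; rfl)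
  have hd : Dj i j := by
    rw [hin, hjn]
    exact ⟨fun e => by simp at e, fun e => by simp at e⟩
  apply mv_of_inp CharTwo.add_self_eq_zero (R.x_add i j) R.h_t (fun lam u => R.hx lam i j u) (chix_surj hd) hq
    (fun _ => R.x_eq_one hd) R.odd_range R.T1 R.T1_pgroup
    (fun u => R.ι_mem_T1 (sx_mem (by rw [pos_neg, hi, hj]; omega) u)) (fun g hg => R.T1_t hg) (R.T1_x hi hj hd) R.h_T1
  · intro g hg hgt hgX
    obtain ⟨A, hA⟩ := R.ct_comm_x hn hgt hd hgX
    obtain ⟨τ, hτ, lam, rfl⟩ := R.exists_T1_h hg hgt hA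
    refine ⟨τ, hτ, lam, ?_, rfl⟩
    have e1 := R.T1_x hi hj hd τ hτ 1
    have e2 := hgX 1
    have e3 : R.h lam * R.x i j 1 * (R.h lam)⁻¹ = R.x i j 1 := by
      have e4 : τ * (R.h lam * R.x i j 1) = τ * (R.x i j 1 * R.h lam) := by
        rw [← mul_assoc, e2, ← mul_assoc, ← mul_assoc, e1]
      rw [mul_left_cancel e4]; group
    rw [R.hx] at e3
    have e5 := R.x_inj hd e3
    rw [mul_one] at e5
    exact Units.ext e5
  · intro g hg hgt hgH
    obtain ⟨A, hA⟩ := R.ct_comm_h hn hg hgt ⟨2, by omega⟩ (fun c => hgH _ (by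
      have hdj : Dj i (Sum.inl ⟨2, by omega⟩) := by
        rw [hin]
        exact ⟨fun e => by simp at e, fun e => by simp at e⟩
      have hdj' : Dj j (Sum.inl ⟨2, by omega⟩) := by
        rw [hjn]
        exact ⟨fun e => by simp at e, fun e => by simp at e⟩
      rw [chix_apply, ev_one_ne hdj, ev_one_ne hdj', one_mul]))
    obtain ⟨τ, hτ, lam, rfl⟩ := R.exists_T1_h hg hgt hA
    refine ⟨lam, fun u => ?_⟩
    have e1 := R.T1_x hi hj hd τ hτ (chix i j lam * u)
    calc τ * R.h lam * R.x i j u * (τ * R.h lam)⁻¹ = τ * (R.h lam * R.x i j u * (R.h lam)⁻¹) * τ⁻¹ := by group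
      _ = R.x i j (chix i j lam * u) := by rw [R.hx, e1]; group
  · exact fus

theorem V_norm (hn : 3 ≤ n) (hq : ∃ c : F, c ≠ 0 ∧ c ≠ 1) {i : Ix n} (hi : pos i = 0)
    (h : ∀ u, ∃ g ∈ normalizer (R.T1 : Set G), Mv R.t (R.y i) R.h (chiy i) g u) :
    R.V i ≤ normalizer (R.T1 : Set G) := by
  have L := R.locY hn hq (i := i) (fun u => by obtain ⟨g, -, hg⟩ := h u; exact ⟨g, hg⟩)
  exact L.dbl_le _ (fun u => le_normalizer (R.ι_mem_T1 (sy_mem (by rw [pos_neg, hi]; omega) u)))
    (le_normalizer R.t_mem_T1) (fun a _ => R.h_T1 a) h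

theorem Wd_norm (hn : 3 ≤ n) (hq : ∃ c : F, c ≠ 0 ∧ c ≠ 1) {i j : Ix n} (hi : pos i = 0) (hj : pos j = 1)
    (hd : Dj i j) (h : ∀ u, ∃ g ∈ normalizer (R.T1 : Set G), Mv R.t (R.x i j) R.h (chix i j) g u) :
    R.Wd i j ≤ normalizer (R.T1 : Set G) := by
  have L := R.locX hn hq hd (fun u => by obtain ⟨g, -, hg⟩ := h u; exact ⟨g, hg⟩)
  exact L.dbl_le _ (fun u => le_normalizer (R.ι_mem_T1 (sx_mem (by rw [pos_neg, hi, hj]; omega) u)))
    (le_normalizer R.t_mem_T1) (fun a _ => R.h_T1 a) h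

end Frame

end Cfsg.Agent.OddHalf.SpN
end

-- part: OddHalf/SpN/TUCent
section
prune_inst 0x430100d045522020000180010e20026403600019210600000500008400dca156025412921b4b00912881426c4683c006813000010420000000a000000011f00808009400283990904260009800000000000000000000000000000000000041000000000000
set_option linter.all false
open scoped Cfsg.Agent.FastGrp

/-!
# Centres and torus fixed points in the Sylow 2-subgroup `Uu n F` of `Sp_2n(F)`, `char F = 2`

`e_a, e_b, e_c, e_d` = `Sum.inl a, …`.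

* `ent_mul_sy`, `ent_sy_mul`, `ent_mul_sx`, `ent_sx_mul`;
* `eq_sa_of_ent` : elements with few entries are `sa U M`;
* `torus_yx`, `torus_xx`, `torus_ab` : the elements of `Uu` commuting with a subtorus;
* `center_eq` : the centre; `second_center_eq` : the second centre;
* `sx_mem_comm`, `sy_mem_comm` : the centre is in the commutator subgroup.
-/

set_option autoImplicit false
set_option linter.unusedSimpArgs false

namespace Cfsg.Agent.OddHalf.SpN.TU

open Cfsg Cfsg.Agent.ClassicalGeometry.SympBasic Cfsg.Agent.ClassicalGeometry.SympAutSemi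
open Cfsg.Agent.OddHalf.SpN
open scoped commutatorElement

variable {n : ℕ} {F : Type*} [Field F] [CharP F 2]

/-! ### Products with root elements -/

theorem ent_sy_mul (i : Ix n) (a : F) (A : Sy n F) (l k : Ix n) :
    ent (sy i a * A) l k = ent A l k + if l = i then a * ent A (neg i) k else 0 := by
  rw [ent, map_mul, Equiv.Perm.mul_apply, rho_sy, Pi.add_apply, Pi.smul_apply, smul_eq_mul, be_apply, mul_ite,
    mul_one, mul_zero]
  rfl

theorem ent_mul_sy (i : Ix n) (a : F) (A : Sy n F) (l k : Ix n) :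
    ent (A * sy i a) l k = ent A l k + if k = neg i then a * ent A l i else 0 := by
  rw [ent, map_mul, Equiv.Perm.mul_apply, rho_sy, rho_add, rho_smul, Pi.add_apply, Pi.smul_apply, smul_eq_mul,
    be_apply]
  have e1 : (neg i = k) = (k = neg i) := propext eq_comm
  simp only [e1, mul_ite, ite_mul, mul_one, mul_zero, zero_mul]
  rfl

theorem ent_sx_mul {i j : Ix n} (hd : Dj i j) (a : F) (A : Sy n F) (l k : Ix n) :
    ent (sx i j a * A) l k = ent A l k + (if l = i then a * ent A (neg j) k else 0) +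
      if l = j then a * ent A (neg i) k else 0 := by
  rw [ent, map_mul, Equiv.Perm.mul_apply, rho_sx hd, Pi.add_apply, Pi.add_apply, Pi.smul_apply, Pi.smul_apply,
    smul_eq_mul, smul_eq_mul, be_apply, be_apply, mul_ite, mul_ite, mul_one, mul_zero, mul_one, mul_zero]
  rfl

theorem ent_mul_sx {i j : Ix n} (hd : Dj i j) (a : F) (A : Sy n F) (l k : Ix n) :
    ent (A * sx i j a) l k = ent A l k + (if k = neg j then a * ent A l i else 0) +
      if k = neg i then a * ent A l j else 0 := by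
  rw [ent, map_mul, Equiv.Perm.mul_apply, rho_sx hd, rho_add, rho_add, rho_smul, rho_smul, Pi.add_apply,
    Pi.add_apply, Pi.smul_apply, Pi.smul_apply, smul_eq_mul, smul_eq_mul, be_apply, be_apply]
  have e1 : (neg i = k) = (k = neg i) := propext eq_comm
  have e2 : (neg j = k) = (k = neg j) := propext eq_comm
  simp only [e1, e2, mul_ite, ite_mul, mul_one, mul_zero, zero_mul]
  rfl

/-! ### Elements with few entries -/

theorem eq_sa_of_ent {U : Finset (Ix n)} (hU : Isot U) {A : Sy n F}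
    (h : ∀ l k, ¬ (l ∈ U ∧ neg k ∈ U) → ent A l k = if l = k then 1 else 0) :
    ∃ M, Symm M ∧ A = sa U M ∧ ∀ i ∈ U, ∀ j ∈ U, M i j = ent A i (neg j) := by
  obtain ⟨M, hM, he⟩ := FU_Sy hU (A := A) fun k hk => by
    apply ext_ent
    intro l m
    rw [ent_mul_sy, ent_sy_mul, h l k fun h' => hk h'.2, h (neg k) m fun h' => hk h'.1]
    have e1 : (neg k = m) = (m = neg k) := propext eq_comm
    simp only [e1, one_mul]
    by_cases h1 : l = k <;> by_cases h2 : m = neg k <;> simp [h1, h2]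
  refine ⟨M, hM, he, fun i hi j hj => ?_⟩
  conv_rhs => rw [he]
  rw [ent_sa hU hM, neg_neg, if_neg (hU j hj i hi), if_pos ⟨hi, hj⟩, zero_add]

theorem isot_inl {U : Finset (Ix n)} (h : ∀ k ∈ U, ∃ i : Fin n, k = Sum.inl i) : Isot U := by
  intro k hk l hl e
  obtain ⟨i, rfl⟩ := h k hk
  obtain ⟨j, rfl⟩ := h l hl
  rw [neg_inl] at e
  cases e

theorem dj_inl {i j : Fin n} (h : i ≠ j) : Dj (Sum.inl i : Ix n) (Sum.inl j) :=
  ⟨fun e => h (Sum.inl_injective e), fun e => by rw [neg_inl] at e; cases e⟩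

theorem dj_inl_inr {i j : Fin n} (h : i ≠ j) : Dj (Sum.inl i : Ix n) (Sum.inr j) :=
  ⟨fun e => (by cases e), fun e => by rw [neg_inr] at e; exact h (Sum.inl_injective e)⟩

/-! ### Torus fixed points -/

omit [CharP F 2] in
theorem ent_zero_of_comm {u : Sy n F} {lam : Fin n → Fˣ} (hc : Commute u (sh lam)) {l k : Ix n}
    (hne : ev lam l ≠ ev lam k) : ent u l k = 0 := by
  have h1 := congrArg (fun A => ent A l k) hc.eq
  simp only [ent_mul_sh, ent_sh_mul] at h1
  by_contra h0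
  apply hne
  rw [mul_comm] at h1
  exact Units.ext (mul_right_cancel₀ h0 h1).symm

omit [CharP F 2] in
theorem ev_inl (lam : Fin n → Fˣ) (i : Fin n) : ev lam (Sum.inl i) = lam i := rfl

omit [CharP F 2] in
theorem ev_inr (lam : Fin n → Fˣ) (i : Fin n) : ev lam (Sum.inr i) = (lam i)⁻¹ := rfl

theorem inv_ne {z : Fˣ} (hz : z ≠ 1) : z⁻¹ ≠ z := by
  intro h
  apply hz
  have h1 : (z : F) * z = 1 := by
    have := congrArg Units.val (mul_inv_cancel z)
    rw [h] at this
    exact this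
  have h2 : ((z : F) - 1) * (z - 1) = 0 := by
    linear_combination h1 - ((z : F) - 1) * (two0 : (2 : F) = 0)
  exact Units.ext (sub_eq_zero.mp (mul_self_eq_zero.mp h2))

/-- the torus element with `m ↦ z` separates `± m` from the other indices -/
theorem sep {z : Fˣ} (hz : z ≠ 1) {m : Fin n} {l k : Ix n} (hlk : l ≠ k)
    (h : ev (Function.update (1 : Fin n → Fˣ) m z) l = ev (Function.update (1 : Fin n → Fˣ) m z) k) :
    (l ≠ Sum.inl m ∧ l ≠ Sum.inr m) ∧ (k ≠ Sum.inl m ∧ k ≠ Sum.inr m) := by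
  have hz' := inv_ne hz
  have hz1 : z⁻¹ ≠ 1 := fun h => hz (inv_eq_one.mp h)
  have key : ∀ l k : Ix n, l ≠ k →
      ev (Function.update (1 : Fin n → Fˣ) m z) l = ev (Function.update (1 : Fin n → Fˣ) m z) k →
      l ≠ Sum.inl m ∧ l ≠ Sum.inr m := by
    intro l k hlk h
    refine ⟨?_, ?_⟩
    · rintro rfl
      rw [ev_inl, Function.update_self] at h
      rcases k with i | i
      · by_cases hi : i = m
        · exact hlk (by rw [hi])
        · rw [ev_inl, Function.update_of_ne hi] at h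
          exact hz h
      · by_cases hi : i = m
        · rw [ev_inr, hi, Function.update_self] at h
          exact hz' h.symm
        · rw [ev_inr, Function.update_of_ne hi, Pi.one_apply, inv_one] at h
          exact hz h
    · rintro rfl
      rw [ev_inr, Function.update_self] at h
      rcases k with i | i
      · by_cases hi : i = m
        · rw [ev_inl, hi, Function.update_self] at h
          exact hz' h
        · rw [ev_inl, Function.update_of_ne hi, Pi.one_apply] at h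
          exact hz1 h
      · by_cases hi : i = m
        · exact hlk (by rw [hi])
        · rw [ev_inr, Function.update_of_ne hi, Pi.one_apply, inv_one] at h
          exact hz1 h
  exact ⟨key l k hlk h, key k l hlk.symm h.symm⟩

/-- **(4)(a), (b)**: `u` commutes with the torus elements with `lam a = 1`, `lam b * lam c = 1` -/
theorem torus_yx {z : Fˣ} (hz : z ≠ 1) {a b c : Fin n} (hab : a ≠ b) (hac : a ≠ c) (hbc : b ≠ c) {u : Sy n F}
    (hu : u ∈ Uu n F) (hc : ∀ lam : Fin n → Fˣ, lam a = 1 → lam b * lam c = 1 → Commute u (sh lam)) :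
    ∃ x y : F, u = sy (Sum.inl a) x * sx (Sum.inl b) (Sum.inl c) y := by
  classical
  have hz' := inv_ne hz
  have hz1 : z⁻¹ ≠ 1 := fun h => hz (inv_eq_one.mp h)
  -- the entries outside the three indices
  have h1 : ∀ l k, l ≠ k → ent u l k ≠ 0 → ∀ m : Fin n, m ≠ a → m ≠ b → m ≠ c →
      (l ≠ Sum.inl m ∧ l ≠ Sum.inr m) ∧ (k ≠ Sum.inl m ∧ k ≠ Sum.inr m) := by
    intro l k hlk h0 m ha hb hc'
    apply sep hz hlk
    by_contra hne
    exact h0 (ent_zero_of_comm (hc _ (by rw [Function.update_of_ne ha.symm]; rfl)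
      (by rw [Function.update_of_ne hb.symm, Function.update_of_ne hc'.symm, Pi.one_apply, Pi.one_apply, one_mul])) hne)
  have h1l : ∀ i k, (Sum.inl i : Ix n) ≠ k → ent u (Sum.inl i) k ≠ 0 → i = a ∨ i = b ∨ i = c := by
    intro i k hlk h0
    by_contra hno
    push Not at hno
    exact (h1 _ _ hlk h0 i hno.1 hno.2.1 hno.2.2).1.1 rfl
  have h1r : ∀ i k, (Sum.inr i : Ix n) ≠ k → ent u (Sum.inr i) k ≠ 0 → i = a ∨ i = b ∨ i = c := by
    intro i k hlk h0
    by_contra hno
    push Not at hno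
    exact (h1 _ _ hlk h0 i hno.1 hno.2.1 hno.2.2).1.2 rfl
  have h1l' : ∀ i l, l ≠ (Sum.inl i : Ix n) → ent u l (Sum.inl i) ≠ 0 → i = a ∨ i = b ∨ i = c := by
    intro i k hlk h0
    by_contra hno
    push Not at hno
    exact (h1 _ _ hlk h0 i hno.1 hno.2.1 hno.2.2).2.1 rfl
  have h1r' : ∀ i l, l ≠ (Sum.inr i : Ix n) → ent u l (Sum.inr i) ≠ 0 → i = a ∨ i = b ∨ i = c := by
    intro i k hlk h0
    by_contra hno
    push Not at hno
    exact (h1 _ _ hlk h0 i hno.1 hno.2.1 hno.2.2).2.2 rfl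
  -- the second torus element
  let lam : Fin n → Fˣ := fun i => if i = b then z else if i = c then z⁻¹ else 1
  have la : lam a = 1 := by simp only [lam, if_neg hab, if_neg hac]
  have lb : lam b = z := by simp only [lam, if_true]
  have lc : lam c = z⁻¹ := by simp only [lam, if_neg hbc.symm, if_true]
  have hlam := hc lam la (by rw [lb, lc, mul_inv_cancel])
  have h2 : ∀ l k, ent u l k ≠ 0 → ev lam l = ev lam k := fun l k h0 => by
    by_contra hne
    exact h0 (ent_zero_of_comm hlam hne)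
  have hinj : ∀ i j, (i = a ∨ i = b ∨ i = c) → (j = a ∨ j = b ∨ j = c) → lam i = lam j → i = j := by
    intro i j hi hj he
    rcases hi with rfl | rfl | rfl <;> rcases hj with rfl | rfl | rfl
    · rfl
    · rw [la, lb] at he; exact absurd he.symm hz
    · rw [la, lc] at he; exact absurd he.symm hz1
    · rw [lb, la] at he; exact absurd he hz
    · rfl
    · rw [lb, lc] at he; exact absurd he.symm hz'
    · rw [lc, la] at he; exact absurd he hz1
    · rw [lc, lb] at he; exact absurd he hz'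
    · rfl
  have hU : Isot ({Sum.inl a, Sum.inl b, Sum.inl c} : Finset (Ix n)) := isot_inl (by
    intro k hk
    rw [Finset.mem_insert, Finset.mem_insert, Finset.mem_singleton] at hk
    rcases hk with rfl | rfl | rfl
    · exact ⟨a, rfl⟩
    · exact ⟨b, rfl⟩
    · exact ⟨c, rfl⟩)
  obtain ⟨M, hM, he, hMe⟩ := eq_sa_of_ent hU (A := u) (by
    intro l k hlk
    by_cases e : l = k
    · subst e; rw [Uu_diag hu, if_pos rfl]
    rw [if_neg e]
    by_contra h0
    rcases l with i | i <;> rcases k with j | j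
    · have h3 := h2 _ _ h0
      rw [ev_inl, ev_inl] at h3
      exact e (by rw [hinj i j (h1l i _ e h0) (h1l' j _ e h0) h3])
    · apply hlk
      have h4 := h1l i _ e h0
      have h5 := h1r' j _ e h0
      simp only [Finset.mem_insert, Finset.mem_singleton, neg_inr, Sum.inl.injEq]
      exact ⟨h4, h5⟩
    · exact h0 (Uu_zero hu (by rw [pos_inl, pos_inr]; omega))
    · have h3 := h2 _ _ h0
      rw [ev_inr, ev_inr, inv_inj] at h3
      exact e (by rw [hinj i j (h1r i _ e h0) (h1r' j _ e h0) h3]))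
  have ma : (Sum.inl a : Ix n) ∈ ({Sum.inl a, Sum.inl b, Sum.inl c} : Finset (Ix n)) := by simp
  have mb : (Sum.inl b : Ix n) ∈ ({Sum.inl a, Sum.inl b, Sum.inl c} : Finset (Ix n)) := by simp
  have mc : (Sum.inl c : Ix n) ∈ ({Sum.inl a, Sum.inl b, Sum.inl c} : Finset (Ix n)) := by simp
  have hz0 : ∀ i j, lam i ≠ (lam j)⁻¹ → (Sum.inl i : Ix n) ∈ ({Sum.inl a, Sum.inl b, Sum.inl c} : Finset (Ix n)) →
      (Sum.inl j : Ix n) ∈ ({Sum.inl a, Sum.inl b, Sum.inl c} : Finset (Ix n)) →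
      M (Sum.inl i) (Sum.inl j) = 0 := by
    intro i j hne hi hj
    rw [hMe _ hi _ hj]
    by_contra h0
    exact hne (h2 _ _ h0)
  refine ⟨M (Sum.inl a) (Sum.inl a), M (Sum.inl b) (Sum.inl c), ?_⟩
  rw [he, sa_three (dj_inl hab) (dj_inl hac) (dj_inl hbc) hM, sa_two (dj_inl hbc) hM,
    hz0 a b (by rw [la, lb]; exact hz1.symm) ma mb, hz0 a c (by rw [la, lc, inv_inv]; exact hz.symm) ma mc,
    hz0 b b (by rw [lb]; exact hz'.symm) mb mb, hz0 c c (by rw [lc, inv_inv]; exact hz') mc mc, sx_zero, sx_zero,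
    sy_zero, sy_zero, one_mul, one_mul, mul_one, mul_one]
  have hcomm : Commute (sy (Sum.inl a) (M (Sum.inl a) (Sum.inl a)))
      (sx (Sum.inl b) (Sum.inl c) (M (Sum.inl b) (Sum.inl c))) :=
    sy_sx_comm (by rw [neg_inl]; exact fun e => by cases e) (by rw [neg_inl]; exact fun e => by cases e) _ _
  exact hcomm.eq.symm

/-! ### The centre -/

theorem comm_of_center {z : Sy n F} (hz : ∀ u ∈ Uu n F, Commute z u) :
    (∀ i : Fin n, CY z (Sum.inl i)) ∧ ∀ i j : Fin n, i < j → CX z (Sum.inl i) (Sum.inr j) :=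
  ⟨fun i => cy_of_comm (hz _ (sy_inl_mem i 1)), fun _ _ h =>
    cx_of_comm (dj_inl_inr h.ne) (hz _ (sx_inl_inr_mem h 1))⟩

/-- **(3)** an element of `Uu` centralising `Uu` -/
theorem center_eq {a b : Fin n} (ha : a.val = 0) (hb : b.val = 1) {z : Sy n F} (hzU : z ∈ Uu n F)
    (hz : ∀ u ∈ Uu n F, Commute z u) :
    ∃ x y : F, z = sy (Sum.inl a) x * sx (Sum.inl a) (Sum.inl b) y := by
  classical
  have hab : a < b := by rw [Fin.lt_def]; omega
  have hne : a ≠ b := hab.ne
  obtain ⟨cy, cx⟩ := comm_of_center hz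
  have hlt : ∀ i : Fin n, i ≠ a → a < i := fun i hi => by
    rw [Fin.lt_def]
    have : i.val ≠ a.val := fun e => hi (Fin.ext e)
    omega
  have hlt' : ∀ i : Fin n, i ≠ a → i ≠ b → b < i := fun i hi hi' => by
    rw [Fin.lt_def]
    have : i.val ≠ a.val := fun e => hi (Fin.ext e)
    have : i.val ≠ b.val := fun e => hi' (Fin.ext e)
    omega
  have hU : Isot ({Sum.inl a, Sum.inl b} : Finset (Ix n)) := isot_inl (by
    intro k hk
    simp only [Finset.mem_insert, Finset.mem_singleton] at hk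
    rcases hk with rfl | rfl
    · exact ⟨a, rfl⟩
    · exact ⟨b, rfl⟩)
  obtain ⟨M, hM, he, hMe⟩ := eq_sa_of_ent hU (A := z) (by
    intro l k hlk
    by_cases e : l = k
    · subst e; rw [Uu_diag hzU, if_pos rfl]
    rw [if_neg e]
    rcases k with j | j
    · exact (cy j).col l e
    rcases l with i | i
    swap
    · have := (cy i).row (Sum.inr j) (by rw [neg_inl]; exact fun e' => e e'.symm)
      rwa [neg_inl] at this
    by_cases hi : i = a ∨ i = b
    · have hj : ¬ (j = a ∨ j = b) := fun hj => hlk (by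
        simp only [neg_inr, Finset.mem_insert, Finset.mem_singleton, Sum.inl.injEq]
        exact ⟨hi, hj⟩)
      push Not at hj
      rcases hi with rfl | rfl
      · exact (cx b j (hlt' j hj.1 hj.2)).colj (Sum.inl i) (fun e' => hne (Sum.inl_injective e'))
          (fun e' => by cases e')
      · exact (cx a j (hlt j hj.1)).colj (Sum.inl i) (fun e' => hne (Sum.inl_injective e').symm)
          (fun e' => by cases e')
    · push Not at hi
      by_cases hja : j = a
      · subst hja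
        have := (cx b i (hlt' i hi.1 hi.2)).rowj (Sum.inr j)
          (by rw [neg_inl]; exact fun e' => hne (Sum.inr_injective e')) (by rw [neg_inr]; exact fun e' => by cases e')
        rwa [neg_inr] at this
      · have := (cx a i (hlt i hi.1)).rowj (Sum.inr j)
          (by rw [neg_inl]; exact fun e' => hja (Sum.inr_injective e')) (by rw [neg_inr]; exact fun e' => by cases e')
        rwa [neg_inr] at this)
  have hbb : M (Sum.inl b) (Sum.inl b) = 0 := by
    rw [hMe _ (by simp) _ (by simp), neg_inl]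
    have := (cx a b hab).rowj (Sum.inr b)
      (by rw [neg_inl]; exact fun e' => hne (Sum.inr_injective e').symm) (by rw [neg_inr]; exact fun e' => by cases e')
    rwa [neg_inr] at this
  refine ⟨M (Sum.inl a) (Sum.inl a), M (Sum.inl a) (Sum.inl b), ?_⟩
  rw [he, sa_two (dj_inl hne) hM, hbb, sy_zero, one_mul]

/-! ### The second centre -/

/-- **(3)** the second centre of `Uu` -/
theorem second_center_eq {a b c : Fin n} (ha : a.val = 0) (hb : b.val = 1) (hc : c.val = 2) {z : Sy n F}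
    (hzU : z ∈ Uu n F)
    (hz : ∀ u ∈ Uu n F, ∃ x y : F, z * u * z⁻¹ * u⁻¹ = sy (Sum.inl a) x * sx (Sum.inl a) (Sum.inl b) y) :
    ∃ x y v w : F, z = sy (Sum.inl a) x * sx (Sum.inl a) (Sum.inl b) y * sx (Sum.inl a) (Sum.inl c) v *
      sy (Sum.inl b) w := by
  classical
  have hab : a < b := by rw [Fin.lt_def]; omega
  have hbc : b < c := by rw [Fin.lt_def]; omega
  have hac : a < c := hab.trans hbc
  have nab : a ≠ b := hab.ne
  have nbc : b ≠ c := hbc.ne
  have nac : a ≠ c := hac.ne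
  have hpa : ∀ k : Ix n, k ≠ Sum.inr a → pos k < pos (Sum.inr a : Ix n) := by
    intro k hk
    have h1 : pos k ≠ pos (Sum.inr a : Ix n) := fun e => hk (pos_inj e)
    have h2 := pos_lt k
    rw [pos_inr] at h1 ⊢
    omega
  have hpb : ∀ k : Ix n, k ≠ Sum.inr a → k ≠ Sum.inr b → pos k < pos (Sum.inr b : Ix n) := by
    intro k hk hk'
    have h1 : pos k ≠ pos (Sum.inr a : Ix n) := fun e => hk (pos_inj e)
    have h1' : pos k ≠ pos (Sum.inr b : Ix n) := fun e => hk' (pos_inj e)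
    have h2 := pos_lt k
    rw [pos_inr] at h1 h1' ⊢
    omega
  -- the exceptional positions
  have key : ∀ u ∈ Uu n F, ∀ l k, ¬ ((l = Sum.inl a ∧ k = Sum.inr a) ∨ (l = Sum.inl a ∧ k = Sum.inr b) ∨
      (l = Sum.inl b ∧ k = Sum.inr a)) → ent (z * u) l k = ent (u * z) l k := by
    intro u hu l k hlk
    push Not at hlk
    obtain ⟨x, y, he⟩ := hz u hu
    have h1 : z * u = sy (Sum.inl a) x * (sx (Sum.inl a) (Sum.inl b) y * (u * z)) := by
      rw [← mul_assoc, ← he]; group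
    have hw : u * z ∈ Uu n F := mul_mem hu hzU
    rw [h1, ent_sy_mul, ent_sx_mul (dj_inl nab), ent_sx_mul (dj_inl nab), neg_inl, neg_inl]
    by_cases hka : k = Sum.inr a
    · subst hka
      have hla : l ≠ Sum.inl a := fun e => hlk.1 e rfl
      have hlb : l ≠ Sum.inl b := fun e => hlk.2.2 e rfl
      simp only [if_neg hla, if_neg hlb, add_zero]
    · have hra : ent (u * z) (Sum.inr a) k = 0 := Uu_zero hw (hpa k hka)
      have e1 : (Sum.inr a : Ix n) ≠ Sum.inl a := fun e => by cases e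
      have e2 : (Sum.inr a : Ix n) ≠ Sum.inl b := fun e => by cases e
      by_cases hkb : k = Sum.inr b
      · have hla : l ≠ Sum.inl a := fun e => hlk.2.1 e hkb
        simp only [if_neg hla, hra, mul_zero, ite_self, add_zero]
      · have hrb : ent (u * z) (Sum.inr b) k = 0 := Uu_zero hw (hpb k hka hkb)
        simp only [hra, hrb, if_neg e1, if_neg e2, mul_zero, ite_self, add_zero]
  -- long root elements
  have keyY : ∀ (i : Fin n) l k, ¬ ((l = Sum.inl a ∧ k = Sum.inr a) ∨ (l = Sum.inl a ∧ k = Sum.inr b) ∨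
      (l = Sum.inl b ∧ k = Sum.inr a)) →
      (if k = Sum.inr i then ent z l (Sum.inl i) else 0) = if l = Sum.inl i then ent z (Sum.inr i) k else 0 := by
    intro i l k hlk
    have h1 := key _ (sy_inl_mem i 1) l k hlk
    rw [ent_mul_sy, ent_sy_mul, neg_inl] at h1
    simpa only [one_mul] using add_left_cancel h1
  -- short root elements
  have keyX : ∀ (i j : Fin n), i < j → ∀ l k, ¬ ((l = Sum.inl a ∧ k = Sum.inr a) ∨ (l = Sum.inl a ∧ k = Sum.inr b) ∨
      (l = Sum.inl b ∧ k = Sum.inr a)) →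
      (if k = Sum.inl j then ent z l (Sum.inl i) else 0) + (if k = Sum.inr i then ent z l (Sum.inr j) else 0) =
      (if l = Sum.inl i then ent z (Sum.inl j) k else 0) + if l = Sum.inr j then ent z (Sum.inr i) k else 0 := by
    intro i j hij l k hlk
    have h1 := key _ (sx_inl_inr_mem hij 1) l k hlk
    rw [ent_mul_sx (dj_inl_inr hij.ne), ent_sx_mul (dj_inl_inr hij.ne), neg_inl, neg_inr] at h1
    simp only [one_mul, add_assoc] at h1
    exact add_left_cancel h1
  -- columns of `e_i`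
  have hab0 : ent z (Sum.inl a) (Sum.inl b) = 0 := by
    have h1 := keyX b c hbc (Sum.inl a) (Sum.inl c) (by
      rintro (h | h | h) <;> (have := h.2; cases this))
    simpa [nab] using h1
  have hba0 : ent z (Sum.inr b) (Sum.inr a) = 0 := by
    have h1 := keyX b c hbc (Sum.inr c) (Sum.inr a) (by
      rintro (h | h | h) <;> (have := h.1; cases this))
    simpa [nab] using h1.symm
  have hcol : ∀ (i : Fin n) l, l ≠ Sum.inl i → ent z l (Sum.inl i) = 0 := by
    intro i l hl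
    by_cases hex : (l = Sum.inl a ∧ i = a) ∨ (l = Sum.inl a ∧ i = b) ∨ (l = Sum.inl b ∧ i = a)
    · rcases hex with ⟨rfl, rfl⟩ | ⟨rfl, rfl⟩ | ⟨rfl, rfl⟩
      · exact absurd rfl hl
      · exact hab0
      · exact Uu_zero hzU hab
    · have h1 := keyY i l (Sum.inr i) (by simpa only [Sum.inr.injEq] using hex)
      simpa [hl] using h1
  have hrow : ∀ (i : Fin n) k, k ≠ Sum.inr i → ent z (Sum.inr i) k = 0 := by
    intro i k hk
    by_cases hex : (i = a ∧ k = Sum.inr a) ∨ (i = a ∧ k = Sum.inr b) ∨ (i = b ∧ k = Sum.inr a)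
    · rcases hex with ⟨rfl, rfl⟩ | ⟨rfl, rfl⟩ | ⟨rfl, rfl⟩
      · exact absurd rfl hk
      · exact Uu_zero hzU (hpa _ (fun e => nab (Sum.inr_injective e).symm))
      · exact hba0
    · have h1 := keyY i (Sum.inl i) k (by simpa only [Sum.inl.injEq] using hex)
      simpa [hk] using h1.symm
  have hltc : ∀ i : Fin n, i ≠ a → i ≠ b → i ≠ c → c < i := fun i hi hi' hi'' => by
    rw [Fin.lt_def]
    have : i.val ≠ a.val := fun e => hi (Fin.ext e)
    have : i.val ≠ b.val := fun e => hi' (Fin.ext e)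
    have : i.val ≠ c.val := fun e => hi'' (Fin.ext e)
    omega
  have hU : Isot ({Sum.inl a, Sum.inl b, Sum.inl c} : Finset (Ix n)) := isot_inl (by
    intro k hk
    simp only [Finset.mem_insert, Finset.mem_singleton] at hk
    rcases hk with rfl | rfl | rfl
    · exact ⟨a, rfl⟩
    · exact ⟨b, rfl⟩
    · exact ⟨c, rfl⟩)
  obtain ⟨M, hM, he, hMe⟩ := eq_sa_of_ent hU (A := z) (by
    intro l k hlk
    by_cases e : l = k
    · subst e; rw [Uu_diag hzU, if_pos rfl]
    rw [if_neg e]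
    rcases k with j | j
    · exact hcol j l e
    rcases l with i | i
    swap
    · exact hrow i _ (fun e' => e e'.symm)
    by_cases hj : j = a ∨ j = b ∨ j = c
    · have hi : ¬ (i = a ∨ i = b ∨ i = c) := fun hi => hlk (by
        simp only [neg_inr, Finset.mem_insert, Finset.mem_singleton, Sum.inl.injEq]
        exact ⟨hi, hj⟩)
      push Not at hi
      have hci := hltc i hi.1 hi.2.1 hi.2.2
      -- row `e_i`
      by_cases hjc : j = c
      · subst hjc
        have h1 := keyX a i (hac.trans hci) (Sum.inl a) (Sum.inr j) (by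
          rintro (h | h | h)
          · exact nac (Sum.inr_injective h.2).symm
          · exact nbc (Sum.inr_injective h.2).symm
          · exact nab (Sum.inl_injective h.1))
        simpa [nac, nac.symm] using h1.symm
      · have h1 := keyX c i hci (Sum.inl c) (Sum.inr j) (by
          rintro (h | h | h)
          · exact nac (Sum.inl_injective h.1).symm
          · exact nac (Sum.inl_injective h.1).symm
          · exact nbc (Sum.inl_injective h.1).symm)
        simpa [hjc] using h1.symm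
    · push Not at hj
      have hcj := hltc j hj.1 hj.2.1 hj.2.2
      by_cases hia : i = a
      · have h1 := keyX c j hcj (Sum.inl i) (Sum.inr c) (by
          rintro (h | h | h)
          · exact nac (Sum.inr_injective h.2).symm
          · exact nbc (Sum.inr_injective h.2).symm
          · exact nac (Sum.inr_injective h.2).symm)
        have hic : i ≠ c := by rw [hia]; exact nac
        simpa [hic] using h1
      · by_cases hib : i = b
        · have h1 := keyX c j hcj (Sum.inl i) (Sum.inr c) (by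
            rintro (h | h | h)
            · exact nac (Sum.inr_injective h.2).symm
            · exact nbc (Sum.inr_injective h.2).symm
            · exact nac (Sum.inr_injective h.2).symm)
          have hic : i ≠ c := by rw [hib]; exact nbc
          simpa [hic] using h1
        · have h1 := keyX a j (hac.trans hcj) (Sum.inl i) (Sum.inr a) (by
            rintro (h | h | h)
            · exact hia (Sum.inl_injective h.1)
            · exact hia (Sum.inl_injective h.1)
            · exact hib (Sum.inl_injective h.1))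
          simpa [hia] using h1)
  have hbc0 : M (Sum.inl b) (Sum.inl c) = 0 := by
    rw [hM, hMe _ (by simp) _ (by simp), neg_inl]
    have h1 := keyX a b hab (Sum.inl c) (Sum.inr a) (by
      rintro (h | h | h)
      · exact nac (Sum.inl_injective h.1).symm
      · exact nac (Sum.inl_injective h.1).symm
      · exact nbc (Sum.inl_injective h.1).symm)
    simpa [nac.symm] using h1
  have hcc0 : M (Sum.inl c) (Sum.inl c) = 0 := by
    rw [hMe _ (by simp) _ (by simp), neg_inl]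
    have h1 := keyX a c hac (Sum.inl c) (Sum.inr a) (by
      rintro (h | h | h)
      · exact nac (Sum.inl_injective h.1).symm
      · exact nac (Sum.inl_injective h.1).symm
      · exact nbc (Sum.inl_injective h.1).symm)
    simpa [nac.symm] using h1
  refine ⟨M (Sum.inl a) (Sum.inl a), M (Sum.inl a) (Sum.inl b), M (Sum.inl a) (Sum.inl c),
    M (Sum.inl b) (Sum.inl b), ?_⟩
  rw [he, sa_three (dj_inl nab) (dj_inl nac) (dj_inl nbc) hM, sa_two (dj_inl nbc) hM, hbc0, hcc0, sx_zero, sy_zero,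
    one_mul, mul_one]
  have g : ∀ i j : Fin n, (Sum.inl i : Ix n) ≠ neg (Sum.inl j) := fun i j => by
    rw [neg_inl]; exact fun e => by cases e
  have c1 : Commute (sy (Sum.inl b) (M (Sum.inl b) (Sum.inl b))) (sy (Sum.inl a) (M (Sum.inl a) (Sum.inl a))) :=
    sy_comm (g _ _) _ _
  have c2 : Commute (sy (Sum.inl b) (M (Sum.inl b) (Sum.inl b)))
      (sx (Sum.inl a) (Sum.inl b) (M (Sum.inl a) (Sum.inl b))) := sy_sx_comm (g _ _) (g _ _) _ _
  have c3 : Commute (sy (Sum.inl b) (M (Sum.inl b) (Sum.inl b)))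
      (sx (Sum.inl a) (Sum.inl c) (M (Sum.inl a) (Sum.inl c))) := sy_sx_comm (g _ _) (g _ _) _ _
  exact ((c1.mul_right c2).mul_right c3).eq

/-! ### Commutators -/

/-- **(5)** `x_{e_a + e_b} ∈ Uu'` -/
theorem sx_mem_comm {a b c : Fin n} (hab : a ≠ b) (hac : a ≠ c) (hbc : b < c) (y : F) :
    sx (Sum.inl a) (Sum.inl b) y ∈ ⁅Uu n F, Uu n F⁆ := by
  have h1 := sx_rel (n := n) (F := F) (i := Sum.inl a) (j := Sum.inl c) (k := Sum.inl b) (dj_inl hac)
    (dj_inl hbc.ne.symm) (dj_inl hab) y 1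
  rw [mul_one, neg_inl, sx_symm (Sum.inr c)] at h1
  have h2 : sx (Sum.inl a) (Sum.inl b) y =
      ⁅sx (Sum.inl a : Ix n) (Sum.inl c) y, sx (Sum.inl b : Ix n) (Sum.inr c) (1 : F)⁆ := by
    rw [commutatorElement_def, h1]; group
  rw [h2]
  exact Subgroup.commutator_mem_commutator (sx_inl_inl_mem _ _ _) (sx_inl_inr_mem hbc _)

/-- **(5)** `y_{2 e_a} ∈ Uu'` -/
theorem sy_mem_comm {a b c : Fin n} (hab : a < b) (hbc : b < c) (y : F) :
    sy (Sum.inl a) y ∈ ⁅Uu n F, Uu n F⁆ := by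
  have h1 := sy_rel (n := n) (F := F) (i := Sum.inl b) (j := Sum.inl a) (dj_inl hab.ne.symm) y 1
  rw [one_pow, mul_one, neg_inl, sx_symm (Sum.inr b)] at h1
  have h2 : sy (Sum.inl a) y = (sx (Sum.inl b : Ix n) (Sum.inl a) y)⁻¹ *
      ⁅sy (Sum.inl b : Ix n) y, sx (Sum.inl a : Ix n) (Sum.inr b) (1 : F)⁆ := by
    rw [commutatorElement_def, h1]; group
  rw [h2, sx_symm (Sum.inl b)]
  exact mul_mem (inv_mem (sx_mem_comm hab.ne (hab.trans hbc).ne hbc y))
    (Subgroup.commutator_mem_commutator (sy_inl_mem _ _) (sx_inl_inr_mem hab _))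

end Cfsg.Agent.OddHalf.SpN.TU
end

-- part: OddHalf/SpN/W3L
section
prune_inst 0x4201004044122020000180000e0000640160001921060000050000a4007ca15602541a921a4800912080026442030002813000010420000000a000000011d00808008000281890000040009000000000000000000000000000000000000041000000000000
set_option linter.all false
open scoped Cfsg.Agent.FastGrp

-- merged: Cfsg.Agent.OddHalf.SpN.W3Gen
section

/-!
# ODD D7, `K = Sp_2n(q)`, `q > 2`: section 3, tools (helper297)

* `const_zero` : an additive `f : F → F` with `f (μ v) = f v` is 0;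
* `Sg` : the Siegel radical in entries, `Sg.ent_mul` : entries add;
* `R.no_t` : an equivariant homomorphism `F → T₁` has values in `K`.
-/

set_option autoImplicit false

namespace Cfsg.Agent.OddHalf.SpN

open Cfsg Cfsg.Agent.ClassicalGeometry.SympBasic Cfsg.Agent.ClassicalGeometry.SympAutSemi
open scoped Matrix commutatorElement
open WExist Subgroup TU

variable {n : ℕ} {F : Type*} [Field F]

/-- an additive function invariant under `F*` is zero -/
theorem const_zero [CharP F 2] (hq : ∃ c : F, c ≠ 0 ∧ c ≠ 1) {f : F → F} (hadd : ∀ u v, f (u + v) = f u + f v)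
    (h : ∀ μ v, μ ≠ 0 → f (μ * v) = f v) : ∀ v, f v = 0 := by
  intro v
  obtain ⟨c, c0, c1⟩ := hq
  have hc : 1 + c ≠ 0 := fun e => c1 (by
    have := CharTwo.add_self_eq_zero (1 : F)
    calc c = (1 + 1) + c := by rw [this, zero_add]
      _ = 1 + (1 + c) := by ring
      _ = 1 := by rw [e, add_zero])
  have h1 := h (1 + c) v hc
  have h2 : (1 + c) * v = v + c * v := by ring
  rw [h2, hadd, h c v c0, CharTwo.add_self_eq_zero] at h1
  exact h1.symm

/-- the Siegel radical -/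
def Sg (A : Sy n F) : Prop := ∀ l k, ¬ (pos l < n ∧ n ≤ pos k) → ent A l k = if l = k then 1 else 0

section c2

variable [CharP F 2]

omit [CharP F 2] in
theorem Sg.ent_mul {A B : Sy n F} (hA : Sg A) (hB : Sg B) {l k : Ix n} (hl : pos l < n) (hk : n ≤ pos k) :
    ent (A * B) l k = ent A l k + ent B l k := by
  have hlk : l ≠ k := by rintro rfl; omega
  rw [TU.ent_mul]
  have h1 : ∀ m, ent A l m * ent B m k = (if m = l then ent B l k else 0) + (if m = k then ent A l k else 0) := by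
    intro m
    rcases lt_or_ge (pos m) n with hm | hm
    · have hmk : m ≠ k := by rintro rfl; omega
      rw [hA l m (by omega), if_neg hmk, add_zero]
      by_cases e : m = l
      · subst e; rw [if_pos rfl, if_pos rfl, one_mul]
      · rw [if_neg (fun e' => e e'.symm), if_neg e, zero_mul]
    · have hml : m ≠ l := by rintro rfl; omega
      rw [hB m k (by omega), if_neg hml, zero_add]
      by_cases e : m = k
      · subst e; rw [if_pos rfl, if_pos rfl, mul_one]
      · rw [if_neg e, if_neg e, mul_zero]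
  rw [Finset.sum_congr rfl fun m _ => h1 m, Finset.sum_add_distrib, Finset.sum_ite_eq', Finset.sum_ite_eq',
    if_pos (Finset.mem_univ _), if_pos (Finset.mem_univ _), add_comm]

omit [CharP F 2] in
theorem Sg.mul {A B : Sy n F} (hA : Sg A) (hB : Sg B) : Sg (A * B) := by
  intro l k h
  rw [TU.ent_mul]
  rcases lt_or_ge (pos l) n with hl | hl
  · have hk : pos k < n := by
      by_contra hk
      exact h ⟨hl, by omega⟩
    rw [Finset.sum_eq_single k]
    · rw [hA l k h, hB k k (by omega), if_pos rfl, mul_one]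
    · intro m _ hm
      rw [hB m k (by omega), if_neg hm, mul_zero]
    · intro h; exact absurd (Finset.mem_univ _) h
  · rw [Finset.sum_eq_single l]
    · rw [hA l l (by omega), hB l k h, if_pos rfl, one_mul]
    · intro m _ hm
      rw [hA l m (by omega), if_neg (fun e => hm e.symm), zero_mul]
    · intro h; exact absurd (Finset.mem_univ _) h

theorem Sg_sy {i : Ix n} (hi : pos i < n) (a : F) : Sg (sy i a) := by
  intro l k h
  have h1 : ¬ (l = i ∧ k = neg i) := by
    rintro ⟨rfl, rfl⟩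
    apply h
    rw [pos_neg]; omega
  rw [ent_sy, if_neg h1, add_zero]

theorem Sg_sx {i j : Ix n} (hi : pos i < n) (hj : pos j < n) (a : F) : Sg (sx i j a) := by
  by_cases hd : Dj i j
  · intro l k h
    have h1 : ¬ (l = i ∧ k = neg j) := by
      rintro ⟨rfl, rfl⟩
      apply h
      rw [pos_neg]; omega
    have h2 : ¬ (l = j ∧ k = neg i) := by
      rintro ⟨rfl, rfl⟩
      apply h
      rw [pos_neg]; omega
    rw [ent_sx hd, if_neg h1, if_neg h2, add_zero, add_zero]
  · rw [sx_of_not hd]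
    intro l k _
    exact ent_one l k

omit [CharP F 2] in
theorem ent_conj_sh (lam : Fin n → Fˣ) (A : Sy n F) (l k : Ix n) :
    ent (sh lam * A * (sh lam)⁻¹) l (neg k) = ev lam l * ev lam k * ent A l (neg k) := by
  rw [← map_inv, ent_mul_sh, ent_sh_mul]
  have e : ev lam⁻¹ (neg k) = ev lam k := by
    rw [ev_neg]
    have : ev lam⁻¹ k = (ev lam k)⁻¹ := map_inv (evM k) lam
    rw [this, inv_inv]
  rw [e]; ring

end c2

namespace Frame

variable {G : Type*} [Group G] (R : Frame n F G) [CharP F 2]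

/-- an equivariant homomorphism `F → T₁` has values in `K` -/
theorem no_t (hq : ∃ c : F, c ≠ 0 ∧ c ≠ 1) {e : F → G} (hadd : ∀ u v, e (u + v) = e u * e v)
    (heq : ∀ μ : F, μ ≠ 0 → ∃ lam, ∀ v, R.h lam * e v * (R.h lam)⁻¹ = e (μ * v)) (hT : ∀ v, e v ∈ R.T1) :
    ∃ E : F → Sy n F, (∀ v, e v = R.ι (E v)) ∧ (∀ v, E v ∈ Uu n F) ∧ (∀ u v, E (u + v) = E u * E v) ∧
      ∀ (lam : Fin n → Fˣ) (v μ : F), R.h lam * e v * (R.h lam)⁻¹ = e (μ * v) →
        sh lam * E v * (sh lam)⁻¹ = E (μ * v) := by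
  have key : ∀ v, ∀ A, e v ≠ R.t * R.ι A := by
    intro v A hA
    have h1 : ∀ μ : F, μ ≠ 0 → ∃ B, e (μ * v) = R.t * R.ι B := by
      intro μ hμ
      obtain ⟨lam, hlam⟩ := heq μ hμ
      refine ⟨sh lam * A * (sh lam)⁻¹, ?_⟩
      rw [← hlam, hA, map_mul, map_mul, map_inv]
      have e1 := (R.h_t lam).eq
      calc R.h lam * (R.t * R.ι A) * (R.h lam)⁻¹ = (R.h lam * R.t) * R.ι A * (R.h lam)⁻¹ := by group
        _ = R.t * (R.h lam * R.ι A * (R.h lam)⁻¹) := by rw [e1]; group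
    obtain ⟨c, c0, c1⟩ := hq
    have hc : 1 + c ≠ 0 := fun e => c1 (by
      have := CharTwo.add_self_eq_zero (1 : F)
      calc c = (1 + 1) + c := by rw [this, zero_add]
        _ = 1 + (1 + c) := by ring
        _ = 1 := by rw [e, add_zero])
    obtain ⟨B, hB⟩ := h1 c c0
    obtain ⟨C, hC⟩ := h1 (1 + c) hc
    have h2 : (1 + c) * v = v + c * v := by ring
    rw [h2, hadd, hA, hB] at hC
    have e1 := (R.comm A).eq
    have h3 : R.t * R.ι A * (R.t * R.ι B) = R.ι (A * B) := by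
      rw [map_mul]
      calc R.t * R.ι A * (R.t * R.ι B) = R.t * (R.ι A * R.t) * R.ι B := by group
        _ = (R.t * R.t) * (R.ι A * R.ι B) := by rw [e1]; group
        _ = _ := by rw [R.tt, one_mul]
    rw [h3] at hC
    apply R.tK (A * B * C⁻¹)
    rw [map_mul, map_inv, hC]; group
  have h1 : ∀ v, ∃ A ∈ Uu n F, e v = R.ι A := by
    intro v
    obtain ⟨A, hA, h | h⟩ := hT v
    · exact ⟨A, hA, h⟩
    · exact absurd h (key v A)
  choose E hE hE' using h1
  refine ⟨E, hE', hE, fun u v => ?_, fun lam v μ h => ?_⟩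
  · apply R.inj
    rw [map_mul, ← hE', ← hE', ← hE', hadd]
  · apply R.inj
    rw [map_mul, map_mul, map_inv, ← hE', ← hE']
    exact h

end Frame

end Cfsg.Agent.OddHalf.SpN

end

-- merged: Cfsg.Agent.OddHalf.SpN.W3L
section

/-!
# ODD D7, `K = Sp_2n(q)`, `q > 2`: section 3 for the long root groups (helper297)

`R.exists_DL` : if `Y_1` is moved (fusion in `T₁`), then `∃ γ, Nonempty (DL R γ)`.
-/

set_option autoImplicit false

namespace Cfsg.Agent.OddHalf.SpN

open Cfsg Cfsg.Agent.ClassicalGeometry.SympBasic Cfsg.Agent.ClassicalGeometry.SympAutSemi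
open scoped Matrix commutatorElement
open WExist Subgroup TU

variable {n : ℕ} {F : Type*} [Field F]

section mat

variable [CharP F 2]

/-- conjugates of `y_2(v)` under `U` -/
theorem Uu_conj_sy {A : Sy n F} (hA : A ∈ Uu n F) {i j : Ix n} (hi : pos i = 0) (hj : pos j = 1) (hd : Dj i j)
    (v : F) : A * sy j v = sy j v * (sx i j (v * ent A i j) * sy i (v * ent A i j ^ 2)) * A := by
  have hn : 2 ≤ n := by
    by_contra h
    have h1 := pos_lt i
    have h2 := pos_lt (neg j)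
    apply hd.2
    apply pos_inj
    rw [pos_neg]; omega
  have hrow : ∀ v, rho n F A v (neg i) = v (neg i) := by
    intro v
    rw [rho_eq_sum, Finset.sum_eq_single (neg i)]
    · rw [Uu_diag hA, mul_one]
    · intro k _ hk
      rw [Uu_zero hA, mul_zero]
      rcases lt_or_ge (pos k) (pos (neg i)) with h | h
      · exact h
      · exfalso; apply hk
        apply pos_inj
        have := pos_lt k
        rw [pos_neg] at h ⊢
        omega
    · intro h; exact absurd (Finset.mem_univ _) h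
  have hne : neg i ≠ neg j := fun e => hd.1 (neg_inj.mp e)
  have hrow' : ∀ v, rho n F A v (neg j) = v (neg j) + v (neg i) * ent A (neg j) (neg i) := by
    intro v
    rw [rho_eq_sum, ← Finset.sum_subset (Finset.subset_univ ({neg j, neg i} : Finset (Ix n))),
      Finset.sum_pair hne.symm, Uu_diag hA, mul_one]
    intro k _ hk
    rw [Finset.mem_insert, Finset.mem_singleton, not_or] at hk
    rw [Uu_zero hA, mul_zero]
    rcases lt_or_ge (pos k) (pos (neg j)) with h | h
    · exact h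
    · exfalso
      have h1 := pos_lt k
      rw [pos_neg] at h
      rcases Nat.lt_or_ge (pos k) (2 * n - 1) with h2 | h2
      · apply hk.1; apply pos_inj; rw [pos_neg]; omega
      · apply hk.2; apply pos_inj; rw [pos_neg]; omega
  have hcol' : rho n F A (be n F j) = be n F j + ent A i j • be n F i := by
    ext l
    rw [Pi.add_apply, Pi.smul_apply, be_apply, be_apply, smul_eq_mul]
    show ent A l j = _
    by_cases h1 : l = i
    · subst h1
      rw [if_neg hd.1, if_pos rfl]; ring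
    · rw [if_neg h1, hA l j (by
        have : pos l ≠ 0 := fun e => h1 (pos_inj (by omega))
        omega)]
      ring
  have hc : ent A (neg j) (neg i) = ent A i j := by
    rw [← ent_inv]
    have hI := inv_mem hA
    have e1 : ent (A⁻¹ * A) i j = 0 := by rw [inv_mul_cancel, ent_one, if_neg hd.1]
    rw [ent_mul, ← Finset.sum_subset (Finset.subset_univ ({i, j} : Finset (Ix n))), Finset.sum_pair hd.1,
      Uu_diag hI, Uu_diag hA] at e1
    · linear_combination e1 - ent A i j * (two0 : (2 : F) = 0)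
    · intro k _ hk
      rw [Finset.mem_insert, Finset.mem_singleton, not_or] at hk
      rw [Uu_zero hA, mul_zero]
      have h1 : pos k ≠ 0 := fun e => hk.1 (pos_inj (by omega))
      have h2 : pos k ≠ 1 := fun e => hk.2 (pos_inj (by omega))
      omega
  have n1 : neg j ≠ i := fun e => hd.2 e.symm
  apply rho_injective
  ext x l
  simp only [map_mul, Equiv.Perm.mul_apply, rho_sx hd, rho_sy, rho_add, rho_smul, hcol', hrow, hrow', hc,
    Pi.add_apply, Pi.smul_apply, smul_eq_mul, be_apply, neg_ne, n1, if_false]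
  ring_nf
  simp only [mul2, add_zero]

/-- `y_2(v)` is in the second centre -/
theorem com_sy {A : Sy n F} (hA : A ∈ Uu n F) {i j : Ix n} (hi : pos i = 0) (hj : pos j = 1) (hd : Dj i j)
    (v : F) : sy j v * A * (sy j v)⁻¹ * A⁻¹ = sx i j (v * ent A i j) * sy i (v * ent A i j ^ 2) := by
  have h := Uu_conj_sy hA hi hj hd v
  have h1 : (sy j v)⁻¹ = sy j v := inv_eq_of_mul_eq_one_left (sy_sq j v)
  calc sy j v * A * (sy j v)⁻¹ * A⁻¹ = sy j v * (A * sy j v) * A⁻¹ := by rw [h1]; group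
    _ = (sy j v * sy j v) * (sx i j (v * ent A i j) * sy i (v * ent A i j ^ 2)) := by rw [h]; group
    _ = _ := by rw [sy_sq, one_mul]

end mat

namespace Frame

variable {G : Type*} [Group G] (R : Frame n F G) [CharP F 2]

/-- the conjugates `w x(v) w⁻¹` of a root group in `T₁` -/
theorem conj_hom (hq : ∃ c : F, c ≠ 0 ∧ c ≠ 1) {w : G} (hw : w ∈ normalizer (R.T1 : Set G)) {x : F → G}
    (x_add : ∀ u v, x (u + v) = x u * x v) (xT : ∀ u, x u ∈ R.T1)
    (heq : ∀ μ : F, μ ≠ 0 → ∃ lam, Commute w (R.h lam) ∧ ∀ v, R.h lam * x v * (R.h lam)⁻¹ = x (μ * v)) :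
    ∃ E : F → Sy n F, (∀ v, w * x v * w⁻¹ = R.ι (E v)) ∧ (∀ v, E v ∈ Uu n F) ∧ (∀ u v, E (u + v) = E u * E v) ∧
      ∀ (lam : Fin n → Fˣ) (μ : F), Commute w (R.h lam) → (∀ v, R.h lam * x v * (R.h lam)⁻¹ = x (μ * v)) →
        ∀ v, sh lam * E v * (sh lam)⁻¹ = E (μ * v) := by
  have key : ∀ (lam : Fin n → Fˣ) (μ : F), Commute w (R.h lam) → (∀ v, R.h lam * x v * (R.h lam)⁻¹ = x (μ * v)) →
      ∀ v, R.h lam * (w * x v * w⁻¹) * (R.h lam)⁻¹ = w * x (μ * v) * w⁻¹ := by
    intro lam μ hc h v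
    have e := hc.eq
    have e2 : w⁻¹ * (R.h lam)⁻¹ = (R.h lam)⁻¹ * w⁻¹ := by rw [← mul_inv_rev, ← mul_inv_rev, e]
    calc R.h lam * (w * x v * w⁻¹) * (R.h lam)⁻¹ = (R.h lam * w) * x v * (w⁻¹ * (R.h lam)⁻¹) := by group
      _ = w * (R.h lam * x v * (R.h lam)⁻¹) * w⁻¹ := by rw [← e, e2]; group
      _ = w * x (μ * v) * w⁻¹ := by rw [h]
  obtain ⟨E, h1, h2, h3, h4⟩ := R.no_t hq (e := fun v => w * x v * w⁻¹)
    (fun u v => by simp only [x_add]; group)
    (fun μ hμ => by
      obtain ⟨lam, hl, h⟩ := heq μ hμ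
      exact ⟨lam, key lam μ hl h⟩)
    (fun v => (mem_normalizer_iff.1 hw _).1 (xT v))
  exact ⟨E, h1, h2, h3, fun lam μ hc h v => h4 lam v μ (key lam μ hc h v)⟩

/-- final step: `k² = 1` -/
theorem k_one {w : G} {x : F → G} (x_inj : ∀ u v, x u = x v → u = v) {k : F}
    (h : ∀ v, w * x v * w⁻¹ = x (k * v)) (hw : Commute (w * w) (x 1)) : k = 1 := by
  have h1 : x 1 = x (k * (k * 1)) := by
    calc x 1 = (w * w) * x 1 * (w * w)⁻¹ := by rw [hw.eq]; group
      _ = w * (w * x 1 * w⁻¹) * w⁻¹ := by group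
      _ = x (k * (k * 1)) := by rw [h, h]
  have h2 := x_inj _ _ h1
  have h3 : (k - 1) * (k - 1) = 0 := by linear_combination -h2 - (k - 1) * (two0 : (2 : F) = 0)
  exact sub_eq_zero.mp (mul_self_eq_zero.mp h3)

theorem dj_inl' {a b : Fin n} (h : a ≠ b) : Dj (Sum.inl a : Ix n) (Sum.inl b) :=
  ⟨fun e => h (Sum.inl_injective e), fun e => by rw [neg_inl] at e; cases e⟩

/-- hypotheses on an element `w` of the double of `Y_1` -/
structure WY (w : G) (a : Fin n) : Prop where
  norm : w ∈ normalizer (R.T1 : Set G)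
  torus : ∀ lam : Fin n → Fˣ, lam a = 1 → Commute w (R.h lam)
  sq : ∃ s, w * w = R.y (Sum.inl a) s

variable {a b c : Fin n}

/-- **(3.l)** `[W_1, X_12] = 1` -/
theorem WY.x12 (hq : ∃ c : F, c ≠ 0 ∧ c ≠ 1) (ha : a.val = 0) (hb : b.val = 1) {w : G} (hw : R.WY w a) (v : F) :
    Commute w (R.x (Sum.inl a) (Sum.inl b) v) := by
  have hab : a ≠ b := fun e => by rw [e] at ha; omega
  have hd := dj_inl' hab
  have hn : b.val < n := b.2
  have weight : ∀ μ : Fˣ, ∀ v, R.h (one (Sum.inl b) μ) * R.x (Sum.inl a) (Sum.inl b) v *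
      (R.h (one (Sum.inl b) μ))⁻¹ = R.x (Sum.inl a) (Sum.inl b) (μ * v) := by
    intro μ v
    rw [R.h_x, ev_one_self, ev_one_ne hd, Units.val_one, one_mul]
  have htor : ∀ μ : Fˣ, Commute w (R.h (one (Sum.inl b) μ)) := fun μ => hw.torus _ (by
    have := ev_one_ne hd μ
    exact this)
  have xT : ∀ u, R.x (Sum.inl a) (Sum.inl b) u ∈ R.T1 := fun u => R.ι_mem_T1 (sx_inl_inl_mem a b u)
  obtain ⟨E, h1, h2, h3, h4⟩ := R.conj_hom hq hw.norm (R.x_add _ _) xT (fun μ hμ =>
    ⟨one (Sum.inl b) (Units.mk0 μ hμ), htor _, weight (Units.mk0 μ hμ)⟩)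
  -- `E v` is central in `U`
  have hcen : ∀ v, ∀ u ∈ Uu n F, Commute (E v) u := by
    intro v u hu
    apply R.inj
    rw [map_mul, map_mul, ← h1]
    have h5 : w⁻¹ * R.ι u * w ∈ R.T1 := by
      have := (mem_normalizer_iff.1 (inv_mem hw.norm) (R.ι u)).1 (R.ι_mem_T1 hu)
      rwa [inv_inv] at this
    have h6 := R.T1_x (i := Sum.inl a) (j := Sum.inl b) ha hb hd _ h5 v
    calc w * R.x (Sum.inl a) (Sum.inl b) v * w⁻¹ * R.ι u
        = w * (R.x (Sum.inl a) (Sum.inl b) v * (w⁻¹ * R.ι u * w)) * w⁻¹ := by group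
      _ = w * ((w⁻¹ * R.ι u * w) * R.x (Sum.inl a) (Sum.inl b) v) * w⁻¹ := by rw [h6]
      _ = _ := by group
  have hform : ∀ v, E v = sy (Sum.inl a) (ent (E v) (Sum.inl a) (neg (Sum.inl a))) *
      sx (Sum.inl a) (Sum.inl b) (ent (E v) (Sum.inl a) (neg (Sum.inl b))) ∧ Sg (E v) := by
    intro v
    obtain ⟨p, r, e⟩ := center_eq ha hb (h2 v) (hcen v)
    have s1 : Sg (sy (Sum.inl a) p : Sy n F) := Sg_sy (by rw [pos_inl]; exact a.2) p
    have s2 : Sg (sx (Sum.inl a) (Sum.inl b) r : Sy n F) := Sg_sx (by rw [pos_inl]; exact a.2) (by rw [pos_inl]; exact b.2) r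
    have q1 : pos (Sum.inl a : Ix n) < n := by rw [pos_inl]; exact a.2
    have q2 : n ≤ pos (neg (Sum.inl a) : Ix n) := by rw [pos_neg, pos_inl]; omega
    have q3 : n ≤ pos (neg (Sum.inl b) : Ix n) := by rw [pos_neg, pos_inl]; omega
    have e1 : ent (E v) (Sum.inl a) (neg (Sum.inl a)) = p := by
      rw [e, s1.ent_mul s2 q1 q2, ent_sy, ent_sx hd]
      simp [hab]
    have e2 : ent (E v) (Sum.inl a) (neg (Sum.inl b)) = r := by
      rw [e, s1.ent_mul s2 q1 q3, ent_sy, ent_sx hd]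
      simp [hab, hab.symm]
    rw [e1, e2]
    exact ⟨e, by rw [e]; exact s1.mul s2⟩
  have q1 : pos (Sum.inl a : Ix n) < n := by rw [pos_inl]; exact a.2
  have q2 : n ≤ pos (neg (Sum.inl a) : Ix n) := by rw [pos_neg, pos_inl]; omega
  have q3 : n ≤ pos (neg (Sum.inl b) : Ix n) := by rw [pos_neg, pos_inl]; omega
  have hE : ∀ (μ : Fˣ) v, sh (one (Sum.inl b) μ) * E v * (sh (one (Sum.inl b) μ))⁻¹ = E (μ * v) := fun μ v =>
    h4 _ μ (htor μ) (weight μ) v
  have f0 : ∀ v, ent (E v) (Sum.inl a) (neg (Sum.inl a)) = 0 := by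
    apply const_zero hq
    · intro u v
      rw [h3, (hform u).2.ent_mul (hform v).2 q1 q2]
    · intro μ v hμ
      have := hE (Units.mk0 μ hμ) v
      rw [Units.val_mk0] at this
      rw [← this, ent_conj_sh, ev_one_ne hd, Units.val_one, one_mul, one_mul]
  have f1 : ∀ v, ent (E v) (Sum.inl a) (neg (Sum.inl b)) = ent (E 1) (Sum.inl a) (neg (Sum.inl b)) * v := by
    intro v
    by_cases hv : v = 0
    · subst hv
      have e0 : E 0 = 1 := by
        have := h3 0 0
        rw [add_zero] at this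
        exact (left_eq_mul.1 this)
      rw [e0, ent_one, if_neg (fun e => by rw [neg_inl] at e; cases e), mul_zero]
    · have := hE (Units.mk0 v hv) 1
      rw [Units.val_mk0, mul_one] at this
      rw [← this, ent_conj_sh, ev_one_ne hd, ev_one_self, Units.val_one, Units.val_mk0, one_mul, mul_comm]
  set k := ent (E 1) (Sum.inl a) (neg (Sum.inl b)) with hk
  have h5 : ∀ v, w * R.x (Sum.inl a) (Sum.inl b) v * w⁻¹ = R.x (Sum.inl a) (Sum.inl b) (k * v) := by
    intro v
    rw [h1, (hform v).1, f0, f1, sy_zero, one_mul]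
    rfl
  have hk1 : k = 1 := by
    refine k_one (x := R.x (Sum.inl a) (Sum.inl b)) (fun u v e => R.x_inj hd e) h5 ?_
    obtain ⟨s, hs⟩ := hw.sq
    rw [hs]
    exact R.y_x_comm (ne_neg _) hd.symm.2 _ _
  have h6 := h5 v
  rw [hk1, one_mul] at h6
  show w * _ = _ * w
  calc w * R.x (Sum.inl a) (Sum.inl b) v = w * R.x (Sum.inl a) (Sum.inl b) v * w⁻¹ * w := by group
    _ = _ := by rw [h6]

/-- **(3.l)** `[W_1, X_23] = 1` -/
theorem WY.x23 (hq : ∃ c : F, c ≠ 0 ∧ c ≠ 1) (ha : a.val = 0) (hb : b.val = 1) (hc : c.val = 2) {w : G}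
    (hw : R.WY w a) (v : F) : Commute w (R.x (Sum.inl b) (Sum.inl c) v) := by
  have hab : a ≠ b := fun e => by rw [e] at ha; omega
  have hac : a ≠ c := fun e => by rw [e] at ha; omega
  have hbc : b ≠ c := fun e => by rw [e] at hb; omega
  have hdab := dj_inl' hab
  have hdac := dj_inl' hac
  have hd := dj_inl' hbc
  have weight : ∀ μ : Fˣ, ∀ v, R.h (one (Sum.inl c) μ) * R.x (Sum.inl b) (Sum.inl c) v *
      (R.h (one (Sum.inl c) μ))⁻¹ = R.x (Sum.inl b) (Sum.inl c) (μ * v) := by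
    intro μ v
    rw [R.h_x, ev_one_self, ev_one_ne hd, Units.val_one, one_mul]
  have htor : ∀ μ : Fˣ, Commute w (R.h (one (Sum.inl c) μ)) := fun μ => hw.torus _ (by
    have := ev_one_ne hdac μ
    exact this)
  have xT : ∀ u, R.x (Sum.inl b) (Sum.inl c) u ∈ R.T1 := fun u => R.ι_mem_T1 (sx_inl_inl_mem b c u)
  obtain ⟨E, h1, h2, h3, h4⟩ := R.conj_hom hq hw.norm (R.x_add _ _) xT (fun μ hμ =>
    ⟨one (Sum.inl c) (Units.mk0 μ hμ), htor _, weight (Units.mk0 μ hμ)⟩)
  obtain ⟨z, z0, z1⟩ := hq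
  have hcen : ∀ v, ∀ lam : Fin n → Fˣ, lam a = 1 → lam b * lam c = 1 → Commute (E v) (sh lam) := by
    intro v lam l1 l2
    have h5 := h4 lam 1 (hw.torus lam l1) (fun v => by
      rw [R.h_x]
      have : (ev lam (Sum.inl b) : F) * ev lam (Sum.inl c) = 1 := by
        rw [← Units.val_mul]
        exact congrArg Units.val l2
      rw [this]) v
    rw [one_mul] at h5
    show E v * sh lam = sh lam * E v
    calc E v * sh lam = sh lam * E v * (sh lam)⁻¹ * sh lam := by rw [h5]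
      _ = sh lam * E v := by group
  have q1 : pos (Sum.inl a : Ix n) < n := by rw [pos_inl]; exact a.2
  have q1' : pos (Sum.inl b : Ix n) < n := by rw [pos_inl]; exact b.2
  have q2 : n ≤ pos (neg (Sum.inl a) : Ix n) := by rw [pos_neg, pos_inl]; omega
  have q3 : n ≤ pos (neg (Sum.inl c) : Ix n) := by rw [pos_neg, pos_inl]; omega
  have hform : ∀ v, E v = sy (Sum.inl a) (ent (E v) (Sum.inl a) (neg (Sum.inl a))) *
      sx (Sum.inl b) (Sum.inl c) (ent (E v) (Sum.inl b) (neg (Sum.inl c))) ∧ Sg (E v) := by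
    intro v
    obtain ⟨p, r, e⟩ := torus_yx (z := Units.mk0 z z0) (fun e => z1 (congrArg Units.val e)) hab hac hbc (h2 v)
      (hcen v)
    have s1 : Sg (sy (Sum.inl a) p : Sy n F) := Sg_sy (by rw [pos_inl]; exact a.2) p
    have s2 : Sg (sx (Sum.inl b) (Sum.inl c) r : Sy n F) :=
      Sg_sx (by rw [pos_inl]; exact b.2) (by rw [pos_inl]; exact c.2) r
    have e1 : ent (E v) (Sum.inl a) (neg (Sum.inl a)) = p := by
      rw [e, s1.ent_mul s2 q1 q2, ent_sy, ent_sx hd]
      simp [hab, hac]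
    have e2 : ent (E v) (Sum.inl b) (neg (Sum.inl c)) = r := by
      rw [e, s1.ent_mul s2 q1' q3, ent_sy, ent_sx hd]
      simp [hab.symm, hbc, hbc.symm]
    rw [e1, e2]
    exact ⟨e, by rw [e]; exact s1.mul s2⟩
  have hE : ∀ (μ : Fˣ) v, sh (one (Sum.inl c) μ) * E v * (sh (one (Sum.inl c) μ))⁻¹ = E (μ * v) := fun μ v =>
    h4 _ μ (htor μ) (weight μ) v
  have f0 : ∀ v, ent (E v) (Sum.inl a) (neg (Sum.inl a)) = 0 := by
    apply const_zero ⟨z, z0, z1⟩
    · intro u v
      rw [h3, (hform u).2.ent_mul (hform v).2 q1 q2]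
    · intro μ v hμ
      have := hE (Units.mk0 μ hμ) v
      rw [Units.val_mk0] at this
      rw [← this, ent_conj_sh, ev_one_ne hdac, Units.val_one, one_mul, one_mul]
  have f1 : ∀ v, ent (E v) (Sum.inl b) (neg (Sum.inl c)) = ent (E 1) (Sum.inl b) (neg (Sum.inl c)) * v := by
    intro v
    by_cases hv : v = 0
    · subst hv
      have e0 : E 0 = 1 := by
        have := h3 0 0
        rw [add_zero] at this
        exact (left_eq_mul.1 this)
      rw [e0, ent_one, if_neg (fun e => by rw [neg_inl] at e; cases e), mul_zero]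
    · have := hE (Units.mk0 v hv) 1
      rw [Units.val_mk0, mul_one] at this
      rw [← this, ent_conj_sh, ev_one_ne hd, ev_one_self, Units.val_one, Units.val_mk0, one_mul, mul_comm]
  set k := ent (E 1) (Sum.inl b) (neg (Sum.inl c)) with hk
  have h5 : ∀ v, w * R.x (Sum.inl b) (Sum.inl c) v * w⁻¹ = R.x (Sum.inl b) (Sum.inl c) (k * v) := by
    intro v
    rw [h1, (hform v).1, f0, f1, sy_zero, one_mul]
    rfl
  have hk1 : k = 1 := by
    refine k_one (x := R.x (Sum.inl b) (Sum.inl c)) (fun u v e => R.x_inj hd e) h5 ?_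
    obtain ⟨s, hs⟩ := hw.sq
    rw [hs]
    exact R.y_x_comm hdab.symm.2 hdac.symm.2 _ _
  have h6 := h5 v
  rw [hk1, one_mul] at h6
  show w * _ = _ * w
  calc w * R.x (Sum.inl b) (Sum.inl c) v = w * R.x (Sum.inl b) (Sum.inl c) v * w⁻¹ * w := by group
    _ = _ := by rw [h6]

/-- **(3.l)** `w y_2(v²) w⁻¹ = y_2(v²) x_12(θ v)` -/
theorem WY.y2 [Finite F] (hq : ∃ c : F, c ≠ 0 ∧ c ≠ 1) (ha : a.val = 0) (hb : b.val = 1) (hc : c.val = 2) {w : G}
    (hw : R.WY w a) : ∃ θ, ∀ v, w * R.y (Sum.inl b) (v ^ 2) * w⁻¹ =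
      R.y (Sum.inl b) (v ^ 2) * R.x (Sum.inl a) (Sum.inl b) (θ * v) := by
  have hab : a ≠ b := fun e => by rw [e] at ha; omega
  have hac : a ≠ c := fun e => by rw [e] at ha; omega
  have hbc : b ≠ c := fun e => by rw [e] at hb; omega
  have hd := dj_inl' hab
  have hdac := dj_inl' hac
  have hdbc := dj_inl' hbc
  have weight : ∀ μ : Fˣ, ∀ v, R.h (one (Sum.inl b) μ) * R.y (Sum.inl b) v *
      (R.h (one (Sum.inl b) μ))⁻¹ = R.y (Sum.inl b) ((μ : F) ^ 2 * v) := by
    intro μ v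
    rw [R.h_y, ev_one_self]
  have htor : ∀ μ : Fˣ, Commute w (R.h (one (Sum.inl b) μ)) := fun μ => hw.torus _ (by
    have := ev_one_ne hd μ
    exact this)
  have htor' : ∀ μ : Fˣ, Commute w (R.h (one (Sum.inl c) μ)) := fun μ => hw.torus _ (by
    have := ev_one_ne hdac μ
    exact this)
  have xT : ∀ u, R.y (Sum.inl b) u ∈ R.T1 := fun u => R.ι_mem_T1 (sy_inl_mem b u)
  have hroot : ∀ μ : Fˣ, ∃ ν : Fˣ, ν ^ 2 = μ := fun μ => by
    obtain ⟨lam, hl⟩ := chiy_surj (n := n) (F := F) (Sum.inl b) μ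
    exact ⟨ev lam (Sum.inl b), by rw [pow_two]; exact hl⟩
  obtain ⟨E, h1, h2, h3, h4⟩ := R.conj_hom hq hw.norm (R.y_add _) xT (fun μ hμ => by
    obtain ⟨ν, hν⟩ := hroot (Units.mk0 μ hμ)
    refine ⟨one (Sum.inl b) ν, htor _, fun v => ?_⟩
    rw [weight]
    have : (ν : F) ^ 2 = μ := by rw [← Units.val_pow_eq_pow_val, hν]; rfl
    rw [this])
  obtain ⟨z, z0, z1⟩ := hq
  have q1 : pos (Sum.inl a : Ix n) < n := by rw [pos_inl]; exact a.2
  have q1' : pos (Sum.inl b : Ix n) < n := by rw [pos_inl]; exact b.2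
  have q2 : n ≤ pos (neg (Sum.inl a) : Ix n) := by rw [pos_neg, pos_inl]; omega
  have q2' : n ≤ pos (neg (Sum.inl b) : Ix n) := by rw [pos_neg, pos_inl]; omega
  have q3 : n ≤ pos (neg (Sum.inl c) : Ix n) := by rw [pos_neg, pos_inl]; omega
  -- `E v` is in the second centre
  have hcen : ∀ v, ∀ u ∈ Uu n F, ∃ x y : F, E v * u * (E v)⁻¹ * u⁻¹ =
      sy (Sum.inl a) x * sx (Sum.inl a) (Sum.inl b) y := by
    intro v u hu
    have h5 : w⁻¹ * R.ι u * w ∈ R.T1 := by
      have := (mem_normalizer_iff.1 (inv_mem hw.norm) (R.ι u)).1 (R.ι_mem_T1 hu)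
      rwa [inv_inv] at this
    -- the commutator of `y_2` with an element of `T₁`
    have h6 : ∃ x y : F, R.y (Sum.inl b) v * (w⁻¹ * R.ι u * w) * (R.y (Sum.inl b) v)⁻¹ * (w⁻¹ * R.ι u * w)⁻¹ =
        R.x (Sum.inl a) (Sum.inl b) y * R.y (Sum.inl a) x := by
      obtain ⟨B, hB, h7⟩ := h5
      have h8 := com_sy hB (i := Sum.inl a) (j := Sum.inl b) ha hb hd v
      have h9 : R.y (Sum.inl b) v * R.ι B * (R.y (Sum.inl b) v)⁻¹ * (R.ι B)⁻¹ =
          R.x (Sum.inl a) (Sum.inl b) (v * ent B (Sum.inl a) (Sum.inl b)) *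
            R.y (Sum.inl a) (v * ent B (Sum.inl a) (Sum.inl b) ^ 2) := by
        have := congrArg R.ι h8
        simp only [map_mul, map_inv] at this
        exact this
      refine ⟨v * ent B (Sum.inl a) (Sum.inl b) ^ 2, v * ent B (Sum.inl a) (Sum.inl b), ?_⟩
      rcases h7 with h7 | h7
      · rw [h7]; exact h9
      · rw [h7, ← h9]
        have e1 := (R.y_t (Sum.inl b) v).eq
        have e2 := ((R.y_t (Sum.inl b) v).inv_left).eq
        calc R.y (Sum.inl b) v * (R.t * R.ι B) * (R.y (Sum.inl b) v)⁻¹ * (R.t * R.ι B)⁻¹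
            = (R.y (Sum.inl b) v * R.t) * R.ι B * (R.y (Sum.inl b) v)⁻¹ * (R.ι B)⁻¹ * R.t⁻¹ := by group
          _ = R.t * (R.y (Sum.inl b) v * R.ι B * (R.y (Sum.inl b) v)⁻¹ * (R.ι B)⁻¹) * R.t⁻¹ := by rw [e1]; group
          _ = _ := by
            have e3 : Commute R.t (R.y (Sum.inl b) v * R.ι B * (R.y (Sum.inl b) v)⁻¹ * (R.ι B)⁻¹) := by
              have c1 := (R.y_t (Sum.inl b) v).symm
              have c2 := (R.comm B).symm
              exact ((c1.mul_right c2).mul_right c1.inv_right).mul_right c2.inv_right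
            rw [e3.eq]; group
    obtain ⟨x, y, h6⟩ := h6
    -- conjugate by `w`: central
    have h7 : ∀ u' ∈ Uu n F, Commute (E v * u * (E v)⁻¹ * u⁻¹) u' := by
      intro u' hu'
      apply R.inj
      have e1 : R.ι (E v * u * (E v)⁻¹ * u⁻¹) = w * (R.x (Sum.inl a) (Sum.inl b) y * R.y (Sum.inl a) x) * w⁻¹ := by
        rw [← h6]
        simp only [map_mul, map_inv]
        rw [← h1]; group
      rw [map_mul R.ι (E v * u * (E v)⁻¹ * u⁻¹) u', map_mul R.ι u', e1]
      have h8 : w⁻¹ * R.ι u' * w ∈ R.T1 := by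
        have := (mem_normalizer_iff.1 (inv_mem hw.norm) (R.ι u')).1 (R.ι_mem_T1 hu')
        rwa [inv_inv] at this
      have h9 := R.T1_x (i := Sum.inl a) (j := Sum.inl b) ha hb hd _ h8 y
      have h10 := R.T1_y (i := Sum.inl a) ha _ h8 x
      calc w * (R.x (Sum.inl a) (Sum.inl b) y * R.y (Sum.inl a) x) * w⁻¹ * R.ι u'
          = w * (R.x (Sum.inl a) (Sum.inl b) y * (R.y (Sum.inl a) x * (w⁻¹ * R.ι u' * w))) * w⁻¹ := by group
        _ = w * (R.x (Sum.inl a) (Sum.inl b) y * (w⁻¹ * R.ι u' * w) * R.y (Sum.inl a) x) * w⁻¹ := by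
            rw [← h10]; group
        _ = w * ((w⁻¹ * R.ι u' * w) * R.x (Sum.inl a) (Sum.inl b) y * R.y (Sum.inl a) x) * w⁻¹ := by rw [← h9]
        _ = _ := by group
    have h8 : E v * u * (E v)⁻¹ * u⁻¹ ∈ Uu n F :=
      mul_mem (mul_mem (mul_mem (h2 v) hu) (inv_mem (h2 v))) (inv_mem hu)
    exact center_eq ha hb h8 h7
  -- torus
  have hE : ∀ (μ : Fˣ) v, sh (one (Sum.inl b) μ) * E v * (sh (one (Sum.inl b) μ))⁻¹ = E ((μ : F) ^ 2 * v) := fun μ v =>
    h4 _ _ (htor μ) (weight μ) v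
  have hE' : ∀ (μ : Fˣ) v, sh (one (Sum.inl c) μ) * E v * (sh (one (Sum.inl c) μ))⁻¹ = E v := fun μ v => by
    have := h4 (one (Sum.inl c) μ) 1 (htor' μ) (fun v => by
      rw [R.h_y, ev_one_ne hdbc, Units.val_one, one_pow]) v
    rwa [one_mul] at this
  have hform : ∀ v, E v = sy (Sum.inl a) (ent (E v) (Sum.inl a) (neg (Sum.inl a))) *
      sx (Sum.inl a) (Sum.inl b) (ent (E v) (Sum.inl a) (neg (Sum.inl b))) *
      sy (Sum.inl b) (ent (E v) (Sum.inl b) (neg (Sum.inl b))) ∧ Sg (E v) := by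
    intro v
    obtain ⟨p, r, s, y, e⟩ := second_center_eq ha hb hc (h2 v) (hcen v)
    have s1 : Sg (sy (Sum.inl a) p : Sy n F) := Sg_sy (by rw [pos_inl]; exact a.2) p
    have s2 : Sg (sx (Sum.inl a) (Sum.inl b) r : Sy n F) :=
      Sg_sx (by rw [pos_inl]; exact a.2) (by rw [pos_inl]; exact b.2) r
    have s3 : Sg (sx (Sum.inl a) (Sum.inl c) s : Sy n F) :=
      Sg_sx (by rw [pos_inl]; exact a.2) (by rw [pos_inl]; exact c.2) s
    have s4 : Sg (sy (Sum.inl b) y : Sy n F) := Sg_sy (by rw [pos_inl]; exact b.2) y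
    have e1 : ent (E v) (Sum.inl a) (neg (Sum.inl a)) = p := by
      rw [e, ((s1.mul s2).mul s3).ent_mul s4 q1 q2, (s1.mul s2).ent_mul s3 q1 q2, s1.ent_mul s2 q1 q2, ent_sy,
        ent_sx hd, ent_sx hdac, ent_sy]
      simp [hab, hac]
    have e2 : ent (E v) (Sum.inl a) (neg (Sum.inl b)) = r := by
      rw [e, ((s1.mul s2).mul s3).ent_mul s4 q1 q2', (s1.mul s2).ent_mul s3 q1 q2', s1.ent_mul s2 q1 q2', ent_sy,
        ent_sx hd, ent_sx hdac, ent_sy]
      simp [hab, hab.symm, hac, hbc]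
    have e3 : ent (E v) (Sum.inl a) (neg (Sum.inl c)) = s := by
      rw [e, ((s1.mul s2).mul s3).ent_mul s4 q1 q3, (s1.mul s2).ent_mul s3 q1 q3, s1.ent_mul s2 q1 q3, ent_sy,
        ent_sx hd, ent_sx hdac, ent_sy]
      simp [hab, hac, hac.symm, hbc.symm]
    have e4 : ent (E v) (Sum.inl b) (neg (Sum.inl b)) = y := by
      rw [e, ((s1.mul s2).mul s3).ent_mul s4 q1' q2', (s1.mul s2).ent_mul s3 q1' q2', s1.ent_mul s2 q1' q2', ent_sy,
        ent_sx hd, ent_sx hdac, ent_sy]
      simp [hab.symm, hbc]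
    -- `s = 0`
    have hs : s = 0 := by
      have h5 := hE' (Units.mk0 z z0) v
      have h6 := congrArg (fun A => ent A (Sum.inl a) (neg (Sum.inl c))) h5
      simp only [ent_conj_sh, ev_one_ne hdac, ev_one_self, Units.val_one, Units.val_mk0, one_mul, e3] at h6
      have h7 : (z - 1) * s = 0 := by linear_combination h6
      exact (mul_eq_zero.1 h7).resolve_left (sub_ne_zero.2 z1)
    rw [hs, sx_zero, mul_one] at e
    rw [e1, e2, e4]
    exact ⟨e, by rw [e]; exact (s1.mul s2).mul s4⟩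
  have f0 : ∀ v, ent (E v) (Sum.inl a) (neg (Sum.inl a)) = 0 := by
    apply const_zero ⟨z, z0, z1⟩
    · intro u v
      rw [h3, (hform u).2.ent_mul (hform v).2 q1 q2]
    · intro μ v hμ
      obtain ⟨ν, hν⟩ := hroot (Units.mk0 μ hμ)
      have hν' : (ν : F) ^ 2 = μ := by rw [← Units.val_pow_eq_pow_val, hν]; rfl
      rw [← hν', ← hE, ent_conj_sh, ev_one_ne hd, Units.val_one, one_mul, one_mul]
  have e0 : E 0 = 1 := by
    have := h3 0 0
    rw [add_zero] at this
    exact (left_eq_mul.1 this)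
  have f1 : ∀ v, ent (E (v ^ 2)) (Sum.inl a) (neg (Sum.inl b)) = ent (E 1) (Sum.inl a) (neg (Sum.inl b)) * v := by
    intro v
    by_cases hv : v = 0
    · subst hv
      rw [zero_pow two_ne_zero, e0, ent_one, if_neg (fun e => by rw [neg_inl] at e; cases e), mul_zero]
    · have := hE (Units.mk0 v hv) 1
      rw [Units.val_mk0, mul_one] at this
      rw [← this, ent_conj_sh, ev_one_ne hd, ev_one_self, Units.val_one, Units.val_mk0, one_mul, mul_comm]
  have f2 : ∀ v, ent (E v) (Sum.inl b) (neg (Sum.inl b)) = ent (E 1) (Sum.inl b) (neg (Sum.inl b)) * v := by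
    intro v
    by_cases hv : v = 0
    · subst hv
      rw [e0, ent_one, if_neg (fun e => by rw [neg_inl] at e; cases e), mul_zero]
    · obtain ⟨ν, hν⟩ := hroot (Units.mk0 v hv)
      have hν' : (ν : F) ^ 2 = v := by rw [← Units.val_pow_eq_pow_val, hν]; rfl
      have := hE ν 1
      rw [mul_one] at this
      rw [← hν', ← this, ent_conj_sh, ev_one_self]; ring
  set θ := ent (E 1) (Sum.inl a) (neg (Sum.inl b)) with hθ
  set k := ent (E 1) (Sum.inl b) (neg (Sum.inl b)) with hk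
  -- `k = 1`
  obtain ⟨s, hs⟩ := hw.sq
  have hk1 : k = 1 := by
    have h5 : Commute (w * w) (R.y (Sum.inl b) 1) := by
      rw [hs]; exact R.y_comm hd.symm.2 _ _
    have hx := hw.x12 R ⟨z, z0, z1⟩ ha hb
    -- `w² y_2(1) w⁻²`
    have h6 : w * R.y (Sum.inl b) 1 * w⁻¹ = R.x (Sum.inl a) (Sum.inl b) θ * R.y (Sum.inl b) k := by
      rw [h1, (hform 1).1, f0, sy_zero, one_mul, map_mul]; rfl
    have h7 : R.y (Sum.inl b) 1 = R.x (Sum.inl a) (Sum.inl b) θ * R.ι (E k) := by
      calc R.y (Sum.inl b) 1 = (w * w) * R.y (Sum.inl b) 1 * (w * w)⁻¹ := by rw [h5.eq]; group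
        _ = w * (w * R.y (Sum.inl b) 1 * w⁻¹) * w⁻¹ := by group
        _ = (w * R.x (Sum.inl a) (Sum.inl b) θ) * w⁻¹ * (w * R.y (Sum.inl b) k * w⁻¹) := by rw [h6]; group
        _ = _ := by rw [(hx θ).eq, h1]; group
    have h8 : (sy (Sum.inl b) 1 : Sy n F) = sx (Sum.inl a) (Sum.inl b) θ * E k := by
      apply R.inj
      rw [map_mul]; exact h7
    have h9 := congrArg (fun A => ent A (Sum.inl b) (neg (Sum.inl b))) h8
    have s2 : Sg (sx (Sum.inl a) (Sum.inl b) θ : Sy n F) :=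
      Sg_sx (by rw [pos_inl]; exact a.2) (by rw [pos_inl]; exact b.2) θ
    simp only [s2.ent_mul (hform k).2 q1' q2', f2, ent_sy, ent_sx hd] at h9
    simp [hab.symm] at h9
    have h10 : (k - 1) * (k - 1) = 0 := by linear_combination -h9 - (k - 1) * (two0 : (2 : F) = 0)
    exact sub_eq_zero.mp (mul_self_eq_zero.mp h10)
  refine ⟨θ, fun v => ?_⟩
  rw [h1, (hform _).1, f0, f1, f2, hk1, sy_zero, one_mul, one_mul, map_mul]
  exact (R.y_x_comm hd.2 (ne_neg _) _ _).eq.symm

/-! ### The structure `DL` -/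

section DLsec

variable [Finite F]

/-- **Section 3 for the long root groups**: the doubles of the long root groups. -/
theorem exists_DL_V [Finite G] (hn : 3 ≤ n) (hq : ∃ c : F, c ≠ 0 ∧ c ≠ 1)
    (fus : ∀ u, ∃ g ∈ normalizer (R.T1 : Set G),
      (∀ y, (∃ v, y = R.y (Sum.inl ⟨0, by omega⟩) v) ↔ ∃ v, g * y * g⁻¹ = R.y (Sum.inl ⟨0, by omega⟩) v) ∧
      g * R.t * g⁻¹ = R.t * R.y (Sum.inl ⟨0, by omega⟩) u) : ∃ γ, ∃ D : DL R γ, D.V = R.V := by
  set a : Fin n := ⟨0, by omega⟩ with ha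
  set b : Fin n := ⟨1, by omega⟩ with hb
  set c : Fin n := ⟨2, by omega⟩ with hc
  have ha0 : a.val = 0 := rfl
  have hb1 : b.val = 1 := rfl
  have hc2 : c.val = 2 := rfl
  have hab : a ≠ b := fun e => by rw [e] at ha0; omega
  have hac : a ≠ c := fun e => by rw [e] at ha0; omega
  have hbc : b ≠ c := fun e => by rw [e] at hb1; omega
  have hmv := R.mvY hn hq (i := Sum.inl a) rfl fus
  have hMa : R.MvY (Sum.inl a) := fun u => by
    obtain ⟨g, -, hg⟩ := hmv u
    exact ⟨g, hg⟩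
  have hM : ∀ i, R.MvY i := R.MvY_all hMa
  have L : ∀ i, Loc R.t (R.y i) R.h (chiy i) := fun i => R.locY hn hq (hM i)
  have hnorm := R.V_norm hn hq (i := Sum.inl a) rfl hmv
  have hsq : ∀ x : F, ∃ y, y ^ 2 = x := by
    intro x
    by_cases hx : x = 0
    · exact ⟨0, by rw [hx, zero_pow two_ne_zero]⟩
    · obtain ⟨lam, hl⟩ := chiy_surj (n := n) (F := F) (Sum.inl a) (Units.mk0 x hx)
      refine ⟨ev lam (Sum.inl a), ?_⟩
      rw [pow_two, ← Units.val_mul]
      exact congrArg Units.val hl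
  have WYof : ∀ w ∈ R.V (Sum.inl a), R.WY w a := by
    intro w hw
    obtain ⟨u, hu⟩ := (L _).dbl_bs hw
    refine ⟨hnorm hw, fun lam hl => hu.1.1 lam ?_, hu.2⟩
    have : ev lam (Sum.inl a) = 1 := hl
    rw [chiy_apply, this, one_mul]
  -- transport by the Weyl group
  have back : ∀ (s : W n) {i : Ix n} {g : G}, g ∈ R.V (s.1 i) → (R.w s)⁻¹ * g * R.w s ∈ R.V i := by
    intro s i g hg
    have h1 := R.V_w s⁻¹ hg
    rw [map_inv, inv_inv] at h1
    have h2 : (s⁻¹).1 (s.1 i) = i := perm_inv_apply_self s.1 i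
    rwa [h2] at h1
  have inter : ∀ (m : G) {p q r : G}, p * q * p⁻¹ = r → (m * p * m⁻¹) * (m * q * m⁻¹) * (m * p * m⁻¹)⁻¹ = m * r * m⁻¹ := by
    intro m p q r h
    rw [← h]; group
  -- `[V_i, X_kl] = 1`
  have cx12 : ∀ i k, Dj i k → ∀ g ∈ R.V i, ∀ v, g * R.x i k v = R.x i k v * g := by
    intro i k hik g hg v
    obtain ⟨s, h1, h2⟩ := exists_W2 (dj_inl' hab) hik
    subst h1 h2
    have h3 := (WYof _ (back s hg)).x12 R hq ha0 hb1 v
    have h4 := R.w_x s (Sum.inl a) (Sum.inl b) v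
    rw [← h4]
    have h5 := h3.eq
    calc g * (R.w s * R.x (Sum.inl a) (Sum.inl b) v * (R.w s)⁻¹)
        = R.w s * (((R.w s)⁻¹ * g * R.w s) * R.x (Sum.inl a) (Sum.inl b) v) * (R.w s)⁻¹ := by group
      _ = _ := by rw [h5]; group
  have cx23 : ∀ i k l, Dj i k → Dj i l → Dj k l → ∀ g ∈ R.V i, ∀ v, g * R.x k l v = R.x k l v * g := by
    intro i k l hik hil hkl g hg v
    obtain ⟨s, h1, h2, h3⟩ := exists_W3 (dj_inl' hab) (dj_inl' hac) (dj_inl' hbc) hik hil hkl
    subst h1 h2 h3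
    have h3 := (WYof _ (back s hg)).x23 R hq ha0 hb1 hc2 v
    have h4 := R.w_x s (Sum.inl b) (Sum.inl c) v
    rw [← h4]
    have h5 := h3.eq
    calc g * (R.w s * R.x (Sum.inl b) (Sum.inl c) v * (R.w s)⁻¹)
        = R.w s * (((R.w s)⁻¹ * g * R.w s) * R.x (Sum.inl b) (Sum.inl c) v) * (R.w s)⁻¹ := by group
      _ = _ := by rw [h5]; group
  -- the constant
  obtain ⟨w1, hw1, hb1'⟩ := (L (Sum.inl a)).exists_dbl 1
  obtain ⟨γ, hγ⟩ := (WYof w1 hw1).y2 R hq ha0 hb1 hc2
  have par0 : ∀ g ∈ R.V (Sum.inl a), ∀ u, Mv R.t (R.y (Sum.inl a)) R.h (chiy (Sum.inl a)) g (u ^ 2) → ∀ v,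
      g * R.y (Sum.inl b) (v ^ 2) * g⁻¹ = R.y (Sum.inl b) (v ^ 2) * R.x (Sum.inl a) (Sum.inl b) (γ * u * v) := by
    intro g hg u hu v
    by_cases hu0 : u = 0
    · subst hu0
      rw [zero_pow two_ne_zero] at hu
      obtain ⟨s, rfl⟩ := (L _).dbl_zero hg hu
      have e := (R.y_comm (i := Sum.inl a) (j := Sum.inl b) (dj_inl' hab).symm.2 s (v ^ 2)).eq
      rw [e, mul_zero, zero_mul, R.x_zero, mul_one]; group
    · set lam := one (Sum.inl a) (Units.mk0 u hu0) with hlam
      have hg2 : R.h lam * w1 * (R.h lam)⁻¹ ∈ R.V (Sum.inl a) := (L _).dbl_h hw1 lam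
      have hm2 := (L _).mv_h hb1'.1 lam
      have e1 : ((chiy (Sum.inl a) lam : Fˣ) : F) * 1 = u ^ 2 := by
        rw [mul_one, chiy_apply, hlam, ev_one_self, Units.val_mul, Units.val_mk0, pow_two]
      rw [e1] at hm2
      -- `g = h w₁ h⁻¹ y_a(s)`
      have h1 := (L _).mv_mul ((L _).mv_inv hm2) hu
      rw [CharTwo.add_self_eq_zero] at h1
      obtain ⟨s, hs⟩ := (L _).dbl_zero (mul_mem (inv_mem hg2) hg) h1
      have hg3 : g = R.h lam * w1 * (R.h lam)⁻¹ * R.y (Sum.inl a) s := by rw [← hs]; group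
      have e2 := (R.y_comm (i := Sum.inl a) (j := Sum.inl b) (dj_inl' hab).symm.2 s (v ^ 2)).eq
      have e3 : (R.h lam)⁻¹ * R.y (Sum.inl b) (v ^ 2) * R.h lam = R.y (Sum.inl b) (v ^ 2) := by
        have := R.h_y lam⁻¹ (Sum.inl b) (v ^ 2)
        have e4 : ev lam⁻¹ (Sum.inl b) = 1 := by
          have e5 : ev lam⁻¹ (Sum.inl b) = (ev lam (Sum.inl b))⁻¹ := map_inv (evM (Sum.inl b)) lam
          rw [e5, hlam, ev_one_ne (dj_inl' hab).symm, inv_one]
        rwa [map_inv, inv_inv, e4, Units.val_one, one_pow, one_mul] at this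
      have e5 : R.h lam * R.y (Sum.inl b) (v ^ 2) * (R.h lam)⁻¹ = R.y (Sum.inl b) (v ^ 2) := by
        rw [R.h_y, hlam, ev_one_ne (dj_inl' hab).symm, Units.val_one, one_pow, one_mul]
      have e6 : R.h lam * R.x (Sum.inl a) (Sum.inl b) (γ * v) * (R.h lam)⁻¹ =
          R.x (Sum.inl a) (Sum.inl b) (γ * u * v) := by
        rw [R.h_x, hlam, ev_one_ne (dj_inl' hab).symm, ev_one_self, Units.val_one, Units.val_mk0, mul_one]
        congr 1; ring
      rw [hg3]
      calc R.h lam * w1 * (R.h lam)⁻¹ * R.y (Sum.inl a) s * R.y (Sum.inl b) (v ^ 2) *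
            (R.h lam * w1 * (R.h lam)⁻¹ * R.y (Sum.inl a) s)⁻¹
          = R.h lam * w1 * (R.h lam)⁻¹ * (R.y (Sum.inl a) s * R.y (Sum.inl b) (v ^ 2)) * (R.y (Sum.inl a) s)⁻¹ *
            R.h lam * w1⁻¹ * (R.h lam)⁻¹ := by group
        _ = R.h lam * (w1 * ((R.h lam)⁻¹ * R.y (Sum.inl b) (v ^ 2) * R.h lam) * w1⁻¹) * (R.h lam)⁻¹ := by
            rw [e2]; group
        _ = (R.h lam * R.y (Sum.inl b) (v ^ 2) * (R.h lam)⁻¹) *
            (R.h lam * R.x (Sum.inl a) (Sum.inl b) (γ * v) * (R.h lam)⁻¹) := by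
            rw [e3, hγ]; group
        _ = _ := by rw [e5, e6]
  refine ⟨γ, {
    V := R.V
    y_mem := fun i u => (L i).x_mem_dbl u
    ht := fun i g hg => by
      obtain ⟨u, hu⟩ := (L i).dbl_bs hg
      exact ⟨u, (L i).tgt hu.1⟩
    onto := fun i u => by
      obtain ⟨g, hg, hu⟩ := (L i).exists_dbl u
      exact ⟨g, hg, (L i).tgt hu.1⟩
    ker := fun i g hg h => by
      obtain ⟨u, hu⟩ := (L i).dbl_bs hg
      have h1 : u = 0 := (L i).of_tgt hu.1 (by rw [h, R.y_zero, mul_one])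
      subst h1
      exact (L i).dbl_zero hg hu.1
    comm := fun i g hg g' hg' => by
      obtain ⟨w, -, h2, h3, -, h5, -⟩ := (L i).exists_w hsq
      obtain ⟨p, r, rfl⟩ := (h2 g).1 hg
      obtain ⟨p', r', rfl⟩ := (h2 g').1 hg'
      have c1 : Commute (w p) (w p') := h5 p p'
      have c2 : Commute (w p) (R.y i r') := (h3 p).1.2.1 r'
      have c3 : Commute (w p') (R.y i r) := (h3 p').1.2.1 r
      have c4 : Commute (R.y i r) (R.y i r') := (L i).xx r r'
      exact ((c1.mul_right c2).mul_left (c3.symm.mul_right c4)).eq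
    torus := fun i g hg lam => (L i).dbl_h hg lam
    torus_one := fun i g hg lam hl => by
      obtain ⟨u, hu⟩ := (L i).dbl_bs hg
      exact (hu.1.1 lam (by rw [chiy_apply, hl, one_mul])).eq.symm
    weyl := fun i g hg s => R.V_w s hg
    cx := fun i g hg k l v hk hl => by
      by_cases hkl : Dj k l
      · by_cases h1 : k = i
        · subst h1
          exact cx12 k l hkl g hg v
        by_cases h2 : l = i
        · subst h2
          rw [R.x_symm]
          exact cx12 l k hkl.symm g hg v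
        · have d1 : Dj i k := ⟨fun e => h1 e.symm, fun e => hk (by rw [e, neg_neg])⟩
          have d2 : Dj i l := ⟨fun e => h2 e.symm, fun e => hl (by rw [e, neg_neg])⟩
          exact cx23 i k l d1 d2 hkl g hg v
      · rw [R.x_of_not hkl, mul_one, one_mul]
    cy := fun i g hg v => by
      obtain ⟨u, hu⟩ := (L i).dbl_bs hg
      exact (hu.1.2.1 v).eq
    par := fun i k hik g hg u hgu v => by
      obtain ⟨s, h1, h2⟩ := exists_W2 (dj_inl' hab) hik
      subst h1 h2
      have hg' := back s hg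
      obtain ⟨u', hu'⟩ := (L _).dbl_bs hg
      have hu'' : u' = u ^ 2 := (L _).of_tgt hu'.1 hgu
      subst hu''
      have hm : Mv R.t (R.y (Sum.inl a)) R.h (chiy (Sum.inl a)) ((R.w s)⁻¹ * g * R.w s) (u ^ 2) := by
        have h3 := (R.cjgY s⁻¹ (s.1 (Sum.inl a))).mv hu'.1
        have h4 : (s⁻¹).1 (s.1 (Sum.inl a)) = Sum.inl a := perm_inv_apply_self s.1 _
        rw [map_inv, inv_inv, h4] at h3
        exact h3
      have h5 := inter (R.w s) (par0 _ hg' u hm v)
      have e1 : R.w s * ((R.w s)⁻¹ * g * R.w s) * (R.w s)⁻¹ = g := by group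
      have e2 : R.w s * (R.y (Sum.inl b) (v ^ 2) * R.x (Sum.inl a) (Sum.inl b) (γ * u * v)) * (R.w s)⁻¹ =
          R.y (s.1 (Sum.inl b)) (v ^ 2) * R.x (s.1 (Sum.inl a)) (s.1 (Sum.inl b)) (γ * u * v) := by
        rw [← R.w_y, ← R.w_x]; group
      rw [e1, e2, R.w_y] at h5
      have hd := (W_dj s).2 (dj_inl' hab)
      rw [commutatorElement_def, h5]
      have c1 := (R.y_x_comm (i := s.1 (Sum.inl b)) (j := s.1 (Sum.inl a)) (k := s.1 (Sum.inl b)) hd.2
        (ne_neg _) (v ^ 2) (γ * u * v)).eq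
      rw [c1]; group }, rfl⟩

theorem exists_DL [Finite G] (hn : 3 ≤ n) (hq : ∃ c : F, c ≠ 0 ∧ c ≠ 1)
    (fus : ∀ u, ∃ g ∈ normalizer (R.T1 : Set G),
      (∀ y, (∃ v, y = R.y (Sum.inl ⟨0, by omega⟩) v) ↔ ∃ v, g * y * g⁻¹ = R.y (Sum.inl ⟨0, by omega⟩) v) ∧
      g * R.t * g⁻¹ = R.t * R.y (Sum.inl ⟨0, by omega⟩) u) : ∃ γ, Nonempty (DL R γ) := by
  obtain ⟨γ, D, -⟩ := R.exists_DL_V hn hq fus
  exact ⟨γ, ⟨D⟩⟩

end DLsec

end Frame

end Cfsg.Agent.OddHalf.SpN

end

private theorem dce_5fe1b047fae9 : _root_.True := by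
  try have : _root_.True := by simp only [_root_.Cfsg.Agent.OddHalf.SpN.Frame.w.congr_simp]
  exact _root_.True.intro
end

-- part: OddHalf/D9/M22/CovFour
section
prune_inst 0x1008041822020000000000e0002240560001921023000151200e40068655200500af20cca00b120800a21420300068130000100210000000000000411d01a0902a42021381a10426000980b007180c00000000000000000000000000041000000000000
set_option linter.all false
open scoped Cfsg.Agent.FastGrp

-- merged: Cfsg.Agent.OddHalf.D9.CovTwo
section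

/-!
# D9: a standard component with even centre and solvable involution centralizers (rows `2.M22`, `4.M22`) (helper322)

`Fr K q z`: `z` is the involution of `R = ⟨q⟩ = C_G(K)`, `z ∈ K`, `K ⊴ C_G(z)`. `KR g`: `g ∈ KR`.

K-facts used:
* `OutTwo K`: `|Out K| ≤ 2`;
* `OrdThree K` (if `|R| ≥ 4`): if `k² ∈ Z(K)`, `k ∉ Z(K)`, then no automorphism `α` fixes all the elements of
  order 3 commuting with `k` and satisfies `α² = conj k`;
* `SqTwo z` (if `|R| = 2`);
* `OutSq z`: for every outer involutory automorphism `α` inverting the `c ∈ Z(K)` with `c² = z`: `z` is a product of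
  squares in `C_K(α)`, or some `q` has `1 ≠ q⁻¹ α(q) ∈ ⟨squares of C_K(α)⟩`.

`Fr.inner_big`, `Fr.inner_two`: `z^G ∩ KR = {z}`. `Fr.false_big`, `Fr.false_two`: the end.
-/

set_option autoImplicit false

namespace Cfsg.Agent.OddHalf.D9.CovTwo

open Subgroup Cfsg Cfsg.Agent.OddHalf.Front.FE
open Cfsg.Agent.OddHalf.D9.Kill (Ce Fx mem_Ce mem_Fx)
open scoped commutatorElement

universe u

/-! ### K-facts -/

section Facts

variable (K : Type u) [Group K]

/-- `|Out K| ≤ 2`. -/
def OutTwo : Prop := ∀ α β : MulAut K, (∀ k, α ≠ MulAut.conj k) → (∀ k, β ≠ MulAut.conj k) →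
  ∃ k, α * β = MulAut.conj k

/-- No automorphism centralizing the elements of order 3 of `C(k)` is a square root of `conj k`, `k̄` an involution of
`K/Z(K)`. -/
def OrdThree : Prop := ∀ k : K, k * k ∈ center K → k ∉ center K → ∀ α : MulAut K,
  (∀ y : K, y ^ 3 = 1 → y * k = k * y → α y = y) → (∀ x, α (α x) = k * x * k⁻¹) → False

/-- Every involution of `K/Z(K)` commutes with an element of order 3. -/
def Three : Prop := ∀ k : K, k * k ∈ center K → k ∉ center K → ∃ y : K, y ^ 3 = 1 ∧ y ≠ 1 ∧ y * k = k * y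

variable {K}

/-- K-facts for `|R| = 2`. -/
structure SqTwo (z : K) : Prop where
  /-- `z` is not a square -/
  nsq : ∀ k : K, k * k ≠ z
  /-- structure of a Sylow 2-subgroup -/
  syl : ∀ e : K, e * e = 1 → e ≠ 1 → e ≠ z → ∃ P : Sylow 2 K, (∀ p ∈ P, p * e = e * p) ∧
    (∀ p ∈ P, (∀ r ∈ P, p * r = r * p) → p = 1 ∨ p = z ∨ p = e ∨ p = e * z) ∧
    (∃ x ∈ closure {p | p ∈ P ∧ p * p = 1}, x * x = e) ∧ (∃ x ∈ P, x * x = e * z)
  /-- the squares of the lifts of outer involutions are all the same -/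
  out : ∀ α : MulAut K, α * α = 1 → (∀ k, α ≠ MulAut.conj k) → ∀ k : K, α k * k ≠ z

/-- The subgroup generated by the squares of the fixed points of `α`. -/
def SqFx (α : MulAut K) : Subgroup K := closure {w | ∃ y, α y = y ∧ w = y * y}

/-- commutators of fixed points lie in `SqFx` -/
theorem commutator_le_SqFx (α : MulAut K) : ⁅Fx α, Fx α⁆ ≤ SqFx α := by
  rw [commutator_le]
  intro a ha b hb
  have ha' : α a = a := ha
  have hb' : α b = b := hb
  have h1 : a * b * (a * b) ∈ SqFx α := Subgroup.subset_closure ⟨a * b, by rw [map_mul, ha', hb'], rfl⟩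
  have h2 : b * b ∈ SqFx α := Subgroup.subset_closure ⟨b, hb', rfl⟩
  have h3 : (b⁻¹ * a⁻¹ * b) * (b⁻¹ * a⁻¹ * b) ∈ SqFx α :=
    Subgroup.subset_closure ⟨_, by rw [map_mul, map_mul, map_inv, map_inv, ha', hb'], rfl⟩
  have h4 := mul_mem (mul_mem h1 h3) (inv_mem h2)
  have h5 : a * b * (a * b) * (b⁻¹ * a⁻¹ * b * (b⁻¹ * a⁻¹ * b)) * (b * b)⁻¹ = ⁅a, b⁆ := by
    rw [commutatorElement_def]; group
  rwa [h5] at h4

/-- K-fact for the outer involutions. -/
def OutSq (z : K) : Prop := ∀ α : MulAut K, α * α = 1 → (∀ k, α ≠ MulAut.conj k) →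
  (∀ c ∈ center K, c * c = z → α c = c⁻¹) →
  ∃ x ∈ SqFx α, x = z ∨ (x ≠ 1 ∧ ∃ q, α q = q * x)

end Facts

variable {G : Type u} [Group G]

/-- the frame -/
structure Fr (K : Subgroup G) (q z : G) : Prop extends Start0 K z q where
  zK : z ∈ K

/-- `g ∈ KR`. -/
def KR (K : Subgroup G) (q : G) (g : G) : Prop := ∃ k ∈ K, ∃ r ∈ zpowers q, g = k * r

namespace Fr

variable {K : Subgroup G} {q z : G}

theorem kr (F : Fr K q z) {k r : G} (hk : k ∈ K) (hr : r ∈ zpowers q) : k * r = r * k := F.QK r hr k hk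

theorem rr (_ : Fr K q z) {r s : G} (hr : r ∈ zpowers q) (hs : s ∈ zpowers q) : r * s = s * r := by
  obtain ⟨a, rfl⟩ := mem_zpowers_iff.1 hr
  obtain ⟨b, rfl⟩ := mem_zpowers_iff.1 hs
  rw [← zpow_add, ← zpow_add, add_comm]

theorem nrm (F : Fr K q z) {h : G} (hh : h * z = z * h) {k : G} (hk : k ∈ K) : h * k * h⁻¹ ∈ K :=
  (mem_normalizer_iff.1 (F.nK h hh) k).1 hk

theorem inv_comm {h z : G} (hh : h * z = z * h) : h⁻¹ * z = z * h⁻¹ := by
  rw [inv_mul_eq_iff_eq_mul, ← mul_assoc, hh, mul_inv_cancel_right]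

theorem mul_comm' {a b z : G} (ha : a * z = z * a) (hb : b * z = z * b) : a * b * z = z * (a * b) := by
  rw [mul_assoc, hb, ← mul_assoc, ha, mul_assoc]

theorem conj_comm {a b z : G} (ha : a * z = z * a) (hb : b * z = z * b) : a * b * a⁻¹ * z = z * (a * b * a⁻¹) :=
  mul_comm' (mul_comm' ha hb) (inv_comm ha)

/-- `C(z)` normalizes `R`. -/
theorem nrmR (F : Fr K q z) {h : G} (hh : h * z = z * h) {r : G} (hr : r ∈ zpowers q) :
    h * r * h⁻¹ ∈ zpowers q := by
  apply F.cK
  · exact conj_comm hh (F.Qt r hr)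
  · intro x hx
    have h1 : h⁻¹ * x * h ∈ K := by
      have := F.nrm (inv_comm hh) hx
      rwa [inv_inv] at this
    have h2 := F.kr h1 hr
    calc x * (h * r * h⁻¹) = h * ((h⁻¹ * x * h) * r) * h⁻¹ := by group
      _ = h * (r * (h⁻¹ * x * h)) * h⁻¹ := by rw [h2]
      _ = h * r * h⁻¹ * x := by group

/-- The automorphism of `K` induced by an element of `C(z)`. -/
def act (F : Fr K q z) {h : G} (hh : h * z = z * h) : MulAut ↥K where
  toFun k := ⟨h * k * h⁻¹, F.nrm hh k.2⟩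
  invFun k := ⟨h⁻¹ * k * h, by
    have := F.nrm (inv_comm hh) k.2
    rwa [inv_inv] at this⟩
  left_inv k := Subtype.ext (by
    change h⁻¹ * (h * k * h⁻¹) * h = k
    group)
  right_inv k := Subtype.ext (by
    change h * (h⁻¹ * k * h) * h⁻¹ = k
    group)
  map_mul' a b := Subtype.ext (by
    change h * (a * b) * h⁻¹ = h * a * h⁻¹ * (h * b * h⁻¹)
    group)

/-- an element of `C(z)` inducing an inner automorphism lies in `KR` -/
theorem KR_of_inner (F : Fr K q z) {h : G} (hh : h * z = z * h) {k : ↥K} (hk : F.act hh = MulAut.conj k) :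
    KR K q h := by
  refine ⟨k, k.2, (k : G)⁻¹ * h, ?_, by group⟩
  have hkz : (k : G) * z = z * k := F.Kt k k.2
  apply F.cK
  · exact mul_comm' (inv_comm hkz) hh
  · intro x hx
    have h1 : h * x * h⁻¹ = k * x * (k : G)⁻¹ := by
      have h0 := congrArg Subtype.val (DFunLike.congr_fun hk ⟨x, hx⟩)
      exact h0
    have h2 : h * x = k * x * (k : G)⁻¹ * h := by rw [← h1]; group
    calc x * ((k : G)⁻¹ * h) = (k : G)⁻¹ * (k * x * (k : G)⁻¹ * h) := by group
      _ = (k : G)⁻¹ * (h * x) := by rw [h2]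
      _ = (k : G)⁻¹ * h * x := by group

theorem outer (F : Fr K q z) {h : G} (hh : h * z = z * h) (hn : ¬ KR K q h) (k : ↥K) :
    F.act hh ≠ MulAut.conj k := fun h1 => hn (F.KR_of_inner hh h1)

theorem KR_mul (F : Fr K q z) {a b : G} (ha : KR K q a) (hb : KR K q b) : KR K q (a * b) := by
  obtain ⟨k, hk, r, hr, rfl⟩ := ha
  obtain ⟨l, hl, s, hs, rfl⟩ := hb
  refine ⟨k * l, K.mul_mem hk hl, r * s, mul_mem hr hs, ?_⟩
  calc k * r * (l * s) = k * (r * l) * s := by group
    _ = k * (l * r) * s := by rw [F.kr hl hr]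
    _ = k * l * (r * s) := by group

theorem KR_inv (F : Fr K q z) {a : G} (ha : KR K q a) : KR K q a⁻¹ := by
  obtain ⟨k, hk, r, hr, rfl⟩ := ha
  refine ⟨k⁻¹, K.inv_mem hk, r⁻¹, inv_mem hr, ?_⟩
  rw [F.kr hk hr, mul_inv_rev]

theorem KR_K {k : G} (hk : k ∈ K) : KR K q k := ⟨k, hk, 1, one_mem _, by rw [mul_one]⟩

/-- `KR` as a subgroup -/
def M (F : Fr K q z) : Subgroup G where
  carrier := {g | KR K q g}
  one_mem' := KR_K K.one_mem
  mul_mem' := fun ha hb => F.KR_mul ha hb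
  inv_mem' := fun ha => F.KR_inv ha

theorem mem_M (F : Fr K q z) {g : G} : g ∈ F.M ↔ KR K q g := Iff.rfl

/-- `|C(z) : KR| ≤ 2` -/
theorem two (F : Fr K q z) (hO : OutTwo ↥K) {a b : G} (ha : a * z = z * a) (hb : b * z = z * b)
    (ha' : ¬ KR K q a) (hb' : ¬ KR K q b) : KR K q (a * b) := by
  obtain ⟨k, hk⟩ := hO (F.act ha) (F.act hb) (F.outer ha ha') (F.outer hb hb')
  apply F.KR_of_inner (mul_comm' ha hb) (k := k)
  rw [← hk]
  ext x
  change a * b * x * (a * b)⁻¹ = a * (b * x * b⁻¹) * a⁻¹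
  group

theorem sq (F : Fr K q z) (hO : OutTwo ↥K) {a : G} (ha : a * z = z * a) : KR K q (a * a) := by
  by_cases h : KR K q a
  · exact F.KR_mul h h
  · exact F.two hO ha ha h h

theorem conj_sq (F : Fr K q z) (g : G) : g * z * g⁻¹ * (g * z * g⁻¹) = 1 := by
  calc g * z * g⁻¹ * (g * z * g⁻¹) = g * (z * z) * g⁻¹ := by group
    _ = 1 := by rw [F.tt]; group

theorem conj_ne_one (F : Fr K q z) (g : G) : g * z * g⁻¹ ≠ 1 := by
  intro h
  apply F.t1
  calc z = g⁻¹ * (g * z * g⁻¹) * g := by group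
    _ = 1 := by rw [h]; group

/-! ### The outer involutions -/

/-- conjugation by `g` maps the squares of `C(z) ∩ C(g⁻¹ z g)` into `KR` -/
theorem sq_conj (F : Fr K q z) (hO : OutTwo ↥K) {g x : G}
    (hx : x ∈ closure {w | ∃ y ∈ Ce z ⊓ Ce (g⁻¹ * z * g), w = y * y}) : KR K q (g * x * g⁻¹) := by
  have h2 : closure {w | ∃ y ∈ Ce z ⊓ Ce (g⁻¹ * z * g), w = y * y} ≤
      F.M.comap (MulAut.conj g).toMonoidHom := by
    rw [closure_le]
    rintro _ ⟨a, ⟨-, ha2⟩, rfl⟩
    change KR K q (g * (a * a) * g⁻¹)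
    have h3 : g * (a * a) * g⁻¹ = g * a * g⁻¹ * (g * a * g⁻¹) := by group
    rw [h3]
    apply F.sq hO
    change a * (g⁻¹ * z * g) = g⁻¹ * z * g * a at ha2
    calc g * a * g⁻¹ * z = g * (a * (g⁻¹ * z * g)) * g⁻¹ := by group
      _ = g * (g⁻¹ * z * g * a) * g⁻¹ := by rw [ha2]
      _ = z * (g * a * g⁻¹) := by group
  exact h2 hx

/-- If `z^G ∩ KR = {z}`, then no outer `e ∈ z^G ∩ C(z)` is conjugate under `K` to `e x`, `1 ≠ x` a product of squares
in `C(z) ∩ C(e)`. -/
theorem thmB (F : Fr K q z) (hO : OutTwo ↥K) (hin : ∀ g : G, KR K q (g * z * g⁻¹) → g * z * g⁻¹ = z)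
    {g x r : G} (hx : x ∈ closure {w | ∃ y ∈ Ce z ⊓ Ce (g⁻¹ * z * g), w = y * y}) (hx1 : x ≠ 1)
    (hr : g⁻¹ * z * g * r * (g⁻¹ * z * g)⁻¹ = r * x) : False := by
  have hxe2 : x * (g⁻¹ * z * g) = g⁻¹ * z * g * x := by
    have h2 : closure {w | ∃ y ∈ Ce z ⊓ Ce (g⁻¹ * z * g), w = y * y} ≤ Ce (g⁻¹ * z * g) := by
      rw [closure_le]
      rintro _ ⟨a, ⟨-, ha2⟩, rfl⟩
      exact mul_mem ha2 ha2
    exact h2 hx
  -- `g x g⁻¹ ∈ KR`
  have h1 := F.sq_conj hO hx
  -- `z (g x g⁻¹)` is a conjugate of `z`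
  have h2 : r⁻¹ * (g⁻¹ * z * g) * r = g⁻¹ * z * g * x := by
    rw [mul_inv_eq_iff_eq_mul] at hr
    rw [mul_assoc, hr, ← hxe2]
    group
  have h3 : (g * r⁻¹ * g⁻¹) * z * (g * r⁻¹ * g⁻¹)⁻¹ = z * (g * x * g⁻¹) := by
    calc (g * r⁻¹ * g⁻¹) * z * (g * r⁻¹ * g⁻¹)⁻¹ = g * (r⁻¹ * (g⁻¹ * z * g) * r) * g⁻¹ := by group
      _ = g * (g⁻¹ * z * g * x) * g⁻¹ := by rw [h2]
      _ = _ := by group
  have h4 := hin (g * r⁻¹ * g⁻¹) (by rw [h3]; exact F.KR_mul (KR_K F.zK) h1)
  rw [h3, mul_eq_left] at h4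
  apply hx1
  calc x = g⁻¹ * (g * x * g⁻¹) * g := by group
    _ = 1 := by rw [h4]; group

/-- an element of `R` with square `z` is `c` or `c⁻¹` -/
theorem root_eq [Finite G] (F : Fr K q z) {c d : G} (hc : c ∈ zpowers q) (hcc : c * c = z) (hd : d ∈ zpowers q)
    (hdd : d * d = z) : d = c ∨ d = c * z := by
  have h1 : (c⁻¹ * d) * (c⁻¹ * d) = 1 := by
    have h2 : d * c⁻¹ = c⁻¹ * d := F.rr hd (inv_mem hc)
    calc (c⁻¹ * d) * (c⁻¹ * d) = c⁻¹ * (d * c⁻¹) * d := by group
      _ = c⁻¹ * (c⁻¹ * d) * d := by rw [h2]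
      _ = (c * c)⁻¹ * (d * d) := by group
      _ = 1 := by rw [hcc, hdd]; group
  by_cases h3 : c⁻¹ * d = 1
  · left
    exact (inv_mul_eq_one.1 h3).symm
  · right
    have h4 := F.uniq (mul_mem (inv_mem hc) hd) h1 h3
    rw [← h4]; group

/-- The end of D9. -/
theorem false_of_inner [Finite G] (F : Fr K q z) (hO : OutTwo ↥K)
    (hin : ∀ g : G, KR K q (g * z * g⁻¹) → g * z * g⁻¹ = z)
    (hII : OutSq (⟨z, F.zK⟩ : ↥K)) (hne : ∃ g : G, g * z * g⁻¹ ≠ z ∧ g * z * g⁻¹ * z = z * (g * z * g⁻¹)) :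
    False := by
  obtain ⟨g, hez, hcomm⟩ := hne
  have hnK : ¬ KR K q (g * z * g⁻¹) := fun h => hez (hin g h)
  -- `e' = g⁻¹ z g`
  have hcomm' : g⁻¹ * z * g * z = z * (g⁻¹ * z * g) := by
    calc g⁻¹ * z * g * z = g⁻¹ * (z * (g * z * g⁻¹)) * g := by group
      _ = g⁻¹ * (g * z * g⁻¹ * z) * g := by rw [hcomm]
      _ = _ := by group
  have hez' : g⁻¹ * z * g ≠ z := by
    intro h1
    apply hez
    calc g * z * g⁻¹ = g * (g⁻¹ * z * g) * g⁻¹ := by rw [h1]
      _ = z := by group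
  have hnK' : ¬ KR K q (g⁻¹ * z * g) := by
    intro h
    have h1 := hin g⁻¹ (by rwa [inv_inv])
    rw [inv_inv] at h1
    exact hez' h1
  have hee' : g⁻¹ * z * g * (g⁻¹ * z * g) = 1 := by simpa using F.conj_sq g⁻¹
  have hα : F.act hcomm' * F.act hcomm' = 1 := by
    ext k
    change g⁻¹ * z * g * (g⁻¹ * z * g * k * (g⁻¹ * z * g)⁻¹) * (g⁻¹ * z * g)⁻¹ = k
    calc g⁻¹ * z * g * (g⁻¹ * z * g * k * (g⁻¹ * z * g)⁻¹) * (g⁻¹ * z * g)⁻¹
        = (g⁻¹ * z * g * (g⁻¹ * z * g)) * k * (g⁻¹ * z * g * (g⁻¹ * z * g))⁻¹ := by group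
      _ = k := by rw [hee']; group
  obtain ⟨x, hx, hx'⟩ := hII _ hα (F.outer hcomm' hnK') (by
    intro c hc hcc
    have hcc' : (c : G) * c = z := congrArg Subtype.val hcc
    have hcK : ∀ y ∈ K, y * (c : G) = c * y := fun y hy =>
      congrArg Subtype.val (mem_center_iff.1 hc ⟨y, hy⟩)
    have hcR : (c : G) ∈ zpowers q := F.cK c (F.Kt c c.2) hcK
    apply Subtype.ext
    change g⁻¹ * z * g * c * (g⁻¹ * z * g)⁻¹ = (c : G)⁻¹
    have h1 := F.nrmR hcomm' hcR
    have h2 : g⁻¹ * z * g * c * (g⁻¹ * z * g)⁻¹ * (g⁻¹ * z * g * c * (g⁻¹ * z * g)⁻¹) = z := by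
      calc g⁻¹ * z * g * c * (g⁻¹ * z * g)⁻¹ * (g⁻¹ * z * g * c * (g⁻¹ * z * g)⁻¹)
          = g⁻¹ * z * g * (c * c) * (g⁻¹ * z * g)⁻¹ := by group
        _ = g⁻¹ * z * g * z * (g⁻¹ * z * g)⁻¹ := by rw [hcc']
        _ = z := by rw [hcomm']; group
    rcases F.root_eq hcR hcc' h1 h2 with h3 | h3
    · -- `e'` commutes with `c`, so `e = (g c g⁻¹)²`
      exfalso
      apply hnK
      have h4 : (c : G) * (g⁻¹ * z * g) = g⁻¹ * z * g * c := by
        rw [mul_inv_eq_iff_eq_mul] at h3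
        exact h3.symm
      have h5 : g * c * g⁻¹ * z = z * (g * c * g⁻¹) := by
        calc g * c * g⁻¹ * z = g * (c * (g⁻¹ * z * g)) * g⁻¹ := by group
          _ = g * (g⁻¹ * z * g * c) * g⁻¹ := by rw [h4]
          _ = z * (g * c * g⁻¹) := by group
      have h6 := F.sq hO h5
      have h7 : g * c * g⁻¹ * (g * c * g⁻¹) = g * z * g⁻¹ := by
        calc g * c * g⁻¹ * (g * c * g⁻¹) = g * (c * c) * g⁻¹ := by group
          _ = _ := by rw [hcc']
      rwa [h7] at h6
    · rw [h3]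
      have h4 : (c : G) * (c * z) = 1 := by
        rw [← mul_assoc, hcc', F.tt]
      exact eq_inv_of_mul_eq_one_right h4)
  have hsub : (SqFx (F.act hcomm')).map K.subtype ≤
      closure {w | ∃ y ∈ Ce z ⊓ Ce (g⁻¹ * z * g), w = y * y} := by
    rw [SqFx, MonoidHom.map_closure]
    apply Subgroup.closure_mono
    rintro _ ⟨_, ⟨y, hy, rfl⟩, rfl⟩
    refine ⟨y, ⟨F.Kt y y.2, ?_⟩, rfl⟩
    have h2 : g⁻¹ * z * g * (y : G) * (g⁻¹ * z * g)⁻¹ = y := congrArg Subtype.val hy
    change (y : G) * (g⁻¹ * z * g) = g⁻¹ * z * g * y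
    rw [mul_inv_eq_iff_eq_mul] at h2
    exact h2.symm
  rcases hx' with rfl | ⟨hx1, r, hr⟩
  · exact hnK (F.sq_conj hO (hsub ⟨_, hx, rfl⟩))
  · exact F.thmB hO hin (hsub ⟨x, hx, rfl⟩) (fun h => hx1 (Subtype.ext h)) (congrArg Subtype.val hr)

/-! ### The inner involutions, `|R| ≥ 4` -/

/-- `R ∩ gRg⁻¹ = 1` if `g z g⁻¹ ≠ z`. -/
theorem inf_eq [Finite G] (F : Fr K q z) {g : G} (hez : g * z * g⁻¹ ≠ z) {u : G} (hu : u ∈ zpowers q)
    (hu' : g⁻¹ * u * g ∈ zpowers q) : u = 1 := by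
  by_contra hu1
  have hp : IsPGroup 2 ↥(zpowers u) := F.pQ.to_le (zpowers_le.2 hu)
  obtain ⟨t, ht, htt, ht1⟩ := exists_involution hu1 hp
  have h1 : t = z := F.uniq ((zpowers_le.2 hu) ht) htt ht1
  have h2 : g⁻¹ * t * g ∈ zpowers q := by
    obtain ⟨n, rfl⟩ := mem_zpowers_iff.1 ht
    have h3 : g⁻¹ * u ^ n * g = (g⁻¹ * u * g) ^ n := by
      have := conj_zpow (a := g⁻¹) (b := u) (i := n)
      rw [inv_inv] at this
      exact this.symm
    rw [h3]
    exact zpow_mem hu' n
  have h3 : g⁻¹ * t * g = z := by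
    apply F.uniq h2
    · calc g⁻¹ * t * g * (g⁻¹ * t * g) = g⁻¹ * (t * t) * g := by group
        _ = 1 := by rw [htt]; group
    · intro h4
      apply ht1
      calc t = g * (g⁻¹ * t * g) * g⁻¹ := by group
        _ = 1 := by rw [h4]; group
  rw [h1] at h3
  apply hez
  calc g * z * g⁻¹ = g * (g⁻¹ * z * g) * g⁻¹ := by rw [h3]
    _ = z := by group

/-- The element `cₑ = g c g⁻¹`, `c ∈ R`, `c² = z`, for an inner `e = g z g⁻¹`. -/
theorem root [Finite G] (F : Fr K q z) (hO : OutTwo ↥K) {c : G} (hc : c ∈ zpowers q)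
    (hcc : c * c = z) {g : G} (he : KR K q (g * z * g⁻¹)) (hez : g * z * g⁻¹ ≠ z) :
    g * c * g⁻¹ * z = z * (g * c * g⁻¹) ∧ g * c * g⁻¹ * c = c * (g * c * g⁻¹) ∧
    (∀ y ∈ K, y * y * y = 1 → y * (g * z * g⁻¹) = g * z * g⁻¹ * y →
      g * c * g⁻¹ * y = y * (g * c * g⁻¹)) ∧
    ∃ k : ↥K, ∃ r ∈ zpowers q, g * z * g⁻¹ = k * r ∧ k * k ∈ center ↥K ∧ k ∉ center ↥K := by
  have he0 := he
  obtain ⟨k, hk, r, hr, hkr⟩ := he
  have hee := F.conj_sq g
  -- `k² ∈ Z(K)`, `k ∉ Z(K)`
  have hkk : k * k = r⁻¹ * r⁻¹ := by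
    have h1 : k * r * (k * r) = 1 := by rw [← hkr]; exact hee
    have h2 : k * k * (r * r) = 1 := by
      calc k * k * (r * r) = k * (k * r) * r := by group
        _ = k * (r * k) * r := by rw [F.kr hk hr]
        _ = k * r * (k * r) := by group
        _ = 1 := h1
    calc k * k = k * k * (r * r) * (r⁻¹ * r⁻¹) := by group
      _ = r⁻¹ * r⁻¹ := by rw [h2, one_mul]
  have hkc : (⟨k, hk⟩ : ↥K) * ⟨k, hk⟩ ∈ center ↥K := by
    rw [mem_center_iff]
    intro y
    apply Subtype.ext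
    change (y : G) * (k * k) = k * k * y
    rw [hkk]
    exact F.QK _ (mul_mem (inv_mem hr) (inv_mem hr)) y y.2
  have hkn : (⟨k, hk⟩ : ↥K) ∉ center ↥K := by
    intro h
    have h1 : k ∈ zpowers q := F.cK k (F.Kt k hk) fun x hx =>
      congrArg Subtype.val (mem_center_iff.1 h ⟨x, hx⟩)
    apply hez
    apply F.uniq
    · rw [hkr]; exact mul_mem h1 hr
    · exact hee
    · exact F.conj_ne_one g
  -- `c` commutes with `e`
  have hce : c * (g * z * g⁻¹) = g * z * g⁻¹ * c := by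
    rw [hkr]
    calc c * (k * r) = (c * k) * r := by group
      _ = (k * c) * r := by rw [F.kr hk hc]
      _ = k * (c * r) := by group
      _ = k * (r * c) := by rw [F.rr hc hr]
      _ = k * r * c := by group
  have hc1 : g⁻¹ * c * g * z = z * (g⁻¹ * c * g) := by
    calc g⁻¹ * c * g * z = g⁻¹ * (c * (g * z * g⁻¹)) * g := by group
      _ = g⁻¹ * (g * z * g⁻¹ * c) * g := by rw [hce]
      _ = _ := by group
  have hc2 := F.sq hO hc1
  have hc3 : g⁻¹ * c * g * (g⁻¹ * c * g) = g⁻¹ * z * g := by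
    calc g⁻¹ * c * g * (g⁻¹ * c * g) = g⁻¹ * (c * c) * g := by group
      _ = _ := by rw [hcc]
  rw [hc3] at hc2
  have hc4 : g⁻¹ * z * g * c = c * (g⁻¹ * z * g) := by
    obtain ⟨k', hk', r', hr', h'⟩ := hc2
    rw [h']
    calc k' * r' * c = k' * (r' * c) := by group
      _ = k' * (c * r') := by rw [F.rr hr' hc]
      _ = (k' * c) * r' := by group
      _ = (c * k') * r' := by rw [F.kr hk' hc]
      _ = c * (k' * r') := by group
  have hc5 : g * c * g⁻¹ * z = z * (g * c * g⁻¹) := by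
    calc g * c * g⁻¹ * z = g * (c * (g⁻¹ * z * g)) * g⁻¹ := by group
      _ = g * (g⁻¹ * z * g * c) * g⁻¹ := by rw [hc4]
      _ = _ := by group
  refine ⟨hc5, ?_, ?_, ⟨k, hk⟩, r, hr, hkr, hkc, hkn⟩
  · -- `[cₑ, c] ∈ R ∩ gRg⁻¹`
    have h1 : g * c * g⁻¹ * c * (g * c * g⁻¹)⁻¹ * c⁻¹ = 1 := by
      apply F.inf_eq hez
      · exact mul_mem (F.nrmR hc5 hc) (inv_mem hc)
      · have h2 : g⁻¹ * (g * c * g⁻¹ * c * (g * c * g⁻¹)⁻¹ * c⁻¹) * g =
            c * ((g⁻¹ * c * g) * c⁻¹ * (g⁻¹ * c * g)⁻¹) := by group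
        rw [h2]
        exact mul_mem hc (F.nrmR hc1 (inv_mem hc))
    rw [mul_inv_eq_one, mul_inv_eq_iff_eq_mul] at h1
    exact h1
  · intro y hy hy3' hye
    -- `y' = g⁻¹ y g ∈ C(z)`
    have hyz : g⁻¹ * y * g * z = z * (g⁻¹ * y * g) := by
      calc g⁻¹ * y * g * z = g⁻¹ * (y * (g * z * g⁻¹)) * g := by group
        _ = g⁻¹ * (g * z * g⁻¹ * y) * g := by rw [hye]
        _ = _ := by group
    set y' := g⁻¹ * y * g with hy'
    have h4 := F.nrmR hyz hc
    have h5 : y' * c * y'⁻¹ * (y' * c * y'⁻¹) = z := by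
      calc y' * c * y'⁻¹ * (y' * c * y'⁻¹) = y' * (c * c) * y'⁻¹ := by group
        _ = y' * z * y'⁻¹ := by rw [hcc]
        _ = z := by rw [hyz]; group
    have h6 : y' * c * y'⁻¹ = c := by
      rcases F.root_eq hc hcc h4 h5 with h7 | h7
      · exact h7
      · exfalso
        have h8 : y' * y' * y' = 1 := by
          calc y' * y' * y' = g⁻¹ * (y * y * y) * g := by rw [hy']; group
            _ = 1 := by rw [hy3']; group
        have h9 : y' * (c * z) * y'⁻¹ = c := by
          calc y' * (c * z) * y'⁻¹ = (y' * c * y'⁻¹) * (y' * z * y'⁻¹) := by group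
            _ = c * z * (y' * z * y'⁻¹) := by rw [h7]
            _ = c * z * z := by rw [hyz, mul_inv_cancel_right]
            _ = c := by rw [mul_assoc, F.tt, mul_one]
        have h10 : y' * y' * y' * c * (y' * y' * y')⁻¹ = c * z := by
          calc y' * y' * y' * c * (y' * y' * y')⁻¹ = y' * (y' * (y' * c * y'⁻¹) * y'⁻¹) * y'⁻¹ := by group
            _ = y' * (y' * (c * z) * y'⁻¹) * y'⁻¹ := by rw [h7]
            _ = y' * c * y'⁻¹ := by rw [h9]
            _ = c * z := h7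
        rw [h8] at h10
        apply F.t1
        have h11 : c = c * z := by simpa using h10
        exact (mul_eq_left.1 h11.symm)
    have h8 : y' * c = c * y' := by rw [mul_inv_eq_iff_eq_mul] at h6; exact h6
    calc g * c * g⁻¹ * y = g * (c * y') * g⁻¹ := by rw [hy']; group
      _ = g * (y' * c) * g⁻¹ := by rw [h8]
      _ = y * (g * c * g⁻¹) := by rw [hy']; group

/-- `|R| ≥ 4`: `z^G ∩ KR = {z}` from `OrdThree`. -/
theorem inner_big [Finite G] (F : Fr K q z) (hO : OutTwo ↥K) (h3 : OrdThree ↥K) {c : G} (hc : c ∈ zpowers q)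
    (hcc : c * c = z) (g : G) (he : KR K q (g * z * g⁻¹)) : g * z * g⁻¹ = z := by
  by_contra hez
  obtain ⟨hc5, -, h7, k, r, hr, hkr, hkc, hkn⟩ := F.root hO hc hcc he hez
  apply h3 k hkc hkn (F.act hc5)
  · intro y hy3 hyk
    apply Subtype.ext
    change g * c * g⁻¹ * (y : G) * (g * c * g⁻¹)⁻¹ = y
    have hyk' : (y : G) * k = k * y := congrArg Subtype.val hyk
    have hy3' : (y : G) * y * y = 1 := by
      have := congrArg Subtype.val hy3
      calc (y : G) * y * y = ((y ^ 3 : ↥K) : G) := by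
            rw [Subgroup.coe_pow, pow_succ, pow_two]
        _ = 1 := this
    have hye : (y : G) * (g * z * g⁻¹) = g * z * g⁻¹ * y := by
      rw [hkr]
      calc (y : G) * (k * r) = (y * k) * r := by group
        _ = (k * y) * r := by rw [hyk']
        _ = k * (y * r) := by group
        _ = k * (r * y) := by rw [F.kr y.2 hr]
        _ = k * r * y := by group
    rw [h7 y y.2 hy3' hye]; group
  · intro x
    apply Subtype.ext
    change g * c * g⁻¹ * (g * c * g⁻¹ * (x : G) * (g * c * g⁻¹)⁻¹) * (g * c * g⁻¹)⁻¹ = k * x * (k : G)⁻¹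
    have h4 : g * c * g⁻¹ * (g * c * g⁻¹) = k * r := by
      rw [← hkr, ← hcc]; group
    calc g * c * g⁻¹ * (g * c * g⁻¹ * (x : G) * (g * c * g⁻¹)⁻¹) * (g * c * g⁻¹)⁻¹
        = (g * c * g⁻¹ * (g * c * g⁻¹)) * x * (g * c * g⁻¹ * (g * c * g⁻¹))⁻¹ := by group
      _ = k * r * x * (k * r)⁻¹ := by rw [h4]
      _ = k * (r * x) * r⁻¹ * (k : G)⁻¹ := by group
      _ = k * (x * r) * r⁻¹ * (k : G)⁻¹ := by rw [F.kr x.2 hr]
      _ = k * x * (k : G)⁻¹ := by group

/-- **`|R| ≥ 4`**, ending 1. -/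
theorem false_big [Finite G] (F : Fr K q z) (hO : OutTwo ↥K) (h3 : OrdThree ↥K)
    (hII : OutSq (⟨z, F.zK⟩ : ↥K)) {c : G} (hc : c ∈ zpowers q) (hcc : c * c = z)
    (hne : ∃ g : G, g * z * g⁻¹ ≠ z ∧ g * z * g⁻¹ * z = z * (g * z * g⁻¹)) : False :=
  F.false_of_inner hO (F.inner_big hO h3 hc hcc) hII hne

end Fr

/-! ### From the interface -/

open Cfsg.Agent.OddHalf.Iface

/-- The frame. -/
theorem exists_fr (C : Ctx G) {K : Subgroup G} (S : Std0 G K) (hcyc : Cyc K) (hz : center ↥K ≠ ⊥) :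
    ∃ z q : G, Fr K q z := by
  have := C.fin
  obtain ⟨z, q, h⟩ := exists_start0 C S hcyc
  refine ⟨z, q, h, ?_⟩
  obtain ⟨u, hu1⟩ := Subgroup.ne_bot_iff_exists_ne_one.1 hz
  have hu := u.2
  have hp : IsPGroup 2 ↥(zpowers ((u : ↥K) : G)) := by
    have h1 : IsPGroup 2 ↥(zpowers (u : ↥K)) := S.z2.to_le (zpowers_le.2 u.2)
    have h2 := h1.map K.subtype
    rwa [MonoidHom.map_zpowers] at h2
  have hu1' : ((u : ↥K) : G) ≠ 1 := fun h => hu1 (Subtype.ext (Subtype.ext h))
  obtain ⟨t, ht, htt, ht1⟩ := exists_involution hu1' hp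
  have huK : ((u : ↥K) : G) ∈ K := (u : ↥K).2
  have htK : t ∈ K := (zpowers_le.2 huK) ht
  have htc : ∀ x ∈ K, x * t = t * x := by
    intro x hx
    obtain ⟨n, rfl⟩ := mem_zpowers_iff.1 ht
    have h1 : x * ((u : ↥K) : G) = (u : ↥K) * x := congrArg Subtype.val (mem_center_iff.1 hu ⟨x, hx⟩)
    exact (show Commute x ((u : ↥K) : G) from h1).zpow_right n
  have h1 := h.cK t (h.Kt t htK) htc
  have h2 := h.uniq h1 htt ht1
  rwa [← h2]

end Cfsg.Agent.OddHalf.D9.CovTwo

end

-- merged: Cfsg.Agent.OddHalf.D9.M22.Lift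
section

/-!
# D9: perfect central extensions `π : K → X` with kernel `Z(K)`, a 2-group (helper322)

Facts on `X` and `MulAut X` carried to `K` and `MulAut K`: `outTwo`, `ordThree`.
-/

set_option autoImplicit false

namespace Cfsg.Agent.OddHalf.D9.M22.Lift

open Subgroup
open Cfsg.Agent.OddHalf.D9.CovTwo

universe u v

/-- `π : K → X` onto with kernel `Z(K)`, a 2-group, `K` perfect -/
structure Cov {K : Type u} {X : Type v} [Group K] [Group X] (π : K →* X) : Prop where
  surj : Function.Surjective π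
  ker : ∀ k, π k = 1 ↔ k ∈ center K
  perf : commutator K = ⊤
  two : ∀ c ∈ center K, ∃ n : ℕ, c ^ 2 ^ n = 1

/-- `OrdThree` for the quotient -/
def OrdThreeX (X : Type v) [Group X] : Prop := ∀ t : X, t * t = 1 → t ≠ 1 → ∀ β : MulAut X,
  (∀ y : X, y ^ 3 = 1 → y * t = t * y → β y = y) → (∀ x, β (β x) = t * x * t⁻¹) → False

namespace Cov

variable {K : Type u} {X : Type v} [Group K] [Group X] {π : K →* X}

theorem cen {c : K} (hc : c ∈ center K) (k : K) : c * k = k * c := (mem_center_iff.1 hc k).symm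

theorem eq_mul (C : Cov π) {k l : K} (h : π k = π l) : ∃ c ∈ center K, k = l * c := by
  refine ⟨l⁻¹ * k, (C.ker _).1 ?_, by group⟩
  rw [map_mul, map_inv, h, inv_mul_cancel]

theorem map_center {c : K} (hc : c ∈ center K) (α : MulAut K) : α c ∈ center K := by
  rw [mem_center_iff]
  intro y
  obtain ⟨x, rfl⟩ := α.surjective y
  rw [← map_mul, ← map_mul, ← cen hc]

theorem pi_congr (C : Cov π) (α : MulAut K) {k l : K} (h : π k = π l) : π (α k) = π (α l) := by
  obtain ⟨c, hc, rfl⟩ := C.eq_mul h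
  rw [map_mul, map_mul, (C.ker _).2 (map_center hc α), mul_one]

/-- a perfect group has no nontrivial homomorphism into its centre -/
theorem hom_eq_one (C : Cov π) (f : K → K) (hc : ∀ k, f k ∈ center K) (hf : ∀ k l, f (k * l) = f k * f l)
    (k : K) : f k = 1 := by
  obtain ⟨φ, hφ⟩ : ∃ φ : K →* ↥(center K), ∀ k, (φ k : K) = f k :=
    ⟨MonoidHom.mk' (fun k => ⟨f k, hc k⟩) (fun k l => Subtype.ext (hf k l)), fun _ => rfl⟩
  have h0 : commutator K ≤ φ.ker := by
    rw [commutator_def, commutator_le]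
    intro a _ b _
    rw [MonoidHom.mem_ker, map_commutatorElement, commutatorElement_eq_one_iff_mul_comm]
    apply Subtype.ext
    exact cen (φ a).2 _
  rw [C.perf] at h0
  rw [← hφ, MonoidHom.mem_ker.1 (h0 (mem_top k))]
  rfl

/-- an automorphism trivial on `K/Z(K)` is trivial -/
theorem aut_eq_one (C : Cov π) {α : MulAut K} (h : ∀ k, π (α k) = π k) : α = 1 := by
  have hc : ∀ k, k⁻¹ * α k ∈ center K := fun k => (C.ker _).1 (by
    rw [map_mul, map_inv, h, inv_mul_cancel])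
  have h1 := C.hom_eq_one (fun k => k⁻¹ * α k) hc (by
    intro k l
    rw [map_mul]
    calc (k * l)⁻¹ * (α k * α l) = l⁻¹ * (k⁻¹ * α k * α l) := by group
      _ = l⁻¹ * (α l * (k⁻¹ * α k)) := by rw [cen (hc k)]
      _ = l⁻¹ * α l * (k⁻¹ * α k) := by group
      _ = k⁻¹ * α k * (l⁻¹ * α l) := by rw [cen (hc k)])
  ext k
  have h3 := h1 k
  rw [inv_mul_eq_one] at h3
  exact h3.symm

/-- the induced automorphism of `X` -/
theorem exists_ind (C : Cov π) (α : MulAut K) : ∃ β : MulAut X, ∀ k, π (α k) = β (π k) := by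
  let s := Function.surjInv C.surj
  have hs : ∀ x, π (s x) = x := Function.surjInv_eq C.surj
  refine ⟨{ toFun := fun x => π (α (s x)), invFun := fun x => π (α.symm (s x)),
            left_inv := ?_, right_inv := ?_, map_mul' := ?_ }, ?_⟩
  · intro x
    change π (α.symm (s (π (α (s x))))) = x
    have h := C.pi_congr α.symm (hs (π (α (s x))))
    rw [h, MulEquiv.symm_apply_apply, hs]
  · intro x
    change π (α (s (π (α.symm (s x))))) = x
    have h := C.pi_congr α (hs (π (α.symm (s x))))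
    rw [h, MulEquiv.apply_symm_apply, hs]
  · intro x y
    rw [← map_mul, ← map_mul]
    apply C.pi_congr α
    rw [map_mul, hs, hs, hs]
  · intro k
    change π (α k) = π (α (s (π k)))
    exact C.pi_congr α (hs _).symm

/-- `α` is inner if it is inner on `X` -/
theorem inner_of (C : Cov π) {α : MulAut K} {x : X} (h : ∀ k, π (α k) = x * π k * x⁻¹) :
    ∃ k, α = MulAut.conj k := by
  obtain ⟨k, rfl⟩ := C.surj x
  refine ⟨k, ?_⟩
  have h1 : (MulAut.conj k)⁻¹ * α = 1 := by
    apply C.aut_eq_one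
    intro l
    have h2 : ((MulAut.conj k)⁻¹ * α) l = k⁻¹ * α l * k := by
      rw [← map_inv, MulAut.mul_apply, MulAut.conj_apply, inv_inv]
    rw [h2, map_mul, map_mul, h, map_inv]
    group
  rw [inv_mul_eq_one] at h1
  exact h1.symm

/-- an inner automorphism is inner on `X` -/
theorem ind_conj {α : MulAut K} {β : MulAut X} (C : Cov π) (hβ : ∀ k, π (α k) = β (π k)) {k : K}
    (h : α = MulAut.conj k) : β = MulAut.conj (π k) := by
  ext x
  obtain ⟨l, rfl⟩ := C.surj x
  rw [← hβ, h, MulAut.conj_apply, MulAut.conj_apply, map_mul, map_mul, map_inv]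

theorem outer_ind (C : Cov π) {α : MulAut K} {β : MulAut X} (hβ : ∀ k, π (α k) = β (π k))
    (ho : ∀ k, α ≠ MulAut.conj k) (x : X) : β ≠ MulAut.conj x := by
  rintro rfl
  obtain ⟨k, hk⟩ := C.inner_of (x := x) (fun k => by rw [hβ, MulAut.conj_apply])
  exact ho k hk

theorem outTwo (C : Cov π) (h : OutTwo X) : OutTwo K := by
  intro α β hα hβ
  obtain ⟨α', hα'⟩ := C.exists_ind α
  obtain ⟨β', hβ'⟩ := C.exists_ind β
  obtain ⟨x, hx⟩ := h α' β' (C.outer_ind hα' hα) (C.outer_ind hβ' hβ)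
  apply C.inner_of (x := x)
  intro k
  rw [MulAut.mul_apply, hα', hβ', ← MulAut.mul_apply, hx, MulAut.conj_apply]

/-- lifts of elements of order 3 -/
theorem lift3 (C : Cov π) {x : X} (hx : x ^ 3 = 1) : ∃ y, π y = x ∧ y ^ 3 = 1 := by
  obtain ⟨y, rfl⟩ := C.surj x
  have h1 : y ^ 3 ∈ center K := (C.ker _).1 (by rw [map_pow, hx])
  obtain ⟨n, hn⟩ := C.two _ h1
  refine ⟨y ^ (4 ^ n), ?_, ?_⟩
  · rw [map_pow]
    have h2 : 4 ^ n % 3 = 1 := by
      rw [Nat.pow_mod]
      norm_num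
    conv_lhs => rw [← Nat.div_add_mod (4 ^ n) 3, h2, pow_add, pow_mul, hx, one_pow, one_mul, pow_one]
  · rw [← pow_mul, mul_comm, pow_mul, show (4 : ℕ) ^ n = 2 ^ n * 2 ^ n by rw [← mul_pow]; norm_num, pow_mul,
      hn, one_pow]

theorem comm3 (C : Cov π) {y k : K} (hy : y ^ 3 = 1) (h : π y * π k = π k * π y) : y * k = k * y := by
  have h0 : π (y * k) = π (k * y) := by rw [map_mul, map_mul, h]
  obtain ⟨c, hc, hcy⟩ := C.eq_mul h0
  -- `y k = k y c`
  have h1 : ∀ n : ℕ, y ^ n * k = k * y ^ n * c ^ n := by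
    intro n
    induction n with
    | zero => group
    | succ n ih =>
      have h2 : c ^ n * y = y * c ^ n := cen (pow_mem hc n) y
      calc y ^ (n + 1) * k = y * (y ^ n * k) := by rw [pow_succ']; group
        _ = (y * k) * y ^ n * c ^ n := by rw [ih]; group
        _ = k * y * (c * y ^ n) * c ^ n := by rw [hcy]; group
        _ = k * y * (y ^ n * c) * c ^ n := by rw [cen hc]
        _ = k * y ^ (n + 1) * c ^ (n + 1) := by rw [pow_succ', pow_succ']; group
  have h3 := h1 3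
  rw [hy, one_mul, mul_one] at h3
  have h4 : c ^ 3 = 1 := (mul_eq_left.1 h3.symm)
  obtain ⟨n, hn⟩ := C.two c hc
  have h5 : c = 1 := by
    have h6 : orderOf c ∣ 3 := orderOf_dvd_of_pow_eq_one h4
    have h7 : orderOf c ∣ 2 ^ n := orderOf_dvd_of_pow_eq_one hn
    have h8 : Nat.Coprime 3 (2 ^ n) := Nat.Coprime.pow_right _ (by norm_num)
    exact orderOf_eq_one_iff.1 (Nat.eq_one_of_dvd_coprimes h8 h6 h7)
  rw [hcy, h5, mul_one]

theorem ordThree (C : Cov π) (h : OrdThreeX X) : OrdThree K := by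
  intro k hkk hk α hα hα2
  obtain ⟨β, hβ⟩ := C.exists_ind α
  apply h (π k) (by rw [← map_mul]; exact (C.ker _).2 hkk) (fun h1 => hk ((C.ker _).1 h1)) β
  · intro y hy hyk
    obtain ⟨y', rfl, hy'⟩ := C.lift3 hy
    rw [← hβ, hα y' hy' (C.comm3 hy' hyk)]
  · intro x
    obtain ⟨l, rfl⟩ := C.surj x
    rw [← hβ, ← hβ, hα2, map_mul, map_mul, map_inv]

end Cov

end Cfsg.Agent.OddHalf.D9.M22.Lift

end

-- merged: Cfsg.Agent.OddHalf.D9.M22.CovFour
section

/-!
# D9: `K = 4.M22` (helper322)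

`EData X E a b`: the facts on `X = M22`; `π : K → X` a perfect central extension, `Z(K) = ⟨r⟩` of order 4.

* `Four.sq_cases` : `k² ∈ Z(K)` implies `k² ∈ {1, r²}`;
* `Four.nonab` : the inverse image of `E` is not abelian;
* `Four.outSq` : `OutSq r²`.
-/

set_option autoImplicit false

namespace Cfsg.Agent.OddHalf.D9.M22.CovFour

open Subgroup
open scoped Pointwise
open Cfsg.Agent.OddHalf.D9.CovTwo Cfsg.Agent.OddHalf.D9.M22.Lift

universe u v

/-- The facts on `M22`. -/
structure EData (X : Type v) [Group X] (E : Subgroup X) (a b : X) : Prop where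
  sq : ∀ x ∈ E, x * x = 1
  aE : ∀ x ∈ E, a * x * a⁻¹ ∈ E
  bE : ∀ x ∈ E, b * x * b⁻¹ ∈ E
  aa : a * a = 1
  bb : b * b = 1
  ab : (a * b) ^ 4 = 1
  rot : ∀ i : ℕ, (a * b) ^ i ∈ E → 4 ∣ i
  refl : ∀ i : ℕ, (a * b) ^ i * a ∉ E
  odd : ∀ S : Subgroup X, E ≤ S → a ∈ S → b ∈ S → IsPGroup 2 ↥S → Odd S.index
  four : ∃ x ∈ E, ∃ y ∈ E, x ≠ 1 ∧ y ≠ 1 ∧ x ≠ y
  one : ∀ x y : X, x * x = 1 → x ≠ 1 → y * y = 1 → y ≠ 1 → IsConj x y
  outer : ∀ β : MulAut X, β * β = 1 → (∀ x, β ≠ MulAut.conj x) →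
    ∃ g : X, ∀ x ∈ E, β (g * x * g⁻¹) = g * x * g⁻¹
  ord3 : OrdThreeX X
  out2 : OutTwo X

/-- the transfer argument -/
theorem transfer_false {K : Type u} [Group K] [Finite K] (hperf : commutator K = ⊤) {P L : Subgroup K} {r : K}
    (hr : r ∈ center K) (hodd : Odd P.index) (hrP : r ∈ P) (hrL : r ∉ L) (hrr : r * r ∈ L)
    (hcov : ∀ p ∈ P, p ∈ L ∨ p * r ∈ L) : False := by
  classical
  have hc : ∀ k, r * k = k * r := fun k => (mem_center_iff.1 hr k).symm
  have key : ∀ p ∈ P, p ∉ L → ∀ q ∈ P, (p * q ∈ L ↔ q ∉ L) := by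
    intro p hp hpL q hq
    have hpr : p * r ∈ L := (hcov p hp).resolve_left hpL
    constructor
    · intro h1 h2
      exact hpL ((L.mul_mem_cancel_right h2).1 h1)
    · intro h1
      have hqr : q * r ∈ L := (hcov q hq).resolve_left h1
      have h2 := L.mul_mem hpr hqr
      have h3 : p * r * (q * r) = p * q * (r * r) := by
        calc p * r * (q * r) = p * (r * q) * r := by group
          _ = p * (q * r) * r := by rw [hc]
          _ = p * q * (r * r) := by group
      rw [h3] at h2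
      exact (L.mul_mem_cancel_right hrr).1 h2
  obtain ⟨φ, hφ⟩ : ∃ φ : ↥P →* ℤˣ, ∀ p, φ p = if (p : K) ∈ L then 1 else -1 := by
    refine ⟨MonoidHom.mk' (fun p => if (p : K) ∈ L then 1 else -1) ?_, fun _ => rfl⟩
    intro p q
    rw [Subgroup.coe_mul]
    by_cases hp : (p : K) ∈ L
    · by_cases hq : (q : K) ∈ L
      · rw [if_pos hp, if_pos hq, if_pos (L.mul_mem hp hq), mul_one]
      · rw [if_pos hp, if_neg hq, if_neg (fun h => hq ((L.mul_mem_cancel_left hp).1 h)), one_mul]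
    · by_cases hq : (q : K) ∈ L
      · rw [if_neg hp, if_pos hq, if_neg (fun h => hp ((L.mul_mem_cancel_right hq).1 h)), mul_one]
      · rw [if_neg hp, if_neg hq, if_pos ((key p p.2 hp q q.2).2 hq)]
        rfl
  have h1 : commutator K ≤ φ.transfer.ker := Abelianization.commutator_subset_ker _
  rw [hperf] at h1
  have h2 : φ.transfer r = 1 := h1 (mem_top r)
  have hkey : ∀ (k : ℕ) (g₀ : K), g₀⁻¹ * r ^ k * g₀ ∈ P → g₀⁻¹ * r ^ k * g₀ = r ^ k := by
    intro k g₀ _
    have h3 : r ^ k * g₀ = g₀ * r ^ k := (mem_center_iff.1 (pow_mem hr k) g₀).symm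
    rw [mul_assoc, h3, inv_mul_cancel_left]
  rw [MonoidHom.transfer_eq_pow φ r hkey] at h2
  have h3 : φ ⟨r ^ P.index, MonoidHom.transfer_eq_pow_aux r hkey⟩ = φ ⟨r, hrP⟩ ^ P.index := by
    rw [← map_pow]
    rfl
  rw [h3, hφ, if_neg hrL, hodd.neg_one_pow] at h2
  exact absurd h2 (by decide)

/-- `Z(K) = ⟨r⟩` of order 4 -/
structure Four {K : Type u} [Group K] (r : K) : Prop where
  mem : r ∈ center K
  cases : ∀ c ∈ center K, c = 1 ∨ c = r ∨ c = r * r ∨ c = r * r * r
  r4 : r * r * (r * r) = 1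
  r2 : r * r ≠ 1

/-- elements of a group generated by two involutions -/
theorem mem_dihedral {G : Type*} [Group G] {a b : G} (ha : a * a = 1) (hb : b * b = 1)
    {n : ℕ} (hn : 0 < n) (hab : (a * b) ^ n = 1) {x : G} (hx : x ∈ closure ({a, b} : Set G)) :
    ∃ i : ℕ, x = (a * b) ^ i ∨ x = (a * b) ^ i * a := by
  have hai : a⁻¹ = a := inv_eq_of_mul_eq_one_left ha
  have hbi : b⁻¹ = b := inv_eq_of_mul_eq_one_left hb
  -- `a (ab)^i = (ab)^{(n-1) i} a`
  have h1 : ∀ i : ℕ, (a * b) ^ i * a = a * (b * a) ^ i := by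
    intro i
    induction i with
    | zero => simp
    | succ i ih =>
      calc (a * b) ^ (i + 1) * a = (a * b) * ((a * b) ^ i * a) := by rw [pow_succ']; group
        _ = (a * b) * (a * (b * a) ^ i) := by rw [ih]
        _ = a * (b * a) ^ (i + 1) := by rw [pow_succ' (b * a)]; simp only [mul_assoc]
  have h2 : b * a = (a * b) ^ (n - 1) := by
    have h3 : (a * b) * (a * b) ^ (n - 1) = 1 := by
      rw [← pow_succ', Nat.sub_add_cancel hn, hab]
    have h4 : (a * b)⁻¹ = b * a := by rw [mul_inv_rev, hai, hbi]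
    rw [← h4]
    exact inv_eq_of_mul_eq_one_right h3
  induction hx using closure_induction'' with
  | one => exact ⟨0, Or.inl (pow_zero _).symm⟩
  | mem x hx =>
    rcases hx with rfl | rfl
    · exact ⟨0, Or.inr (by simp)⟩
    · refine ⟨n - 1, Or.inr ?_⟩
      rw [← h2, mul_assoc, ha, mul_one]
  | inv_mem x hx =>
    rcases hx with rfl | rfl
    · exact ⟨0, Or.inr (by rw [hai]; simp)⟩
    · refine ⟨n - 1, Or.inr ?_⟩
      rw [hbi, ← h2, mul_assoc, ha, mul_one]
  | mul x y _ _ hx hy =>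
    obtain ⟨i, hi⟩ := hx
    obtain ⟨j, hj⟩ := hy
    have h5 : ∀ j : ℕ, a * (a * b) ^ j = ((a * b) ^ (n - 1)) ^ j * a := by
      intro j
      rw [← h2]
      induction j with
      | zero => simp
      | succ j ih =>
        calc a * (a * b) ^ (j + 1) = a * (a * b) ^ j * (a * b) := by rw [pow_succ]; group
          _ = (b * a) ^ j * a * (a * b) := by rw [ih]
          _ = (b * a) ^ j * (a * a) * b := by group
          _ = (b * a) ^ j * b := by rw [ha, mul_one]
          _ = (b * a) ^ j * b * (a * a) := by rw [ha, mul_one]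
          _ = (b * a) ^ (j + 1) * a := by rw [pow_succ (b * a)]; simp only [mul_assoc]
    rcases hi with rfl | rfl
    · rcases hj with rfl | rfl
      · exact ⟨i + j, Or.inl (pow_add _ _ _).symm⟩
      · exact ⟨i + j, Or.inr (by rw [pow_add, mul_assoc])⟩
    · rcases hj with rfl | rfl
      · refine ⟨i + (n - 1) * j, Or.inr ?_⟩
        rw [mul_assoc, h5, ← pow_mul, pow_add, mul_assoc]
      · refine ⟨i + (n - 1) * j, Or.inl ?_⟩
        calc (a * b) ^ i * a * ((a * b) ^ j * a) = (a * b) ^ i * (a * (a * b) ^ j) * a := by group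
          _ = (a * b) ^ i * (((a * b) ^ (n - 1)) ^ j * a) * a := by rw [h5]
          _ = (a * b) ^ i * ((a * b) ^ (n - 1)) ^ j * (a * a) := by group
          _ = (a * b) ^ (i + (n - 1) * j) := by rw [ha, mul_one, ← pow_mul, pow_add]

namespace Four

variable {K : Type u} [Group K] {X : Type v} [Group X] {π : K →* X} {E : Subgroup X} {a b : X} {r : K}

theorem rc (R : Four r) (k : K) : r * k = k * r := Cov.cen R.mem k

theorem cen4 (R : Four r) {c : K} (hc : c ∈ center K) : c * c * (c * c) = 1 := by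
  have h4 := R.r4
  rcases R.cases c hc with rfl | rfl | rfl | rfl
  · simp
  · exact h4
  · rw [h4, one_mul]
  · calc r * r * r * (r * r * r) * (r * r * r * (r * r * r))
        = (r * r * (r * r)) * (r * r * (r * r)) * (r * r * (r * r)) := by group
      _ = 1 := by rw [h4]; group

theorem cen2 (R : Four r) {c : K} (hc : c ∈ center K) (h : c * c = 1) : c = 1 ∨ c = r * r := by
  rcases R.cases c hc with rfl | rfl | rfl | rfl
  · exact Or.inl rfl
  · exact absurd h R.r2
  · exact Or.inr rfl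
  · exfalso
    apply R.r2
    have h4 := R.r4
    have h5 : r * r * (r * r) * (r * r) = r * r * r * (r * r * r) := by simp only [mul_assoc]
    rwa [h4, h, one_mul] at h5

/-- an element of the centre whose square is not 1 has square `r²` -/
theorem cen_sq (R : Four r) {c : K} (hc : c ∈ center K) : c * c = 1 ∨ c * c = r * r := by
  apply R.cen2 (mul_mem hc hc) (R.cen4 hc)

/-- lifts of commuting elements of `X` -/
theorem comm_lift (C : Cov π) {x y : K} (h : π x * π y = π y * π x) : ∃ c ∈ center K, x * y = y * x * c :=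
  C.eq_mul (by rw [map_mul, map_mul, h])

/-- no element has square `r` or `r⁻¹` -/
theorem sq_cases (C : Cov π) (D : EData X E a b) (R : Four r) {k : K} (h : k * k ∈ center K) :
    k * k = 1 ∨ k * k = r * r := by
  apply R.cen2 h
  by_contra hne
  have hP0 : k * k * (k * k) = r * r := (R.cen_sq h).resolve_left hne
  have hk : k ∉ center K := fun hk => hne (R.cen4 hk)
  have hk1 : π k ≠ 1 := fun h1 => hk ((C.ker _).1 h1)
  have hk2 : π k * π k = 1 := by rw [← map_mul]; exact (C.ker _).2 h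
  -- every lift of an involution has the same property
  have hP : ∀ l : K, π l * π l = 1 → π l ≠ 1 → l * l * (l * l) = r * r := by
    intro l h1 h2
    obtain ⟨x, hx⟩ := isConj_iff.1 (D.one _ _ hk2 hk1 h1 h2)
    obtain ⟨g, rfl⟩ := C.surj x
    obtain ⟨c, hc, hl⟩ := C.eq_mul (k := l) (l := g * k * g⁻¹) (by
      rw [map_mul, map_mul, map_inv, hx])
    have hkk : ∀ y, k * k * y = y * (k * k) := Cov.cen h
    have h3 : l * l = k * k * (c * c) := by
      rw [hl]
      calc g * k * g⁻¹ * c * (g * k * g⁻¹ * c) = g * k * g⁻¹ * (c * (g * k * g⁻¹)) * c := by group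
        _ = g * k * g⁻¹ * ((g * k * g⁻¹) * c) * c := by rw [Cov.cen hc]
        _ = g * (k * k * g⁻¹) * (c * c) := by group
        _ = g * (g⁻¹ * (k * k)) * (c * c) := by rw [hkk]
        _ = k * k * (c * c) := by group
    have hcc := R.cen4 hc
    rw [h3]
    have h4 : ∀ y, c * c * y = y * (c * c) := Cov.cen (mul_mem hc hc)
    calc k * k * (c * c) * (k * k * (c * c)) = k * k * (c * c * (k * k)) * (c * c) := by group
      _ = k * k * (k * k * (c * c)) * (c * c) := by rw [h4]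
      _ = k * k * (k * k) * (c * c * (c * c)) := by group
      _ = r * r := by rw [hP0, hcc, mul_one]
  obtain ⟨x, hx, y, hy, hx1, hy1, hxy⟩ := D.four
  have hxy' : x * y = y * x := by
    have h1 := D.sq _ (mul_mem hx hy)
    have h2 := D.sq _ hx
    have h3 := D.sq _ hy
    calc x * y = x * (x * y * (x * y)) * y := by rw [h1, mul_one]
      _ = (x * x) * y * x * (y * y) := by group
      _ = y * x := by rw [h2, h3]; group
  obtain ⟨x', rfl⟩ := C.surj x
  obtain ⟨y', rfl⟩ := C.surj y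
  obtain ⟨c, hc, hcxy⟩ := comm_lift C hxy'
  have hPx := hP x' (D.sq _ hx) hx1
  have hPy := hP y' (D.sq _ hy) hy1
  have hPw := hP (x' * y') (by rw [map_mul]; exact D.sq _ (mul_mem hx hy)) (by
    rw [map_mul]
    intro h1
    apply hxy
    have h2 := D.sq _ hy
    exact mul_right_cancel (h1.trans h2.symm))
  have hx2 : x' * x' ∈ center K := (C.ker _).1 (by rw [map_mul]; exact D.sq _ hx)
  have hy2 : y' * y' ∈ center K := (C.ker _).1 (by rw [map_mul]; exact D.sq _ hy)
  have hcc : ∀ k, c * k = k * c := Cov.cen hc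
  -- `c² = 1`
  have hc2 : c * c = 1 := by
    have h1 : x' * x' * y' = y' * (x' * x') * (c * c) := by
      calc x' * x' * y' = x' * (x' * y') := by group
        _ = x' * (y' * x' * c) := by rw [hcxy]
        _ = (x' * y') * x' * c := by group
        _ = (y' * x' * c) * x' * c := by rw [hcxy]
        _ = y' * x' * (c * x') * c := by group
        _ = y' * x' * (x' * c) * c := by rw [hcc]
        _ = y' * (x' * x') * (c * c) := by group
    rw [Cov.cen hx2 y'] at h1
    exact (mul_eq_left.1 h1.symm)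
  have hyx : y' * x' = x' * y' * c := by
    rw [hcxy, mul_assoc (y' * x'), hc2, mul_one]
  have h1 : x' * y' * (x' * y') = x' * x' * (y' * y') * c := by
    calc x' * y' * (x' * y') = x' * (y' * x') * y' := by group
      _ = x' * (x' * y' * c) * y' := by rw [hyx]
      _ = x' * x' * y' * (c * y') := by group
      _ = x' * x' * y' * (y' * c) := by rw [hcc]
      _ = x' * x' * (y' * y') * c := by group
  have h2 : x' * y' * (x' * y') * (x' * y' * (x' * y')) = 1 := by
    rw [h1]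
    have e1 : ∀ k, x' * x' * k = k * (x' * x') := Cov.cen hx2
    have e2 : ∀ k, y' * y' * k = k * (y' * y') := Cov.cen hy2
    calc x' * x' * (y' * y') * c * (x' * x' * (y' * y') * c)
        = x' * x' * (y' * y') * (c * (x' * x' * (y' * y'))) * c := by group
      _ = x' * x' * (y' * y') * ((x' * x' * (y' * y')) * c) * c := by rw [hcc]
      _ = x' * x' * ((y' * y') * (x' * x')) * (y' * y') * (c * c) := by group
      _ = x' * x' * ((x' * x') * (y' * y')) * (y' * y') * (c * c) := by rw [e2]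
      _ = (x' * x' * (x' * x')) * ((y' * y') * (y' * y')) * (c * c) := by group
      _ = r * r * (r * r) := by rw [hPx, hPy, hc2, mul_one]
      _ = 1 := R.r4
  rw [hPw] at h2
  exact R.r2 h2

/-- involutions lift to involutions -/
theorem exists_inv (C : Cov π) (D : EData X E a b) (R : Four r) {x : X} (hx : x * x = 1) :
    ∃ f, π f = x ∧ f * f = 1 := by
  obtain ⟨k, rfl⟩ := C.surj x
  rcases R.sq_cases C D (k := k) ((C.ker _).1 (by rw [map_mul, hx])) with h | h
  · exact ⟨k, rfl, h⟩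
  · refine ⟨k * r, ?_, ?_⟩
    · rw [map_mul, (C.ker r).2 R.mem, mul_one]
    · calc k * r * (k * r) = k * (r * k) * r := by group
        _ = k * (k * r) * r := by rw [R.rc]
        _ = k * k * (r * r) := by group
        _ = 1 := by rw [h, R.r4]

/-- the inverse image of `E` is not abelian -/
theorem nonab [Finite K] (C : Cov π) (D : EData X E a b) (R : Four r) :
    ∃ x y : K, π x ∈ E ∧ π y ∈ E ∧ x * y ≠ y * x := by
  by_contra hcon
  push Not at hcon
  -- `F₀`
  let F : Subgroup K :=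
    { carrier := {f | π f ∈ E ∧ f * f = 1}
      one_mem' := ⟨by rw [map_one]; exact E.one_mem, one_mul 1⟩
      mul_mem' := by
        rintro f g ⟨hf, hf2⟩ ⟨hg, hg2⟩
        refine ⟨by rw [map_mul]; exact mul_mem hf hg, ?_⟩
        calc f * g * (f * g) = f * (g * f) * g := by group
          _ = f * (f * g) * g := by rw [hcon g f hg hf]
          _ = f * f * (g * g) := by group
          _ = 1 := by rw [hf2, hg2, one_mul]
      inv_mem' := by
        rintro f ⟨hf, hf2⟩
        refine ⟨by rw [map_inv]; exact inv_mem hf, ?_⟩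
        rw [← mul_inv_rev, hf2, inv_one] }
  have hF : ∀ f, f ∈ F ↔ π f ∈ E ∧ f * f = 1 := fun f => Iff.rfl
  obtain ⟨â, hâ, hâ2⟩ := R.exists_inv C D D.aa
  obtain ⟨c, hc, hc2⟩ := R.exists_inv C D D.bb
  have hai : a⁻¹ = a := inv_eq_of_mul_eq_one_left D.aa
  have hbi : b⁻¹ = b := inv_eq_of_mul_eq_one_left D.bb
  have hz := R.r4
  -- `(âĉ)⁴`
  have hac4 : (â * c) ^ 4 = 1 ∨ (â * c) ^ 4 = r * r := by
    have h1 : (â * c) ^ 4 = (â * c) ^ 2 * (â * c) ^ 2 := by rw [← pow_add]
    rw [h1]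
    apply R.sq_cases C D
    apply (C.ker _).1
    rw [← h1, map_pow, map_mul, hâ, hc, D.ab]
  have hac8 : (â * c) ^ 8 = 1 := by
    have h1 : (â * c) ^ 8 = (â * c) ^ 4 * (â * c) ^ 4 := by rw [← pow_add]
    rw [h1]
    rcases hac4 with h | h <;> rw [h]
    · rw [one_mul]
    · exact hz
  let W : Subgroup K := closure {â, c}
  have hWel : ∀ w ∈ W, ∃ i : ℕ, w = (â * c) ^ i ∨ w = (â * c) ^ i * â := fun w hw =>
    mem_dihedral hâ2 hc2 (by norm_num) hac8 hw
  -- `W` normalizes `F₀`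
  have hn1 : ∀ (g : K) (x : X), π g = x → (∀ y ∈ E, x * y * x⁻¹ ∈ E) → ∀ f ∈ F, g * f * g⁻¹ ∈ F := by
    rintro g x rfl hx f ⟨hf, hf2⟩
    refine ⟨by rw [map_mul, map_mul, map_inv]; exact hx _ hf, ?_⟩
    calc g * f * g⁻¹ * (g * f * g⁻¹) = g * (f * f) * g⁻¹ := by group
      _ = 1 := by rw [hf2]; group
  have hâi : â⁻¹ = â := inv_eq_of_mul_eq_one_left hâ2
  have hci : c⁻¹ = c := inv_eq_of_mul_eq_one_left hc2
  have hWN : W ≤ normalizer (F : Set K) := by
    rw [le_normalizer_iff]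
    intro w hw
    induction hw using closure_induction'' with
    | one => intro f hf; simpa using hf
    | mem x hx =>
      rcases hx with rfl | rfl
      · exact hn1 _ a hâ D.aE
      · exact hn1 _ b hc D.bE
    | inv_mem x hx =>
      rcases hx with rfl | rfl
      · rw [hâi]; exact hn1 _ a hâ D.aE
      · rw [hci]; exact hn1 _ b hc D.bE
    | mul x y _ _ hx hy =>
      intro f hf
      have h1 := hx _ (hy f hf)
      have h2 : x * y * f * (x * y)⁻¹ = x * (y * f * y⁻¹) * x⁻¹ := by group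
      rwa [h2]
  let L : Subgroup K := W ⊔ F
  have hL : ∀ x, x ∈ L ↔ ∃ w ∈ W, ∃ f ∈ F, w * f = x := by
    intro x
    have h1 := coe_mul_of_left_le_normalizer_right W F hWN
    change x ∈ ((W ⊔ F : Subgroup K) : Set K) ↔ _
    rw [h1]
    exact Set.mem_mul
  have hzF : r * r ∈ F := by
    refine ⟨?_, hz⟩
    rw [(C.ker _).2 (mul_mem R.mem R.mem)]
    exact E.one_mem
  have hzL : r * r ∈ L := (le_sup_right : F ≤ L) hzF
  -- `r ∉ L`
  have hrL : r ∉ L := by
    rw [hL]
    rintro ⟨w, hw, f, ⟨hf, hf2⟩, hwf⟩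
    have h1 : π w * π f = 1 := by rw [← map_mul, hwf]; exact (C.ker _).2 R.mem
    have h2 : π w ∈ E := by
      rw [mul_eq_one_iff_eq_inv.1 h1]
      exact inv_mem hf
    obtain ⟨i, hi⟩ := hWel w hw
    have hfr : ∀ s : K, s * s = 1 → w = s → s ∈ center K → False := by
      rintro s hs rfl hsc
      apply R.r2
      have h3 : w * f = f * w := Cov.cen hsc f
      rw [← hwf]
      calc w * f * (w * f) = w * (f * w) * f := by group
        _ = w * (w * f) * f := by rw [h3]
        _ = w * w * (f * f) := by group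
        _ = 1 := by rw [hs, hf2, one_mul]
    rcases hi with hi | hi
    · have h3 : (a * b) ^ i ∈ E := by
        rw [hi, map_pow, map_mul, hâ, hc] at h2
        exact h2
      obtain ⟨j, rfl⟩ := D.rot i h3
      rw [pow_mul] at hi
      rcases hac4 with h | h
      · rw [h, one_pow] at hi
        exact hfr 1 (one_mul 1) hi (one_mem _)
      · rw [h] at hi
        apply hfr ((r * r) ^ j) ?_ hi (pow_mem (mul_mem R.mem R.mem) _)
        rw [← (show Commute (r * r) (r * r) from rfl).mul_pow, hz, one_pow]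
    · apply D.refl i
      rw [hi, map_mul, map_pow, map_mul, hâ, hc] at h2
      exact h2
  -- `L` is a 2-group
  have hF2 : IsPGroup 2 ↥F := by
    intro f
    refine ⟨1, ?_⟩
    apply Subtype.ext
    rw [pow_one, pow_two]
    exact f.2.2
  have hW2 : IsPGroup 2 ↥W := by
    rintro ⟨w, hw⟩
    refine ⟨3, ?_⟩
    apply Subtype.ext
    change w ^ 2 ^ 3 = 1
    obtain ⟨i, hi⟩ := hWel w hw
    rcases hi with rfl | rfl
    · rw [← pow_mul, mul_comm, pow_mul, show (2 : ℕ) ^ 3 = 8 by norm_num, hac8, one_pow]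
    · have h1 : (â * c) ^ i * â * ((â * c) ^ i * â) = 1 := by
        have h2 : ∀ i : ℕ, (â * c) ^ i * â = â * (c * â) ^ i := by
          intro i
          induction i with
          | zero => simp
          | succ i ih =>
            calc (â * c) ^ (i + 1) * â = (â * c) * ((â * c) ^ i * â) := by rw [pow_succ']; group
              _ = (â * c) * (â * (c * â) ^ i) := by rw [ih]
              _ = â * (c * â) ^ (i + 1) := by rw [pow_succ' (c * â)]; simp only [mul_assoc]
        have h3 : (c * â) ^ i = ((â * c) ^ i)⁻¹ := by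
          rw [← inv_pow, mul_inv_rev, hâi, hci]
        calc (â * c) ^ i * â * ((â * c) ^ i * â) = (â * c) ^ i * â * (â * (c * â) ^ i) := by rw [h2]
          _ = (â * c) ^ i * (â * â) * (c * â) ^ i := by group
          _ = 1 := by rw [hâ2, h3]; group
      rw [show (2 : ℕ) ^ 3 = 2 * 4 by norm_num, pow_mul, pow_two, h1, one_pow]
  have hL2 : IsPGroup 2 ↥L := IsPGroup.to_sup_of_normal_right' hW2 hF2 hWN
  -- the image of `L` has odd index
  have hS2 : IsPGroup 2 ↥(L.map π) := hL2.map π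
  have hES : E ≤ L.map π := by
    intro x hx
    obtain ⟨f, hf, hf2⟩ := R.exists_inv C D (D.sq x hx)
    refine ⟨f, (le_sup_right : F ≤ L) ⟨by rwa [hf], hf2⟩, hf⟩
  have haS : a ∈ L.map π := ⟨â, (le_sup_left : W ≤ L) (subset_closure (Or.inl rfl)), hâ⟩
  have hbS : b ∈ L.map π := ⟨c, (le_sup_left : W ≤ L) (subset_closure (Or.inr rfl)), hc⟩
  have hodd := D.odd _ hES haS hbS hS2
  rw [← index_comap_of_surjective (L.map π) C.surj] at hodd
  refine transfer_false C.perf R.mem hodd ?_ hrL hzL ?_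
  · change π r ∈ L.map π
    rw [(C.ker _).2 R.mem]
    exact one_mem _
  · intro p hp
    obtain ⟨l, hl, hlp⟩ := hp
    obtain ⟨s, hs, hps⟩ := C.eq_mul (k := p) (l := l) hlp.symm
    rw [hps]
    have hl' : l ∈ L := hl
    rcases R.cases s hs with rfl | rfl | rfl | rfl
    · left; rwa [mul_one]
    · right; rw [mul_assoc]; exact mul_mem hl' hzL
    · left; exact mul_mem hl' hzL
    · right
      have h1 : l * (r * r * r) * r = l * (r * r * (r * r)) := by group
      rw [h1, hz, mul_one]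
      exact hl'

/-- **`OutSq`**: `z = r²` is the square of a fixed point of every outer involution inverting `r`. -/
theorem outSq [Finite K] (C : Cov π) (D : EData X E a b) (R : Four r) : OutSq (r * r) := by
  intro α hα hout hinv
  have hz := R.r4
  have hαr : α r = r⁻¹ := hinv r R.mem rfl
  have hαz : α (r * r) = r * r := by
    rw [map_mul, hαr]
    have h1 : r⁻¹ * r⁻¹ = (r * r)⁻¹ := (mul_inv_rev r r).symm
    rw [h1]
    exact inv_eq_of_mul_eq_one_left hz
  -- it is enough to find a fixed point with square `r²`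
  suffices h : ∃ y, α y = y ∧ y * y = r * r by
    obtain ⟨y, hy, hyy⟩ := h
    exact ⟨r * r, Subgroup.subset_closure ⟨y, hy, hyy.symm⟩, Or.inl rfl⟩
  obtain ⟨β, hβ⟩ := C.exists_ind α
  have hβ2 : β * β = 1 := by
    ext x
    obtain ⟨k, rfl⟩ := C.surj x
    rw [MulAut.mul_apply, ← hβ, ← hβ, ← MulAut.mul_apply, hα]
    rfl
  obtain ⟨g, hg⟩ := D.outer β hβ2 (C.outer_ind hβ hout)
  obtain ⟨g', rfl⟩ := C.surj g
  obtain ⟨x₀, y₀, hx₀, hy₀, hxy₀⟩ := R.nonab C D
  -- lifts with square 1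
  obtain ⟨x, hx, hx2⟩ := R.exists_inv C D (D.sq _ hx₀)
  obtain ⟨y, hy, hy2⟩ := R.exists_inv C D (D.sq _ hy₀)
  have hxy : x * y ≠ y * x := by
    intro h
    apply hxy₀
    obtain ⟨c, hc, rfl⟩ := C.eq_mul hx.symm
    obtain ⟨d, hd, rfl⟩ := C.eq_mul hy.symm
    calc x * c * (y * d) = x * (c * y) * d := by group
      _ = x * (y * c) * d := by rw [Cov.cen hc]
      _ = (x * y) * (c * d) := by group
      _ = (y * x) * (d * c) := by rw [h, Cov.cen hc]
      _ = y * (x * d) * c := by group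
      _ = y * (d * x) * c := by rw [Cov.cen hd]
      _ = y * d * (x * c) := by group
  rw [← hx] at hx₀
  rw [← hy] at hy₀
  -- an involution over a fixed point is fixed up to `z`
  have key : ∀ f : K, π f ∈ E → f * f = 1 → α (g' * f * g'⁻¹) = g' * f * g'⁻¹ ∨
      ∃ y, α y = y ∧ y * y = r * r := by
    intro f hf hf2
    have h1 : π (α (g' * f * g'⁻¹)) = π (g' * f * g'⁻¹) := by
      rw [hβ, map_mul π, map_mul π, map_inv π]
      exact hg _ hf
    obtain ⟨c, hc, hcf⟩ := C.eq_mul h1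
    have h2 : g' * f * g'⁻¹ * (g' * f * g'⁻¹) = 1 := by
      calc g' * f * g'⁻¹ * (g' * f * g'⁻¹) = g' * (f * f) * g'⁻¹ := by group
        _ = 1 := by rw [hf2]; group
    set f' := g' * f * g'⁻¹ with hf'
    have h3 : c * c = 1 := by
      have h4 : α f' * α f' = 1 := by rw [← map_mul, h2, map_one]
      rw [hcf] at h4
      calc c * c = (f' * f') * (c * c) := by rw [h2, one_mul]
        _ = f' * (f' * c) * c := by group
        _ = f' * (c * f') * c := by rw [Cov.cen hc]
        _ = f' * c * (f' * c) := by group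
        _ = 1 := h4
    rcases R.cen2 hc h3 with rfl | rfl
    · left; rw [hcf, mul_one]
    · right
      refine ⟨f' * r, ?_, ?_⟩
      · rw [map_mul, hcf, hαr]
        group
      · calc f' * r * (f' * r) = f' * (r * f') * r := by group
          _ = f' * (f' * r) * r := by rw [R.rc]
          _ = (f' * f') * (r * r) := by group
          _ = r * r := by rw [h2, one_mul]
  rcases key x hx₀ hx2 with hfx | h
  · rcases key y hy₀ hy2 with hfy | h
    · -- `w = x y`
      refine ⟨g' * x * g'⁻¹ * (g' * y * g'⁻¹), by rw [map_mul, hfx, hfy], ?_⟩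
      have h1 : x * y * (x * y) ∈ center K := (C.ker _).1 (by
        rw [map_mul, map_mul]
        exact D.sq _ (mul_mem hx₀ hy₀))
      rcases R.sq_cases C D h1 with h2 | h2
      · exfalso
        apply hxy
        have h3 : (x * y)⁻¹ = x * y := inv_eq_of_mul_eq_one_left h2
        rw [← h3, mul_inv_rev, inv_eq_of_mul_eq_one_left hx2, inv_eq_of_mul_eq_one_left hy2]
      · calc g' * x * g'⁻¹ * (g' * y * g'⁻¹) * (g' * x * g'⁻¹ * (g' * y * g'⁻¹))
            = g' * (x * y * (x * y)) * g'⁻¹ := by group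
          _ = g' * (r * r) * g'⁻¹ := by rw [h2]
          _ = (r * r) * g' * g'⁻¹ := by rw [Cov.cen (mul_mem R.mem R.mem) g']
          _ = r * r := by group
    · exact h
  · exact h

end Four

end Cfsg.Agent.OddHalf.D9.M22.CovFour

end

private theorem dce_4235fc9ad62b : _root_.True := by
  try have : _root_.True := by simp only [_root_.Cfsg.Agent.OddHalf.D9.CovTwo.SqFx.eq_1]
  exact _root_.True.intro
end

-- part: OddHalf/D9/M22/CovPair
section
prune_inst 0x4001008041822020000000010c0002640560001921062000151200f42068655610546af20fca00f120900aa34203a0068130000190210000000000a00411d0080902a62c01381a10427000980f807180c00000000000000000000000000041000000000000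
set_option linter.all false
open scoped Cfsg.Agent.FastGrp

/-!
# D9: `K = 2.M22` (helper322)

`PData X E a b`: facts on `X = M22`; `π : K → X` a perfect central extension, `Z(K) = {1, z}`.

* `Pair.sq_one` : all the lifts of involutions are involutions;
* `Pair.root` : every noncentral involution of `K` is a square;
* `Pair.fixF` : an automorphism `α` such that `ᾱ` centralizes `E` centralizes the inverse image of `E`;
* `Pair.same` : if `α` is outer and `α² = (conj k · α)² = 1`, then `k α(k) = 1`;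
* `Pair.lift` : the outer involution attached to an involution of `K`;
* `Pair.outSq` : `OutSq z`.
-/

set_option autoImplicit false

namespace Cfsg.Agent.OddHalf.D9.M22.CovPair

open Subgroup
open scoped Pointwise commutatorElement
open Cfsg.Agent.OddHalf.D9.CovTwo Cfsg.Agent.OddHalf.D9.M22.Lift Cfsg.Agent.OddHalf.D9.M22.CovFour
open Cfsg.Agent.OddHalf.D9.Kill (Ce Fx mem_Ce mem_Fx)

universe u v

/-- `n` normalizes `E` -/
def Nm {X : Type v} [Group X] (E : Subgroup X) (n : X) : Prop :=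
  (∀ w ∈ E, n * w * n⁻¹ ∈ E) ∧ ∀ w ∈ E, n⁻¹ * w * n ∈ E

/-- Configuration of the class `2B`. -/
def ConfB {X : Type v} [Group X] (E : Subgroup X) (β : MulAut X) : Prop :=
  ∃ (x n : Fin 5 → Fin 5 → X) (m d : X), (∀ y ∈ E, β y = y) ∧
    (∀ i j, i ≠ j → x i j ∈ E ∧ x i j = x j i ∧ Nm E (n i j) ∧ (n i j)⁻¹ * β (n i j) = x i j) ∧
    (Nm E m ∧ ∀ i j, i ≠ j → m⁻¹ * x i j * m * (m⁻¹ * β m) = x (i + 1) (j + 1)) ∧
    x 0 1 = 1 ∧ x 0 2 ≠ 1 ∧ x 0 2 * x 0 3 * x 0 4 = 1 ∧
    Nm E d ∧ d ^ 3 = 1 ∧ β d = d ∧ d⁻¹ * x 0 2 * d = x 0 3 ∧ d⁻¹ * x 0 3 * d = x 0 4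

/-- Configuration of the class `2C`. -/
def ConfC {X : Type v} [Group X] (E : Subgroup X) (β : MulAut X) : Prop :=
  ∃ (x n : Fin 5 → X) (m d : X), (∀ y ∈ E, β y = y) ∧
    (∀ i, x i ∈ E ∧ Nm E (n i) ∧ (n i)⁻¹ * β (n i) = x i) ∧
    x 0 ≠ 1 ∧ x 0 * x 1 * x 2 * x 3 * x 4 = 1 ∧
    (Nm E d ∧ d ^ 5 = 1 ∧ β d = d ∧ ∀ i, d⁻¹ * x i * d = x (i + 1)) ∧
    Nm E m ∧ m * m = 1 ∧ m⁻¹ * β m = x 0 ∧ m⁻¹ * x 1 * m * x 0 = x 2 ∧ m⁻¹ * x 3 * m * x 0 = x 4

/-- The facts on `M22` for the double cover. -/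
structure PData (X : Type v) [Group X] (E : Subgroup X) (a b : X) : Prop extends EData X E a b where
  cent : ∀ x : X, (∀ y ∈ E, x * y = y * x) → x ∈ E
  tran : ∀ x ∈ E, ∀ y ∈ E, x ≠ 1 → y ≠ 1 → ∃ n : X, Nm E n ∧ n * x * n⁻¹ = y
  eight : ∃ x ∈ E, ∃ y ∈ E, ∃ w ∈ E, x ≠ 1 ∧ y ≠ 1 ∧ w ≠ 1 ∧ x ≠ y ∧ x ≠ w ∧ y ≠ w ∧ w ≠ x * y
  line : ∀ x ∈ E, ∀ y ∈ E, x ≠ 1 → y ≠ 1 → x ≠ y → ∃ n : X, n * n = 1 ∧ Nm E n ∧
    (n * x * n⁻¹ = y ∨ n * x * n⁻¹ = x * y ∨ n * y * n⁻¹ = x * y)
  fixv : ∀ v : X, v * v = 1 → v ≠ 1 → ∃ β : MulAut X, β * β = 1 ∧ (∀ x, β ≠ MulAut.conj x) ∧ β v = v ∧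
    ∀ x, Odd (orderOf x) → x * v = v * x → β x = x
  fix2 : ∀ v : X, v * v = 1 → v ≠ 1 → ∀ β : MulAut X, β v = v →
    (∀ x, Odd (orderOf x) → x * v = v * x → β x = x) → β * β = 1
  conf : ∀ β : MulAut X, β * β = 1 → (∀ x, β ≠ MulAut.conj x) →
    ∃ g : X, ConfB E (MulAut.conj g * β * (MulAut.conj g)⁻¹) ∨ ConfC E (MulAut.conj g * β * (MulAut.conj g)⁻¹)

/-- `Z(K) = {1, z}` -/
structure Pair {K : Type u} [Group K] (z : K) : Prop where
  mem : z ∈ center K
  cases : ∀ c ∈ center K, c = 1 ∨ c = z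
  zz : z * z = 1
  z1 : z ≠ 1

/-- the splitting argument -/
theorem split_false {K : Type u} [Group K] {X : Type v} [Group X] {π : K →* X} {E : Subgroup X} {a b : X}
    [Finite K] (C : Cov π) (D : EData X E a b) {r : K} (hr : r ∈ center K) (F : Subgroup K)
    (hE : ∀ f ∈ F, π f ∈ E) (hsurj : ∀ x ∈ E, ∃ f ∈ F, π f = x)
    (hnorm : ∀ g : K, (∀ y ∈ E, π g * y * (π g)⁻¹ ∈ E) → ∀ f ∈ F, g * f * g⁻¹ ∈ F)
    (hrr : r * r ∈ F) (hrF : r ∉ F) (hcen : ∀ c ∈ center K, c ∈ F ∨ c * r ∈ F) (hF2 : ∀ f ∈ F, f * f = 1)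
    {p c : K} (hp : π p = a) (hc : π c = b) (hp2 : p * p = 1) (hc2 : c * c = 1) (h4 : (p * c) ^ 4 ∈ F) :
    False := by
  have hpi : p⁻¹ = p := inv_eq_of_mul_eq_one_left hp2
  have hci : c⁻¹ = c := inv_eq_of_mul_eq_one_left hc2
  have hac8 : (p * c) ^ 8 = 1 := by
    have h1 : (p * c) ^ 8 = (p * c) ^ 4 * (p * c) ^ 4 := by rw [← pow_add]
    rw [h1, hF2 _ h4]
  let W : Subgroup K := closure {p, c}
  have hWel : ∀ w ∈ W, ∃ i : ℕ, w = (p * c) ^ i ∨ w = (p * c) ^ i * p := fun w hw =>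
    mem_dihedral hp2 hc2 (by norm_num) hac8 hw
  have hpn : ∀ f ∈ F, p * f * p⁻¹ ∈ F := hnorm p (by rw [hp]; exact D.aE)
  have hcn : ∀ f ∈ F, c * f * c⁻¹ ∈ F := hnorm c (by rw [hc]; exact D.bE)
  have hWN : W ≤ normalizer (F : Set K) := by
    rw [le_normalizer_iff]
    intro w hw
    induction hw using closure_induction'' with
    | one => intro f hf; simpa using hf
    | mem x hx =>
      rcases hx with rfl | rfl
      · exact hpn
      · exact hcn
    | inv_mem x hx =>
      rcases hx with rfl | rfl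
      · rw [hpi]; exact hpn
      · rw [hci]; exact hcn
    | mul x y _ _ hx hy =>
      intro f hf
      have h1 := hx _ (hy f hf)
      have h2 : x * y * f * (x * y)⁻¹ = x * (y * f * y⁻¹) * x⁻¹ := by group
      rwa [h2]
  let L : Subgroup K := W ⊔ F
  have hL : ∀ x, x ∈ L ↔ ∃ w ∈ W, ∃ f ∈ F, w * f = x := by
    intro x
    have h1 := coe_mul_of_left_le_normalizer_right W F hWN
    change x ∈ ((W ⊔ F : Subgroup K) : Set K) ↔ _
    rw [h1]
    exact Set.mem_mul
  have hFL : F ≤ L := le_sup_right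
  have hrL : r ∉ L := by
    rw [hL]
    rintro ⟨w, hw, f, hf, hwf⟩
    have h1 : π w * π f = 1 := by rw [← map_mul, hwf]; exact (C.ker _).2 hr
    have h2 : π w ∈ E := by
      rw [mul_eq_one_iff_eq_inv.1 h1]
      exact inv_mem (hE f hf)
    obtain ⟨i, hi⟩ := hWel w hw
    rcases hi with hi | hi
    · have h3 : (a * b) ^ i ∈ E := by
        rw [hi, map_pow, map_mul, hp, hc] at h2
        exact h2
      obtain ⟨j, rfl⟩ := D.rot i h3
      rw [pow_mul] at hi
      apply hrF
      rw [← hwf, hi]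
      exact mul_mem (pow_mem h4 j) hf
    · apply D.refl i
      rw [hi, map_mul, map_pow, map_mul, hp, hc] at h2
      exact h2
  have hF2' : IsPGroup 2 ↥F := by
    intro f
    refine ⟨1, ?_⟩
    apply Subtype.ext
    rw [pow_one, pow_two]
    exact hF2 f f.2
  have hW2 : IsPGroup 2 ↥W := by
    rintro ⟨w, hw⟩
    refine ⟨3, ?_⟩
    apply Subtype.ext
    change w ^ 2 ^ 3 = 1
    obtain ⟨i, hi⟩ := hWel w hw
    rcases hi with rfl | rfl
    · rw [← pow_mul, mul_comm, pow_mul, show (2 : ℕ) ^ 3 = 8 by norm_num, hac8, one_pow]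
    · have h1 : (p * c) ^ i * p * ((p * c) ^ i * p) = 1 := by
        have h2 : ∀ i : ℕ, (p * c) ^ i * p = p * (c * p) ^ i := by
          intro i
          induction i with
          | zero => simp
          | succ i ih =>
            calc (p * c) ^ (i + 1) * p = (p * c) * ((p * c) ^ i * p) := by rw [pow_succ']; group
              _ = (p * c) * (p * (c * p) ^ i) := by rw [ih]
              _ = p * (c * p) ^ (i + 1) := by rw [pow_succ' (c * p)]; simp only [mul_assoc]
        have h3 : (c * p) ^ i = ((p * c) ^ i)⁻¹ := by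
          rw [← inv_pow, mul_inv_rev, hpi, hci]
        calc (p * c) ^ i * p * ((p * c) ^ i * p) = (p * c) ^ i * p * (p * (c * p) ^ i) := by rw [h2]
          _ = (p * c) ^ i * (p * p) * (c * p) ^ i := by group
          _ = 1 := by rw [hp2, h3]; group
      rw [show (2 : ℕ) ^ 3 = 2 * 4 by norm_num, pow_mul, pow_two, h1, one_pow]
  have hL2 : IsPGroup 2 ↥L := IsPGroup.to_sup_of_normal_right' hW2 hF2' hWN
  have hS2 : IsPGroup 2 ↥(L.map π) := hL2.map π
  have hES : E ≤ L.map π := by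
    intro x hx
    obtain ⟨f, hf, rfl⟩ := hsurj x hx
    exact ⟨f, hFL hf, rfl⟩
  have haS : a ∈ L.map π := ⟨p, (le_sup_left : W ≤ L) (subset_closure (Or.inl rfl)), hp⟩
  have hbS : b ∈ L.map π := ⟨c, (le_sup_left : W ≤ L) (subset_closure (Or.inr rfl)), hc⟩
  have hodd := D.odd _ hES haS hbS hS2
  rw [← index_comap_of_surjective (L.map π) C.surj] at hodd
  refine transfer_false C.perf hr hodd ?_ hrL (hFL hrr) ?_
  · change π r ∈ L.map π
    rw [(C.ker _).2 hr]
    exact one_mem _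
  · intro p hp
    obtain ⟨l, hl, hlp⟩ := hp
    obtain ⟨s, hs, hps⟩ := C.eq_mul (k := p) (l := l) hlp.symm
    rw [hps]
    rcases hcen s hs with h | h
    · left; exact mul_mem hl (hFL h)
    · right; rw [mul_assoc]; exact mul_mem hl (hFL h)

namespace Pair

variable {K : Type u} [Group K] {X : Type v} [Group X] {π : K →* X} {E : Subgroup X} {a b : X} {z : K}

theorem zc (R : Pair z) (k : K) : z * k = k * z := Cov.cen R.mem k

theorem pz (C : Cov π) (R : Pair z) : π z = 1 := (C.ker _).2 R.mem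

theorem cc (R : Pair z) {c : K} (hc : c ∈ center K) : c * c = 1 := by
  rcases R.cases c hc with rfl | rfl
  · exact one_mul 1
  · exact R.zz

/-- elements with the same image -/
theorem eq_or (C : Cov π) (R : Pair z) {k l : K} (h : π k = π l) : k = l ∨ k = l * z := by
  obtain ⟨c, hc, rfl⟩ := C.eq_mul h
  rcases R.cases c hc with rfl | rfl
  · left; rw [mul_one]
  · right; rfl

/-- elements with commuting images -/
theorem comm_or (C : Cov π) (R : Pair z) {k l : K} (h : π k * π l = π l * π k) :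
    k * l = l * k ∨ k * l = l * k * z :=
  R.eq_or C (by rw [map_mul, map_mul, h])

theorem comm_of_mem (D : EData X E a b) {x y : X} (hx : x ∈ E) (hy : y ∈ E) : x * y = y * x := by
  have h1 := D.sq _ (mul_mem hx hy)
  have h2 := D.sq _ hx
  have h3 := D.sq _ hy
  calc x * y = x * (x * y * (x * y)) * y := by rw [h1, mul_one]
    _ = (x * x) * y * x * (y * y) := by group
    _ = y * x := by rw [h2, h3]; group

/-- the lifts of involutions are involutions -/
theorem sq_one (C : Cov π) (D : PData X E a b) (R : Pair z) {k : K} (hk : π k * π k = 1) : k * k = 1 := by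
  have hkk : k * k ∈ center K := (C.ker _).1 (by rw [map_mul, hk])
  refine (R.cases _ hkk).resolve_right fun hkz => ?_
  have hk1 : π k ≠ 1 := by
    intro h1
    have h2 := R.cc ((C.ker _).1 h1)
    rw [h2] at hkz
    exact R.z1 hkz.symm
  -- all the lifts of involutions have square `z`
  have hall : ∀ l : K, π l * π l = 1 → π l ≠ 1 → l * l = z := by
    intro l h1 h2
    obtain ⟨x, hx⟩ := isConj_iff.1 (D.one _ _ hk hk1 h1 h2)
    obtain ⟨g, rfl⟩ := C.surj x
    have h3 : l * l = g * (k * k) * g⁻¹ := by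
      rcases R.eq_or C (k := l) (l := g * k * g⁻¹) (by rw [map_mul, map_mul, map_inv, hx]) with h | h
      · rw [h]; group
      · rw [h]
        calc g * k * g⁻¹ * z * (g * k * g⁻¹ * z) = g * k * g⁻¹ * (z * (g * k * g⁻¹)) * z := by group
          _ = g * k * g⁻¹ * ((g * k * g⁻¹) * z) * z := by rw [R.zc]
          _ = g * (k * k) * g⁻¹ * (z * z) := by group
          _ = g * (k * k) * g⁻¹ := by rw [R.zz, mul_one]
    rw [h3, hkz, ← R.zc g]
    group
  -- lifts of different elements of `E#` do not commute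
  have hanti : ∀ f g : K, π f ∈ E → π g ∈ E → π f ≠ 1 → π g ≠ 1 → π f ≠ π g → f * g = g * f * z := by
    intro f g hf hg hf1 hg1 hfg
    rcases R.comm_or C (comm_of_mem D.toEData hf hg) with h | h
    · exfalso
      have h1 := hall (f * g) (by rw [map_mul]; exact D.sq _ (mul_mem hf hg)) (by
        rw [map_mul]
        intro h1
        apply hfg
        have h2 := D.sq _ hg
        exact mul_right_cancel (h1.trans h2.symm))
      have h2 := hall f (D.sq _ hf) hf1
      have h3 := hall g (D.sq _ hg) hg1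
      apply R.z1
      calc z = f * g * (f * g) := h1.symm
        _ = f * (g * f) * g := by group
        _ = f * (f * g) * g := by rw [h]
        _ = (f * f) * (g * g) := by group
        _ = 1 := by rw [h2, h3, R.zz]
    · exact h
  obtain ⟨x, hx, y, hy, w, hw, hx1, hy1, hw1, hxy, hxw, hyw, hwxy⟩ := D.eight
  obtain ⟨f, rfl⟩ := C.surj x
  obtain ⟨g, rfl⟩ := C.surj y
  obtain ⟨h, rfl⟩ := C.surj w
  have e1 := hanti f g hx hy hx1 hy1 hxy
  have e2 := hanti f h hx hw hx1 hw1 hxw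
  have e3 := hanti f (g * h) hx (by rw [map_mul]; exact mul_mem hy hw) hx1 (by
    rw [map_mul]
    intro h1
    apply hyw
    have h2 := D.sq _ hw
    exact mul_right_cancel (h1.trans h2.symm)) (by
    rw [map_mul]
    intro h1
    apply hwxy
    have h2 := D.sq _ hy
    rw [h1, comm_of_mem D.toEData (mul_mem hy hw) hy, ← mul_assoc, h2, one_mul])
  apply R.z1
  have e4 : f * (g * h) = g * h * f := by
    calc f * (g * h) = (f * g) * h := by group
      _ = g * f * (z * h) := by rw [e1]; group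
      _ = g * (f * h) * z := by rw [R.zc]; group
      _ = g * (h * f * z) * z := by rw [e2]
      _ = g * h * f * (z * z) := by group
      _ = g * h * f := by rw [R.zz, mul_one]
  rw [e4] at e3
  exact (mul_eq_left.1 e3.symm)

/-- `z` is not a square -/
theorem nosq (C : Cov π) (D : PData X E a b) (R : Pair z) (k : K) : k * k ≠ z := by
  intro h
  have h1 : π k * π k = 1 := by rw [← map_mul, h]; exact R.pz C
  rw [R.sq_one C D h1] at h
  exact R.z1 h.symm

/-- commuting involutions lift to commuting involutions -/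
theorem comm_inv (C : Cov π) (D : PData X E a b) (R : Pair z) {f g : K} (hf : π f * π f = 1)
    (hg : π g * π g = 1) (hfg : π f * π g = π g * π f) : f * g = g * f := by
  have h1 := R.sq_one C D hf
  have h2 := R.sq_one C D hg
  have h3 := R.sq_one C D (k := f * g) (by
    rw [map_mul]
    calc π f * π g * (π f * π g) = π f * (π g * π f) * π g := by group
      _ = π f * (π f * π g) * π g := by rw [hfg]
      _ = (π f * π f) * (π g * π g) := by group
      _ = 1 := by rw [hf, hg, one_mul])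
  calc f * g = f * (f * g * (f * g)) * g := by rw [h3, mul_one]
    _ = (f * f) * (g * f) * (g * g) := by group
    _ = g * f := by rw [h1, h2, one_mul, mul_one]

theorem comm_F (C : Cov π) (D : PData X E a b) (R : Pair z) {f g : K} (hf : π f ∈ E) (hg : π g ∈ E) :
    f * g = g * f := R.comm_inv C D (D.sq _ hf) (D.sq _ hg) (comm_of_mem D.toEData hf hg)

/-- **(N3)** every noncentral involution is a square -/
theorem root [Finite K] (C : Cov π) (D : PData X E a b) (R : Pair z) {e : K} (he : e * e = 1)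
    (hec : e ∉ center K) : ∃ y, y * y = e := by
  by_contra hcon
  push Not at hcon
  have he1 : π e ≠ 1 := fun h => hec ((C.ker _).1 h)
  have he2 : π e * π e = 1 := by rw [← map_mul, he, map_one]
  -- an involution of `X` which is a square
  have hv1 : (a * b) * (a * b) ≠ 1 := by
    intro h
    have h1 := D.rot 2 (by rw [pow_two, h]; exact E.one_mem)
    exact absurd h1 (by norm_num)
  have hv2 : (a * b) * (a * b) * ((a * b) * (a * b)) = 1 := by
    have h := D.ab
    rwa [show (4 : ℕ) = 2 + 2 from rfl, pow_add, pow_two] at h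
  -- every involution has a lift which is a square
  have hex : ∀ x : X, x * x = 1 → x ≠ 1 → ∃ y : K, π (y * y) = x := by
    intro x h1 h2
    obtain ⟨g, hg⟩ := isConj_iff.1 (D.one _ _ hv2 hv1 h1 h2)
    obtain ⟨y, hy⟩ := C.surj (g * (a * b) * g⁻¹)
    refine ⟨y, ?_⟩
    rw [map_mul, hy, ← hg]
    group
  -- only one
  have huniq : ∀ y y' : K, π (y * y) = π (y' * y') → π (y * y) ≠ 1 → π (y * y) * π (y * y) = 1 →
      y * y = y' * y' := by
    intro y y' h1 h2 h3
    by_contra hne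
    have h4 : y * y = y' * y' * z := (R.eq_or C h1).resolve_left hne
    obtain ⟨x, hx⟩ := isConj_iff.1 (D.one _ _ h3 h2 he2 he1)
    obtain ⟨g, rfl⟩ := C.surj x
    rcases R.eq_or C (k := e) (l := g * (y * y) * g⁻¹) (by
      rw [map_mul, map_mul, map_inv, hx]) with h5 | h5
    · apply hcon (g * y * g⁻¹)
      rw [h5]; group
    · apply hcon (g * y' * g⁻¹)
      rw [h5, h4]
      calc g * y' * g⁻¹ * (g * y' * g⁻¹) = g * (y' * y') * g⁻¹ * 1 := by group
        _ = g * (y' * y') * g⁻¹ * (z * z) := by rw [R.zz]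
        _ = g * (y' * y') * (g⁻¹ * z) * z := by group
        _ = g * (y' * y') * (z * g⁻¹) * z := by rw [R.zc]
        _ = g * (y' * y' * z) * g⁻¹ * z := by group
  -- the product of square lifts
  have hmul : ∀ y y' : K, π (y * y) ∈ E → π (y' * y') ∈ E → π (y * y) ≠ 1 → π (y' * y') ≠ 1 →
      π (y * y) ≠ π (y' * y') → ∃ w, w * w = y * y * (y' * y') := by
    intro y y' hy hy' h1 h1' hne
    obtain ⟨n, hn2, hn, hc⟩ := D.line _ hy _ hy' h1 h1' hne
    obtain ⟨m, rfl⟩ := C.surj n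
    have hm : m * m = 1 := R.sq_one C D hn2
    have hmi : m⁻¹ = m := inv_eq_of_mul_eq_one_left hm
    have hyy : y * y * (y * y) = 1 := R.sq_one C D (D.sq _ hy)
    have hyy' : y' * y' * (y' * y') = 1 := R.sq_one C D (D.sq _ hy')
    have hcomm := R.comm_F C D hy hy'
    have key : ∀ t : K, (t * t * m) * (t * t * m) = t * t * (m * t * m⁻¹ * (m * t * m⁻¹)) := by
      intro t
      rw [hmi]
      calc (t * t * m) * (t * t * m) = t * t * (m * t * t * m) := by group
        _ = t * t * (m * t * (m * m) * t * m) := by rw [hm]; group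
        _ = t * t * (m * t * m * (m * t * m)) := by group
    rcases hc with hc | hc | hc
    · -- `n x n⁻¹ = y`
      have h2 : m * y * m⁻¹ * (m * y * m⁻¹) = y' * y' := by
        apply huniq
        · rw [← hc]
          simp only [map_mul, map_inv]; group
        · have h3 : π (m * y * m⁻¹ * (m * y * m⁻¹)) = π (y' * y') := by
            rw [← hc]; simp only [map_mul, map_inv]; group
          rw [h3]; exact h1'
        · have h3 : π (m * y * m⁻¹ * (m * y * m⁻¹)) = π (y' * y') := by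
            rw [← hc]; simp only [map_mul, map_inv]; group
          rw [h3]; exact D.sq _ hy'
      exact ⟨y * y * m, by rw [key, h2]⟩
    · -- `n x n⁻¹ = x y`
      have h3 : π (m * y * m⁻¹ * (m * y * m⁻¹)) = π (y * y) * π (y' * y') := by
        rw [← hc]; simp only [map_mul, map_inv]; group
      have h2 : (y * y * m) * (y * y * m) = y' * y' := by
        have h4 : π ((y * y * m) * (y * y * m)) = π (y' * y') := by
          rw [key, map_mul π (y * y), h3, ← mul_assoc, D.sq _ hy, one_mul]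
        apply huniq _ _ h4
        · rw [h4]; exact h1'
        · rw [h4]; exact D.sq _ hy'
      refine ⟨m * y * m⁻¹, ?_⟩
      rw [← h2, key, ← mul_assoc (y * y) (y * y), hyy, one_mul]
    · -- `n y n⁻¹ = x y`
      have h3 : π (m * y' * m⁻¹ * (m * y' * m⁻¹)) = π (y * y) * π (y' * y') := by
        rw [← hc]; simp only [map_mul, map_inv]; group
      have h2 : (y' * y' * m) * (y' * y' * m) = y * y := by
        have h4 : π ((y' * y' * m) * (y' * y' * m)) = π (y * y) := by
          rw [key, map_mul π (y' * y'), h3, comm_of_mem D.toEData hy hy', ← mul_assoc, D.sq _ hy', one_mul]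
        apply huniq _ _ h4
        · rw [h4]; exact h1
        · rw [h4]; exact D.sq _ hy
      refine ⟨m * y' * m⁻¹, ?_⟩
      have hcm : y' * y' * (m * y' * m⁻¹ * (m * y' * m⁻¹)) = m * y' * m⁻¹ * (m * y' * m⁻¹) * (y' * y') :=
        R.comm_F C D hy' (by rw [h3]; exact mul_mem hy hy')
      rw [← h2, key, hcm, mul_assoc (m * y' * m⁻¹ * (m * y' * m⁻¹)), hyy', mul_one]
  -- `F₀`
  have hEl : ∀ x ∈ E, ∃ f : K, π f = x ∧ (f = 1 ∨ π f ≠ 1 ∧ ∃ y, y * y = f) := by
    intro x hx
    by_cases h1 : x = 1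
    · exact ⟨1, by rw [map_one, h1], Or.inl rfl⟩
    · obtain ⟨y, hy⟩ := hex x (D.sq x hx) h1
      exact ⟨y * y, hy, Or.inr ⟨by rw [hy]; exact h1, y, rfl⟩⟩
  let F : Subgroup K :=
    { carrier := {f | π f ∈ E ∧ (f = 1 ∨ π f ≠ 1 ∧ ∃ y, y * y = f)}
      one_mem' := ⟨by rw [map_one]; exact E.one_mem, Or.inl rfl⟩
      mul_mem' := by
        rintro f g ⟨hf, hf'⟩ ⟨hg, hg'⟩
        refine ⟨by rw [map_mul]; exact mul_mem hf hg, ?_⟩
        rcases hf' with rfl | ⟨hf1, y, rfl⟩
        · rw [one_mul]; exact hg'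
        rcases hg' with rfl | ⟨hg1, y', rfl⟩
        · rw [mul_one]; exact Or.inr ⟨hf1, y, rfl⟩
        by_cases hne : π (y * y) = π (y' * y')
        · left
          rw [huniq y y' hne hf1 (D.sq _ hf)]
          exact R.sq_one C D (D.sq _ hg)
        · right
          refine ⟨?_, hmul y y' hf hg hf1 hg1 hne⟩
          rw [map_mul]
          intro h1
          apply hne
          have h2 := D.sq _ hg
          exact mul_right_cancel (h1.trans h2.symm)
      inv_mem' := by
        rintro f ⟨hf, hf'⟩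
        rcases hf' with rfl | ⟨hf1, y, rfl⟩
        · rw [inv_one]
          exact ⟨by rw [map_one]; exact E.one_mem, Or.inl rfl⟩
        · refine ⟨by rw [map_inv]; exact inv_mem hf, Or.inr ⟨?_, y⁻¹, by group⟩⟩
          rw [map_inv]
          exact fun h => hf1 (inv_eq_one.1 h) }
  obtain ⟨p, hp⟩ := C.surj a
  obtain ⟨c, hc⟩ := C.surj b
  have hp2 : p * p = 1 := R.sq_one C D (by rw [hp]; exact D.aa)
  have hc2 : c * c = 1 := R.sq_one C D (by rw [hc]; exact D.bb)
  have h4 : (p * c) ^ 4 = 1 := by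
    have h1 : (p * c) ^ 4 = (p * c) ^ 2 * (p * c) ^ 2 := by rw [← pow_add]
    rw [h1]
    apply R.sq_one C D
    rw [← map_mul, ← h1, map_pow, map_mul, hp, hc, D.ab]
  refine split_false C D.toEData R.mem F (fun f hf => hf.1) ?_ ?_ ?_ ?_ ?_ ?_ hp hc hp2 hc2 ?_
  · intro x hx
    obtain ⟨f, hf, hf'⟩ := hEl x hx
    exact ⟨f, ⟨by rw [hf]; exact hx, hf'⟩, hf⟩
  · rintro g hg f ⟨hf, hf'⟩
    refine ⟨by rw [map_mul, map_mul, map_inv]; exact hg _ hf, ?_⟩
    rcases hf' with rfl | ⟨hf1, y, rfl⟩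
    · left; group
    · right
      refine ⟨?_, g * y * g⁻¹, by group⟩
      rw [map_mul, map_mul, map_inv]
      intro h1
      apply hf1
      rw [mul_inv_eq_one] at h1
      exact mul_eq_left.1 h1
  · rw [R.zz]; exact F.one_mem
  · rintro ⟨-, h | ⟨h, -⟩⟩
    · exact R.z1 h
    · exact h (R.pz C)
  · intro s hs
    rcases R.cases s hs with rfl | rfl
    · left; exact F.one_mem
    · right; rw [R.zz]; exact F.one_mem
  · rintro f ⟨hf, -⟩
    exact R.sq_one C D (D.sq _ hf)
  · rw [h4]; exact F.one_mem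

/-! ### Automorphisms -/

theorem map_z (R : Pair z) (α : MulAut K) : α z = z := by
  rcases R.cases _ (Cov.map_center R.mem α) with h | h
  · exact absurd ((map_eq_one_iff α α.injective).1 h) R.z1
  · exact h

theorem delta_mem (D : PData X E a b) {β : MulAut X} (hE : ∀ y ∈ E, β y = y) {n : X} (hn : Nm E n) :
    n⁻¹ * β n ∈ E := by
  apply D.cent
  intro y hy
  have h1 := hE _ (hn.1 y hy)
  rw [map_mul, map_mul, map_inv, hE y hy] at h1
  calc n⁻¹ * β n * y = n⁻¹ * (β n * y * (β n)⁻¹) * β n := by group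
    _ = n⁻¹ * (n * y * n⁻¹) * β n := by rw [h1]
    _ = y * (n⁻¹ * β n) := by group

/-- an automorphism centralizing `E` centralizes its inverse image -/
theorem fixF (C : Cov π) (D : PData X E a b) (R : Pair z) {α : MulAut K} {β : MulAut X}
    (hβ : ∀ k, π (α k) = β (π k)) (hE : ∀ y ∈ E, β y = y) {f : K} (hf : π f ∈ E) : α f = f := by
  by_contra hne
  have hz := R.map_z α
  have h1 : ∀ g, π g ∈ E → α g = g ∨ α g = g * z := fun g hg => R.eq_or C (by rw [hβ, hE _ hg])
  have hfz : α f = f * z := (h1 f hf).resolve_left hne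
  have hf1 : π f ≠ 1 := by
    intro h2
    rcases R.cases f ((C.ker _).1 h2) with rfl | rfl
    · exact hne (map_one _)
    · exact hne hz
  have hall : ∀ g, π g ∈ E → π g ≠ 1 → α g = g * z := by
    intro g hg hg1
    obtain ⟨n, hn, hng⟩ := D.tran _ hf _ hg hf1 hg1
    obtain ⟨m, rfl⟩ := C.surj n
    have hd : π (m⁻¹ * α m) ∈ E := by
      rw [map_mul, map_inv, hβ]
      exact delta_mem D hE hn
    have hc : (m⁻¹ * α m) * f = f * (m⁻¹ * α m) := R.comm_F C D hd hf
    have h3 : α (m * f * m⁻¹) = m * f * m⁻¹ * z := by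
      rw [map_mul, map_mul, map_inv, hfz]
      calc α m * (f * z) * (α m)⁻¹ = m * ((m⁻¹ * α m) * f) * z * (α m)⁻¹ := by group
        _ = m * (f * (m⁻¹ * α m)) * z * (α m)⁻¹ := by rw [hc]
        _ = m * f * m⁻¹ * (α m * z) * (α m)⁻¹ := by group
        _ = m * f * m⁻¹ * (z * α m) * (α m)⁻¹ := by rw [R.zc]
        _ = m * f * m⁻¹ * z := by group
    rcases R.eq_or C (k := g) (l := m * f * m⁻¹) (by rw [map_mul, map_mul, map_inv, hng]) with h4 | h4
    · rw [h4, h3]
    · rw [h4, map_mul, h3, hz]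
  obtain ⟨x, hx, y, hy, hx1, hy1, hxy⟩ := D.four
  obtain ⟨f, rfl⟩ := C.surj x
  obtain ⟨g, rfl⟩ := C.surj y
  have h2 := hall (f * g) (by rw [map_mul]; exact mul_mem hx hy) (by
    rw [map_mul]
    intro h1
    apply hxy
    have h2 := D.sq _ hy
    exact mul_right_cancel (h1.trans h2.symm))
  rw [map_mul, hall f hx hx1, hall g hy hy1] at h2
  apply R.z1
  have h3 : f * z * (g * z) = f * g := by
    calc f * z * (g * z) = f * (z * g) * z := by group
      _ = f * (g * z) * z := by rw [R.zc]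
      _ = f * g * (z * z) := by group
      _ = f * g := by rw [R.zz, mul_one]
  rw [h3] at h2
  exact (mul_eq_left.1 h2.symm)

theorem ind_sq (C : Cov π) {α : MulAut K} {β : MulAut X} (hβ : ∀ k, π (α k) = β (π k)) (h : α * α = 1) :
    β * β = 1 := by
  ext x
  obtain ⟨k, rfl⟩ := C.surj x
  rw [MulAut.mul_apply, ← hβ, ← hβ, ← MulAut.mul_apply, h]
  rfl

theorem sq_ind (C : Cov π) {α : MulAut K} {β : MulAut X} (hβ : ∀ k, π (α k) = β (π k)) (h : β * β = 1) :
    α * α = 1 := by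
  apply C.aut_eq_one
  intro k
  rw [MulAut.mul_apply, hβ, hβ, ← MulAut.mul_apply, h]
  rfl

theorem not_inner_mul {G : Type*} [Group G] {α : MulAut G} (h : ∀ k, α ≠ MulAut.conj k) (g k : G) :
    MulAut.conj g * α ≠ MulAut.conj k := by
  intro h1
  apply h (g⁻¹ * k)
  rw [map_mul, map_inv, ← h1, inv_mul_cancel_left]

/-- same square, `ᾱ` centralizing `E` -/
theorem same0 (C : Cov π) (D : PData X E a b) (R : Pair z) {α : MulAut K} {β : MulAut X}
    (hβ : ∀ k, π (α k) = β (π k)) (hE : ∀ y ∈ E, β y = y) (hα : α * α = 1) (hout : ∀ k, α ≠ MulAut.conj k) {k : K}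
    (hk : MulAut.conj k * α * (MulAut.conj k * α) = 1) : k * α k = 1 := by
  have h1 : ∀ l, π ((MulAut.conj k * α) l) = (MulAut.conj (π k) * β) (π l) := by
    intro l
    rw [MulAut.mul_apply, MulAut.conj_apply, MulAut.mul_apply, MulAut.conj_apply, map_mul, map_mul, map_inv, hβ]
  have h2 := ind_sq C h1 hk
  obtain ⟨h, hh⟩ := D.outer _ h2 (not_inner_mul (C.outer_ind hβ hout) _)
  obtain ⟨h, rfl⟩ := C.surj h
  have hw : π (h⁻¹ * k * α h) ∈ E := by
    apply D.cent
    intro y hy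
    have h3 := hh y hy
    rw [MulAut.mul_apply, MulAut.conj_apply, map_mul β, map_mul β, map_inv β, hE y hy] at h3
    -- `k β(h) y β(h)⁻¹ k⁻¹ = h y h⁻¹`
    rw [map_mul, map_mul, map_inv, hβ]
    calc (π h)⁻¹ * π k * β (π h) * y
        = (π h)⁻¹ * (π k * (β (π h) * y * (β (π h))⁻¹) * (π k)⁻¹) * π k * β (π h) := by group
      _ = (π h)⁻¹ * (π h * y * (π h)⁻¹) * π k * β (π h) := by rw [h3]
      _ = y * ((π h)⁻¹ * π k * β (π h)) := by group
  set f := h⁻¹ * k * α h with hf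
  have hff : f * f = 1 := R.sq_one C D (D.sq _ hw)
  have hαf : α f = f := R.fixF C D hβ hE hw
  have hkf : k = h * f * (α h)⁻¹ := by rw [hf]; group
  have hαα : α (α h) = h := by rw [← MulAut.mul_apply, hα]; rfl
  rw [hkf, map_mul, map_mul, map_inv, hαf, hαα]
  calc h * f * (α h)⁻¹ * (α h * f * h⁻¹) = h * (f * f) * h⁻¹ := by group
    _ = 1 := by rw [hff]; group

/-- **same square**: if `α` and `conj k · α` are outer involutory automorphisms, `k α(k) = 1` -/
theorem same (C : Cov π) (D : PData X E a b) (R : Pair z) {α : MulAut K} (hα : α * α = 1)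
    (hout : ∀ k, α ≠ MulAut.conj k) {k : K}
    (hk : MulAut.conj k * α * (MulAut.conj k * α) = 1) : k * α k = 1 := by
  obtain ⟨β, hβ⟩ := C.exists_ind α
  obtain ⟨g, hg⟩ := D.outer β (ind_sq C hβ hα) (C.outer_ind hβ hout)
  obtain ⟨g, rfl⟩ := C.surj g
  have h0 : (MulAut.conj g)⁻¹ * α * MulAut.conj g * ((MulAut.conj g)⁻¹ * α * MulAut.conj g) = 1 := by
    calc (MulAut.conj g)⁻¹ * α * MulAut.conj g * ((MulAut.conj g)⁻¹ * α * MulAut.conj g)
        = (MulAut.conj g)⁻¹ * (α * α) * MulAut.conj g := by group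
      _ = 1 := by rw [hα]; group
  have h1 : ∀ l, π (((MulAut.conj g)⁻¹ * α * MulAut.conj g) l) =
      ((MulAut.conj (π g))⁻¹ * β * MulAut.conj (π g)) (π l) := by
    intro l
    have e1 : (MulAut.conj g)⁻¹ = MulAut.conj g⁻¹ := (map_inv _ _).symm
    have e2 : (MulAut.conj (π g))⁻¹ = MulAut.conj (π g)⁻¹ := (map_inv _ _).symm
    rw [e1, e2]
    change π (g⁻¹ * α (g * l * g⁻¹) * (g⁻¹)⁻¹) = (π g)⁻¹ * β (π g * π l * (π g)⁻¹) * ((π g)⁻¹)⁻¹
    rw [inv_inv, inv_inv, map_mul π, map_mul π, hβ, map_mul π, map_mul π, map_inv π]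
  have h2 : ∀ y ∈ E, ((MulAut.conj (π g))⁻¹ * β * MulAut.conj (π g)) y = y := by
    intro y hy
    have h3 := hg y hy
    rw [← map_inv]
    simp only [MulAut.mul_apply, MulAut.conj_apply] at h3 ⊢
    rw [h3]
    group
  have h3 := R.same0 C D (k := g⁻¹ * k * g) h1 h2 h0 (by
    intro k' hk'
    apply hout (g * k' * g⁻¹)
    have h4 : α = MulAut.conj g * ((MulAut.conj g)⁻¹ * α * MulAut.conj g) * (MulAut.conj g)⁻¹ := by group
    rw [h4, hk', map_mul, map_mul, map_inv]) (by
    have h4 : MulAut.conj (g⁻¹ * k * g) * ((MulAut.conj g)⁻¹ * α * MulAut.conj g) =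
        (MulAut.conj g)⁻¹ * (MulAut.conj k * α) * MulAut.conj g := by
      rw [map_mul, map_mul, map_inv]; group
    rw [h4]
    calc (MulAut.conj g)⁻¹ * (MulAut.conj k * α) * MulAut.conj g *
          ((MulAut.conj g)⁻¹ * (MulAut.conj k * α) * MulAut.conj g)
        = (MulAut.conj g)⁻¹ * (MulAut.conj k * α * (MulAut.conj k * α)) * MulAut.conj g := by group
      _ = 1 := by rw [hk]; group)
  have h5 : ((MulAut.conj g)⁻¹ * α * MulAut.conj g) (g⁻¹ * k * g) = g⁻¹ * α k * g := by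
    rw [← map_inv, MulAut.mul_apply, MulAut.mul_apply, MulAut.conj_apply, MulAut.conj_apply]
    have h6 : g * (g⁻¹ * k * g) * g⁻¹ = k := by group
    rw [h6, inv_inv]
  rw [h5] at h3
  calc k * α k = g * (g⁻¹ * k * g * (g⁻¹ * α k * g)) * g⁻¹ := by group
    _ = 1 := by rw [h3]; group

/-- an automorphism acting trivially on an involution of `X` fixes its lifts, if it is outer and of order 2 -/
theorem fix_inv (C : Cov π) (D : PData X E a b) (R : Pair z) {α : MulAut K} (hα : α * α = 1)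
    (hout : ∀ k, α ≠ MulAut.conj k) {e : K} (he : π e * π e = 1) (hα' : π (α e) = π e) : α e = e := by
  have hee := R.sq_one C D he
  have h1 : e * α e ∈ center K := (C.ker _).1 (by rw [map_mul, hα', he])
  have h2 := R.same C D hα hout (k := e) (by
    have h3 : MulAut.conj e * α * (MulAut.conj e * α) = MulAut.conj (e * α e) * (α * α) := by
      ext x
      simp only [MulAut.mul_apply, MulAut.conj_apply, map_mul, map_inv, mul_inv_rev, mul_assoc]
    rw [h3, hα, mul_one]
    ext x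
    rw [MulAut.conj_apply, Cov.cen h1 x, mul_inv_cancel_right]
    rfl)
  calc α e = e⁻¹ * (e * α e) := by group
    _ = e⁻¹ := by rw [h2, mul_one]
    _ = e := inv_eq_of_mul_eq_one_left hee

/-- odd powers -/
theorem z_pow (R : Pair z) {n : ℕ} (hn : Odd n) : z ^ n = z := by
  obtain ⟨m, rfl⟩ := hn
  rw [pow_succ, pow_mul, pow_two, R.zz, one_pow, one_mul]

theorem mulz_pow (R : Pair z) (x : K) {n : ℕ} (hn : Odd n) : (x * z) ^ n = x ^ n * z := by
  rw [(show Commute x z from (R.zc x).symm).mul_pow, R.z_pow hn]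

/-- an automorphism acting trivially on `πx`, `x` of odd order, fixes `x` -/
theorem fix_odd (C : Cov π) (R : Pair z) {α : MulAut K} {x : K} {n : ℕ} (hn : Odd n) (hx : x ^ n = 1)
    (h : π (α x) = π x) : α x = x := by
  refine (R.eq_or C h).resolve_right fun h1 => ?_
  have h2 : α x ^ n = 1 := by rw [← map_pow, hx, map_one]
  rw [h1, R.mulz_pow _ hn, hx, one_mul] at h2
  exact R.z1 h2

theorem comm_odd (C : Cov π) (R : Pair z) {x e : K} {n : ℕ} (hn : Odd n) (hx : x ^ n = 1)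
    (h : π x * π e = π e * π x) : x * e = e * x := by
  have h1 := R.fix_odd C (α := MulAut.conj e) hn hx (by
    rw [MulAut.conj_apply, map_mul, map_mul, map_inv, ← h]; group)
  rw [MulAut.conj_apply, mul_inv_eq_iff_eq_mul] at h1
  exact h1.symm

theorem lift_odd (C : Cov π) (R : Pair z) {x : X} {n : ℕ} (hn : Odd n) (hx : x ^ n = 1) :
    ∃ y : K, π y = x ∧ y ^ n = 1 := by
  obtain ⟨y, rfl⟩ := C.surj x
  have h1 : y ^ n ∈ center K := (C.ker _).1 (by rw [map_pow, hx])
  refine ⟨y ^ (n + 1), by rw [map_pow, pow_succ, hx, one_mul], ?_⟩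
  obtain ⟨m, hm⟩ := hn.add_one
  rw [← pow_mul, hm, ← two_mul, mul_assoc, mul_comm m n, ← mul_assoc, mul_comm 2 n, pow_mul, pow_mul, pow_two,
    R.cc h1, one_pow]

/-- **(N4)** -/
theorem lift (C : Cov π) (D : PData X E a b) (R : Pair z) {α : MulAut K} (hα : α * α = 1)
    (hout : ∀ k, α ≠ MulAut.conj k) {e : K} (he : e * e = 1) (hec : e ∉ center K) :
    ∃ k : K, k * α k = 1 ∧ k * α e * k⁻¹ = e ∧ ∀ x, Odd (orderOf x) → x * e = e * x → k * α x * k⁻¹ = x := by
  have he1 : π e ≠ 1 := fun h => hec ((C.ker _).1 h)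
  have he2 : π e * π e = 1 := by rw [← map_mul, he, map_one]
  obtain ⟨β, hβ⟩ := C.exists_ind α
  obtain ⟨γ, hγ2, hγo, hγv, hγx⟩ := D.fixv _ he2 he1
  obtain ⟨x, hx⟩ := D.out2 γ β hγo (C.outer_ind hβ hout)
  have hββ := ind_sq C hβ hα
  have hγ : γ = MulAut.conj x * β := by
    rw [← hx, mul_assoc, hββ, mul_one]
  obtain ⟨k, rfl⟩ := C.surj x
  have h1 : ∀ l, π ((MulAut.conj k * α) l) = γ (π l) := by
    intro l
    rw [hγ, MulAut.mul_apply, MulAut.conj_apply, MulAut.mul_apply, MulAut.conj_apply, map_mul, map_mul, map_inv,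
      hβ]
  have h2 := sq_ind C h1 hγ2
  refine ⟨k, R.same C D hα hout h2, ?_, ?_⟩
  · have h3 := R.fix_inv C D h2 (fun l => not_inner_mul hout k l) he2 (by rw [h1, hγv])
    rw [MulAut.mul_apply, MulAut.conj_apply] at h3
    exact h3
  · intro y hy hye
    have h3 : Odd (orderOf (π y)) := Odd.of_dvd_nat hy (orderOf_map_dvd π y)
    have h4 := R.fix_odd C (α := MulAut.conj k * α) hy (pow_orderOf_eq_one y) (by
      rw [h1]
      exact hγx _ h3 (by rw [← map_mul, hye, map_mul]))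
    rw [MulAut.mul_apply, MulAut.conj_apply] at h4
    exact h4

/-- **(N2)** -/
theorem fix (C : Cov π) (D : PData X E a b) (R : Pair z) {e : K} (he : e * e = 1) (hec : e ∉ center K)
    {α : MulAut K} (hαe : α e = e) (hαx : ∀ x, Odd (orderOf x) → x * e = e * x → α x = x) : α * α = 1 := by
  have he1 : π e ≠ 1 := fun h => hec ((C.ker _).1 h)
  have he2 : π e * π e = 1 := by rw [← map_mul, he, map_one]
  obtain ⟨β, hβ⟩ := C.exists_ind α
  apply sq_ind C hβ
  apply D.fix2 _ he2 he1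
  · rw [← hβ, hαe]
  · intro x hx hxe
    obtain ⟨y, rfl, hy⟩ := R.lift_odd C hx (pow_orderOf_eq_one x)
    have h1 : Odd (orderOf y) := Odd.of_dvd_nat hx (orderOf_dvd_of_pow_eq_one hy)
    rw [← hβ, hαx y h1 (R.comm_odd C hx hy hxe)]

/-- **(N5)** -/
theorem exp2 (C : Cov π) (D : PData X E a b) (α : MulAut K) : ∃ k, α * α = MulAut.conj k := by
  by_cases h : ∃ k, α = MulAut.conj k
  · obtain ⟨k, rfl⟩ := h
    exact ⟨k * k, by rw [map_mul]⟩
  · push Not at h
    exact C.outTwo D.out2 α α h h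

/-! ### `OutSq` -/

theorem Nm.mul {n m : X} (hn : Nm E n) (hm : Nm E m) : Nm E (n * m) := by
  constructor
  · intro w hw
    have h1 := hn.1 _ (hm.1 w hw)
    have h2 : n * m * w * (n * m)⁻¹ = n * (m * w * m⁻¹) * n⁻¹ := by group
    rwa [h2]
  · intro w hw
    have h1 := hm.2 _ (hn.2 w hw)
    have h2 : (n * m)⁻¹ * w * (n * m) = m⁻¹ * (n⁻¹ * w * n) * m := by group
    rwa [h2]

theorem Nm.inv {n : X} (hn : Nm E n) : Nm E n⁻¹ := ⟨by simpa using hn.2, by simpa using hn.1⟩

theorem Nm.one : Nm E (1 : X) := ⟨by simp, by simp⟩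

/-- `g = n⁻¹ α(n)` for some `n` normalizing the inverse image of `E` -/
def Dl (π : K →* X) (E : Subgroup X) (α : MulAut K) (g : K) : Prop := ∃ n : K, Nm E (π n) ∧ n⁻¹ * α n = g

theorem Dl.mem (D : PData X E a b) {α : MulAut K} {β : MulAut X} (hβ : ∀ k, π (α k) = β (π k))
    (hE : ∀ y ∈ E, β y = y) {g : K} (h : Dl π E α g) : π g ∈ E := by
  obtain ⟨n, hn, rfl⟩ := h
  rw [map_mul, map_inv, hβ]
  exact delta_mem D hE hn

theorem Dl.one (α : MulAut K) : Dl π E α 1 := ⟨1, by rw [map_one]; exact Nm.one, by simp⟩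

theorem Dl.mul {α : MulAut K} {g m : K} (h : Dl π E α g) (hm : Nm E (π m)) :
    Dl π E α (m⁻¹ * g * m * (m⁻¹ * α m)) := by
  obtain ⟨n, hn, rfl⟩ := h
  refine ⟨n * m, by rw [map_mul]; exact Nm.mul hn hm, ?_⟩
  rw [map_mul]
  group

theorem Dl.mulz (R : Pair z) {α : MulAut K} {g : K} (h0 : Dl π E α z) (h : Dl π E α g) : Dl π E α (g * z) := by
  obtain ⟨n₀, hn₀, h₀⟩ := h0
  obtain ⟨n, hn, rfl⟩ := h
  refine ⟨n₀ * n, by rw [map_mul]; exact Nm.mul hn₀ hn, ?_⟩
  rw [map_mul]
  calc (n₀ * n)⁻¹ * (α n₀ * α n) = n⁻¹ * ((n₀⁻¹ * α n₀) * α n) := by group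
    _ = n⁻¹ * (α n * z) := by rw [h₀, R.zc]
    _ = n⁻¹ * α n * z := by group

theorem Dl.uniq (C : Cov π) (R : Pair z) {α : MulAut K} {g g' : K} (h0 : ¬ Dl π E α z) (h : Dl π E α g)
    (h' : Dl π E α g') (hp : π g = π g') : g = g' := by
  refine (R.eq_or C hp).resolve_right fun hgz => h0 ?_
  obtain ⟨n, hn, hng⟩ := h
  obtain ⟨n', hn', hng'⟩ := h'
  refine ⟨n * n'⁻¹, by rw [map_mul, map_inv]; exact Nm.mul hn (Nm.inv hn'), ?_⟩
  have h1 : α n = n * g := by rw [← hng]; group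
  have h2 : α n' = n' * g' := by rw [← hng']; group
  rw [map_mul, map_inv, h1, h2, hgz]
  calc (n * n'⁻¹)⁻¹ * (n * (g' * z) * (n' * g')⁻¹) = n' * g' * (z * g'⁻¹) * n'⁻¹ := by group
    _ = n' * g' * (g'⁻¹ * z) * n'⁻¹ := by rw [R.zc]
    _ = n' * (z * n'⁻¹) := by group
    _ = n' * (n'⁻¹ * z) := by rw [R.zc]
    _ = z := by group

/-- `f (d⁻¹ f d)` is a commutator of fixed points -/
theorem comm_mem {α : MulAut K} {f d : K} (hf : α f = f) (hd : α d = d) (hff : f * f = 1) :
    f * (d⁻¹ * f * d) ∈ SqFx α := by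
  apply commutator_le_SqFx α
  have h1 : ⁅f, d⁻¹⁆ ∈ ⁅Fx α, Fx α⁆ := commutator_mem_commutator (show f ∈ Fx α from hf)
    ((Fx α).inv_mem (show d ∈ Fx α from hd))
  have h2 : ⁅f, d⁻¹⁆ = f * (d⁻¹ * f * d) := by
    rw [commutatorElement_def, inv_inv, inv_eq_of_mul_eq_one_left hff]
    group
  rwa [h2] at h1

/-- the end -/
theorem out_end {α : MulAut K} {g : K} (hg : Dl π E α g) (hg1 : g ≠ 1) (hs : g ∈ SqFx α) :
    ∃ x ∈ SqFx α, x ≠ 1 ∧ ∃ q, α q = q * x := by
  obtain ⟨n, -, hn⟩ := hg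
  exact ⟨g, hs, hg1, n, by rw [← hn]; group⟩

section Comm

variable {A : Type*} [CommGroup A]

theorem prod_ten (h : ∀ x : A, x * x = 1) (a1 a2 a3 a4 a5 a6 a7 a8 a9 a10 : A) :
    (a1 * a2 * a3 * a4) * (a5 * a6 * a7 * a1) * (a8 * a9 * a2 * a5) * (a10 * a3 * a6 * a8) *
      (a4 * a7 * a9 * a10) = 1 := by
  have e : (a1 * a2 * a3 * a4) * (a5 * a6 * a7 * a1) * (a8 * a9 * a2 * a5) * (a10 * a3 * a6 * a8) *
      (a4 * a7 * a9 * a10) = (a1 * a1) * (a2 * a2) * (a3 * a3) * (a4 * a4) * (a5 * a5) * (a6 * a6) *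
      (a7 * a7) * (a8 * a8) * (a9 * a9) * (a10 * a10) := by
    ac_rfl
  rw [e]
  simp only [h]

end Comm

/-- `SqFx` under conjugation -/
theorem sqFx_conj {α : MulAut K} {g x : K} (h : x ∈ SqFx (MulAut.conj g * α * (MulAut.conj g)⁻¹)) :
    g⁻¹ * x * g ∈ SqFx α := by
  have h1 : SqFx (MulAut.conj g * α * (MulAut.conj g)⁻¹) ≤ (SqFx α).comap (MulAut.conj g⁻¹).toMonoidHom := by
    rw [SqFx, closure_le]
    rintro _ ⟨y, hy, rfl⟩
    change g⁻¹ * (y * y) * g⁻¹⁻¹ ∈ SqFx α
    have e1 : (MulAut.conj g)⁻¹ = MulAut.conj g⁻¹ := (map_inv _ _).symm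
    rw [e1] at hy
    have hy' : g * α (g⁻¹ * y * g⁻¹⁻¹) * g⁻¹ = y := hy
    rw [inv_inv] at hy' ⊢
    refine subset_closure ⟨g⁻¹ * y * g, ?_, by group⟩
    calc α (g⁻¹ * y * g) = g⁻¹ * (g * α (g⁻¹ * y * g) * g⁻¹) * g := by group
      _ = g⁻¹ * y * g := by rw [hy']
  have h2 := h1 h
  change g⁻¹ * x * g⁻¹⁻¹ ∈ SqFx α at h2
  rwa [inv_inv] at h2

section Ab

variable {F : Subgroup K}

theorem ten_one (hF : ∀ f ∈ F, ∀ g ∈ F, f * g = g * f) (h2 : ∀ f ∈ F, f * f = 1)
    {a1 a2 a3 a4 a5 a6 a7 a8 a9 a10 : K} (h1 : a1 ∈ F) (h2' : a2 ∈ F) (h3 : a3 ∈ F) (h4 : a4 ∈ F) (h5 : a5 ∈ F)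
    (h6 : a6 ∈ F) (h7 : a7 ∈ F) (h8 : a8 ∈ F) (h9 : a9 ∈ F) (h10 : a10 ∈ F) :
    (a1 * a2 * a3 * a4) * (a5 * a6 * a7 * a1) * (a8 * a9 * a2 * a5) * (a10 * a3 * a6 * a8) *
      (a4 * a7 * a9 * a10) = 1 := by
  let _ : CommGroup ↥F := { (inferInstance : Group ↥F) with
    mul_comm := fun f g => Subtype.ext (hF f f.2 g g.2) }
  exact congrArg Subtype.val (prod_ten (A := ↥F) (fun x => Subtype.ext (h2 x x.2)) ⟨a1, h1⟩ ⟨a2, h2'⟩ ⟨a3, h3⟩
    ⟨a4, h4⟩ ⟨a5, h5⟩ ⟨a6, h6⟩ ⟨a7, h7⟩ ⟨a8, h8⟩ ⟨a9, h9⟩ ⟨a10, h10⟩)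

theorem star4 (hF : ∀ f ∈ F, ∀ g ∈ F, f * g = g * f) (h2 : ∀ f ∈ F, f * f = 1) {m s a b c d : K}
    (hs : s ∈ F) (ha : m⁻¹ * a * m ∈ F) (hb : m⁻¹ * b * m ∈ F) (hc : m⁻¹ * c * m ∈ F) (hd : m⁻¹ * d * m ∈ F) :
    (m⁻¹ * a * m * s) * (m⁻¹ * b * m * s) * (m⁻¹ * c * m * s) * (m⁻¹ * d * m * s) =
      m⁻¹ * (a * b * c * d) * m := by
  have e : ∀ p ∈ F, ∀ q ∈ F, p * s * (q * s) = p * q := by
    intro p hp q hq
    calc p * s * (q * s) = p * (s * q) * s := by group
      _ = p * (q * s) * s := by rw [hF s hs q hq]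
      _ = p * q * (s * s) := by group
      _ = p * q := by rw [h2 s hs, mul_one]
  calc (m⁻¹ * a * m * s) * (m⁻¹ * b * m * s) * (m⁻¹ * c * m * s) * (m⁻¹ * d * m * s)
      = ((m⁻¹ * a * m * s) * (m⁻¹ * b * m * s)) * ((m⁻¹ * c * m * s) * (m⁻¹ * d * m * s)) := by
        rw [mul_assoc ((m⁻¹ * a * m * s) * (m⁻¹ * b * m * s))]
    _ = ((m⁻¹ * a * m) * (m⁻¹ * b * m)) * ((m⁻¹ * c * m) * (m⁻¹ * d * m)) := by
        rw [e _ ha _ hb, e _ hc _ hd]
    _ = m⁻¹ * (a * b * c * d) * m := by group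

end Ab

/-- the case `2B` -/
theorem outB (C : Cov π) (D : PData X E a b) (R : Pair z) {α : MulAut K} {β : MulAut X}
    (hβ : ∀ k, π (α k) = β (π k)) (hB : ConfB E β) :
    ∃ x ∈ SqFx α, x = z ∨ (x ≠ 1 ∧ ∃ q, α q = q * x) := by
  obtain ⟨x, n, m, d, hE, hn, ⟨hm, hmx⟩, h01, h02, h234, hd, hd3, hβd, hd2, hd3'⟩ := hB
  obtain ⟨d, rfl, hdd⟩ := R.lift_odd C (n := 3) (by decide) hd3
  have hαd : α d = d := R.fix_odd C (n := 3) (by decide) hdd (by rw [hβ, hβd])
  obtain ⟨m, rfl⟩ := C.surj m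
  have hfin : ∀ g : K, Dl π E α g → π g ≠ 1 →
      g * (d⁻¹ * g * d) * (d⁻¹ * (d⁻¹ * g * d) * d) = 1 → ∃ x ∈ SqFx α, x = z ∨ (x ≠ 1 ∧ ∃ q, α q = q * x) := by
    intro g hg hg1 hP
    have hgE := Dl.mem D hβ hE hg
    have hgE' : π (d⁻¹ * g * d) ∈ E := by
      rw [map_mul, map_mul, map_inv]; exact hd.2 _ hgE
    have h1 := comm_mem (R.fixF C D hβ hE hgE') hαd (R.sq_one C D (D.sq _ hgE'))
    have h2 : g = (d⁻¹ * g * d * (d⁻¹ * (d⁻¹ * g * d) * d))⁻¹ := by
      rw [mul_assoc] at hP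
      exact eq_inv_of_mul_eq_one_left hP
    obtain ⟨x, hx, hx1, hq⟩ := out_end hg (fun h => hg1 (by rw [h, map_one])) (by
      rw [h2]; exact inv_mem h1)
    exact ⟨x, hx, Or.inr ⟨hx1, hq⟩⟩
  by_cases h0 : Dl π E α z
  · obtain ⟨u, hu⟩ := C.surj (n 0 2)
    have hn02 := hn 0 2 (by decide)
    have hg : Dl π E α (u⁻¹ * α u) := ⟨u, by rw [hu]; exact hn02.2.2.1, rfl⟩
    have hpg : π (u⁻¹ * α u) = x 0 2 := by rw [map_mul, map_inv, hβ, hu, hn02.2.2.2]
    generalize u⁻¹ * α u = g at hg hpg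
    have hg1 : π g ≠ 1 := by rw [hpg]; exact h02
    have hP : g * (d⁻¹ * g * d) * (d⁻¹ * (d⁻¹ * g * d) * d) ∈ center K := by
      apply (C.ker _).1
      simp only [map_mul, map_inv, hpg]
      rw [hd2, hd3', h234]
    rcases R.cases _ hP with h | h
    · exact hfin g hg hg1 h
    · refine hfin (g * z) (Dl.mulz R h0 hg) (by rw [map_mul, R.pz C, mul_one]; exact hg1) ?_
      have e1 : d⁻¹ * (g * z) * d = d⁻¹ * g * d * z := by
        calc d⁻¹ * (g * z) * d = d⁻¹ * g * (z * d) := by group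
          _ = d⁻¹ * g * (d * z) := by rw [R.zc]
          _ = d⁻¹ * g * d * z := by group
      have e2 : d⁻¹ * (d⁻¹ * g * d * z) * d = d⁻¹ * (d⁻¹ * g * d) * d * z := by
        calc d⁻¹ * (d⁻¹ * g * d * z) * d = d⁻¹ * (d⁻¹ * g * d) * (z * d) := by group
          _ = d⁻¹ * (d⁻¹ * g * d) * (d * z) := by rw [R.zc]
          _ = d⁻¹ * (d⁻¹ * g * d) * d * z := by group
      rw [e1, e2]
      generalize d⁻¹ * g * d = g1 at h ⊢
      generalize d⁻¹ * g1 * d = g2 at h ⊢
      calc g * z * (g1 * z) * (g2 * z) = g * (z * g1) * z * g2 * z := by group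
        _ = g * (g1 * z) * z * g2 * z := by rw [R.zc]
        _ = g * g1 * (z * z) * g2 * z := by group
        _ = g * g1 * g2 * z := by rw [R.zz, mul_one]
        _ = 1 := by rw [h, R.zz]
  · -- the unique lifts
    have hex : ∀ i j : Fin 5, ∃ u : K, π u = n i j := fun i j => C.surj _
    choose u hu using hex
    obtain ⟨g, hgdef⟩ : ∃ g : Fin 5 → Fin 5 → K, ∀ i j, (u i j)⁻¹ * α (u i j) = g i j := ⟨_, fun _ _ => rfl⟩
    have hg : ∀ i j, i ≠ j → Dl π E α (g i j) := fun i j hij =>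
      ⟨u i j, by rw [hu]; exact (hn i j hij).2.2.1, hgdef i j⟩
    have hpg : ∀ i j, i ≠ j → π (g i j) = x i j := by
      intro i j hij
      rw [← hgdef, map_mul, map_inv, hβ, hu, (hn i j hij).2.2.2]
    have hF : ∀ f ∈ E.comap π, ∀ g ∈ E.comap π, f * g = g * f := fun f hf g hg => R.comm_F C D hf hg
    have hF2 : ∀ f ∈ E.comap π, f * f = 1 := fun f hf => R.sq_one C D (D.sq _ hf)
    have hgF : ∀ i j, i ≠ j → g i j ∈ E.comap π := fun i j hij => Dl.mem D hβ hE (hg i j hij)
    have hsym : ∀ i j, i ≠ j → g j i = g i j := fun i j hij =>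
      Dl.uniq C R h0 (hg j i hij.symm) (hg i j hij) (by
        rw [hpg j i hij.symm, hpg i j hij, (hn i j hij).2.1])
    have hmD : m⁻¹ * α m ∈ E.comap π := Dl.mem D hβ hE ⟨m, hm, rfl⟩
    have hmg : ∀ i j, i ≠ j → m⁻¹ * g i j * m * (m⁻¹ * α m) = g (i + 1) (j + 1) := by
      intro i j hij
      have hij' : i + 1 ≠ j + 1 := fun h => hij (add_right_cancel h)
      refine Dl.uniq C R h0 (Dl.mul (hg i j hij) hm) (hg _ _ hij') ?_
      rw [hpg _ _ hij', ← hmx i j hij]
      simp only [map_mul, map_inv, hβ, hpg i j hij]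
    have hmF : ∀ i j, i ≠ j → m⁻¹ * g i j * m ∈ E.comap π := by
      intro i j hij
      change π (m⁻¹ * g i j * m) ∈ E
      rw [map_mul, map_mul, map_inv]
      exact hm.2 _ (hgF i j hij)
    have hstep : ∀ i j k l p : Fin 5, i ≠ j → i ≠ k → i ≠ l → i ≠ p →
        g i j * g i k * g i l * g i p ∈ center K →
        g (i + 1) (j + 1) * g (i + 1) (k + 1) * g (i + 1) (l + 1) * g (i + 1) (p + 1) =
          g i j * g i k * g i l * g i p := by
      intro i j k l p hj hk hl hp hc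
      rw [← hmg i j hj, ← hmg i k hk, ← hmg i l hl, ← hmg i p hp,
        star4 hF hF2 hmD (hmF i j hj) (hmF i k hk) (hmF i l hl) (hmF i p hp), mul_assoc, Cov.cen hc m]
      group
    have hP0 : g 0 1 * g 0 2 * g 0 3 * g 0 4 ∈ center K := by
      apply (C.ker _).1
      rw [map_mul, map_mul, map_mul, hpg 0 1 (by decide), hpg 0 2 (by decide), hpg 0 3 (by decide),
        hpg 0 4 (by decide), h01, one_mul, h234]
    have hP1 := hstep 0 1 2 3 4 (by decide) (by decide) (by decide) (by decide) hP0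
    have hP2 := hstep 1 2 3 4 0 (by decide) (by decide) (by decide) (by decide) (by
      have h := hP0; rw [← hP1] at h; exact h)
    have hP3 := hstep 2 3 4 0 1 (by decide) (by decide) (by decide) (by decide) (by
      have h := hP0; rw [← hP1] at h; change g 1 2 * g 1 3 * g 1 4 * g 1 0 ∈ _ at h; rw [← hP2] at h; exact h)
    have hP4 := hstep 3 4 0 1 2 (by decide) (by decide) (by decide) (by decide) (by
      have h := hP0
      rw [← hP1] at h
      change g 1 2 * g 1 3 * g 1 4 * g 1 0 ∈ _ at h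
      rw [← hP2] at h
      change g 2 3 * g 2 4 * g 2 0 * g 2 1 ∈ _ at h
      rw [← hP3] at h
      exact h)
    change g 1 2 * g 1 3 * g 1 4 * g 1 0 = _ at hP1
    change g 2 3 * g 2 4 * g 2 0 * g 2 1 = _ at hP2
    change g 3 4 * g 3 0 * g 3 1 * g 3 2 = _ at hP3
    change g 4 0 * g 4 1 * g 4 2 * g 4 3 = _ at hP4
    rw [hP3, hP2, hP1] at hP4
    rw [hP2, hP1] at hP3
    rw [hP1] at hP2
    rw [hsym 0 1 (by decide)] at hP1
    rw [hsym 0 2 (by decide), hsym 1 2 (by decide)] at hP2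
    rw [hsym 0 3 (by decide), hsym 1 3 (by decide), hsym 2 3 (by decide)] at hP3
    rw [hsym 0 4 (by decide), hsym 1 4 (by decide), hsym 2 4 (by decide), hsym 3 4 (by decide)] at hP4
    have hten := ten_one hF hF2 (hgF 0 1 (by decide)) (hgF 0 2 (by decide)) (hgF 0 3 (by decide))
      (hgF 0 4 (by decide)) (hgF 1 2 (by decide)) (hgF 1 3 (by decide)) (hgF 1 4 (by decide))
      (hgF 2 3 (by decide)) (hgF 2 4 (by decide)) (hgF 3 4 (by decide))
    rw [hP1, hP2, hP3, hP4] at hten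
    have hPP := R.cc hP0
    have hg01 : g 0 1 = 1 := Dl.uniq C R h0 (hg 0 1 (by decide)) (Dl.one α) (by
      rw [hpg 0 1 (by decide), h01, map_one])
    have hg03 : d⁻¹ * g 0 2 * d = g 0 3 := by
      have h1 := Dl.mul (hg 0 2 (by decide)) hd
      have e1 : d⁻¹ * α d = 1 := by rw [hαd, inv_mul_cancel]
      rw [e1, mul_one] at h1
      refine Dl.uniq C R h0 h1 (hg 0 3 (by decide)) ?_
      rw [map_mul, map_mul, map_inv, hpg 0 2 (by decide), hpg 0 3 (by decide), hd2]
    have hg04 : d⁻¹ * g 0 3 * d = g 0 4 := by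
      have h1 := Dl.mul (hg 0 3 (by decide)) hd
      have e1 : d⁻¹ * α d = 1 := by rw [hαd, inv_mul_cancel]
      rw [e1, mul_one] at h1
      refine Dl.uniq C R h0 h1 (hg 0 4 (by decide)) ?_
      rw [map_mul, map_mul, map_inv, hpg 0 3 (by decide), hpg 0 4 (by decide), hd3']
    apply hfin (g 0 2) (hg 0 2 (by decide)) (by rw [hpg 0 2 (by decide)]; exact h02)
    rw [hg03, hg04]
    have hP : g 0 1 * g 0 2 * g 0 3 * g 0 4 = 1 := by
      generalize g 0 1 * g 0 2 * g 0 3 * g 0 4 = P at hten hPP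
      calc P = P * (P * P) * (P * P) := by rw [hPP, mul_one, mul_one]
        _ = P * P * P * P * P := by group
        _ = 1 := hten
    rwa [hg01, one_mul] at hP

/-- the case `2C` -/
theorem outC (C : Cov π) (D : PData X E a b) (R : Pair z) {α : MulAut K} (hα : α * α = 1)
    (hout : ∀ k, α ≠ MulAut.conj k) {β : MulAut X}
    (hβ : ∀ k, π (α k) = β (π k)) (hC : ConfC E β) :
    ∃ x ∈ SqFx α, x = z ∨ (x ≠ 1 ∧ ∃ q, α q = q * x) := by
  obtain ⟨x, n, m, d, hE, hn, hx0, hprod, ⟨hd, hd5, hβd, hdx⟩, hm, hmm, hm0, hm1, hm3⟩ := hC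
  obtain ⟨d, rfl, hdd⟩ := R.lift_odd C (n := 5) (by decide) hd5
  have hαd : α d = d := R.fix_odd C (n := 5) (by decide) hdd (by rw [hβ, hβd])
  obtain ⟨m, rfl⟩ := C.surj m
  have hfin : ∀ g g1 g2 g3 g4 : K, Dl π E α g → π g ≠ 1 → d⁻¹ * g * d = g1 → d⁻¹ * g1 * d = g2 →
      d⁻¹ * g2 * d = g3 → d⁻¹ * g3 * d = g4 → g * g1 * g2 * g3 * g4 = 1 →
      ∃ x ∈ SqFx α, x = z ∨ (x ≠ 1 ∧ ∃ q, α q = q * x) := by
    intro g g1 g2 g3 g4 hg hg0 h1 h2 h3 h4 hP
    have e0 := Dl.mem D hβ hE hg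
    have e1 : π g1 ∈ E := by rw [← h1, map_mul, map_mul, map_inv]; exact hd.2 _ e0
    have e2 : π g2 ∈ E := by rw [← h2, map_mul, map_mul, map_inv]; exact hd.2 _ e1
    have e3 : π g3 ∈ E := by rw [← h3, map_mul, map_mul, map_inv]; exact hd.2 _ e2
    have s1 := comm_mem (R.fixF C D hβ hE e1) hαd (R.sq_one C D (D.sq _ e1))
    have s3 := comm_mem (R.fixF C D hβ hE e3) hαd (R.sq_one C D (D.sq _ e3))
    rw [h2] at s1
    rw [h4] at s3
    have h2 : g = (g1 * g2 * (g3 * g4))⁻¹ := by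
      apply eq_inv_of_mul_eq_one_left
      rw [← hP]
      group
    obtain ⟨x, hx, hx1, hq⟩ := out_end hg (fun h => hg0 (by rw [h, map_one])) (by
      rw [h2]; exact inv_mem (mul_mem s1 s3))
    exact ⟨x, hx, Or.inr ⟨hx1, hq⟩⟩
  have hprod' : x 0 * x 1 * x 2 * x 3 * x 4 = 1 := hprod
  by_cases h0 : Dl π E α z
  · obtain ⟨u, hu⟩ := C.surj (n 0)
    have hn0 := hn 0
    have hg : Dl π E α (u⁻¹ * α u) := ⟨u, by rw [hu]; exact hn0.2.1, rfl⟩
    have hpg : π (u⁻¹ * α u) = x 0 := by rw [map_mul, map_inv, hβ, hu, hn0.2.2]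
    generalize u⁻¹ * α u = g at hg hpg
    have hg1 : π g ≠ 1 := by rw [hpg]; exact hx0
    obtain ⟨g1, h1⟩ : ∃ g1, d⁻¹ * g * d = g1 := ⟨_, rfl⟩
    obtain ⟨g2, h2⟩ : ∃ g2, d⁻¹ * g1 * d = g2 := ⟨_, rfl⟩
    obtain ⟨g3, h3⟩ : ∃ g3, d⁻¹ * g2 * d = g3 := ⟨_, rfl⟩
    obtain ⟨g4, h4⟩ : ∃ g4, d⁻¹ * g3 * d = g4 := ⟨_, rfl⟩
    have p1 : π g1 = x 1 := by rw [← h1, map_mul, map_mul, map_inv, hpg, hdx]; rfl
    have p2 : π g2 = x 2 := by rw [← h2, map_mul, map_mul, map_inv, p1, hdx]; rfl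
    have p3 : π g3 = x 3 := by rw [← h3, map_mul, map_mul, map_inv, p2, hdx]; rfl
    have p4 : π g4 = x 4 := by rw [← h4, map_mul, map_mul, map_inv, p3, hdx]; rfl
    have hP : g * g1 * g2 * g3 * g4 ∈ center K := by
      apply (C.ker _).1
      rw [map_mul, map_mul, map_mul, map_mul, hpg, p1, p2, p3, p4, hprod']
    rcases R.cases _ hP with h | h
    · exact hfin g g1 g2 g3 g4 hg hg1 h1 h2 h3 h4 h
    · have hz : ∀ g g' : K, d⁻¹ * g * d = g' → d⁻¹ * (g * z) * d = g' * z := by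
        intro g g' h
        rw [← h]
        calc d⁻¹ * (g * z) * d = d⁻¹ * g * (z * d) := by group
          _ = d⁻¹ * g * (d * z) := by rw [R.zc]
          _ = d⁻¹ * g * d * z := by group
      refine hfin (g * z) (g1 * z) (g2 * z) (g3 * z) (g4 * z) (Dl.mulz R h0 hg)
        (by rw [map_mul, R.pz C, mul_one]; exact hg1) (hz _ _ h1) (hz _ _ h2) (hz _ _ h3) (hz _ _ h4) ?_
      have e : ∀ p q : K, p * z * (q * z) = p * q := by
        intro p q
        calc p * z * (q * z) = p * (z * q) * z := by group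
          _ = p * (q * z) * z := by rw [R.zc]
          _ = p * q * (z * z) := by group
          _ = p * q := by rw [R.zz, mul_one]
      calc g * z * (g1 * z) * (g2 * z) * (g3 * z) * (g4 * z)
          = (g * z * (g1 * z)) * ((g2 * z) * (g3 * z)) * (g4 * z) := by
            rw [mul_assoc (g * z * (g1 * z))]
        _ = g * g1 * g2 * g3 * g4 * z := by rw [e, e]; group
        _ = 1 := by rw [h, R.zz]
  · have hex : ∀ i : Fin 5, ∃ u : K, π u = n i := fun i => C.surj _
    choose u hu using hex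
    obtain ⟨g, hgdef⟩ : ∃ g : Fin 5 → K, ∀ i, (u i)⁻¹ * α (u i) = g i := ⟨_, fun _ => rfl⟩
    have hg : ∀ i, Dl π E α (g i) := fun i => ⟨u i, by rw [hu]; exact (hn i).2.1, hgdef i⟩
    have hpg : ∀ i, π (g i) = x i := by
      intro i
      rw [← hgdef, map_mul, map_inv, hβ, hu, (hn i).2.2]
    have hF : ∀ f g : K, π f ∈ E → π g ∈ E → f * g = g * f := fun f g hf hg => R.comm_F C D hf hg
    have hgF : ∀ i, π (g i) ∈ E := fun i => Dl.mem D hβ hE (hg i)
    have hg2 : ∀ i, g i * g i = 1 := fun i => R.sq_one C D (D.sq _ (hgF i))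
    have hdg : ∀ i, d⁻¹ * g i * d = g (i + 1) := by
      intro i
      have h1 := Dl.mul (hg i) hd
      have e1 : d⁻¹ * α d = 1 := by rw [hαd, inv_mul_cancel]
      rw [e1, mul_one] at h1
      refine Dl.uniq C R h0 h1 (hg _) ?_
      rw [map_mul, map_mul, map_inv, hpg, hpg, hdx]
    have hm0' : m⁻¹ * α m = g 0 := Dl.uniq C R h0 ⟨m, hm, rfl⟩ (hg 0) (by
      rw [map_mul, map_inv, hβ, hm0, hpg])
    have hm1' : m⁻¹ * g 1 * m * g 0 = g 2 := by
      have h1 := Dl.mul (hg 1) hm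
      rw [hm0'] at h1
      refine Dl.uniq C R h0 h1 (hg _) ?_
      rw [map_mul, map_mul, map_mul, map_inv, hpg, hpg, hpg, hm1]
    have hm3' : m⁻¹ * g 3 * m * g 0 = g 4 := by
      have h1 := Dl.mul (hg 3) hm
      rw [hm0'] at h1
      refine Dl.uniq C R h0 h1 (hg _) ?_
      rw [map_mul, map_mul, map_mul, map_inv, hpg, hpg, hpg, hm3]
    have hPc : g 0 * g 1 * g 2 * g 3 * g 4 ∈ center K := by
      apply (C.ker _).1
      rw [map_mul, map_mul, map_mul, map_mul, hpg, hpg, hpg, hpg, hpg, hprod']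
    -- `τ = conj (g₁ g₃) α`
    have hwE : π (g 1 * g 3) ∈ E := by rw [map_mul]; exact mul_mem (hgF 1) (hgF 3)
    have hαw : α (g 1 * g 3) = g 1 * g 3 := R.fixF C D hβ hE hwE
    have hww : g 1 * g 3 * (g 1 * g 3) = 1 := R.sq_one C D (D.sq _ hwE)
    have hτm : (MulAut.conj (g 1 * g 3) * α) m = m * (g 0 * g 1 * g 2 * g 3 * g 4) := by
      rw [MulAut.mul_apply, MulAut.conj_apply]
      have hαm : α m = m * g 0 := by rw [← hm0']; group
      have hc := fun i j => hF (g i) (g j) (hgF i) (hgF j)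
      have e1 : m⁻¹ * g 1 * m = g 2 * g 0 := by
        rw [← hm1', mul_assoc (m⁻¹ * g 1 * m), hg2, mul_one]
      have e3 : m⁻¹ * g 3 * m = g 4 * g 0 := by
        rw [← hm3', mul_assoc (m⁻¹ * g 3 * m), hg2, mul_one]
      have e4 : m⁻¹ * (g 1 * g 3) * m = g 2 * g 4 := by
        calc m⁻¹ * (g 1 * g 3) * m = (m⁻¹ * g 1 * m) * (m⁻¹ * g 3 * m) := by group
          _ = g 2 * (g 0 * g 4) * g 0 := by rw [e1, e3]; group
          _ = g 2 * (g 4 * g 0) * g 0 := by rw [hc]
          _ = g 2 * g 4 * (g 0 * g 0) := by group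
          _ = g 2 * g 4 := by rw [hg2, mul_one]
      have e5 : (g 1 * g 3)⁻¹ = g 1 * g 3 := inv_eq_of_mul_eq_one_left hww
      rw [hαm, e5]
      calc g 1 * g 3 * (m * g 0) * (g 1 * g 3) = m * (m⁻¹ * (g 1 * g 3) * m) * g 0 * (g 1 * g 3) := by group
        _ = m * (g 2 * (g 4 * g 0) * g 1 * g 3) := by rw [e4]; group
        _ = m * ((g 2 * g 0) * (g 4 * g 1) * g 3) := by rw [hc 4 0]; group
        _ = m * ((g 0 * g 2) * (g 1 * g 4) * g 3) := by rw [hc 2 0, hc 4 1]
        _ = m * (g 0 * (g 2 * g 1) * (g 4 * g 3)) := by group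
        _ = m * (g 0 * (g 1 * g 2) * (g 3 * g 4)) := by rw [hc 2 1, hc 4 3]
        _ = m * (g 0 * g 1 * g 2 * g 3 * g 4) := by group
    have hττ : MulAut.conj (g 1 * g 3) * α * (MulAut.conj (g 1 * g 3) * α) = 1 := by
      have h3 : MulAut.conj (g 1 * g 3) * α * (MulAut.conj (g 1 * g 3) * α) =
          MulAut.conj (g 1 * g 3 * α (g 1 * g 3)) * (α * α) := by
        ext x
        simp only [MulAut.mul_apply, MulAut.conj_apply, map_mul, map_inv, mul_inv_rev, mul_assoc]
      rw [h3, hα, hαw, hww, map_one, one_mul]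
    have hfix := R.fix_inv C D hττ (fun l => not_inner_mul hout _ l) (e := m) hmm (by
      rw [hτm, map_mul, (C.ker _).2 hPc, mul_one])
    rw [hτm] at hfix
    have hP : g 0 * g 1 * g 2 * g 3 * g 4 = 1 := mul_eq_left.1 hfix
    exact hfin (g 0) (g 1) (g 2) (g 3) (g 4) (hg 0) (by rw [hpg]; exact hx0) (hdg 0) (hdg 1) (hdg 2) (hdg 3) hP

/-- **(N6)** -/
theorem outSq (C : Cov π) (D : PData X E a b) (R : Pair z) : OutSq z := by
  intro α hα hout _
  obtain ⟨β, hβ⟩ := C.exists_ind α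
  have hββ := ind_sq C hβ hα
  obtain ⟨g, hg⟩ := D.conf β hββ (C.outer_ind hβ hout)
  obtain ⟨g, rfl⟩ := C.surj g
  have e1 : (MulAut.conj g)⁻¹ = MulAut.conj g⁻¹ := (map_inv _ _).symm
  have e2 : (MulAut.conj (π g))⁻¹ = MulAut.conj (π g)⁻¹ := (map_inv _ _).symm
  have hap : ∀ l, (MulAut.conj g * α * (MulAut.conj g)⁻¹) l = g * α (g⁻¹ * l * g) * g⁻¹ := by
    intro l
    rw [e1]
    change g * α (g⁻¹ * l * g⁻¹⁻¹) * g⁻¹ = _
    rw [inv_inv]
  have hβ' : ∀ l, π ((MulAut.conj g * α * (MulAut.conj g)⁻¹) l) =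
      (MulAut.conj (π g) * β * (MulAut.conj (π g))⁻¹) (π l) := by
    intro l
    rw [hap, e2]
    change _ = π g * β ((π g)⁻¹ * π l * (π g)⁻¹⁻¹) * (π g)⁻¹
    rw [inv_inv, map_mul π, map_mul π, hβ, map_mul π, map_mul π, map_inv π]
  have hα' : MulAut.conj g * α * (MulAut.conj g)⁻¹ * (MulAut.conj g * α * (MulAut.conj g)⁻¹) = 1 := by
    calc MulAut.conj g * α * (MulAut.conj g)⁻¹ * (MulAut.conj g * α * (MulAut.conj g)⁻¹)
        = MulAut.conj g * (α * α) * (MulAut.conj g)⁻¹ := by group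
      _ = 1 := by rw [hα]; group
  have hout' : ∀ k, MulAut.conj g * α * (MulAut.conj g)⁻¹ ≠ MulAut.conj k := by
    intro k hk
    apply hout (g⁻¹ * k * g)
    have h4 : α = (MulAut.conj g)⁻¹ * (MulAut.conj g * α * (MulAut.conj g)⁻¹) * MulAut.conj g := by group
    rw [h4, hk, map_mul, map_mul, map_inv]
  have hres : ∃ x ∈ SqFx (MulAut.conj g * α * (MulAut.conj g)⁻¹), x = z ∨ (x ≠ 1 ∧ ∃ q,
      (MulAut.conj g * α * (MulAut.conj g)⁻¹) q = q * x) := by
    rcases hg with hg | hg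
    · exact R.outB C D hβ' hg
    · exact R.outC C D hα' hout' hβ' hg
  obtain ⟨x, hx, h⟩ := hres
  refine ⟨g⁻¹ * x * g, sqFx_conj hx, ?_⟩
  rcases h with rfl | ⟨hx1, q, hq⟩
  · left
    rw [mul_assoc, R.zc g, inv_mul_cancel_left]
  · right
    refine ⟨?_, g⁻¹ * q * g, ?_⟩
    · intro h
      apply hx1
      calc x = g * (g⁻¹ * x * g) * g⁻¹ := by group
        _ = 1 := by rw [h]; group
    · rw [hap] at hq
      calc α (g⁻¹ * q * g) = g⁻¹ * (g * α (g⁻¹ * q * g) * g⁻¹) * g := by group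
        _ = g⁻¹ * (q * x) * g := by rw [hq]
        _ = g⁻¹ * q * g * (g⁻¹ * x * g) := by group

end Pair

end Cfsg.Agent.OddHalf.D9.M22.CovPair
end

-- part: OddHalf/D9/M22/EDataM22
section
set_option linter.all false
open scoped Cfsg.Agent.FastGrp

-- merged: Cfsg.Agent.OddHalf.D9.M22.Data
section

/-!
# Packed permutations for the facts about `M22` and `M22.2` used for the covers of `M22`

The group `M22.2` is the stabiliser in `M24` of the set of the points of indices 23 and 0.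
-/

set_option autoImplicit false

namespace Cfsg.Agent.OddHalf.D9.M22.Data

/-- an involution interchanging 23 and 0, with 8 fixed points, commuting with all of `WL` -/
def aP : ℕ := 5989235823820259689967313196876887

/-- an involution interchanging 23 and 0, without fixed points, commuting with all of `WL` -/
def bP : ℕ := 5447382388983081592886053788877911

/-- elements of `M24` conjugating the involution `P1` to `aP`, mapping the moved points of `P1` to 23 -/
def cA : List ℕ := [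
  666698304442815333842525571577873047,
  671683740289467998103476851058236768,
  900929671127128369491856291856467429,
  670507557355440009447890480029632833,
  569268944852052929204146967471773043,
  107914084243533090969633317994182288,
  278378700227790904919366957980274325,
  900954988225571224619251364400699719,
  255732795713921380865899522364627428,
  872967878740555508842617841688069605,
  184582695147872208226783207728890445,
  18350718961188289625920676061328752,
  923471715631182341612730791658866053,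
  568216948345703776550834124399986149,
  320718666014440383963810421849872964,
  977556892411248778714807077089594741]

/-- elements of `M24` conjugating the involution `P2` to `bP`, mapping the points to 23 -/
def cB : List ℕ := [
  444331860060415716664282775182260791,
  148570299619582709433822081766851306,
  652024181292720397022426587778505736,
  555175568032577027681215281547164207,
  268183697429256553997982929511778346,
  632985498441938434908435474639128630,
  375568987539881424218400380075711152,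
  501797218534951800357578603446315495,
  395236401338404291370579053180361379,
  134291182864723870180523849129798112,
  380760858565061111505299864890264808,
  130397368837416557417585996105557650,
  5275184003849185918959808197217522,
  837682717206143964244611599108710992,
  275972029741435477090103466546383107,
  234361158629418077159952867022559368,
  810268809026392975738358338068036136,
  581744215316184835909985405727186540,
  818056793446637891873651072899163777,
  586937084050081671218984504512852322,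
  58442621298910745327468524801935633,
  59346820116846675047810529710230770,
  362664003524868940133862933313113317,
  965810851301864897915895762954398180]

/-- an involution of `M22` normalising `WL` -/
def uP : ℕ := 979612761135085349229180013683835968

/-- an involution of `M22` normalising `WL`, `uP * vP` of order 4 -/
def vP : ℕ := 965128854020860192151391391390468128

/-- an element of order 3 commuting with `zP` -/
def d0 : ℕ := 963346899445373020599264805269837344

/-- an element of order 3 commuting with `zP` -/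
def d1 : ℕ := 964038917760814939315992205756774496

/-- an element of order 3 commuting with `zP` -/
def d2 : ℕ := 964046510025216699383369721277746624

/-- words in `d0`, `d1`, `d2` -/
def dW : List (List ℕ) := [
  [],
  [d0],
  [d1],
  [d2],
  [d0, d0],
  [d0, d1],
  [d0, d2],
  [d1, d0],
  [d1, d2],
  [d2, d0],
  [d2, d1],
  [d0, d0, d1],
  [d0, d0, d2],
  [d1, d2, d0],
  [d0, d1, d2, d0],
  [d1, d0, d0, d2],
  [d0, d0, d1, d2, d0]]

end Cfsg.Agent.OddHalf.D9.M22.Data

end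

-- merged: Cfsg.Agent.OddHalf.D9.M22.Perm
section

/-!
# Facts about `M22` and `M22.2 = D22` used for the covers of `M22`

`E`: the subgroup `WL` of order 16, with normaliser `2⁴:S₅`.

* `exists_conj_z` : the normaliser of `E` in `M22` is transitive on the involutions of `E`;
* `mem_E_of_comm` : `C(E) = E` in `M22`;
* `aP_*` : the involution `aP` of `D22 - M22` commutes with `E`, and no element of `aP E` commutes with `N(E)`;
* `exists_outer` : every involution of `D22 - M22` is conjugate in `M22` to an involution commuting with `E`;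
* `sq_of_comm` : if `g ∈ D22` commutes with all elements of order three of `M22` commuting with `zP`, `g² = 1`;
* `syl_card` : `⟨E, uP, vP⟩` has at least 128 elements.
-/

set_option autoImplicit false
set_option Elab.async false

namespace Cfsg.Agent.OddHalf.D9.M22

open Cfsg Cfsg.Agent.SporadicA.GolayBase Cfsg.Agent.SporadicA.GolayPerm
open Cfsg.Agent.SporadicStructure.M24El Cfsg.Agent.KFacts.MM
open Cfsg.Agent.KFacts.MM.El (pm pr ev val weq okl pts)
open Cfsg.Agent.KFacts.MM.Data (WL kW zP)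
open Cfsg.Agent.J4Type.Aut22 (D22)
open Cfsg.Agent.KFacts.MM.InvM22 (isPerm_of_ok)

abbrev Pm := Equiv.Perm GolayPt

/-! ### Packed elements -/

theorem pt_23 : pt 23 = (none : GolayPt) := rfl

theorem pt_0 : pt 0 = (some 0 : GolayPt) := by
  unfold pt
  simp

/-- the packed permutation is in `M22` -/
def ok22 (P : ℕ) : Bool := ok P && Nat.beq (papp P 23) 23 && Nat.beq (papp P 0) 0

theorem ok22_iff {P : ℕ} : ok22 P = true ↔ ok P = true ∧ papp P 23 = 23 ∧ papp P 0 = 0 := by
  unfold ok22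
  rw [Bool.and_eq_true, Bool.and_eq_true, Nat.beq_eq, Nat.beq_eq, and_assoc]

theorem pm_pt {P : ℕ} (h : ok P = true) {i : ℕ} (hi : i < 24) : pm P (pt i) = pt (papp P i) := by
  rw [← El.pt_val, El.val_pm (isPerm_of_ok h) hi]

theorem pm_M24 {P : ℕ} (h : ok P = true) : pm P ∈ M24 := InvM22.pm_mem h

theorem pm_M22 {P : ℕ} (h : ok22 P = true) : pm P ∈ Spor.M22 := by
  obtain ⟨h1, h2, h3⟩ := ok22_iff.1 h
  rw [Cfsg.Agent.SporadicA.MathieuRecog.mem_M22_iff]
  refine ⟨pm_M24 h1, ?_, ?_⟩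
  · rw [← pt_23, pm_pt h1 (by norm_num), h2]
  · rw [← pt_0, pm_pt h1 (by norm_num), h3]

theorem okl_two {P Q : ℕ} (hP : isPerm P = true) (hQ : isPerm Q = true) : okl [P, Q] = true := by
  unfold El.okl
  rw [List.all_cons, List.all_cons, List.all_nil, hP, hQ]
  rfl

theorem okl_one {P : ℕ} (hP : isPerm P = true) : okl [P] = true := by
  unfold El.okl
  rw [List.all_cons, List.all_nil, hP]
  rfl

theorem okl_three {P Q R : ℕ} (hP : isPerm P = true) (hQ : isPerm Q = true) (hR : isPerm R = true) :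
    okl [P, Q, R] = true := by
  unfold El.okl
  rw [List.all_cons, List.all_cons, List.all_cons, List.all_nil, hP, hQ, hR]
  rfl

theorem eq_two {P Q R S : ℕ} (hP : isPerm P = true) (hQ : isPerm Q = true) (hR : isPerm R = true)
    (hS : isPerm S = true) (h : weq [P, Q] [R, S] = true) : pm P * pm Q = pm R * pm S := by
  have h1 := El.pr_of_weq (okl_two hP hQ) (okl_two hR hS) h
  rwa [El.pr_cons, El.pr_one, El.pr_cons, El.pr_one] at h1

theorem eq_one {P Q R : ℕ} (hP : isPerm P = true) (hQ : isPerm Q = true) (hR : isPerm R = true)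
    (h : weq [P, Q] [R] = true) : pm P * pm Q = pm R := by
  have h1 := El.pr_of_weq (okl_two hP hQ) (okl_one hR) h
  rwa [El.pr_cons, El.pr_one, El.pr_one] at h1

theorem eq_nil {P Q : ℕ} (hP : isPerm P = true) (hQ : isPerm Q = true)
    (h : weq [P, Q] [] = true) : pm P * pm Q = 1 := by
  have h1 := El.pr_of_weq (okl_two hP hQ) rfl h
  rwa [El.pr_cons, El.pr_one, El.pr_nil] at h1

theorem pm_idP : pm idP = 1 := by
  have h1 := El.pr_of_weq (l := [idP]) (m := []) (by decide +kernel) rfl (by decide +kernel)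
  rwa [El.pr_one, El.pr_nil] at h1

/-! ### The subgroup `E` -/

theorem WL_ok : WL.all ok22 = true := by decide +kernel

private noncomputable def _root_.Cfsg.Agent.LsF.fc86ecf_0 : {f // @Cfsg.Agent.SporadicA.GolayPerm.papp = f} := ⟨_, by first | (delta Cfsg.Agent.SporadicA.GolayPerm.papp; rewrite [Cfsg.Agent.LsF.nmul_pat, Cfsg.Agent.LsF.nmod_pat, Cfsg.Agent.LsF.nshr_pat]; exact rfl) | exact rfl⟩
private noncomputable def _root_.Cfsg.Agent.LsF.fc86ecf_1 : {f // @Cfsg.Agent.KFacts.MM.El.ev = f} := ⟨_, by first | (delta Cfsg.Agent.KFacts.MM.El.ev; rewrite [Cfsg.Agent.LsF.fc86ecf_0.2, Cfsg.Agent.LsF.foldr_eq]; exact rfl) | exact rfl⟩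
private noncomputable def _root_.Cfsg.Agent.LsF.fc86ecf_2 : {f // @Cfsg.Agent.KFacts.MM.El.weq = f} := ⟨_, by first | (delta Cfsg.Agent.KFacts.MM.El.weq; rewrite [Cfsg.Agent.LsF.fc86ecf_1.2, Cfsg.Agent.LsF.all_eq]; exact rfl) | exact rfl⟩
theorem WL_mul : (WL.all fun P => WL.all fun Q => WL.any fun R => weq [P, Q] [R]) = true := by
  ((try (rewrite [Cfsg.Agent.LsF.fc86ecf_2.2, Cfsg.Agent.LsF.all_eq, Cfsg.Agent.LsF.any_eq])); decide +kernel)

theorem WL_comm : (WL.all fun P => WL.all fun Q => weq [P, Q] [Q, P]) = true := by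
  ((try (rewrite [Cfsg.Agent.LsF.fc86ecf_2.2, Cfsg.Agent.LsF.all_eq])); decide +kernel)

theorem WL_sq : (WL.all fun P => weq [P, P] []) = true := by
  decide +kernel

theorem ok22_of_WL {P : ℕ} (h : P ∈ WL) : ok22 P = true := List.all_eq_true.1 WL_ok P h

theorem ok_of_ok22 {P : ℕ} (h : ok22 P = true) : ok P = true := (ok22_iff.1 h).1

theorem perm_of_WL {P : ℕ} (h : P ∈ WL) : isPerm P = true := isPerm_of_ok (ok_of_ok22 (ok22_of_WL h))

theorem sq_of_WL {P : ℕ} (h : P ∈ WL) : pm P * pm P = 1 :=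
  eq_nil (perm_of_WL h) (perm_of_WL h) (List.all_eq_true.1 WL_sq P h)

/-- the elementary abelian subgroup of order 16 with normaliser `2⁴:S₅` in `M22` -/
def E : Subgroup (Equiv.Perm GolayPt) where
  carrier := {g | ∃ P ∈ WL, pm P = g}
  mul_mem' := by
    rintro _ _ ⟨P, hP, rfl⟩ ⟨Q, hQ, rfl⟩
    have h1 := List.all_eq_true.1 (List.all_eq_true.1 WL_mul P hP) Q hQ
    obtain ⟨R, hR, h2⟩ := List.any_eq_true.1 h1
    exact ⟨R, hR, (eq_one (perm_of_WL hP) (perm_of_WL hQ) (perm_of_WL hR) h2).symm⟩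
  one_mem' := ⟨idP, by decide +kernel, pm_idP⟩
  inv_mem' := by
    rintro _ ⟨P, hP, rfl⟩
    exact ⟨P, hP, (inv_eq_of_mul_eq_one_left (sq_of_WL hP)).symm⟩

theorem mem_E {g : Equiv.Perm GolayPt} : g ∈ E ↔ ∃ P ∈ WL, pm P = g := Iff.rfl

theorem pm_mem_E {P : ℕ} (h : P ∈ WL) : pm P ∈ E := ⟨P, h, rfl⟩

theorem E_le : E ≤ Spor.M22 := by
  rintro _ ⟨P, hP, rfl⟩
  exact pm_M22 (ok22_of_WL hP)

theorem E_sq {g : Equiv.Perm GolayPt} (h : g ∈ E) : g * g = 1 := by
  obtain ⟨P, hP, rfl⟩ := h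
  exact sq_of_WL hP

theorem E_comm {g h : Equiv.Perm GolayPt} (hg : g ∈ E) (hh : h ∈ E) : g * h = h * g := by
  obtain ⟨P, hP, rfl⟩ := hg
  obtain ⟨Q, hQ, rfl⟩ := hh
  exact eq_two (perm_of_WL hP) (perm_of_WL hQ) (perm_of_WL hQ) (perm_of_WL hP)
    (List.all_eq_true.1 (List.all_eq_true.1 WL_comm P hP) Q hQ)

theorem card_E : Nat.card E = 16 := by
  have h := El.card_of_list (L := WL.map fun P => [P]) (by decide +kernel) (by decide +kernel)
    (E : Set (Equiv.Perm GolayPt)) (by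
      intro g
      constructor
      · rintro ⟨P, hP, rfl⟩
        exact ⟨[P], List.mem_map_of_mem hP, El.pr_one P⟩
      · rintro ⟨l, hl, rfl⟩
        obtain ⟨P, hP, rfl⟩ := List.mem_map.1 hl
        exact ⟨P, hP, (El.pr_one P).symm⟩)
  exact h

theorem zP_mem : pm zP ∈ E := pm_mem_E (by decide +kernel)

/-! ### The normaliser of `E` -/

/-- `g ∈ M22` normalises `E` -/
def Nrm (g : Equiv.Perm GolayPt) : Prop := g ∈ Spor.M22 ∧ ∀ w ∈ E, g * w * g⁻¹ ∈ E

/-- test for `Nrm` -/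
def nrm (n : ℕ) : Bool := ok22 n && WL.all fun P => WL.any fun Q => weq [n, P] [Q, n]

theorem nrm_pm {n : ℕ} (h : nrm n = true) : Nrm (pm n) := by
  unfold nrm at h
  rw [Bool.and_eq_true] at h
  refine ⟨pm_M22 h.1, ?_⟩
  rintro _ ⟨P, hP, rfl⟩
  obtain ⟨Q, hQ, h2⟩ := List.any_eq_true.1 (List.all_eq_true.1 h.2 P hP)
  have hn := isPerm_of_ok (ok_of_ok22 h.1)
  have h3 := eq_two hn (perm_of_WL hP) (perm_of_WL hQ) hn h2
  rw [h3, mul_inv_cancel_right]
  exact pm_mem_E hQ

private noncomputable def _root_.Cfsg.Agent.LsF.fc86ecf_3 : {f // @Cfsg.Agent.SporadicA.GolayPerm.pimg = f} := ⟨_, by first | (delta Cfsg.Agent.SporadicA.GolayPerm.pimg; rewrite [Cfsg.Agent.LsF.fc86ecf_0.2, Cfsg.Agent.LsF.nmod_pat, Cfsg.Agent.LsF.nxor_pat, Cfsg.Agent.LsF.nshl_pat, Cfsg.Agent.LsF.nshr_pat]; exact rfl) | exact rfl⟩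
private noncomputable def _root_.Cfsg.Agent.LsF.fc86ecf_4 : {f // @Cfsg.Agent.SporadicA.GolayPerm.isPerm = f} := ⟨_, by first | (delta Cfsg.Agent.SporadicA.GolayPerm.isPerm; rewrite [Cfsg.Agent.LsF.fc86ecf_3.2]; exact rfl) | exact rfl⟩
private noncomputable def _root_.Cfsg.Agent.LsF.fc86ecf_5 : {f // @Cfsg.Agent.SporadicA.GolayBase.enc = f} := ⟨_, by first | (delta Cfsg.Agent.SporadicA.GolayBase.enc; rewrite [Cfsg.Agent.LsF.nmul_pat, Cfsg.Agent.LsF.nmod_pat, Cfsg.Agent.LsF.nxor_pat, Cfsg.Agent.LsF.nshr_pat]; exact rfl) | exact rfl⟩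
private noncomputable def _root_.Cfsg.Agent.LsF.fc86ecf_6 : {f // @Cfsg.Agent.SporadicA.GolayBase.isCode = f} := ⟨_, by first | (delta Cfsg.Agent.SporadicA.GolayBase.isCode; rewrite [Cfsg.Agent.LsF.fc86ecf_5.2]; exact rfl) | exact rfl⟩
private noncomputable def _root_.Cfsg.Agent.LsF.fc86ecf_7 : {f // @Cfsg.Agent.SporadicA.GolayPerm.isAut = f} := ⟨_, by first | (delta Cfsg.Agent.SporadicA.GolayPerm.isAut; rewrite [Cfsg.Agent.LsF.fc86ecf_6.2, Cfsg.Agent.LsF.fc86ecf_3.2, Cfsg.Agent.LsF.and_eq]; exact rfl) | exact rfl⟩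
private noncomputable def _root_.Cfsg.Agent.LsF.fc86ecf_8 : {f // @Cfsg.Agent.SporadicStructure.M24El.ok = f} := ⟨_, by first | (delta Cfsg.Agent.SporadicStructure.M24El.ok; rewrite [Cfsg.Agent.LsF.fc86ecf_4.2, Cfsg.Agent.LsF.fc86ecf_7.2, Cfsg.Agent.LsF.and_eq]; exact rfl) | exact rfl⟩
private noncomputable def _root_.Cfsg.Agent.LsF.fc86ecf_9 : {f // @Cfsg.Agent.OddHalf.D9.M22.ok22 = f} := ⟨_, by first | (delta Cfsg.Agent.OddHalf.D9.M22.ok22; rewrite [Cfsg.Agent.LsF.fc86ecf_8.2, Cfsg.Agent.LsF.fc86ecf_0.2, Cfsg.Agent.LsF.and_eq]; exact rfl) | exact rfl⟩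
private noncomputable def _root_.Cfsg.Agent.LsF.fc86ecf_10 : {f // @Cfsg.Agent.OddHalf.D9.M22.nrm = f} := ⟨_, by first | (delta Cfsg.Agent.OddHalf.D9.M22.nrm; rewrite [Cfsg.Agent.LsF.fc86ecf_9.2, Cfsg.Agent.LsF.fc86ecf_2.2, Cfsg.Agent.LsF.and_eq, Cfsg.Agent.LsF.all_eq, Cfsg.Agent.LsF.any_eq]; exact rfl) | exact rfl⟩
theorem kW_nrm : kW.all nrm = true := by ((try (rewrite [Cfsg.Agent.LsF.fc86ecf_10.2, Cfsg.Agent.LsF.all_eq])); decide +kernel)

theorem Nrm.inv_mem {g : Equiv.Perm GolayPt} (h : Nrm g) {w : Equiv.Perm GolayPt} (hw : w ∈ E) :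
    g⁻¹ * w * g ∈ E := by
  -- conjugation by `g` is an injective map of the finite set `E` to itself
  have hfin : (E : Set (Equiv.Perm GolayPt)).Finite := Set.toFinite _
  have hmap : Set.MapsTo (fun x => g * x * g⁻¹) (E : Set (Equiv.Perm GolayPt)) E := fun x hx => h.2 x hx
  have hinj : Set.InjOn (fun x => g * x * g⁻¹) (E : Set (Equiv.Perm GolayPt)) := by
    intro x _ y _ hxy
    exact mul_left_cancel (mul_right_cancel hxy)
  obtain ⟨x, hx, hxw⟩ := ((hfin.injOn_iff_bijOn_of_mapsTo hmap).1 hinj).surjOn hw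
  have : g⁻¹ * w * g = x := by
    rw [← hxw]; group
  rw [this]; exact hx

theorem kW_conj : (WL.all fun P => Nat.beq P idP || kW.any fun n => weq [n, zP] [P, n]) = true := by
  decide +kernel

theorem exists_conj_z {w : Equiv.Perm GolayPt} (hw : w ∈ E) (h1 : w ≠ 1) :
    ∃ n, Nrm n ∧ n * pm zP * n⁻¹ = w := by
  obtain ⟨P, hP, rfl⟩ := hw
  have h2 := List.all_eq_true.1 kW_conj P hP
  rw [Bool.or_eq_true] at h2
  rcases h2 with h2 | h2
  · exfalso
    apply h1
    rw [Nat.eq_of_beq_eq_true h2, pm_idP]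
  · obtain ⟨n, hn, h3⟩ := List.any_eq_true.1 h2
    have h4 := List.all_eq_true.1 kW_nrm n hn
    have h5 : isPerm n = true := by
      unfold nrm at h4
      rw [Bool.and_eq_true] at h4
      exact isPerm_of_ok (ok_of_ok22 h4.1)
    refine ⟨pm n, nrm_pm h4, ?_⟩
    rw [eq_two h5 (isPerm_of_ok InvM22.ok_z) (perm_of_WL hP) h5 h3, mul_inv_cancel_right]

/-! ### The centraliser of `E` in `M22` -/

/-- the octad `{3, 5, 14, 17} ∪ {4, 13, 16, 22}` -/
def o2 : ℕ := 4415544

theorem o2_mem : fin o2 ∈ octads :=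
  (fin_mem_octads_iff (by norm_num [o2])).2 (by decide +kernel)

theorem t1_ok : (pts.all fun j => [3, 5, 14, 17].any (Nat.beq j) || WL.any fun P =>
    (Nat.beq (papp P 3) 3 && !(Nat.beq (papp P j) j)) || (!(Nat.beq (papp P 3) 3) && Nat.beq (papp P j) j)) =
      true := by decide +kernel

theorem t2_ok : (pts.all fun j => [4, 13, 16, 22].any (Nat.beq j) || WL.any fun P =>
    (Nat.beq (papp P 4) 4 && !(Nat.beq (papp P j) j)) || (!(Nat.beq (papp P 4) 4) && Nat.beq (papp P j) j)) =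
      true := by decide +kernel

theorem t3_ok : ([3, 5, 14, 17].all fun i => [4, 13, 16, 22].all fun j => WL.any fun P =>
    Nat.beq (papp P i) 3 && Nat.beq (papp P j) 4) = true := by decide +kernel

theorem t4_ok : (pts.all fun i => !(o2.testBit i) || WL.any fun P => Nat.beq (papp P 3) i ||
    Nat.beq (papp P 4) i) = true := by decide +kernel

/-- commutation and values -/
theorem val_comm {g : Equiv.Perm GolayPt} {P : ℕ} (hP : isPerm P = true) (h : g * pm P = pm P * g) {i : ℕ}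
    (hi : i < 24) : val g (papp P i) = papp P (val g i) := by
  rw [← El.val_pm hP hi, ← El.val_mul, h, El.val_mul, El.val_pm hP (El.val_lt _ _)]

theorem val_fix {g : Equiv.Perm GolayPt} {P : ℕ} (hP : isPerm P = true) (h : g * pm P = pm P * g) {i : ℕ}
    (hi : i < 24) : papp P i = i ↔ papp P (val g i) = val g i := by
  rw [← val_comm hP h hi]
  constructor
  · intro h1; rw [h1]
  · intro h1; exact El.val_inj (papp_lt hP hi) hi h1

/-- the image of a base point under an element commuting with `E` -/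
theorem img_base {g : Equiv.Perm GolayPt} (hc : ∀ w ∈ E, g * w = w * g) {b : ℕ} (hb : b < 24) {l : List ℕ}
    (ht : (pts.all fun j => l.any (Nat.beq j) || WL.any fun P =>
      (Nat.beq (papp P b) b && !(Nat.beq (papp P j) j)) || (!(Nat.beq (papp P b) b) && Nat.beq (papp P j) j)) =
        true) : val g b ∈ l := by
  have h1 := List.all_eq_true.1 ht _ (El.mem_pts (El.val_lt g b))
  rw [Bool.or_eq_true] at h1
  rcases h1 with h1 | h1
  · obtain ⟨x, hx, h2⟩ := List.any_eq_true.1 h1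
    rw [Nat.eq_of_beq_eq_true h2]; exact hx
  · exfalso
    obtain ⟨P, hP, h2⟩ := List.any_eq_true.1 h1
    have h3 := val_fix (perm_of_WL hP) (hc _ (pm_mem_E hP)) hb
    rw [Bool.or_eq_true, Bool.and_eq_true, Bool.and_eq_true, Bool.not_eq_true', Bool.not_eq_true', Nat.beq_eq,
      Nat.beq_eq] at h2
    rcases h2 with ⟨h4, h5⟩ | ⟨h4, h5⟩
    · rw [h3.1 h4, Nat.beq_refl] at h5
      cases h5
    · rw [h3.2 h5, Nat.beq_refl] at h4
      cases h4

theorem mem_E_of_comm {g : Equiv.Perm GolayPt} (hg : g ∈ Spor.M22) (hc : ∀ w ∈ E, g * w = w * g) : g ∈ E := by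
  have h1 := img_base hc (b := 3) (by norm_num) t1_ok
  have h2 := img_base hc (b := 4) (by norm_num) t2_ok
  obtain ⟨P, hP, h3⟩ := List.any_eq_true.1
    (List.all_eq_true.1 (List.all_eq_true.1 t3_ok _ h1) _ h2)
  rw [Bool.and_eq_true, Nat.beq_eq, Nat.beq_eq] at h3
  have hPE := pm_mem_E hP
  -- `h = P g` fixes the octad pointwise
  set h : Equiv.Perm GolayPt := pm P * g with hh
  have hhc : ∀ w ∈ E, h * w = w * h := by
    intro w hw
    rw [hh, mul_assoc, hc w hw, ← mul_assoc, E_comm hPE hw, mul_assoc]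
  have hv3 : val h 3 = 3 := by
    rw [hh, El.val_mul, El.val_pm (perm_of_WL hP) (El.val_lt _ _)]; exact h3.1
  have hv4 : val h 4 = 4 := by
    rw [hh, El.val_mul, El.val_pm (perm_of_WL hP) (El.val_lt _ _)]; exact h3.2
  have hmem : h ∈ Spor.M22 := Spor.M22.mul_mem (E_le hPE) hg
  have hfix : h ∈ Cfsg.Agent.SporadicA.OctadFix.fixOct (fin o2) := by
    rw [Cfsg.Agent.SporadicA.OctadFix.mem_fixOct]
    refine ⟨((Cfsg.Agent.SporadicA.MathieuRecog.mem_M22_iff _).1 hmem).1, fun x hx => ?_⟩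
    rw [mem_fin] at hx
    have hlt := idx_lt x
    have h5 := List.all_eq_true.1 t4_ok _ (El.mem_pts hlt)
    rw [hx, Bool.not_true, Bool.false_or] at h5
    obtain ⟨Q, hQ, h6⟩ := List.any_eq_true.1 h5
    rw [Bool.or_eq_true, Nat.beq_eq, Nat.beq_eq] at h6
    have h7 : val h (idx x) = idx x := by
      rcases h6 with h6 | h6
      · rw [← h6, val_comm (perm_of_WL hQ) (hhc _ (pm_mem_E hQ)) (by norm_num), hv3]
      · rw [← h6, val_comm (perm_of_WL hQ) (hhc _ (pm_mem_E hQ)) (by norm_num), hv4]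
    unfold El.val at h7
    rw [pt_idx] at h7
    exact idx_injective h7
  have hn : (none : GolayPt) ∉ fin o2 := by
    rw [← pt_23, mem_fin, idx_pt (by norm_num)]
    decide +kernel
  have huniq := (Cfsg.Agent.SporadicA.OctadFix.existsUnique_fixOct o2_mem hn hn).unique
    ⟨hfix, ((Cfsg.Agent.SporadicA.MathieuRecog.mem_M22_iff _).1 hmem).2.1⟩ ⟨one_mem _, rfl⟩
  have h8 : g = (pm P)⁻¹ := by
    rw [eq_comm, inv_eq_iff_mul_eq_one]
    exact huniq
  rw [h8]
  exact E.inv_mem hPE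

/-! ### Outer elements -/

open Cfsg.Agent.OddHalf.D9.M22.Data (aP bP cA cB uP vP dW d0 d1 d2)

theorem ok_aP : ok aP = true := by decide +kernel
theorem ok_bP : ok bP = true := by decide +kernel
theorem a_23 : papp aP 23 = 0 := by decide +kernel
theorem a_0 : papp aP 0 = 23 := by decide +kernel
theorem b_23 : papp bP 23 = 0 := by decide +kernel
theorem b_0 : papp bP 0 = 23 := by decide +kernel

theorem pm_aP_D22 : pm aP ∈ D22 := by
  rw [Cfsg.Agent.J4Type.Aut22.mem_D22_iff]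
  refine ⟨pm_M24 ok_aP, Or.inr ⟨?_, ?_⟩⟩
  · rw [← pt_23, pm_pt ok_aP (by norm_num), a_23, pt_0]
  · rw [← pt_0, pm_pt ok_aP (by norm_num), a_0]
    rfl

theorem pm_aP_none : pm aP none = some 0 := by
  rw [← pt_23, pm_pt ok_aP (by norm_num), a_23, pt_0]

theorem pm_bP_none : pm bP none = some 0 := by
  rw [← pt_23, pm_pt ok_bP (by norm_num), b_23, pt_0]

theorem aP_comm_ok : (WL.all fun P => weq [aP, P] [P, aP]) = true := by decide +kernel
theorem bP_comm_ok : (WL.all fun P => weq [bP, P] [P, bP]) = true := by decide +kernel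

theorem aP_comm {w : Equiv.Perm GolayPt} (hw : w ∈ E) : pm aP * w = w * pm aP := by
  obtain ⟨P, hP, rfl⟩ := hw
  exact eq_two (isPerm_of_ok ok_aP) (perm_of_WL hP) (perm_of_WL hP) (isPerm_of_ok ok_aP)
    (List.all_eq_true.1 aP_comm_ok P hP)

theorem bP_comm {w : Equiv.Perm GolayPt} (hw : w ∈ E) : pm bP * w = w * pm bP := by
  obtain ⟨P, hP, rfl⟩ := hw
  exact eq_two (isPerm_of_ok ok_bP) (perm_of_WL hP) (perm_of_WL hP) (isPerm_of_ok ok_bP)
    (List.all_eq_true.1 bP_comm_ok P hP)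

theorem aP_ncomm_ok : (WL.all fun P => kW.any fun n => !(weq [n, P, aP] [P, aP, n])) = true := by
  decide +kernel

/-- no element of `E aP` commutes with the normaliser of `E` -/
theorem exists_ncomm {w : Equiv.Perm GolayPt} (hw : w ∈ E) :
    ∃ n, Nrm n ∧ n * (w * pm aP) ≠ w * pm aP * n := by
  obtain ⟨P, hP, rfl⟩ := hw
  obtain ⟨n, hn, h1⟩ := List.any_eq_true.1 (List.all_eq_true.1 aP_ncomm_ok P hP)
  have h4 := List.all_eq_true.1 kW_nrm n hn
  have h5 : isPerm n = true := by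
    have h4' := h4
    unfold nrm at h4'
    rw [Bool.and_eq_true] at h4'
    exact isPerm_of_ok (ok_of_ok22 h4'.1)
  refine ⟨pm n, nrm_pm h4, ?_⟩
  have h6 := El.pr_ne (okl_three h5 (perm_of_WL hP) (isPerm_of_ok ok_aP))
    (okl_three (perm_of_WL hP) (isPerm_of_ok ok_aP) h5) (by rwa [Bool.not_eq_true'] at h1)
  rwa [El.pr_cons, El.pr_cons, El.pr_one, El.pr_cons, El.pr_cons, El.pr_one, ← mul_assoc (pm P)] at h6

/-- the row test for the tables `cA`, `cB` -/
def rowT (P A : ℕ) (i : ℕ) (c : ℕ) : Bool := ok c && weq [c, P] [A, c] && Nat.beq (papp c i) 23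

theorem cA_ok : (pts.all fun i => Nat.beq (papp J4.M24InvolData.P1 i) i ||
    cA.any (rowT J4.M24InvolData.P1 aP i)) = true := by decide +kernel

private noncomputable def _root_.Cfsg.Agent.LsF.fc86ecf_11 : {f // @Cfsg.Agent.OddHalf.D9.M22.rowT = f} := ⟨_, by first | (delta Cfsg.Agent.OddHalf.D9.M22.rowT; rewrite [Cfsg.Agent.LsF.fc86ecf_8.2, Cfsg.Agent.LsF.fc86ecf_2.2, Cfsg.Agent.LsF.fc86ecf_0.2, Cfsg.Agent.LsF.and_eq]; exact rfl) | exact rfl⟩
theorem cB_ok : (pts.all fun i => cB.any (rowT J4.M24InvolData.P2 bP i)) = true := by ((try (rewrite [Cfsg.Agent.LsF.fc86ecf_11.2, Cfsg.Agent.LsF.all_eq, Cfsg.Agent.LsF.any_eq])); decide +kernel)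

/-- one type of outer involutions -/
theorem outer_aux {P A : ℕ} (hP : ok P = true) (hA : ok A = true) (hA23 : papp A 23 = 0)
    {a h : Equiv.Perm GolayPt} (ha : a none = some 0) (hh : h ∈ M24)
    (hha : h * a * h⁻¹ = pm P) {c : ℕ} (hc : rowT P A (idx (h none)) c = true) :
    ∃ g ∈ Spor.M22, a = g * pm A * g⁻¹ := by
  unfold rowT at hc
  rw [Bool.and_eq_true, Bool.and_eq_true, Nat.beq_eq] at hc
  obtain ⟨⟨hok, hw⟩, hv⟩ := hc
  have h1 := eq_two (isPerm_of_ok hok) (isPerm_of_ok hP) (isPerm_of_ok hA) (isPerm_of_ok hok) hw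
  have h2 : (pm c * h) * a * (pm c * h)⁻¹ = pm A := by
    have e : (pm c * h) * a * (pm c * h)⁻¹ = pm c * (h * a * h⁻¹) * (pm c)⁻¹ := by group
    rw [e, hha, h1, mul_inv_cancel_right]
  have hn : (pm c * h) none = none := by
    rw [Equiv.Perm.mul_apply, ← pt_idx (h none), pm_pt hok (idx_lt _), hv]
    rfl
  have h0 : (pm c * h) (some 0) = some 0 := by
    have h3 : (pm c * h) * a = pm A * (pm c * h) := by rw [← h2]; group
    have h4 := congrArg (fun f : Equiv.Perm GolayPt => f none) h3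
    simp only [Equiv.Perm.mul_apply] at h4
    rw [ha] at h4
    have h5 : pm c (h none) = none := hn
    rw [h5] at h4
    show pm c (h (some 0)) = some 0
    rw [h4, ← pt_23, pm_pt hA (by norm_num), hA23, pt_0]
  have hM : pm c * h ∈ Spor.M22 := by
    rw [Cfsg.Agent.SporadicA.MathieuRecog.mem_M22_iff]
    exact ⟨M24.mul_mem (pm_M24 hok) hh, hn, h0⟩
  refine ⟨(pm c * h)⁻¹, Spor.M22.inv_mem hM, ?_⟩
  rw [← h2]; group

/-- **Every outer involution is conjugate to `aP` or `bP`**. -/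
theorem outer_cases {a : Equiv.Perm GolayPt} (ha : a ∈ D22) (hn : a ∉ Spor.M22) (h2 : a * a = 1) :
    ∃ g ∈ Spor.M22, a = g * pm aP * g⁻¹ ∨ a = g * pm bP * g⁻¹ := by
  obtain ⟨ha24, hcase⟩ := (Cfsg.Agent.J4Type.Aut22.mem_D22_iff a).1 ha
  have hsw : a none = some 0 ∧ a (some 0) = none := by
    rcases hcase with h | h
    · exact absurd ((Cfsg.Agent.SporadicA.MathieuRecog.mem_M22_iff a).2 ⟨ha24, h⟩) hn
    · exact h
  have h1 : a ≠ 1 := by
    intro e
    rw [e] at hsw
    exact absurd hsw.1 (by simp)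
  obtain ⟨g, hg | hg⟩ := J4.M24Invol.invol_conj ⟨a, ha24⟩ (Subtype.ext h2)
    (fun e => h1 (congrArg Subtype.val e))
  · have hg' : (g : Equiv.Perm GolayPt) * a * (g : Equiv.Perm GolayPt)⁻¹ = pm J4.M24InvolData.P1 := by
      rw [← El.coe_el J4.M24Invol.ok_P1]
      exact congrArg Subtype.val hg
    have hlt := idx_lt ((g : Equiv.Perm GolayPt) none)
    have h3 := List.all_eq_true.1 cA_ok _ (El.mem_pts hlt)
    rw [Bool.or_eq_true] at h3
    rcases h3 with h3 | h3
    · exfalso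
      have h4 := Nat.eq_of_beq_eq_true h3
      have h5 : pm J4.M24InvolData.P1 ((g : Equiv.Perm GolayPt) none) = (g : Equiv.Perm GolayPt) none := by
        conv_lhs => rw [← pt_idx ((g : Equiv.Perm GolayPt) none)]
        rw [pm_pt J4.M24Invol.ok_P1 hlt, h4, pt_idx]
      rw [← hg'] at h5
      have h6 : (g : Equiv.Perm GolayPt) (a ((g : Equiv.Perm GolayPt)⁻¹ ((g : Equiv.Perm GolayPt) none))) =
        (g : Equiv.Perm GolayPt) none := h5
      rw [show (g : Equiv.Perm GolayPt)⁻¹ ((g : Equiv.Perm GolayPt) none) = none from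
        (g : Equiv.Perm GolayPt).symm_apply_apply none, hsw.1] at h6
      have h7 := (g : Equiv.Perm GolayPt).injective h6
      cases h7
    · obtain ⟨c, -, hc⟩ := List.any_eq_true.1 h3
      obtain ⟨k, hk, e⟩ := outer_aux J4.M24Invol.ok_P1 ok_aP a_23 hsw.1 g.2 hg' hc
      exact ⟨k, hk, Or.inl e⟩
  · have hg' : (g : Equiv.Perm GolayPt) * a * (g : Equiv.Perm GolayPt)⁻¹ = pm J4.M24InvolData.P2 := by
      rw [← El.coe_el J4.M24Invol.ok_P2]
      exact congrArg Subtype.val hg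
    have hlt := idx_lt ((g : Equiv.Perm GolayPt) none)
    obtain ⟨c, -, hc⟩ := List.any_eq_true.1 (List.all_eq_true.1 cB_ok _ (El.mem_pts hlt))
    obtain ⟨k, hk, e⟩ := outer_aux J4.M24Invol.ok_P2 ok_bP b_23 hsw.1 g.2 hg' hc
    exact ⟨k, hk, Or.inr e⟩

theorem exists_outer {a : Equiv.Perm GolayPt} (ha : a ∈ D22) (hn : a ∉ Spor.M22) (h2 : a * a = 1) :
    ∃ g ∈ Spor.M22, ∀ w ∈ E, (g⁻¹ * a * g) * w = w * (g⁻¹ * a * g) := by
  obtain ⟨g, hg, h | h⟩ := outer_cases ha hn h2
  · refine ⟨g, hg, fun w hw => ?_⟩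
    have e : g⁻¹ * a * g = pm aP := by rw [h]; group
    rw [e]; exact aP_comm hw
  · refine ⟨g, hg, fun w hw => ?_⟩
    have e : g⁻¹ * a * g = pm bP := by rw [h]; group
    rw [e]; exact bP_comm hw

/-! ### Elements of odd order commuting with the involution `zP` -/

theorem d_ok : ([d0, d1, d2].all fun d => ok22 d && weq [d, zP] [zP, d] && weq [d, d, d] []) = true := by
  decide +kernel

theorem dW_mem : (dW.all fun w => w.all fun d => [d0, d1, d2].any (Nat.beq d)) = true := by decide +kernel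

/-- the test for the base point `b` -/
def baseT (b : ℕ) : Bool := pts.all fun j => Nat.beq j 0 || Nat.beq j 23 || dW.any fun w =>
  (Nat.beq (ev w b) b && !(Nat.beq (ev w j) j)) || (Nat.beq (ev w b) j && Nat.beq (ev w j) b)

theorem base_ok : (baseT 1 && baseT 4 && baseT 8) = true := by decide +kernel

theorem cover_ok : (pts.all fun i => Nat.beq i 0 || Nat.beq i 23 || dW.any fun w =>
    Nat.beq (ev w 1) i || Nat.beq (ev w 4) i || Nat.beq (ev w 8) i) = true := by decide +kernel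

theorem dW_okl : dW.all okl = true := by decide +kernel

theorem D22_val {g : Equiv.Perm GolayPt} (hg : g ∈ D22) :
    (val g 23 = 23 ∧ val g 0 = 0) ∨ (val g 23 = 0 ∧ val g 0 = 23) := by
  unfold El.val
  rw [pt_23, pt_0]
  rcases ((Cfsg.Agent.J4Type.Aut22.mem_D22_iff g).1 hg).2 with ⟨h1, h2⟩ | ⟨h1, h2⟩
  · left; rw [h1, h2]; exact ⟨rfl, rfl⟩
  · right; rw [h1, h2]; exact ⟨rfl, rfl⟩

/-- An element of `D22` commuting with the elements of order three of `M22` commuting with `zP` has order at most 2. -/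
theorem sq_of_comm {g : Equiv.Perm GolayPt} (hg : g ∈ D22)
    (hc : ∀ d ∈ Spor.M22, d * d * d = 1 → d * pm zP = pm zP * d → g * d = d * g) : g * g = 1 := by
  have hd : ∀ d ∈ [d0, d1, d2], g * pm d = pm d * g := by
    intro d hd
    have h1 := List.all_eq_true.1 d_ok d hd
    rw [Bool.and_eq_true, Bool.and_eq_true] at h1
    have hp := isPerm_of_ok (ok_of_ok22 h1.1.1)
    refine hc _ (pm_M22 h1.1.1) ?_ ?_
    · have h2 := El.pr_of_weq (okl_three hp hp hp) rfl h1.2
      rwa [El.pr_cons, El.pr_cons, El.pr_one, El.pr_nil, ← mul_assoc] at h2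
    · exact eq_two hp (isPerm_of_ok InvM22.ok_z) (isPerm_of_ok InvM22.ok_z) hp h1.1.2
  have hw : ∀ w ∈ dW, g * pr w = pr w * g := by
    intro w hw
    have h1 := List.all_eq_true.1 dW_mem w hw
    clear hw
    induction w with
    | nil => rw [El.pr_nil, mul_one, one_mul]
    | cons d w ih =>
      rw [List.all_cons, Bool.and_eq_true] at h1
      obtain ⟨x, hx, h2⟩ := List.any_eq_true.1 h1.1
      have h3 := Nat.eq_of_beq_eq_true h2
      rw [El.pr_cons, ← mul_assoc, h3, hd x hx, mul_assoc, ih h1.2, mul_assoc]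
  have hv : ∀ w ∈ dW, ∀ i < 24, val g (ev w i) = ev w (val g i) := by
    intro w hw' i hi
    have ho := List.all_eq_true.1 dW_okl w hw'
    rw [← El.val_pr ho hi, ← El.val_mul, hw w hw', El.val_mul, El.val_pr ho (El.val_lt _ _)]
  have hev : ∀ w ∈ dW, ∀ i < 24, ev w i < 24 := by
    intro w hw' i hi
    rw [← El.val_pr (List.all_eq_true.1 dW_okl w hw') hi]
    exact El.val_lt _ _
  have h23 := D22_val hg
  -- the base points
  have hbase : ∀ b < 24, b ≠ 0 → b ≠ 23 → baseT b = true → val g (val g b) = b := by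
    intro b hb hb0 hb23 ht
    have h1 := List.all_eq_true.1 ht _ (El.mem_pts (El.val_lt g b))
    rw [Bool.or_eq_true, Bool.or_eq_true, Nat.beq_eq, Nat.beq_eq] at h1
    rcases h1 with (h1 | h1) | h1
    · exfalso
      rcases h23 with h | h
      · exact hb0 (El.val_inj hb (by norm_num) (h1.trans h.2.symm))
      · exact hb23 (El.val_inj hb (by norm_num) (h1.trans h.1.symm))
    · exfalso
      rcases h23 with h | h
      · exact hb23 (El.val_inj hb (by norm_num) (h1.trans h.1.symm))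
      · exact hb0 (El.val_inj hb (by norm_num) (h1.trans h.2.symm))
    · obtain ⟨w, hw', h2⟩ := List.any_eq_true.1 h1
      have h3 := hv w hw' b hb
      rw [Bool.or_eq_true, Bool.and_eq_true, Bool.and_eq_true, Bool.not_eq_true', Nat.beq_eq, Nat.beq_eq,
        Nat.beq_eq] at h2
      rcases h2 with ⟨h4, h5⟩ | ⟨h4, h5⟩
      · exfalso
        rw [h4] at h3
        rw [← h3, Nat.beq_refl] at h5
        cases h5
      · rw [h4] at h3
        rw [h3, h5]
  have hb := base_ok
  rw [Bool.and_eq_true, Bool.and_eq_true] at hb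
  have hb1 := hbase 1 (by norm_num) (by norm_num) (by norm_num) hb.1.1
  have hb4 := hbase 4 (by norm_num) (by norm_num) (by norm_num) hb.1.2
  have hb8 := hbase 8 (by norm_num) (by norm_num) (by norm_num) hb.2
  apply El.ext_val
  intro i hi
  rw [El.val_mul, El.val_one hi]
  have h1 := List.all_eq_true.1 cover_ok _ (El.mem_pts hi)
  rw [Bool.or_eq_true, Bool.or_eq_true, Nat.beq_eq, Nat.beq_eq] at h1
  rcases h1 with (rfl | rfl) | h1
  · rcases h23 with h | h
    · rw [h.2, h.2]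
    · rw [h.2, h.1]
  · rcases h23 with h | h
    · rw [h.1, h.1]
    · rw [h.1, h.2]
  · obtain ⟨w, hw', h2⟩ := List.any_eq_true.1 h1
    rw [Bool.or_eq_true, Bool.or_eq_true, Nat.beq_eq, Nat.beq_eq, Nat.beq_eq] at h2
    rcases h2 with (h2 | h2) | h2
    · rw [← h2, hv w hw' _ (by norm_num), hv w hw' _ (El.val_lt _ _), hb1]
    · rw [← h2, hv w hw' _ (by norm_num), hv w hw' _ (El.val_lt _ _), hb4]
    · rw [← h2, hv w hw' _ (by norm_num), hv w hw' _ (El.val_lt _ _), hb8]

/-! ### A Sylow 2-subgroup -/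

theorem uP_nrm : nrm uP = true := by decide +kernel
theorem vP_nrm : nrm vP = true := by decide +kernel

theorem ok22_of_nrm {n : ℕ} (h : nrm n = true) : ok22 n = true := by
  unfold nrm at h
  rw [Bool.and_eq_true] at h
  exact h.1

theorem uP_sq : pm uP * pm uP = 1 :=
  eq_nil (isPerm_of_ok (ok_of_ok22 (ok22_of_nrm uP_nrm))) (isPerm_of_ok (ok_of_ok22 (ok22_of_nrm uP_nrm)))
    (by decide +kernel)

theorem vP_sq : pm vP * pm vP = 1 :=
  eq_nil (isPerm_of_ok (ok_of_ok22 (ok22_of_nrm vP_nrm))) (isPerm_of_ok (ok_of_ok22 (ok22_of_nrm vP_nrm)))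
    (by decide +kernel)

theorem uv_four : pm uP * pm vP * (pm uP * pm vP) * (pm uP * pm vP * (pm uP * pm vP)) = 1 := by
  have h := El.pr_of_weq (l := [uP, vP, uP, vP, uP, vP, uP, vP]) (m := []) (by decide +kernel) rfl
    (by decide +kernel)
  simp only [El.pr_cons, El.pr_nil, mul_one] at h
  rw [← h]; group

/-- coset representatives of `E` in the Sylow subgroup -/
def cosL : List (List ℕ) := [[], [uP], [vP], [uP, vP], [vP, uP], [uP, vP, uP], [vP, uP, vP], [uP, vP, uP, vP]]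

def sylL : List (List ℕ) := WL.flatMap fun P => cosL.map fun l => P :: l

theorem sylL_okl : sylL.all okl = true := by decide +kernel

private noncomputable def _root_.Cfsg.Agent.LsF.fc86ecf_12 : {f // @Cfsg.Agent.KFacts.MM.El.dist = f} := ⟨_, by first | (delta Cfsg.Agent.KFacts.MM.El.dist List.brecOn List.brecOn.go Cfsg.Agent.KFacts.MM.El.dist._f; rewrite [Cfsg.Agent.LsF.fc86ecf_2.2, Cfsg.Agent.LsF.and_eq, Cfsg.Agent.LsF.not_eq, Cfsg.Agent.LsF.all_eq]; (try delta Cfsg.Agent.KFacts.MM.El.dist.match_1); (try delta List.casesOn); first | dsimp -zeta only | exact rfl) | exact rfl⟩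
private noncomputable def _root_.Cfsg.Agent.LsF.fc86ecf_13 : {f // @Cfsg.Agent.OddHalf.D9.M22.sylL = f} := ⟨_, by first | (delta Cfsg.Agent.OddHalf.D9.M22.sylL; rewrite [Cfsg.Agent.LsF.map_eq, Cfsg.Agent.LsF.flatMap_eq]; exact rfl) | exact rfl⟩
theorem sylL_dist : El.dist sylL = true := by ((try (rewrite [Cfsg.Agent.LsF.fc86ecf_12.2, Cfsg.Agent.LsF.fc86ecf_13.2])); decide +kernel)

/-- the subgroup `E ⟨uP, vP⟩` -/
def P22 : Subgroup (Equiv.Perm GolayPt) := Subgroup.closure ((E : Set (Equiv.Perm GolayPt)) ∪ {pm uP, pm vP})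

theorem uP_mem : pm uP ∈ P22 := Subgroup.subset_closure (Or.inr (Or.inl rfl))

theorem vP_mem : pm vP ∈ P22 := Subgroup.subset_closure (Or.inr (Or.inr rfl))

theorem E_le_P22 : E ≤ P22 := fun _ h => Subgroup.subset_closure (Or.inl h)

theorem syl_card : 128 ≤ Nat.card P22 := by
  have h := El.length_le_card (L := sylL) (List.all_eq_true.1 sylL_okl) sylL_dist
    (P22 : Set (Equiv.Perm GolayPt)) (by
      intro l hl
      unfold sylL at hl
      rw [List.mem_flatMap] at hl
      obtain ⟨P, hP, hl⟩ := hl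
      obtain ⟨m, hm, rfl⟩ := List.mem_map.1 hl
      rw [El.pr_cons]
      refine P22.mul_mem (E_le_P22 (pm_mem_E hP)) ?_
      unfold cosL at hm
      simp only [List.mem_cons, List.not_mem_nil, or_false] at hm
      rcases hm with rfl | rfl | rfl | rfl | rfl | rfl | rfl | rfl
      · rw [El.pr_nil]; exact one_mem _
      · rw [El.pr_one]; exact uP_mem
      · rw [El.pr_one]; exact vP_mem
      · simp only [El.pr_cons, El.pr_nil, mul_one]; exact mul_mem uP_mem vP_mem
      · simp only [El.pr_cons, El.pr_nil, mul_one]; exact mul_mem vP_mem uP_mem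
      · simp only [El.pr_cons, El.pr_nil, mul_one]; exact mul_mem uP_mem (mul_mem vP_mem uP_mem)
      · simp only [El.pr_cons, El.pr_nil, mul_one]; exact mul_mem vP_mem (mul_mem uP_mem vP_mem)
      · simp only [El.pr_cons, El.pr_nil, mul_one]
        exact mul_mem uP_mem (mul_mem vP_mem (mul_mem uP_mem vP_mem)))
  exact h

end Cfsg.Agent.OddHalf.D9.M22

end

-- merged: Cfsg.Agent.OddHalf.D9.M22.EDataM22
section

/-!
# The facts `EData` for `M22`

`edata : EData Spor.M22 E22 a22 b22`.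
-/

set_option autoImplicit false
set_option Elab.async false

namespace Cfsg.Agent.OddHalf.D9.M22.EDataM22

open Cfsg Cfsg.Agent.SporadicA.GolayBase Cfsg.Agent.SporadicA.GolayPerm
open Cfsg.Agent.SporadicStructure.M24El Cfsg.Agent.KFacts.MM
open Cfsg.Agent.KFacts.MM.El (pm pr weq okl)
open Cfsg.Agent.KFacts.MM.Data (WL zP)
open Cfsg.Agent.OddHalf.D9.M22.Data (uP vP)
open Cfsg.Agent.J4Type.Aut22 (D22)
open Cfsg.Agent.OddHalf.D9.M22 Cfsg.Agent.OddHalf.D9.M22.CovFour Cfsg.Agent.OddHalf.D9.M22.Lift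
open Cfsg.Agent.OddHalf.D9.CovTwo (OutTwo)

/-- the subgroup `E` of `M22` -/
def E22 : Subgroup Spor.M22 := E.subgroupOf Spor.M22

theorem mem_E22 {x : Spor.M22} : x ∈ E22 ↔ (x : Equiv.Perm GolayPt) ∈ E := Iff.rfl

noncomputable def a22 : Spor.M22 := ⟨pm uP, pm_M22 (ok22_of_nrm uP_nrm)⟩
noncomputable def b22 : Spor.M22 := ⟨pm vP, pm_M22 (ok22_of_nrm vP_nrm)⟩

/-- words not in `E` -/
theorem not_mem_E {l : List ℕ} (hl : okl l = true) (h : (WL.all fun P => !(weq [P] l)) = true) : pr l ∉ E := by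
  rintro ⟨P, hP, h1⟩
  have h2 := List.all_eq_true.1 h P hP
  rw [Bool.not_eq_true'] at h2
  refine El.pr_ne (okl_one (perm_of_WL hP)) hl h2 ?_
  rw [El.pr_one]
  exact h1

theorem ab_four : (a22 * b22) ^ 4 = 1 := by
  apply Subtype.ext
  rw [show (4 : ℕ) = 2 + 2 from rfl, pow_add, pow_two]
  exact uv_four

theorem ab_pow_mod (i : ℕ) : (a22 * b22) ^ i = (a22 * b22) ^ (i % 4) := by
  conv_lhs => rw [← Nat.div_add_mod i 4, pow_add, pow_mul, ab_four, one_pow, one_mul]

theorem n1 : pr [uP, vP] ∉ E := not_mem_E (by decide +kernel) (by decide +kernel)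
theorem n2 : pr [uP, vP, uP, vP] ∉ E := not_mem_E (by decide +kernel) (by decide +kernel)
theorem n3 : pr [uP, vP, uP, vP, uP, vP] ∉ E := not_mem_E (by decide +kernel) (by decide +kernel)
theorem r0 : pr [uP] ∉ E := not_mem_E (by decide +kernel) (by decide +kernel)
theorem r1 : pr [uP, vP, uP] ∉ E := not_mem_E (by decide +kernel) (by decide +kernel)
theorem r2 : pr [uP, vP, uP, vP, uP] ∉ E := not_mem_E (by decide +kernel) (by decide +kernel)
theorem r3 : pr [uP, vP, uP, vP, uP, vP, uP] ∉ E := not_mem_E (by decide +kernel) (by decide +kernel)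

theorem rot (i : ℕ) (h : (a22 * b22) ^ i ∈ E22) : 4 ∣ i := by
  rw [ab_pow_mod] at h
  rw [mem_E22] at h
  have h4 : i % 4 < 4 := Nat.mod_lt _ (by norm_num)
  rcases hi : i % 4 with _ | _ | _ | _ | n
  · exact Nat.dvd_of_mod_eq_zero hi
  · exfalso
    rw [hi] at h
    apply n1
    have e : pr [uP, vP] = (((a22 * b22) ^ (0 + 1) : Spor.M22) : Equiv.Perm GolayPt) := by
      simp only [El.pr_cons, El.pr_nil, mul_one, zero_add, pow_one]
      rfl
    rw [e]; exact h
  · exfalso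
    rw [hi] at h
    apply n2
    have e : pr [uP, vP, uP, vP] = (((a22 * b22) ^ (0 + 1 + 1) : Spor.M22) : Equiv.Perm GolayPt) := by
      simp only [El.pr_cons, El.pr_nil, mul_one, zero_add, pow_succ, pow_zero, one_mul, Subgroup.coe_mul]
      simp only [a22, b22, mul_assoc]
    rw [e]; exact h
  · exfalso
    rw [hi] at h
    apply n3
    have e : pr [uP, vP, uP, vP, uP, vP] = (((a22 * b22) ^ (0 + 1 + 1 + 1) : Spor.M22) : Equiv.Perm GolayPt) := by
      simp only [El.pr_cons, El.pr_nil, mul_one, zero_add, pow_succ, pow_zero, one_mul, Subgroup.coe_mul]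
      simp only [a22, b22, mul_assoc]
    rw [e]; exact h
  · omega

theorem refl (i : ℕ) : (a22 * b22) ^ i * a22 ∉ E22 := by
  intro h
  rw [ab_pow_mod, mem_E22] at h
  have h4 : i % 4 < 4 := Nat.mod_lt _ (by norm_num)
  rcases hi : i % 4 with _ | _ | _ | _ | n
  · rw [hi] at h
    apply r0
    have e : pr [uP] = (((a22 * b22) ^ 0 * a22 : Spor.M22) : Equiv.Perm GolayPt) := by
      simp only [El.pr_cons, El.pr_nil, mul_one, pow_zero, one_mul]
      rfl
    rw [e]; exact h
  · rw [hi] at h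
    apply r1
    have e : pr [uP, vP, uP] = (((a22 * b22) ^ (0 + 1) * a22 : Spor.M22) : Equiv.Perm GolayPt) := by
      simp only [El.pr_cons, El.pr_nil, mul_one, zero_add, pow_one, Subgroup.coe_mul]
      simp only [a22, b22, mul_assoc]
    rw [e]; exact h
  · rw [hi] at h
    apply r2
    have e : pr [uP, vP, uP, vP, uP] = (((a22 * b22) ^ (0 + 1 + 1) * a22 : Spor.M22) : Equiv.Perm GolayPt) := by
      simp only [El.pr_cons, El.pr_nil, mul_one, zero_add, pow_succ, pow_zero, one_mul, Subgroup.coe_mul]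
      simp only [a22, b22, mul_assoc]
    rw [e]; exact h
  · rw [hi] at h
    apply r3
    have e : pr [uP, vP, uP, vP, uP, vP, uP] =
        (((a22 * b22) ^ (0 + 1 + 1 + 1) * a22 : Spor.M22) : Equiv.Perm GolayPt) := by
      simp only [El.pr_cons, El.pr_nil, mul_one, zero_add, pow_succ, pow_zero, one_mul, Subgroup.coe_mul]
      simp only [a22, b22, mul_assoc]
    rw [e]; exact h
  · omega

theorem odd (S : Subgroup Spor.M22) (hE : E22 ≤ S) (ha : a22 ∈ S) (hb : b22 ∈ S) (h2 : IsPGroup 2 ↥S) :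
    Odd S.index := by
  have hfin : Finite Spor.M22 := inferInstance
  have h1 : P22 ≤ S.map Spor.M22.subtype := by
    unfold P22
    rw [Subgroup.closure_le]
    rintro x (hx | rfl | rfl)
    · exact ⟨⟨x, E_le hx⟩, hE hx, rfl⟩
    · exact ⟨a22, ha, rfl⟩
    · exact ⟨b22, hb, rfl⟩
  have h3 : 128 ≤ Nat.card S := by
    have h4 := Subgroup.card_le_of_le h1
    rw [Nat.card_congr (S.equivMapOfInjective Spor.M22.subtype Spor.M22.subtype_injective).toEquiv]
    exact le_trans syl_card h4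
  obtain ⟨n, hn⟩ := IsPGroup.iff_card.1 h2
  have h5 : 7 ≤ n := by
    by_contra h
    have h6 : 2 ^ n ≤ 2 ^ 6 := Nat.pow_le_pow_right (by norm_num) (by omega)
    rw [← hn] at h6
    omega
  have h6 := S.card_mul_index
  rw [Cfsg.Agent.SporadicA.MathieuRecog.card_M22, hn] at h6
  obtain ⟨m, rfl⟩ := Nat.exists_eq_add_of_le h5
  by_contra hodd
  rw [Nat.not_odd_iff_even] at hodd
  obtain ⟨k, hk⟩ := hodd
  rw [hk, pow_add] at h6
  have h7 : 256 ∣ 443520 := ⟨2 ^ m * k, by rw [← h6]; ring⟩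
  exact absurd h7 (by decide)

theorem one (x y : Spor.M22) (hx : x * x = 1) (hx1 : x ≠ 1) (hy : y * y = 1) (hy1 : y ≠ 1) : IsConj x y := by
  have key : ∀ u : Spor.M22, u * u = 1 → u ≠ 1 → IsConj (⟨pm zP, E_le zP_mem⟩ : Spor.M22) u := by
    intro u hu hu1
    obtain ⟨g, hg, e⟩ := InvM22.inv22 u u.2 (congrArg Subtype.val hu) (fun h => hu1 (Subtype.ext h))
    rw [isConj_iff]
    exact ⟨⟨g, hg⟩, Subtype.ext e.symm⟩
  exact (key x hx hx1).symm.trans (key y hy hy1)

/-- an automorphism of `M22` as an element of `D22` -/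
theorem exists_D (β : MulAut Spor.M22) : ∃ h ∈ D22, ∀ x : Spor.M22,
    (β x : Equiv.Perm GolayPt) = h * x * h⁻¹ := Cfsg.Agent.J4Type.Aut22.exists_conj β

theorem not_mem_of_outer {β : MulAut Spor.M22} {h : Equiv.Perm GolayPt}
    (hβ : ∀ x : Spor.M22, (β x : Equiv.Perm GolayPt) = h * x * h⁻¹) (hout : ∀ x, β ≠ MulAut.conj x) :
    h ∉ Spor.M22 := by
  intro hm
  apply hout ⟨h, hm⟩
  ext x
  rw [hβ]
  rfl

theorem eq_of_conj {g h : Equiv.Perm GolayPt} (hg : g ∈ D22) (hh : h ∈ D22)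
    (e : ∀ x : Spor.M22, g * x * g⁻¹ = h * x * h⁻¹) : g = h := by
  have h1 : h⁻¹ * g = 1 := by
    refine Cfsg.Agent.J4Type.Aut22.eq_one_of_centralizes (D22.mul_mem (D22.inv_mem hh) hg) fun x => ?_
    calc h⁻¹ * g * (x : Equiv.Perm GolayPt) * (h⁻¹ * g)⁻¹ = h⁻¹ * (g * x * g⁻¹) * h := by group
      _ = h⁻¹ * (h * x * h⁻¹) * h := by rw [e]
      _ = x := by group
  rw [eq_comm, ← inv_mul_eq_one]; exact h1

theorem outer (β : MulAut Spor.M22) (h2 : β * β = 1) (hout : ∀ x, β ≠ MulAut.conj x) :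
    ∃ g : Spor.M22, ∀ x ∈ E22, β (g * x * g⁻¹) = g * x * g⁻¹ := by
  obtain ⟨h, hh, hβ⟩ := exists_D β
  have hn := not_mem_of_outer hβ hout
  have hsq : h * h = 1 := by
    refine eq_of_conj (D22.mul_mem hh hh) D22.one_mem fun x => ?_
    have h3 : ((β * β) x : Equiv.Perm GolayPt) = x := by rw [h2]; rfl
    rw [MulAut.mul_apply, hβ, hβ] at h3
    calc h * h * (x : Equiv.Perm GolayPt) * (h * h)⁻¹ = h * (h * x * h⁻¹) * h⁻¹ := by group
      _ = x := h3
      _ = 1 * x * 1⁻¹ := by group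
  obtain ⟨g, hg, hc⟩ := exists_outer hh hn hsq
  refine ⟨⟨g, hg⟩, fun x hx => ?_⟩
  apply Subtype.ext
  rw [hβ]
  have h3 := hc x hx
  show h * (g * x * g⁻¹) * h⁻¹ = g * (x : Equiv.Perm GolayPt) * g⁻¹
  calc h * (g * (x : Equiv.Perm GolayPt) * g⁻¹) * h⁻¹ = g * ((g⁻¹ * h * g) * x) * (g⁻¹ * h⁻¹) := by group
    _ = g * (x * (g⁻¹ * h * g)) * (g⁻¹ * h⁻¹) := by rw [h3]
    _ = g * (x : Equiv.Perm GolayPt) * g⁻¹ := by group

theorem ord3 : OrdThreeX Spor.M22 := by
  intro t ht ht1 β hβ3 hβ2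
  obtain ⟨h, hh, hβ⟩ := exists_D β
  obtain ⟨g, hg, e⟩ := InvM22.inv22 t t.2 (congrArg Subtype.val ht) (fun h => ht1 (Subtype.ext h))
  have hht : h * h = t := by
    refine eq_of_conj (D22.mul_mem hh hh) (Cfsg.Agent.J4Type.Aut22.M22_le_D22 t.2) fun x => ?_
    have h3 := congrArg Subtype.val (hβ2 x)
    rw [hβ, hβ] at h3
    calc h * h * (x : Equiv.Perm GolayPt) * (h * h)⁻¹ = h * (h * x * h⁻¹) * h⁻¹ := by group
      _ = t * x * (t : Equiv.Perm GolayPt)⁻¹ := h3
  have hsq : (g⁻¹ * h * g) * (g⁻¹ * h * g) = 1 := by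
    apply sq_of_comm
    · exact D22.mul_mem (D22.mul_mem (D22.inv_mem (Cfsg.Agent.J4Type.Aut22.M22_le_D22 hg)) hh)
        (Cfsg.Agent.J4Type.Aut22.M22_le_D22 hg)
    · intro d hd hd3 hdz
      have hy : g * d * g⁻¹ ∈ Spor.M22 := Spor.M22.mul_mem (Spor.M22.mul_mem hg hd) (Spor.M22.inv_mem hg)
      have h3 := hβ3 ⟨g * d * g⁻¹, hy⟩ (by
        apply Subtype.ext
        show (g * d * g⁻¹) ^ 3 = 1
        calc (g * d * g⁻¹) ^ 3 = g * (d * d * d) * g⁻¹ := by rw [pow_succ, pow_two]; group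
          _ = 1 := by rw [hd3]; group) (by
        apply Subtype.ext
        show g * d * g⁻¹ * t = t * (g * d * g⁻¹)
        rw [e]
        calc g * d * g⁻¹ * (g * pm zP * g⁻¹) = g * (d * pm zP) * g⁻¹ := by group
          _ = g * (pm zP * d) * g⁻¹ := by rw [hdz]
          _ = g * pm zP * g⁻¹ * (g * d * g⁻¹) := by group)
      have h4 := congrArg Subtype.val h3
      rw [hβ] at h4
      have h5 : h * (g * d * g⁻¹) * h⁻¹ = g * d * g⁻¹ := h4
      have h6 : h * (g * d * g⁻¹) = g * d * g⁻¹ * h := by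
        calc h * (g * d * g⁻¹) = h * (g * d * g⁻¹) * h⁻¹ * h := by group
          _ = g * d * g⁻¹ * h := by rw [h5]
      calc g⁻¹ * h * g * d = g⁻¹ * (h * (g * d * g⁻¹)) * g := by group
        _ = g⁻¹ * (g * d * g⁻¹ * h) * g := by rw [h6]
        _ = d * (g⁻¹ * h * g) := by group
  apply ht1
  apply Subtype.ext
  rw [← hht]
  show h * h = 1
  calc h * h = g * ((g⁻¹ * h * g) * (g⁻¹ * h * g)) * g⁻¹ := by group
    _ = 1 := by rw [hsq]; group

theorem out2 : OutTwo (K := Spor.M22) := by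
  intro α β hα hβ
  obtain ⟨g, hg, eg⟩ := exists_D α
  obtain ⟨h, hh, eh⟩ := exists_D β
  have hgn := not_mem_of_outer eg hα
  have hhn := not_mem_of_outer eh hβ
  rw [Cfsg.Agent.J4Type.Aut22.mem_M22_iff_D22] at hgn hhn
  have hm : g * h ∈ Spor.M22 := by
    rw [Cfsg.Agent.J4Type.Aut22.mem_M22_iff_D22]
    refine ⟨D22.mul_mem hg hh, ?_⟩
    rcases ((Cfsg.Agent.J4Type.Aut22.mem_D22_iff g).1 hg).2 with h1 | h1
    · exact absurd ⟨hg, h1.1⟩ hgn
    rcases ((Cfsg.Agent.J4Type.Aut22.mem_D22_iff h).1 hh).2 with h2 | h2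
    · exact absurd ⟨hh, h2.1⟩ hhn
    rw [Equiv.Perm.mul_apply, h2.1, h1.2]
  refine ⟨⟨g * h, hm⟩, ?_⟩
  apply MulEquiv.ext
  intro x
  apply Subtype.ext
  rw [MulAut.mul_apply, eg, eh]
  show g * (h * x * h⁻¹) * g⁻¹ = g * h * (x : Equiv.Perm GolayPt) * (g * h)⁻¹
  group

theorem edata : EData Spor.M22 E22 a22 b22 where
  sq := fun x hx => Subtype.ext (E_sq (mem_E22.1 hx))
  aE := fun x hx => (nrm_pm uP_nrm).2 x hx
  bE := fun x hx => (nrm_pm vP_nrm).2 x hx
  aa := Subtype.ext uP_sq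
  bb := Subtype.ext vP_sq
  ab := ab_four
  rot := rot
  refl := refl
  odd := odd
  four := by
    have m1 : pm 961365507626256404119956257276790816 ∈ E := pm_mem_E (by decide +kernel)
    have m2 : pm 972512676110088067912772961567868960 ∈ E := pm_mem_E (by decide +kernel)
    refine ⟨⟨_, E_le m1⟩, m1, ⟨_, E_le m2⟩, m2, ?_, ?_, ?_⟩
    · intro h
      have h1 : pr [961365507626256404119956257276790816] = pr [] := by
        rw [El.pr_one, El.pr_nil]; exact congrArg Subtype.val h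
      exact El.pr_ne (by decide +kernel) (by decide +kernel) (by decide +kernel) h1
    · intro h
      have h1 : pr [972512676110088067912772961567868960] = pr [] := by
        rw [El.pr_one, El.pr_nil]; exact congrArg Subtype.val h
      exact El.pr_ne (by decide +kernel) (by decide +kernel) (by decide +kernel) h1
    · intro h
      have h1 : pr [961365507626256404119956257276790816] = pr [972512676110088067912772961567868960] := by
        rw [El.pr_one, El.pr_one]; exact congrArg Subtype.val h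
      exact El.pr_ne (by decide +kernel) (by decide +kernel) (by decide +kernel) h1
  one := one
  outer := outer
  ord3 := ord3
  out2 := out2

theorem exists_edata : ∃ (E : Subgroup Spor.M22) (a b : Spor.M22), EData Spor.M22 E a b := ⟨_, _, _, edata⟩

end Cfsg.Agent.OddHalf.D9.M22.EDataM22

end

private theorem dce_f8fbe0c201d3 : _root_.True := by
  try have : _root_.True := by simp only [_root_.Cfsg.Agent.OddHalf.D9.M22.EDataM22.a22.eq_1]
  try have : _root_.True := by simp only [_root_.Cfsg.Agent.OddHalf.D9.M22.EDataM22.b22.eq_1]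
  try have : _root_.True := by simp only [_root_.Cfsg.Agent.OddHalf.D9.M22.o2.eq_1]
  exact _root_.True.intro
end

-- part: OddHalf/D7Out/FrOf
section
set_option linter.all false
open scoped Cfsg.Agent.FastGrp

/-!
# D7, the front: the frame from a simply laced root group datum (helper875)

`R : RGD cs h 2 T₀ n X` in `↥K`, `K` generated by the root groups, `ρ` the dominant root.

* `dom_nonneg`, `rad_pos` : positive roots and the dominant root;
* `center_U` : `Z(U) = X ρ`;
* `fr` : a Sylow 2-subgroup `T` of `C(t)` with `T ∩ K = U` and the frame `Defs.Fr`.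
-/

set_option autoImplicit false
set_option linter.unusedSectionVars false

namespace Cfsg.Agent.OddHalf.D7Out.FrOf

open CoxeterSystem Cfsg.Agent.ChevalleyStructure.CoxeterGeom Cfsg.Agent.Tits.Roots Cfsg.Agent.Tits.Core
  Cfsg.Agent.Tits.RootComb Cfsg.Agent.Tits.Exchange Cfsg.Agent.Nodes.Comb Cfsg.Agent.Nodes.Reps
  Cfsg.Agent.Nodes.BNOf Cfsg.Agent.Nodes.NormalForm Cfsg.Agent.Nodes.Coroot Cfsg.Agent.Nodes.NormX
  Cfsg.Agent.Nodes.StabComb Cfsg.Agent.Nodes.Bruhat Cfsg.Agent.Nodes.OppDec Cfsg.Agent.Nodes.LeviDec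
  Cfsg.Agent.OddHalf.SL.Index Cfsg.Agent.OddHalf.SL.OfRGD Cfsg.Agent.KFacts.RgdSL Cfsg.Agent.KFacts.RgdTI
  Cfsg.Agent.KFacts.RgdCent Cfsg.Agent.KFacts.RgdOdd Cfsg.Agent.KFacts.RgdFixU
open scoped commutatorElement

variable {I W : Type*} [Fintype I] [DecidableEq I] [Group W] {M : CoxeterMatrix I}
  {cs : CoxeterSystem M W} {A : I → I → ℤ} {h : IsCartan M A}

section Comb

variable [Finite W] {ρ : I → ℤ} (hρ : IsRoot cs h ρ) (hd : ∀ i, 0 ≤ cpr cs h (sr i) ρ)

include hρ hd

/-- positive roots are not at an obtuse angle with the dominant root -/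
theorem dom_nonneg {a : I → ℤ} (ha : 0 ≤ a) : 0 ≤ cpr cs h a ρ := by
  have e : a = ∑ i, a i • (sr i : I → ℤ) := by
    funext j
    rw [Finset.sum_apply]
    rw [Finset.sum_eq_single j]
    · rw [Pi.smul_apply, sr_self, smul_eq_mul, mul_one]
    · intro i _ hi
      rw [Pi.smul_apply, sr_ne (Ne.symm hi), smul_zero]
    · intro hj; exact absurd (Finset.mem_univ j) hj
  have h1 : ell cs h hρ a = ∑ i, a i * ell cs h hρ (sr i) := by
    conv_lhs => rw [e]
    rw [map_sum]
    exact Finset.sum_congr rfl fun i _ => by rw [map_zsmul, smul_eq_mul]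
  have h2 : cpr cs h a ρ = ell cs h hρ a := rfl
  rw [h2, h1]
  exact Finset.sum_nonneg fun i _ => mul_nonneg (ha i) (hd i)

theorem rad_pos {a : I → ℤ} (ha : a ∈ Rad cs h ρ) : a ∈ RGD.Pos cs h := by
  refine ⟨ha.1, ?_⟩
  rcases ha.1.pos_or_neg with h1 | h1
  · exact h1
  exfalso
  have h2 := dom_nonneg hρ hd (a := -a) (neg_nonneg.2 h1)
  rw [cpr_neg_left _ hρ] at h2
  have := ha.2
  omega

theorem rho_pos : ρ ∈ RGD.Pos cs h := rad_pos hρ hd ⟨hρ, by rw [cpr_self cs h hρ]; norm_num⟩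

end Comb

section InK

variable {G : Type*} [Group G] {K : Subgroup G} {T₀ : Subgroup ↥K} {n : I → ↥K} {X : (I → ℤ) → Subgroup ↥K}

/-- `Z(U) ≤ X ρ` -/
theorem center_U [Finite W] (R : RGD cs h 2 T₀ n X) (hs : SL cs h) (hL : ∀ a, IsRoot cs h a → LR R a)
    (hN : NoCent cs h T₀ X) {ρ : I → ℤ} (hρ : IsRoot cs h ρ) (hd : ∀ i, 0 ≤ cpr cs h (sr i) ρ) (hO : Orth cs h ρ)
    {z : ↥K} (hz : z ∈ RGD.Sup X (RGD.Pos cs h)) (hc : ∀ x ∈ RGD.Sup X (RGD.Pos cs h), z * x = x * z) : z ∈ X ρ :=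
  f3_rad hs hρ hO R hL hN (Cfsg.Agent.KFacts.RgdSyl.U_le_GG hz) fun a ha v hv =>
    hc v (RGD.le_Sup (rad_pos hρ hd ha) hv)

/-- `X ρ` is central in `U` -/
theorem X_central [Finite W] (R : RGD cs h 2 T₀ n X) (hL : ∀ a, IsRoot cs h a → LR R a)
    {ρ : I → ℤ} (hρ : IsRoot cs h ρ) (hd : ∀ i, 0 ≤ cpr cs h (sr i) ρ) {z x : ↥K} (hz : z ∈ X ρ)
    (hx : x ∈ RGD.Sup X (RGD.Pos cs h)) : x * z = z * x := by
  have h1 : RGD.Sup X (RGD.Pos cs h) ≤ Subgroup.centralizer ({z} : Set ↥K) := by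
    refine RGD.Sup_le fun a ha v hv => ?_
    rw [Subgroup.mem_centralizer_singleton_iff]
    exact (hL ρ hρ).comm a ha.1 (dom_nonneg hρ hd ha.2) v hv z hz
  exact Subgroup.mem_centralizer_singleton_iff.1 (h1 hx)

/-- the image in `G` of a subgroup of `↥K` -/
theorem mem_map {P : Subgroup ↥K} {g : G} : g ∈ P.map K.subtype ↔ ∃ hg : g ∈ K, (⟨g, hg⟩ : ↥K) ∈ P := by
  constructor
  · rintro ⟨x, hx, rfl⟩
    exact ⟨x.2, hx⟩
  · rintro ⟨hg, h1⟩
    exact ⟨⟨g, hg⟩, h1, rfl⟩

/-- a Sylow 2-subgroup of `C(t)` containing `U` -/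
theorem exists_T [Finite G] {t v : G} (S : Front.FE.Start0 K t v) {U₀ : Subgroup G} (hU : IsPGroup 2 ↥U₀)
    (hUK : U₀ ≤ K) (hUm : ∀ P : Subgroup G, IsPGroup 2 ↥P → U₀ ≤ P → P ≤ K → P ≤ U₀) :
    ∃ T : Subgroup G, IsPGroup 2 ↥T ∧ v ∈ T ∧ (∀ x ∈ T, x * t = t * x) ∧
      (∀ P : Subgroup G, IsPGroup 2 ↥P → T ≤ P → (∀ x ∈ P, x * t = t * x) → P ≤ T) ∧ T ⊓ K = U₀ := by
  set C : Subgroup G := Subgroup.centralizer ({t} : Set G) with hC
  have hUC : U₀ ≤ C := fun x hx => Subgroup.mem_centralizer_singleton_iff.2 (S.Kt x (hUK hx))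
  obtain ⟨P, hP⟩ := (hU.comap_of_injective C.subtype C.subtype_injective).exists_le_sylow
  set T : Subgroup G := (P : Subgroup ↥C).map C.subtype with hT
  have pT : IsPGroup 2 ↥T := P.isPGroup'.map _
  have tc : ∀ x ∈ T, x * t = t * x := by
    rintro _ ⟨y, -, rfl⟩
    exact Subgroup.mem_centralizer_singleton_iff.1 y.2
  have max : ∀ Q : Subgroup G, IsPGroup 2 ↥Q → T ≤ Q → (∀ x ∈ Q, x * t = t * x) → Q ≤ T := by
    intro Q hQ hle hQt
    have hQC : Q ≤ C := fun x hx => Subgroup.mem_centralizer_singleton_iff.2 (hQt x hx)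
    have h1 := P.is_maximal' (hQ.comap_of_injective C.subtype C.subtype_injective) (by
      intro y hy
      exact hle ⟨y, hy, rfl⟩)
    intro x hx
    have h2 : (⟨x, hQC hx⟩ : ↥C) ∈ Q.comap C.subtype := hx
    rw [h1] at h2
    exact ⟨⟨x, hQC hx⟩, h2, rfl⟩
  have hUT : U₀ ≤ T := fun x hx => ⟨⟨x, hUC hx⟩, hP (by exact hx), rfl⟩
  refine ⟨T, pT, ?_, tc, max, ?_⟩
  · -- `R` is normalised by `T`
    have hRC : ∀ x ∈ Subgroup.zpowers v, x * t = t * x := S.Qt
    have hle : T ≤ Subgroup.normalizer ((Subgroup.zpowers v : Subgroup G) : Set G) := by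
      intro x hx
      have hxt := tc x hx
      have key : ∀ y : G, y * t = t * y → y * v * y⁻¹ ∈ Subgroup.zpowers v := by
        intro y hy
        apply S.cK
        · have hvt := hRC v (Subgroup.mem_zpowers v)
          have hyt : y⁻¹ * t = t * y⁻¹ := by
            rw [inv_mul_eq_iff_eq_mul, ← mul_assoc, hy, mul_inv_cancel_right]
          calc y * v * y⁻¹ * t = y * v * (y⁻¹ * t) := by group
            _ = y * (v * t) * y⁻¹ := by rw [hyt]; group
            _ = y * t * v * y⁻¹ := by rw [hvt]; group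
            _ = t * (y * v * y⁻¹) := by rw [hy]; group
        · intro k hk
          have hyN := S.nK y hy
          have h1 : y⁻¹ * k * y ∈ K := by
            apply (Subgroup.mem_normalizer_iff.1 hyN (y⁻¹ * k * y)).2
            have e : y * (y⁻¹ * k * y) * y⁻¹ = k := by group
            rw [e]; exact hk
          have h2 := S.qK _ h1
          calc k * (y * v * y⁻¹) = y * (y⁻¹ * k * y * v) * y⁻¹ := by group
            _ = y * (v * (y⁻¹ * k * y)) * y⁻¹ := by rw [h2]
            _ = y * v * y⁻¹ * k := by group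
      have key2 : ∀ y : G, y * t = t * y → ∀ r ∈ Subgroup.zpowers v, y * r * y⁻¹ ∈ Subgroup.zpowers v := by
        intro y hy r hr
        obtain ⟨j, rfl⟩ := Subgroup.mem_zpowers_iff.1 hr
        have e : y * v ^ j * y⁻¹ = (y * v * y⁻¹) ^ j := by rw [conj_zpow]
        rw [e]
        exact zpow_mem (key y hy) j
      rw [Subgroup.mem_normalizer_iff]
      intro r
      constructor
      · exact key2 x hxt r
      · intro hr
        have hxt' : x⁻¹ * t = t * x⁻¹ := by
          rw [inv_mul_eq_iff_eq_mul, ← mul_assoc, hxt, mul_inv_cancel_right]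
        have h3 := key2 x⁻¹ hxt' _ hr
        have e : x⁻¹ * (x * r * x⁻¹) * x⁻¹⁻¹ = r := by group
        rwa [e] at h3
    have h1 : IsPGroup 2 ((T ⊔ Subgroup.zpowers v : Subgroup G)) := pT.to_sup_of_normal_right' S.pQ hle
    have h2 : ∀ x ∈ T ⊔ Subgroup.zpowers v, x * t = t * x := by
      have : T ⊔ Subgroup.zpowers v ≤ C := by
        rw [sup_le_iff]
        exact ⟨fun x hx => Subgroup.mem_centralizer_singleton_iff.2 (tc x hx), fun x hx =>
          Subgroup.mem_centralizer_singleton_iff.2 (hRC x hx)⟩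
      intro x hx
      exact Subgroup.mem_centralizer_singleton_iff.1 (this hx)
    exact max _ h1 le_sup_left h2 ((le_sup_right : Subgroup.zpowers v ≤ _) (Subgroup.mem_zpowers v))
  · apply le_antisymm
    · exact hUm _ (pT.to_le inf_le_left) (le_inf hUT hUK) inf_le_right
    · exact le_inf hUT hUK

/-- **The frame.** -/
theorem fr [Finite G] [Finite W] {t v : G} (S : Front.FE.Start K t v) (R : RGD cs h 2 T₀ n X)
    (hG1 : RGD.Sup X {x | IsRoot cs h x} = ⊤) (hs : SL cs h) (hL : ∀ a, IsRoot cs h a → LR R a)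
    (hN : NoCent cs h T₀ X) (hX2 : ∀ a, IsRoot cs h a → ∀ x ∈ X a, x * x = 1) {ρ σ : I → ℤ}
    (hρ : IsRoot cs h ρ) (hd : ∀ i, 0 ≤ cpr cs h (sr i) ρ) (hO : Orth cs h ρ) (hσ : IsRoot cs h σ)
    (hσρ : cpr cs h σ ρ = -1)
    (perf : ∀ L : Subgroup G, (∀ x ∈ L, x * t = t * x) → ⁅L, L⁆ = L → L ≤ K)
    (P2 : ∃ L : Subgroup G, ⁅L, L⁆ = L ∧ (X ρ).map K.subtype ≤ L ∧
      ∀ y ∈ L, ∀ x ∈ (X ρ).map K.subtype, y * x = x * y) :
    ∃ T : Subgroup G, Defs.FrT t v K ((RGD.Sup X (RGD.Pos cs h)).map K.subtype) ((X ρ).map K.subtype) T := by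
  have : Fact (Nat.Prime 2) := ⟨Nat.prime_two⟩
  have hG : GG cs h T₀ X = ⊤ := by
    rw [eq_top_iff, ← hG1]
    exact Cfsg.Agent.KFacts.RgdSyl.Sup_le_GG fun x hx => hx
  set U₀ : Subgroup G := (RGD.Sup X (RGD.Pos cs h)).map K.subtype with hU₀
  have hUp : IsPGroup 2 ↥U₀ := R.isPGroup_Upos.map _
  have hUK : U₀ ≤ K := Subgroup.map_subtype_le _
  have hUm : ∀ P : Subgroup G, IsPGroup 2 ↥P → U₀ ≤ P → P ≤ K → P ≤ U₀ := by
    intro P hP hle hPK
    have h1 : IsPGroup 2 ↥(P.subgroupOf K) := hP.comap_of_injective K.subtype K.subtype_injective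
    have h2 := eq_U_of_isPGroup R h1 (fun x hx => hle ⟨x, hx, rfl⟩) (by rw [hG]; exact le_top)
    intro x hx
    have h3 : (⟨x, hPK hx⟩ : ↥K) ∈ P.subgroupOf K := hx
    rw [h2] at h3
    exact ⟨_, h3, rfl⟩
  obtain ⟨T, pT, vT, tc, max, hTK⟩ := exists_T S.toStart0 hUp hUK hUm
  have hKR : ∀ x ∈ K, x ∈ Subgroup.zpowers v → x = 1 := by
    intro x hx hxv
    exact S.cen x hx fun y hy => S.QK x hxv y hy
  refine ⟨T, ⟨?_, ?_⟩⟩
  constructor
  · exact S.tt
  · exact S.t1
  · exact S.pQ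
  · exact S.tQ
  · exact S.nK
  · exact S.qK
  · exact S.cK
  · exact hKR
  · exact pT
  · exact vT
  · exact tc
  · exact max
  · exact hTK.symm
  · exact Subgroup.map_mono (RGD.le_Sup (rho_pos hρ hd))
  · intro z hz u hu
    obtain ⟨hzK, hz'⟩ := mem_map.1 hz
    obtain ⟨huK, hu'⟩ := mem_map.1 hu
    exact congrArg Subtype.val (X_central R hL hρ hd hz' hu')
  · intro z hz
    obtain ⟨hzK, hz'⟩ := mem_map.1 hz
    exact congrArg Subtype.val (hX2 ρ hρ _ hz')
  · intro h0
    rw [Subgroup.map_eq_bot_iff_of_injective _ K.subtype_injective] at h0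
    exact Cfsg.Agent.OddHalf.SL.OfRGD.X_ne_bot R hρ h0
  · intro x hx hxU
    have hxN := S.nK x (tc x hx)
    obtain ⟨z, hz, hzU, hzK⟩ := exists_mem_centralizer R hG1
      (fun i a ha b hb => (hL _ (isRoot_sr cs h i)).comm _ (isRoot_sr cs h i) (by
        rw [cpr_self cs h (isRoot_sr cs h i)]; norm_num) a ha b hb) hxN
      (fun y hy => hxU y ⟨y, hy, rfl⟩)
    have hzρ := center_U R hs hL hN hρ hd hO hz hzU
    have hr : (z : G)⁻¹ * x ∈ Subgroup.zpowers v := by
      apply S.cK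
      · have h1 := tc x hx
        have h2 := S.Kt z z.2
        have h3 : (z : G)⁻¹ * t = t * (z : G)⁻¹ := by
          rw [inv_mul_eq_iff_eq_mul, ← mul_assoc, h2, mul_inv_cancel_right]
        calc (z : G)⁻¹ * x * t = (z : G)⁻¹ * t * x := by rw [mul_assoc, h1, ← mul_assoc]
          _ = t * ((z : G)⁻¹ * x) := by rw [h3, mul_assoc]
      · intro k hk
        exact (hzK k hk).symm
    refine ⟨(z : G)⁻¹ * x, hr, z, ⟨z, hzρ, rfl⟩, ?_⟩
    rw [← S.QK _ hr z z.2]; group
  · intro z hz g hg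
    obtain ⟨L, hLp, hXL, hLX⟩ := P2
    set L' : Subgroup G := L.map (MulAut.conj g⁻¹).toMonoidHom with hL'
    have hp : ⁅L', L'⁆ = L' := by rw [hL', ← Subgroup.map_commutator, hLp]
    have h1 : ∀ x ∈ L', x * t = t * x := by
      rintro _ ⟨y, hy, rfl⟩
      have h2 := hLX y hy _ hz
      show g⁻¹ * y * g⁻¹⁻¹ * t = t * (g⁻¹ * y * g⁻¹⁻¹)
      calc g⁻¹ * y * g⁻¹⁻¹ * t = g⁻¹ * (y * (g * t * g⁻¹)) * g := by group
        _ = g⁻¹ * (y * z) * g := by rw [hg]
        _ = g⁻¹ * (z * y) * g := by rw [h2]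
        _ = g⁻¹ * (g * t * g⁻¹ * y) * g := by rw [hg]
        _ = t * (g⁻¹ * y * g⁻¹⁻¹) := by group
    have h2 := perf L' h1 hp
    have h3 : t ∈ L' := ⟨z, hXL hz, by
      show g⁻¹ * z * g⁻¹⁻¹ = t
      rw [← hg]; group⟩
    exact S.t1 (hKR t (h2 h3) S.tQ)
  · intro z hz z' hz' hz1 hz1'
    obtain ⟨hzK, hzX⟩ := mem_map.1 hz
    obtain ⟨hzK', hzX'⟩ := mem_map.1 hz'
    obtain ⟨s, -, e⟩ := A2.tor_trans R (hs.a2 hσ hρ hσρ) hzX (fun e => hz1 (congrArg Subtype.val e)) hzX'
      (fun e => hz1' (congrArg Subtype.val e))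
    exact ⟨s, s.2, congrArg Subtype.val e⟩

end InK

end Cfsg.Agent.OddHalf.D7Out.FrOf
end

-- part: OddHalf/SpN/SylU
section
prune_inst 0x420100804512202000000001080000000000000001003000041200b02030840600542a6000c8005020800200000040020020000100000000000000000000501209000000081080004060009801000000000000000000000000000000000000000000000000
set_option linter.all false
open scoped Cfsg.Agent.FastGrp

-- merged: Cfsg.Agent.OddHalf.SpN.Deg
section

/-!
# Degrees of the roots and independence of the root groups (helper200)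

`Fd : Ix n → ℤ`, `Fd (inl k) = 5 ^ (n - k)`, `Fd (-i) = - Fd i`.
-/

set_option autoImplicit false

namespace Cfsg.Agent.OddHalf.SpN

open Cfsg Cfsg.Agent.ClassicalGeometry.SympBasic Cfsg.Agent.ClassicalGeometry.SympAutSemi

variable {n : ℕ} {F : Type*} [Field F]

/-- the exponent -/
def ex {n : ℕ} (i : Ix n) : ℕ := n - (Sum.elim id id i : Fin n).val

/-- the generic functional -/
def Fd {n : ℕ} (i : Ix n) : ℤ := Sum.elim (fun _ => (5 : ℤ) ^ ex i) (fun _ => -(5 : ℤ) ^ ex i) i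

theorem ex_neg (i : Ix n) : ex (neg i) = ex i := by rcases i with i | i <;> rfl

theorem Fd_neg (i : Ix n) : Fd (neg i) = -Fd i := by
  rcases i with i | i
  · rfl
  · show (5 : ℤ) ^ ex (Sum.inl i) = - -(5 : ℤ) ^ ex (Sum.inr i)
    rw [_root_.neg_neg]; rfl

theorem Fd_cases (i : Ix n) : Fd i = 5 ^ ex i ∨ Fd i = -5 ^ ex i := by
  rcases i with i | i
  · exact Or.inl rfl
  · exact Or.inr rfl

theorem ex_eq {i j : Ix n} (h : ex i = ex j) : i = j ∨ i = neg j := by
  rcases i with i | i <;> rcases j with j | j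
  all_goals
    have hi := i.2
    have hj := j.2
    have h' : n - i.val = n - j.val := h
    have h2 : i = j := Fin.ext (by (clear * - hi hj h'; omega))
    subst h2
  · exact Or.inl rfl
  · exact Or.inr rfl
  · exact Or.inr rfl
  · exact Or.inl rfl

theorem ex_ne {i j : Ix n} (h : Dj i j) : ex i ≠ ex j := fun e => by
  rcases ex_eq e with h1 | h1
  · exact h.1 h1
  · exact h.2 h1

theorem dvd_Fd {i : Ix n} {m : ℕ} (h : m ≤ ex i) : (5 : ℤ) ^ m ∣ Fd i := by
  rcases Fd_cases i with h1 | h1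
  · rw [h1]; exact pow_dvd_pow _ h
  · rw [h1]; exact (pow_dvd_pow _ h).neg_right

theorem not_dvd_Fd (i : Ix n) {c : ℤ} (hc : ¬ (5 : ℤ) ∣ c) : ¬ (5 : ℤ) ^ (ex i + 1) ∣ c * Fd i := by
  intro h
  have h0 : (5 : ℤ) ^ ex i ≠ 0 := pow_ne_zero _ (by norm_num)
  rcases Fd_cases i with h1 | h1
  · rw [h1, pow_succ, mul_comm c] at h
    exact hc (Int.dvd_of_mul_dvd_mul_left h0 h)
  · rw [h1, pow_succ, mul_neg, dvd_neg, mul_comm c] at h
    exact hc (Int.dvd_of_mul_dvd_mul_left h0 h)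

theorem Fd_inj {i j : Ix n} (h : Fd i = Fd j) : i = j := by
  have h1 : ex i = ex j := by
    rcases lt_trichotomy (ex i) (ex j) with h1 | h1 | h1
    · exfalso
      refine not_dvd_Fd i (c := 1) (by norm_num) ?_
      rw [one_mul, h]; exact dvd_Fd h1
    · exact h1
    · exfalso
      refine not_dvd_Fd j (c := 1) (by norm_num) ?_
      rw [one_mul, ← h]; exact dvd_Fd h1
  rcases ex_eq h1 with h2 | h2
  · exact h2
  · exfalso
    rw [h2, Fd_neg] at h
    have h0 : Fd j = 0 := by linarith only [h]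
    rcases Fd_cases j with h3 | h3
    · have := pow_ne_zero (ex j) (show (5 : ℤ) ≠ 0 by norm_num)
      exact this (by rw [← h3, h0])
    · have := pow_ne_zero (ex j) (show (5 : ℤ) ≠ 0 by norm_num)
      exact this (by linarith only [h, h3])

theorem Fd_odd (i : Ix n) : Odd (Fd i) := by
  have h : Odd ((5 : ℤ) ^ ex i) := Odd.pow (by decide)
  rcases Fd_cases i with h1 | h1
  · rw [h1]; exact h
  · rw [h1]; exact h.neg

theorem Fd_two_aux {i j k l : Ix n} (hij : ex i < ex j) (hkl : ex k < ex l) (h : Fd i + Fd j = Fd k + Fd l) :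
    i = k ∧ j = l := by
  have h1 : ex i = ex k := by
    rcases lt_trichotomy (ex i) (ex k) with h1 | h1 | h1
    · exfalso
      refine not_dvd_Fd i (c := 1) (by norm_num) ?_
      have : 1 * Fd i = Fd k + Fd l - Fd j := by linarith only [h]
      rw [this]
      exact dvd_sub (dvd_add (dvd_Fd h1) (dvd_Fd (by omega))) (dvd_Fd hij)
    · exact h1
    · exfalso
      refine not_dvd_Fd k (c := 1) (by norm_num) ?_
      have : 1 * Fd k = Fd i + Fd j - Fd l := by linarith only [h]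
      rw [this]
      exact dvd_sub (dvd_add (dvd_Fd h1) (dvd_Fd (by omega))) (dvd_Fd hkl)
  rcases ex_eq h1 with h2 | h2
  · refine ⟨h2, Fd_inj ?_⟩
    rw [h2] at h
    linarith only [h]
  · exfalso
    rw [h2, Fd_neg] at h
    refine not_dvd_Fd k (c := 2) (by norm_num) ?_
    have : 2 * Fd k = Fd j - Fd l := by linarith only [h]
    rw [this]
    exact dvd_sub (dvd_Fd (by omega)) (dvd_Fd hkl)

theorem Fd_two {i j k l : Ix n} (hij : Dj i j) (hkl : Dj k l) (h : Fd i + Fd j = Fd k + Fd l) :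
    (i = k ∧ j = l) ∨ (i = l ∧ j = k) := by
  rcases lt_or_gt_of_ne (ex_ne hij) with h1 | h1 <;> rcases lt_or_gt_of_ne (ex_ne hkl) with h2 | h2
  · exact Or.inl (Fd_two_aux h1 h2 h)
  · exact Or.inr (Fd_two_aux h1 h2 (by rw [h, add_comm]))
  · have := Fd_two_aux h1 h2 (by rw [add_comm, h])
    exact Or.inr ⟨this.2, this.1⟩
  · have := Fd_two_aux h1 h2 (by rw [add_comm, h, add_comm])
    exact Or.inl ⟨this.2, this.1⟩

theorem Fd_ne_two {i k l : Ix n} : Fd i ≠ Fd k + Fd l := by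
  intro h
  have h1 := (Fd_odd k).add_odd (Fd_odd l)
  rw [← h] at h1
  exact (Int.not_even_iff_odd.2 (Fd_odd i)) h1

theorem two_Fd_ne {i k l : Ix n} (hkl : Dj k l) : Fd i + Fd i ≠ Fd k + Fd l := by
  have main : ∀ k l : Ix n, ex k < ex l → Fd i + Fd i ≠ Fd k + Fd l := by
    intro k l hkl h
    rcases lt_trichotomy (ex i) (ex k) with h1 | h1 | h1
    · refine not_dvd_Fd i (c := 2) (by norm_num) ?_
      rw [two_mul, h]
      exact dvd_add (dvd_Fd h1) (dvd_Fd (by omega))
    · rcases ex_eq h1 with h2 | h2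
      · rw [h2] at h
        have : Fd k = Fd l := by linarith only [h]
        exact absurd (congrArg ex (Fd_inj this)) (by omega)
      · rw [h2, Fd_neg] at h
        refine not_dvd_Fd k (c := 3) (by norm_num) ?_
        have : 3 * Fd k = -Fd l := by linarith only [h]
        rw [this]
        exact (dvd_Fd hkl).neg_right
    · refine not_dvd_Fd k (c := 1) (by norm_num) ?_
      have : 1 * Fd k = Fd i + Fd i - Fd l := by linarith only [h]
      rw [this]
      exact dvd_sub (dvd_add (dvd_Fd h1) (dvd_Fd h1)) (dvd_Fd hkl)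
  rcases lt_or_gt_of_ne (ex_ne hkl) with h2 | h2
  · exact main k l h2
  · rw [add_comm (Fd k)]; exact main l k h2

/-! ### Unipotent filtration -/

section unip

variable (dg : Ix n → Ix n → ℤ)

/-- axioms of a degree function on the entries: the entry `(p, l)`, `p ≠ l`, has degree `dg p (-l)` -/
structure DegOk : Prop where
  mul : ∀ p k l, p ≠ k → k ≠ l → p ≠ l → ∀ d, 0 < d → d ≤ dg p (neg k) → d ≤ dg k (neg l) → d ≤ dg p (neg l)
  anti : ∀ p k, p ≠ k → 0 < dg p (neg k) → ¬ 0 < dg k (neg p)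

/-- the matrices `1 + (entries of degree ≥ d)` -/
def IsU (d : ℤ) (A : Sy n F) : Prop :=
  ∀ p l, (p = l → rho n F A (be n F l) p = 1) ∧ (p ≠ l → rho n F A (be n F l) p ≠ 0 → d ≤ dg p (neg l))

theorem rho_be_sum (A : Sy n F) (v : Ix n → F) (p : Ix n) :
    rho n F A v p = ∑ k, v k * rho n F A (be n F k) p := by
  have hs : IsSemi (rho n F A) (RingEquiv.refl F) 1 := isSemi_rho A
  let T : (Ix n → F) →ₗ[F] (Ix n → F) :=
    { toFun := rho n F A
      map_add' := hs.1
      map_smul' := fun a v => hs.2.1 a v }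
  have h1 : T v = ∑ k, v k • T (Pi.single k 1) := by
    have hv : v = ∑ k, v k • (Pi.single k 1 : Ix n → F) := by
      ext m
      simp only [Finset.sum_apply, Pi.single_apply, _root_.Pi.smul_apply, _root_.smul_eq_mul, _root_.mul_ite, _root_.mul_one, _root_.MulZeroClass.mul_zero, _root_.Finset.sum_ite_eq, _root_.Finset.mem_univ, ↓ _root_.reduceIte]
    conv_lhs => rw [hv]
    rw [map_sum]
    exact Finset.sum_congr rfl fun k _ => map_smul T _ _
  have h2 := congrFun h1 p
  rw [Finset.sum_apply] at h2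
  exact h2

theorem IsU.mul {dg : Ix n → Ix n → ℤ} (hdg : DegOk dg) {d : ℤ} (hd : 0 < d) {A B : Sy n F} (hA : IsU dg d A)
    (hB : IsU dg d B) : IsU dg d (A * B) := by
  intro p l
  rw [map_mul, Equiv.Perm.mul_apply, rho_be_sum]
  constructor
  · rintro rfl
    rw [Finset.sum_eq_single p]
    · rw [(hB p p).1 rfl, (hA p p).1 rfl, mul_one]
    · intro k _ hk
      by_contra h0
      have h1 := left_ne_zero_of_mul h0
      have h2 := right_ne_zero_of_mul h0
      have h3 := (hB k p).2 hk h1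
      have h4 := (hA p k).2 (Ne.symm hk) h2
      exact hdg.anti p k (Ne.symm hk) (by omega) (by omega)
    · intro h; exact absurd (Finset.mem_univ p) h
  · intro hpl hne
    obtain ⟨k, -, hk⟩ := Finset.exists_ne_zero_of_sum_ne_zero hne
    have h1 := left_ne_zero_of_mul hk
    have h2 := right_ne_zero_of_mul hk
    by_cases hkl : k = l
    · subst hkl; exact (hA p k).2 hpl h2
    by_cases hpk : p = k
    · subst hpk; exact (hB p l).2 hpl h1
    exact hdg.mul p k l hpk hkl hpl d hd ((hA p k).2 hpk h2) ((hB k l).2 hkl h1)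

theorem isU_one (d : ℤ) : IsU dg d (1 : Sy n F) := by
  intro p l
  rw [map_one, Equiv.Perm.one_apply, be_apply]
  constructor
  · intro h; rw [if_pos h]
  · intro h h'; rw [if_neg h] at h'; exact absurd rfl h'

/-- the group -/
def Ud {dg : Ix n → Ix n → ℤ} (hdg : DegOk dg) (d : ℤ) (hd : 0 < d) : Subgroup (Sy n F) where
  carrier := {A | IsU dg d A ∧ IsU dg d A⁻¹}
  one_mem' := ⟨isU_one dg d, by rw [inv_one]; exact isU_one dg d⟩
  mul_mem' := fun {A B} hA hB => ⟨hA.1.mul hdg hd hB.1, by rw [mul_inv_rev]; exact hB.2.mul hdg hd hA.2⟩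
  inv_mem' := fun {A} hA => ⟨hA.2, by rw [inv_inv]; exact hA.1⟩

theorem mem_Ud {dg : Ix n → Ix n → ℤ} (hdg : DegOk dg) {d : ℤ} (hd : 0 < d) {A : Sy n F} (h : IsU dg d A)
    (h2 : A * A = 1) : A ∈ Ud hdg d hd := ⟨h, by rw [inv_eq_of_mul_eq_one_left h2]; exact h⟩

variable [CharP F 2]

theorem sx_mem_Ud {dg : Ix n → Ix n → ℤ} (hdg : DegOk dg) (hs : ∀ i j, dg i j = dg j i) {d : ℤ} (hd : 0 < d)
    {i j : Ix n} (hij : Dj i j) (h : d ≤ dg i j) (a : F) : sx i j a ∈ Ud hdg d hd := by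
  refine mem_Ud hdg hd ?_ (sx_sq i j a)
  intro p l
  rw [rho_sx hij]
  simp only [Pi.add_apply, Pi.smul_apply, smul_eq_mul, be_apply]
  constructor
  · rintro rfl
    rw [if_pos rfl]
    have h1 : (if neg j = p then (1 : F) else 0) * (if p = i then 1 else 0) = 0 := by
      by_cases h1 : p = i
      · subst h1
        rw [if_neg (fun e => hij.2 e.symm), zero_mul]
      · rw [if_neg h1, mul_zero]
    have h2 : (if neg i = p then (1 : F) else 0) * (if p = j then 1 else 0) = 0 := by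
      by_cases h1 : p = j
      · subst h1
        rw [if_neg (fun e => hij.2 (by rw [← e, neg_neg])), zero_mul]
      · rw [if_neg h1, mul_zero]
    rw [mul_assoc, h1, mul_assoc, h2, mul_zero, add_zero, add_zero]
  · intro hpl hne
    rw [if_neg hpl, zero_add] at hne
    by_cases h1 : neg j = l ∧ p = i
    · rw [← h1.1, neg_neg, h1.2]; exact h
    · by_cases h2 : neg i = l ∧ p = j
      · rw [← h2.1, neg_neg, h2.2, hs]; exact h
      · exfalso
        apply hne
        have e1 : a * (if neg j = l then (1 : F) else 0) * (if p = i then 1 else 0) = 0 := by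
          by_cases h3 : neg j = l
          · have : p ≠ i := fun e => h1 ⟨h3, e⟩
            rw [if_neg this, mul_zero]
          · rw [if_neg h3, mul_zero, zero_mul]
        have e2 : a * (if neg i = l then (1 : F) else 0) * (if p = j then 1 else 0) = 0 := by
          by_cases h3 : neg i = l
          · have : p ≠ j := fun e => h2 ⟨h3, e⟩
            rw [if_neg this, mul_zero]
          · rw [if_neg h3, mul_zero, zero_mul]
        rw [e1, e2, add_zero]

theorem sy_mem_Ud {dg : Ix n → Ix n → ℤ} (hdg : DegOk dg) {d : ℤ} (hd : 0 < d) {i : Ix n} (h : d ≤ dg i i) (a : F) :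
    sy i a ∈ Ud hdg d hd := by
  refine mem_Ud hdg hd ?_ (sy_sq i a)
  intro p l
  rw [rho_sy]
  simp only [Pi.add_apply, Pi.smul_apply, smul_eq_mul, be_apply]
  constructor
  · rintro rfl
    rw [if_pos rfl]
    by_cases h1 : p = i
    · subst h1
      rw [if_neg (neg_ne p), mul_zero, zero_mul, add_zero]
    · rw [if_neg h1, mul_zero, add_zero]
  · intro hpl hne
    rw [if_neg hpl, zero_add] at hne
    by_cases h1 : neg i = l ∧ p = i
    · rw [← h1.1, neg_neg, h1.2]; exact h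
    · exfalso
      apply hne
      by_cases h3 : neg i = l
      · have : p ≠ i := fun e => h1 ⟨h3, e⟩
        rw [if_neg this, mul_zero]
      · rw [if_neg h3, mul_zero, zero_mul]

theorem sx_eq_zero {dg : Ix n → Ix n → ℤ} (hdg : DegOk dg) {d : ℤ} (hd : 0 < d) {i j : Ix n} (hij : Dj i j)
    (h : dg i j < d) {a : F} (ha : sx i j a ∈ Ud hdg d hd) : a = 0 := by
  by_contra h0
  have h1 : i ≠ neg j := hij.2
  have := (ha.1 i (neg j)).2 h1 (by
    rw [rho_sx hij]
    have h2 : neg i ≠ neg j := fun e => hij.1 (neg_inj.1 e)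
    simp only [Pi.add_apply, Pi.smul_apply, smul_eq_mul, be_apply, if_true, if_neg h1, if_neg h2, mul_one, zero_add,
      mul_zero, zero_mul, add_zero]
    exact h0)
  rw [neg_neg] at this
  omega

theorem sy_eq_zero {dg : Ix n → Ix n → ℤ} (hdg : DegOk dg) {d : ℤ} (hd : 0 < d) {i : Ix n}
    (h : dg i i < d) {a : F} (ha : sy i a ∈ Ud hdg d hd) : a = 0 := by
  by_contra h0
  have := (ha.1 i (neg i)).2 (ne_neg i) (by
    rw [rho_sy]
    simp only [Pi.add_apply, Pi.smul_apply, smul_eq_mul, be_apply, if_true, if_neg (ne_neg i), mul_one, zero_add]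
    exact h0)
  rw [neg_neg] at this
  omega

end unip

/-! ### The two degree functions -/

/-- `C_n`: `2 e_i` has degree `2 F_i` -/
def dgC (i j : Ix n) : ℤ := Fd i + Fd j

/-- `B_n`: `2 e_i` has degree `F_i` -/
def dgB (i j : Ix n) : ℤ := if i = j then Fd i else Fd i + Fd j

theorem dgC_symm (i j : Ix n) : dgC i j = dgC j i := add_comm _ _

theorem dgB_symm (i j : Ix n) : dgB i j = dgB j i := by
  unfold dgB
  by_cases h : i = j
  · subst h; rfl
  · rw [if_neg h, if_neg (Ne.symm h), add_comm]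

theorem dgC_ok : DegOk (dgC (n := n)) := by
  constructor
  · intro p k l _ _ _ d hd h1 h2
    unfold dgC at h1 h2 ⊢
    rw [Fd_neg] at h1 h2 ⊢
    linarith
  · intro p k _ h1 h2
    unfold dgC at h1 h2
    rw [Fd_neg] at h1 h2
    linarith

theorem dgB_ok : DegOk (dgB (n := n)) := by
  constructor
  · intro p k l hpk hkl hpl d hd h1 h2
    unfold dgB at *
    by_cases e1 : p = neg k
    · rw [if_pos e1] at h1
      have e2 : Fd k = -Fd p := by rw [e1, Fd_neg, _root_.neg_neg]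
      by_cases e3 : k = neg l
      · exfalso
        apply hpl
        rw [e1, e3, neg_neg]
      · rw [if_neg e3, Fd_neg] at h2
        split_ifs with e4
        · linarith
        · rw [Fd_neg]; linarith
    · rw [if_neg e1, Fd_neg] at h1
      by_cases e3 : k = neg l
      · rw [if_pos e3] at h2
        have e2 : Fd l = -Fd k := by rw [e3, Fd_neg, _root_.neg_neg]
        split_ifs with e4
        · linarith
        · rw [Fd_neg]; linarith
      · rw [if_neg e3, Fd_neg] at h2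
        split_ifs with e4
        · have : Fd l = -Fd p := by rw [e4, Fd_neg, _root_.neg_neg]
          linarith
        · rw [Fd_neg]; linarith
  · intro p k hpk h1 h2
    unfold dgB at *
    by_cases e1 : p = neg k
    · rw [if_pos e1] at h1
      have e2 : k = neg p := by rw [e1, neg_neg]
      rw [if_pos e2] at h2
      rw [e1, Fd_neg] at h1
      linarith
    · have e2 : k ≠ neg p := fun e => e1 (by rw [e, neg_neg])
      rw [if_neg e1, Fd_neg] at h1
      rw [if_neg e2, Fd_neg] at h2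
      linarith

end Cfsg.Agent.OddHalf.SpN

end

-- merged: Cfsg.Agent.OddHalf.SpN.SylU
section

/-!
# ODD D7, `K = Sp_2n(q)`, `q` even: the positive root groups generate a Sylow 2-subgroup (helper583)

`Upos n F` = the subgroup of `Sy n F` generated by the root groups `sx i j` (`0 < Fd i + Fd j`), `sy i` (`0 < Fd i`).
`odd_index_Upos`: its index is odd.
-/

set_option autoImplicit false

namespace Cfsg.Agent.OddHalf.SpN

open Cfsg Cfsg.Agent.ClassicalGeometry.SympBasic Cfsg.Agent.ClassicalGeometry.SympAutSemi Cfsg.Agent.OddHalf.SpN.TU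

section defs

variable (n : ℕ) (F : Type*) [Field F]

/-- The group generated by the positive root groups. -/
def Upos : Subgroup (Sy n F) := Subgroup.closure
  {A | (∃ i j : Ix n, Dj i j ∧ 0 < Fd i + Fd j ∧ ∃ a, A = sx i j a) ∨ (∃ i : Ix n, 0 < Fd i ∧ ∃ a, A = sy i a)}

end defs

variable {n : ℕ} {F : Type*} [Field F]

theorem sx_mem_Upos {i j : Ix n} (hij : Dj i j) (h : 0 < Fd i + Fd j) (a : F) : sx i j a ∈ Upos n F :=
  Subgroup.subset_closure (Or.inl ⟨i, j, hij, h, a, rfl⟩)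

theorem sy_mem_Upos {i : Ix n} (h : 0 < Fd i) (a : F) : sy i a ∈ Upos n F :=
  Subgroup.subset_closure (Or.inr ⟨i, h, a, rfl⟩)

theorem dgC_mono {d e : ℤ} (hd : 0 < d) (he : 0 < e) (h : d ≤ e) :
    Ud (F := F) (dgC_ok (n := n)) e he ≤ Ud dgC_ok d hd := by
  rintro A ⟨h1, h2⟩
  refine ⟨fun p l => ⟨(h1 p l).1, fun h3 h4 => h.trans ((h1 p l).2 h3 h4)⟩,
    fun p l => ⟨(h2 p l).1, fun h3 h4 => h.trans ((h2 p l).2 h3 h4)⟩⟩

section chartwo

variable [CharP F 2]

theorem Upos_le : Upos n F ≤ Ud dgC_ok 1 one_pos := by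
  rw [Upos, Subgroup.closure_le]
  rintro A (⟨i, j, hij, h, a, rfl⟩ | ⟨i, h, a, rfl⟩)
  · exact sx_mem_Ud dgC_ok dgC_symm one_pos hij h a
  · exact sy_mem_Ud dgC_ok one_pos (by unfold dgC; omega) a

/-- Squares double the degree. -/
theorem isU_sq {d : ℤ} (hd : 0 < d) {A : Sy n F} (hA : IsU dgC d A) : IsU dgC (2 * d) (A * A) := by
  intro p l
  have h0 := hA.mul dgC_ok hd hA p l
  refine ⟨h0.1, fun hpl hne => ?_⟩
  by_contra hcon
  apply hne
  rw [map_mul, Equiv.Perm.mul_apply, rho_be_sum, Finset.sum_eq_add p l hpl]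
  · rw [(hA p p).1 rfl, (hA l l).1 rfl, mul_one, one_mul, CharTwo.add_self_eq_zero]
  · rintro k - ⟨hkp, hkl⟩
    by_contra h1
    have h2 := (hA k l).2 hkl (left_ne_zero_of_mul h1)
    have h3 := (hA p k).2 (Ne.symm hkp) (right_ne_zero_of_mul h1)
    apply hcon
    unfold dgC at h2 h3 ⊢
    rw [Fd_neg] at h2 h3 ⊢
    linarith
  · intro h; exact absurd (Finset.mem_univ p) h
  · intro h; exact absurd (Finset.mem_univ l) h

theorem sq_mem_Ud {d : ℤ} (hd : 0 < d) {A : Sy n F} (hA : A ∈ Ud dgC_ok d hd) :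
    A * A ∈ Ud dgC_ok (2 * d) (by omega) :=
  ⟨isU_sq hd hA.1, by rw [mul_inv_rev]; exact isU_sq hd hA.2⟩

omit [CharP F 2] in
theorem Fd_le (i : Ix n) : Fd i ≤ 5 ^ n := by
  have h1 : (5 : ℤ) ^ ex i ≤ 5 ^ n := pow_le_pow_right₀ (by norm_num) (Nat.sub_le _ _)
  have h2 : (0 : ℤ) < 5 ^ ex i := by positivity
  rcases Fd_cases i with h | h <;> rw [h] <;> linarith

omit [CharP F 2] in
theorem eq_one_of_Ud {d : ℤ} (hd : 0 < d) (h : 2 * 5 ^ n < d) {A : Sy n F} (hA : A ∈ Ud dgC_ok d hd) : A = 1 := by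
  apply rho_injective
  ext v p
  rw [map_one, Equiv.Perm.one_apply, rho_be_sum, Finset.sum_eq_single p]
  · rw [(hA.1 p p).1 rfl, mul_one]
  · intro k _ hk
    by_contra h0
    have h1 := (hA.1 p k).2 (Ne.symm hk) (right_ne_zero_of_mul h0)
    have h2 := Fd_le p
    have h3 := Fd_le (neg k)
    unfold dgC at h1
    linarith
  · intro h; exact absurd (Finset.mem_univ p) h

theorem pow_mem_Ud {A : Sy n F} (hA : A ∈ Ud dgC_ok 1 one_pos) (k : ℕ) :
    A ^ 2 ^ k ∈ Ud dgC_ok (2 ^ k) (by positivity) := by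
  induction k with
  | zero => simpa using hA
  | succ k ih =>
    have h1 := sq_mem_Ud _ ih
    rw [← pow_two, ← pow_mul, ← pow_succ] at h1
    have h2 : (2 : ℤ) * 2 ^ k = 2 ^ (k + 1) := by ring
    simp only [h2] at h1
    exact h1

theorem isPGroup_Ud : IsPGroup 2 (Ud (F := F) (dgC_ok (n := n)) 1 one_pos) := by
  intro A
  refine ⟨2 * 5 ^ n, ?_⟩
  have h1 : (2 * 5 ^ n : ℤ) < 2 ^ (2 * 5 ^ n : ℕ) := by exact_mod_cast Nat.lt_two_pow_self
  exact Subtype.ext (eq_one_of_Ud _ h1 (pow_mem_Ud A.2 _))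

theorem isPGroup_Upos : IsPGroup 2 (Upos n F) := isPGroup_Ud.to_le Upos_le

/-! ### The positive roots are indexed by `Fin n × Fin n` -/

/-- the root of a pair -/
def rt (p : Fin n × Fin n) : Ix n × Ix n :=
  if p.1 = p.2 then (Sum.inl p.1, Sum.inl p.1) else if p.1 < p.2 then (Sum.inl p.1, Sum.inl p.2)
  else (Sum.inl p.2, Sum.inr p.1)

/-- the degree -/
def dP (p : Fin n × Fin n) : ℤ := Fd (rt p).1 + Fd (rt p).2

/-- the root element -/
noncomputable def el (F : Type*) [Field F] (p : Fin n × Fin n) (a : F) : Sy n F :=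
  if p.1 = p.2 then sy (Sum.inl p.1) a else sx (rt p).1 (rt p).2 a

omit [CharP F 2] in
theorem rt_dj {p : Fin n × Fin n} (h : p.1 ≠ p.2) : Dj (rt p).1 (rt p).2 := by
  unfold rt
  rw [if_neg h]
  split_ifs with h1
  · exact ⟨fun e => h (Sum.inl.inj e), fun e => by simp at e⟩
  · exact ⟨fun e => by simp at e, fun e => h (Sum.inl.inj (show (Sum.inl p.1 : Ix n) = Sum.inl p.2 from e.symm))⟩

omit [CharP F 2] in
theorem Fd_inl_pos (i : Fin n) : 0 < Fd (Sum.inl i : Ix n) := by
  change (0 : ℤ) < 5 ^ ex (Sum.inl i)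
  positivity

omit [CharP F 2] in
theorem Fd_inl_lt {i j : Fin n} (h : i < j) : Fd (Sum.inl j : Ix n) < Fd (Sum.inl i : Ix n) := by
  change (5 : ℤ) ^ ex (Sum.inl j) < 5 ^ ex (Sum.inl i)
  apply pow_lt_pow_right₀ (by norm_num)
  change n - j.val < n - i.val
  have := i.2
  have := j.2
  have h' : i.val < j.val := h
  omega

omit [CharP F 2] in
theorem dP_pos (p : Fin n × Fin n) : 0 < dP p := by
  unfold dP rt
  split_ifs with h1 h2
  · have := Fd_inl_pos p.1
    linarith
  · have := Fd_inl_pos p.1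
    have := Fd_inl_pos p.2
    linarith
  · have h3 : p.2 < p.1 := lt_of_le_of_ne (not_lt.mp h2) (Ne.symm h1)
    have h4 := Fd_inl_lt h3
    have h5 : Fd (Sum.inr p.1 : Ix n) = - Fd (Sum.inl p.1 : Ix n) := Fd_neg (Sum.inl p.1)
    simp only [h5]
    linarith

omit [CharP F 2] in
theorem dP_inj {p r : Fin n × Fin n} (h : dP p = dP r) : p = r := by
  obtain ⟨i, j⟩ := p
  obtain ⟨k, l⟩ := r
  unfold dP at h
  by_cases h1 : i = j
  · subst h1
    by_cases h2 : k = l
    · subst h2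
      simp only [rt, if_true] at h
      have h3 : Fd (Sum.inl i : Ix n) = Fd (Sum.inl k : Ix n) := by linarith
      rw [Sum.inl.inj (Fd_inj h3)]
    · exfalso
      have h3 := rt_dj (p := (k, l)) h2
      simp only [rt, if_true] at h
      exact two_Fd_ne h3 h
  · have h3 := rt_dj (p := (i, j)) h1
    by_cases h2 : k = l
    · subst h2
      exfalso
      have h4 : (rt (k, k) : Ix n × Ix n) = (Sum.inl k, Sum.inl k) := by simp [rt]
      rw [h4] at h
      exact two_Fd_ne h3 h.symm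
    · have h4 := rt_dj (p := (k, l)) h2
      have h5 := Fd_two h3 h4 h
      unfold rt at h5
      simp only [if_neg h1, if_neg h2] at h5
      by_cases h6 : i < j <;> by_cases h7 : k < l
      · simp only [if_pos h6, if_pos h7, Sum.inl.injEq] at h5
        rcases h5 with ⟨rfl, rfl⟩ | ⟨rfl, rfl⟩
        · rfl
        · exact absurd h6 (lt_asymm h7)
      · simp [if_pos h6, if_neg h7] at h5
      · simp [if_neg h6, if_pos h7] at h5
      · simp only [if_neg h6, if_neg h7, Sum.inl.injEq, Sum.inr.injEq, reduceCtorEq, false_and, or_false] at h5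
        rw [h5.1, h5.2]

theorem el_mem_Upos (p : Fin n × Fin n) (a : F) : el F p a ∈ Upos n F := by
  unfold el
  split_ifs with h
  · exact sy_mem_Upos (Fd_inl_pos _) a
  · exact sx_mem_Upos (rt_dj h) (dP_pos p) a

theorem el_mem_Ud {d : ℤ} (hd : 0 < d) {p : Fin n × Fin n} (h : d ≤ dP p) (a : F) :
    el F p a ∈ Ud dgC_ok d hd := by
  unfold el
  split_ifs with h1
  · refine sy_mem_Ud dgC_ok hd ?_ a
    unfold dP rt at h
    rw [if_pos h1] at h
    exact h
  · exact sx_mem_Ud dgC_ok dgC_symm hd (rt_dj h1) h a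

theorem el_add (p : Fin n × Fin n) (a b : F) : el F p (a + b) = el F p a * el F p b := by
  unfold el
  split_ifs with h1
  · exact sy_add _ a b
  · exact sx_add _ _ a b

theorem el_inv (p : Fin n × Fin n) (a : F) : (el F p a)⁻¹ = el F p a := by
  apply inv_eq_of_mul_eq_one_left
  unfold el
  split_ifs with h1
  · exact sy_sq _ a
  · exact sx_sq _ _ a

theorem el_eq_zero {d : ℤ} (hd : 0 < d) {p : Fin n × Fin n} (h : dP p < d) {a : F}
    (ha : el F p a ∈ Ud dgC_ok d hd) : a = 0 := by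
  unfold el at ha
  split_ifs at ha with h1
  · refine sy_eq_zero dgC_ok hd ?_ ha
    unfold dP rt at h
    rw [if_pos h1] at h
    exact h
  · exact sx_eq_zero dgC_ok hd (rt_dj h1) h ha

/-- the filtration of `Upos` -/
def Nd (n : ℕ) (F : Type*) [Field F] (d : ℤ) (hd : 0 < d) : Subgroup (Sy n F) := Upos n F ⊓ Ud dgC_ok d hd

variable [Finite F]

theorem card_Nd_ge (k : ℕ) : ∀ (d : ℤ) (hd : 0 < d), 2 * 5 ^ n + 1 - d ≤ k →
    Nat.card F ^ (Finset.univ.filter fun p : Fin n × Fin n => d ≤ dP p).card ≤ Nat.card (Nd n F d hd) := by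
  induction k with
  | zero =>
    intro d hd h
    have h1 : (Finset.univ.filter fun p : Fin n × Fin n => d ≤ dP p) = ∅ := by
      rw [Finset.filter_eq_empty_iff]
      intro p _ h2
      have h3 := Fd_le (rt p).1
      have h4 := Fd_le (rt p).2
      unfold dP at h2
      push_cast at h
      linarith
    rw [h1, Finset.card_empty, pow_zero]
    exact Nat.card_pos
  | succ k ih =>
    intro d hd h
    have hd' : 0 < d + 1 := by omega
    have h1 := ih (d + 1) hd' (by push_cast at h ⊢; linarith)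
    have hle : Nd n F (d + 1) hd' ≤ Nd n F d hd := inf_le_inf_left _ (dgC_mono hd hd' (by omega))
    by_cases hp : ∃ p : Fin n × Fin n, dP p = d
    · obtain ⟨p, hp⟩ := hp
      have h2 : (Finset.univ.filter fun r : Fin n × Fin n => d ≤ dP r) =
          insert p (Finset.univ.filter fun r : Fin n × Fin n => d + 1 ≤ dP r) := by
        ext r
        simp only [Finset.mem_filter, Finset.mem_univ, true_and, Finset.mem_insert]
        constructor
        · intro h3
          rcases h3.lt_or_eq with h4 | h4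
          · right; omega
          · left; exact dP_inj (by rw [hp, ← h4])
        · rintro (rfl | h3)
          · omega
          · omega
      have h3 : p ∉ Finset.univ.filter fun r : Fin n × Fin n => d + 1 ≤ dP r := by
        simp only [Finset.mem_filter, Finset.mem_univ, true_and]
        omega
      rw [h2, Finset.card_insert_of_notMem h3, pow_succ]
      refine (Nat.mul_le_mul_right _ h1).trans ?_
      rw [← Nat.card_prod]
      refine Nat.card_le_card_of_injective
        (fun x : Nd n F (d + 1) hd' × F => (⟨el F p x.2 * x.1, mul_mem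
          ⟨el_mem_Upos p x.2, el_mem_Ud hd hp.ge x.2⟩ (hle x.1.2)⟩ : Nd n F d hd)) ?_
      rintro ⟨x, a⟩ ⟨y, b⟩ hxy
      have h4 : el F p a * (x : Sy n F) = el F p b * (y : Sy n F) := congrArg Subtype.val hxy
      have h5 : el F p (b + a) = (y : Sy n F) * (x : Sy n F)⁻¹ := by
        calc el F p (b + a) = (el F p b)⁻¹ * el F p a := by rw [el_add, el_inv]
          _ = (el F p b)⁻¹ * (el F p a * (x : Sy n F)) * (x : Sy n F)⁻¹ := by group
          _ = (y : Sy n F) * (x : Sy n F)⁻¹ := by rw [h4, inv_mul_cancel_left]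
      have h6 : b + a = 0 := by
        refine el_eq_zero hd' (by omega) (F := F) (p := p) ?_
        rw [h5]
        exact (mul_mem y.2 (inv_mem x.2)).2
      have h7 : b = a := CharTwo.add_eq_zero.mp h6
      subst h7
      have h8 : (x : Sy n F) = y := mul_left_cancel h4
      rw [Subtype.ext h8]
    · have h2 : (Finset.univ.filter fun r : Fin n × Fin n => d ≤ dP r) =
          (Finset.univ.filter fun r : Fin n × Fin n => d + 1 ≤ dP r) := by
        ext r
        simp only [Finset.mem_filter, Finset.mem_univ, true_and]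
        constructor
        · intro h3
          rcases h3.lt_or_eq with h4 | h4
          · omega
          · exact absurd ⟨r, h4.symm⟩ hp
        · intro h3; omega
      rw [h2]
      exact h1.trans (Nat.card_le_card_of_injective _ (Subgroup.inclusion_injective hle))

theorem card_Upos_ge : Nat.card F ^ (n ^ 2) ≤ Nat.card (Upos n F) := by
  have h1 := card_Nd_ge (F := F) (n := n) (2 * 5 ^ n) 1 one_pos (by push_cast; linarith)
  have h2 : (Finset.univ.filter fun p : Fin n × Fin n => 1 ≤ dP p) = Finset.univ := by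
    rw [Finset.filter_eq_self]
    intro p _
    have := dP_pos p
    omega
  rw [h2, Finset.card_univ, Fintype.card_prod, Fintype.card_fin, ← pow_two] at h1
  exact h1.trans (Nat.card_le_card_of_injective _
    (Subgroup.inclusion_injective (inf_le_left : Nd n F 1 one_pos ≤ Upos n F)))

/-- **The positive root groups generate a Sylow 2-subgroup.** -/
theorem odd_index_Upos : Odd (Upos n F).index := by
  classical
  have := Fintype.ofFinite F
  have hcard := Cfsg.Agent.LieClassical.SympCount.card_symplecticGroup (F := F) n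
  have hF : 2 ∣ Fintype.card F := by
    obtain ⟨k, hk, h⟩ := FiniteField.card F 2
    rw [h]
    exact dvd_pow_self 2 k.ne_zero
  obtain ⟨a, ha⟩ := (IsPGroup.iff_card.mp (isPGroup_Upos (n := n) (F := F)))
  have h1 := (Upos n F).card_mul_index
  have hO : Odd (∏ i ∈ Finset.range n, (Fintype.card F ^ (2 * (i + 1)) - 1)) := by
    refine Finset.prod_induction _ Odd (fun _ _ => Odd.mul) odd_one ?_
    intro i _
    have h2 : 2 ∣ Fintype.card F ^ (2 * (i + 1)) := hF.trans (dvd_pow_self _ (by omega))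
    have h3 : 0 < Fintype.card F ^ (2 * (i + 1)) := pow_pos Fintype.card_pos _
    rw [Nat.odd_iff]
    omega
  rw [← Nat.not_even_iff_odd]
  intro h2
  obtain ⟨c, hc⟩ := h2
  have h3 : 2 ^ (a + 1) ∣ Fintype.card F ^ n ^ 2 := by
    apply Nat.Coprime.dvd_of_dvd_mul_right (k := 2 ^ (a + 1)) (n := ∏ i ∈ Finset.range n, (Fintype.card F ^ (2 * (i + 1)) - 1))
    · exact Nat.Coprime.pow_left _ (Nat.coprime_two_left.mpr hO)
    · rw [← hcard, ← h1, ha, hc]
      exact ⟨c, by ring⟩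
  have h4 := Nat.le_of_dvd (pow_pos Fintype.card_pos _) h3
  have h5 := card_Upos_ge (F := F) (n := n)
  rw [ha, Nat.card_eq_fintype_card] at h5
  have h6 : 2 ^ a < 2 ^ (a + 1) := Nat.pow_lt_pow_right (by norm_num) (by omega)
  omega

/-! ### `Upos = Uu` -/

omit [Finite F] in
theorem pos_lt_of_Fd {i j : Ix n} (hij : i ≠ neg j) (h : 0 < Fd i + Fd j) : pos i < pos (neg j) := by
  have h1 : Fd (neg j) < Fd i := by rw [Fd_neg]; linarith
  have key : ∀ {k l : Ix n}, Fd l < Fd k → k ≠ l → pos k < pos l := by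
    intro k l h hkl
    rcases k with k | k <;> rcases l with l | l
    · have h2 : k < l := by
        by_contra h3
        rcases (not_lt.mp h3).lt_or_eq with h4 | h4
        · have := Fd_inl_lt h4; linarith
        · rw [h4] at hkl; exact hkl rfl
      rw [pos_inl, pos_inl]; exact h2
    · have := k.2
      have := l.2
      rw [pos_inl, pos_inr]; omega
    · exfalso
      have h2 := Fd_inl_pos l
      have h3 := Fd_inl_pos k
      have h4 : Fd (Sum.inr k : Ix n) = - Fd (Sum.inl k : Ix n) := Fd_neg (Sum.inl k)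
      rw [h4] at h
      linarith
    · have e1 : Fd (Sum.inr k : Ix n) = - Fd (Sum.inl k : Ix n) := Fd_neg (Sum.inl k)
      have e2 : Fd (Sum.inr l : Ix n) = - Fd (Sum.inl l : Ix n) := Fd_neg (Sum.inl l)
      rw [e1, e2] at h
      have h2 : l < k := by
        by_contra h3
        rcases (not_lt.mp h3).lt_or_eq with h4 | h4
        · have := Fd_inl_lt h4; linarith
        · rw [h4] at hkl; exact hkl rfl
      have h2' : l.val < k.val := h2
      have := k.2
      rw [pos_inr, pos_inr]; omega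
  exact key h1 hij

omit [Finite F] in
theorem Upos_le_Uu : Upos n F ≤ Uu n F := by
  rw [Upos, Subgroup.closure_le]
  rintro A (⟨i, j, hij, h, a, rfl⟩ | ⟨i, h, a, rfl⟩)
  · exact sx_mem (pos_lt_of_Fd hij.2 h) a
  · exact sy_mem (pos_lt_of_Fd (ne_neg i) (by linarith)) a

/-- **The two descriptions of `U` agree.** -/
theorem Upos_eq : Upos n F = Uu n F := by
  have : Fact (Nat.Prime 2) := ⟨Nat.prime_two⟩
  refine le_antisymm Upos_le_Uu ?_
  rw [← Subgroup.relIndex_eq_one]
  have h1 : (Upos n F).relIndex (Uu n F) ∣ (Upos n F).index := Subgroup.relIndex_dvd_index_of_le Upos_le_Uu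
  have h2 : Odd ((Upos n F).relIndex (Uu n F)) := odd_index_Upos.of_dvd_nat h1
  have h3 : (Upos n F).relIndex (Uu n F) ∣ Nat.card (Uu n F) := Subgroup.relIndex_dvd_card _ _
  obtain ⟨a, ha⟩ := IsPGroup.iff_card.mp (Uu_isPGroup (n := n) (F := F))
  rw [ha] at h3
  exact Nat.eq_one_of_dvd_coprimes (Nat.Coprime.pow_left a (Nat.coprime_two_left.mpr h2)) h3 dvd_rfl

omit [CharP F 2] [Finite F] in
theorem relIndex_map_range {G : Type*} [Group G] (ι : Sy n F →* G) (hι : Function.Injective ι)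
    (U : Subgroup (Sy n F)) : (U.map ι).relIndex ι.range = U.index := by
  have e1 : (U.map ι).relIndex ι.range = (U.map ι.rangeRestrict).index := by
    rw [Subgroup.relIndex]
    congr 1
    ext x
    rw [Subgroup.mem_subgroupOf]
    constructor
    · rintro ⟨a, ha, hax⟩
      exact ⟨a, ha, Subtype.ext hax⟩
    · rintro ⟨a, ha, hax⟩
      exact ⟨a, ha, congrArg Subtype.val hax⟩
  rw [e1, Subgroup.index_map_of_bijective ⟨fun a b h => hι (congrArg Subtype.val h), ι.rangeRestrict_surjective⟩]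

end chartwo

namespace Frame

variable {n : ℕ} {F : Type*} [Field F] {G : Type*} [Group G] (R : Frame n F G)

/-- The Sylow 2-subgroup of `K`. -/
def Up : Subgroup G := (Upos n F).map R.ι

theorem Up_eq_closure : R.Up = Subgroup.closure
    {g | (∃ i j : Ix n, Dj i j ∧ 0 < Fd i + Fd j ∧ ∃ a, g = R.x i j a) ∨ (∃ i : Ix n, 0 < Fd i ∧ ∃ a, g = R.y i a)} := by
  rw [Up, Upos, MonoidHom.map_closure]
  congr 1
  ext g
  constructor
  · rintro ⟨A, (⟨i, j, hij, h, a, rfl⟩ | ⟨i, h, a, rfl⟩), rfl⟩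
    · exact Or.inl ⟨i, j, hij, h, a, rfl⟩
    · exact Or.inr ⟨i, h, a, rfl⟩
  · rintro (⟨i, j, hij, h, a, rfl⟩ | ⟨i, h, a, rfl⟩)
    · exact ⟨_, Or.inl ⟨i, j, hij, h, a, rfl⟩, rfl⟩
    · exact ⟨_, Or.inr ⟨i, h, a, rfl⟩, rfl⟩

theorem Up_le : R.Up ≤ R.K := by
  rintro _ ⟨A, -, rfl⟩
  exact ⟨A, rfl⟩

variable [CharP F 2]

theorem Up_isPGroup : IsPGroup 2 R.Up := isPGroup_Upos.map R.ι

variable [Finite F]

theorem Up_eq : R.Up = (Uu n F).map R.ι := by rw [Up, Upos_eq]

/-- `|K : U|` is odd. -/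
theorem odd_Up : Odd (R.Up.relIndex R.K) := by
  rw [Up, K, relIndex_map_range R.ι R.inj]
  exact odd_index_Upos

end Frame

/-- Clean case: `|C(t) : ⟨t⟩ U|` is odd. -/
theorem CFrame.odd_cent {n : ℕ} {F : Type*} [Field F] [CharP F 2] [Finite F] {G : Type*} [Group G] [Finite G]
    (R : CFrame n F G) :
    Odd ((R.Up ⊔ Subgroup.zpowers R.t).relIndex (Subgroup.centralizer ({R.t} : Set G))) := by
  refine Cfsg.Agent.KFacts.Unit.FlagMap.odd_sup (K := R.K) R.tt ?_ ?_ R.Up_le R.odd_Up ?_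
  · rintro ⟨k, hk⟩; exact R.tK k hk
  · rintro _ ⟨k, rfl⟩; exact (R.comm k).eq.symm
  · rw [sup_comm]; exact R.odd

end Cfsg.Agent.OddHalf.SpN

end

private theorem dce_9cc18f38299f : _root_.True := by
  try have : _root_.True := by simp only [_root_.Cfsg.Agent.OddHalf.SpN.Ud.congr_simp]
  try have : _root_.True := by simp only [_root_.Cfsg.Agent.OddHalf.SpN.rt.eq_1]
  try have : _root_.True := by simp only [_root_.Cfsg.Agent.OddHalf.SpN.Upos.eq_1]
  try have : _root_.True := by simp only [_root_.Cfsg.Agent.OddHalf.SpN.Frame.Up.eq_1]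
  try have : _root_.True := by simp only [_root_.Cfsg.Agent.OddHalf.SpN.Frame.K.eq_1]
  exact _root_.True.intro
end

-- part: OddHalf/SpN/OutDefs
section
prune_inst 0x410100504542200000018001060002640760001920063000141400a4007c8054120410f21b4a003120100ae74203c006813000019422800000a000a00411c0080002802029089a000020000008804000000000000000000000000000000000000000000000
set_option linter.all false
open scoped Cfsg.Agent.FastGrp

/-!
# ODD D7, `K = Sp_2n(q)`: the outer 2-part, definitions (helper859)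

`R : Frame n F G` (general: `C(t)` induces field automorphisms on `K`).

* `R.Sem y σ lam` : `y ∈ C(t)` acts on the frame as `diag(lam) ∘ σ`;
* `R.OutT T` : `T` is a maximal 2-subgroup of `C(t)` containing `U = R.Up`; `T / U` abelian; every element of `T` is a
  product of an element of `T` with `Sem` and an element of `U`;
* `OutT.D` : the subgroup of the `y ∈ T` with `Sem`; `T = D U`;
* `OutT.field` : `y ∈ D`, `y² ∈ U`, `y ∉ U`, `t y ∉ U`: then `σ² = 1 ≠ σ`;
* `OutT.fr` : the frame `Out.Exclude.Fr t T U U*` for every 2-group `U*` normalised by `T` with `C_{U*}(t) = U`.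
-/

set_option autoImplicit false

namespace Cfsg.Agent.OddHalf.SpN

open Cfsg.Agent.OddHalf.SpN.TU

variable {n : ℕ} {F : Type*} [Field F] {G : Type*} [Group G]

/-- a field automorphism on the torus -/
def fm (σ : F ≃+* F) (lam : Fin n → Fˣ) : Fin n → Fˣ := fun k => Units.map (σ : F →* F) (lam k)

theorem ev_fm (σ : F ≃+* F) (lam : Fin n → Fˣ) (i : Ix n) : ((ev (fm σ lam) i : Fˣ) : F) = σ (ev lam i) := by
  rcases i with i | i
  · rfl
  · simp [ev, fm]

theorem ev_mul (lam mu : Fin n → Fˣ) (i : Ix n) : ev (lam * mu) i = ev lam i * ev mu i := by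
  rcases i with i | i
  · rfl
  · simp [ev, mul_comm]

theorem ev_one_fun (i : Ix n) : ev (1 : Fin n → Fˣ) i = 1 := by
  rcases i with i | i <;> simp [ev]

theorem ev_inv_fun (lam : Fin n → Fˣ) (i : Ix n) : ev lam⁻¹ i = (ev lam i)⁻¹ := by
  rcases i with i | i <;> simp [ev]

namespace Frame

variable (R : Frame n F G)

/-- `y ∈ C(t)` acts on the frame as `diag(lam) ∘ σ` -/
structure Sem (y : G) (σ : F ≃+* F) (lam : Fin n → Fˣ) : Prop where
  yt : Commute y R.t
  yx : ∀ i j, Dj i j → ∀ a, y * R.x i j a * y⁻¹ = R.x i j (ev lam i * ev lam j * σ a)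
  yy : ∀ i a, y * R.y i a * y⁻¹ = R.y i ((ev lam i : F) ^ 2 * σ a)
  yh : ∀ mu : Fin n → Fˣ, y * R.h mu * y⁻¹ = R.h (fm σ mu)

variable {R}

theorem Sem.one : R.Sem 1 1 1 where
  yt := Commute.one_left _
  yx := fun i j _ a => by rw [ev_one_fun, ev_one_fun]; simp
  yy := fun i a => by rw [ev_one_fun]; simp
  yh := fun mu => by
    have : fm (1 : F ≃+* F) mu = mu := by ext k; rfl
    rw [this]; group

theorem Sem.mul {y z : G} {σ τ : F ≃+* F} {lam mu : Fin n → Fˣ} (hy : R.Sem y σ lam) (hz : R.Sem z τ mu) :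
    R.Sem (y * z) (σ * τ) (lam * fm σ mu) where
  yt := hy.yt.mul_left hz.yt
  yx := fun i j hij a => by
    have e : y * z * R.x i j a * (y * z)⁻¹ = y * (z * R.x i j a * z⁻¹) * y⁻¹ := by group
    rw [e, hz.yx i j hij, hy.yx i j hij, ev_mul, ev_mul, Units.val_mul, Units.val_mul, ev_fm, ev_fm, map_mul, map_mul]
    congr 1
    change _ = _ * σ (τ a)
    ring
  yy := fun i a => by
    have e : y * z * R.y i a * (y * z)⁻¹ = y * (z * R.y i a * z⁻¹) * y⁻¹ := by group
    rw [e, hz.yy i, hy.yy i, ev_mul, Units.val_mul, ev_fm, map_mul, map_pow]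
    congr 1
    change _ = _ * σ (τ a)
    ring
  yh := fun nu => by
    have e : y * z * R.h nu * (y * z)⁻¹ = y * (z * R.h nu * z⁻¹) * y⁻¹ := by group
    rw [e, hz.yh, hy.yh]
    rfl

theorem Sem.inv {y : G} {σ : F ≃+* F} {lam : Fin n → Fˣ} (hy : R.Sem y σ lam) :
    R.Sem y⁻¹ σ⁻¹ (fm σ⁻¹ lam⁻¹) where
  yt := hy.yt.inv_left
  yx := fun i j hij a => by
    have h1 := hy.yx i j hij (ev (fm σ⁻¹ lam⁻¹) i * ev (fm σ⁻¹ lam⁻¹) j * (σ⁻¹ : F ≃+* F) a)
    rw [map_mul, map_mul, ev_fm, ev_fm] at h1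
    have hs : ∀ c : F, σ ((σ⁻¹ : F ≃+* F) c) = c := fun c => σ.apply_symm_apply c
    rw [hs, hs, hs, ev_inv_fun, ev_inv_fun, Units.val_inv_eq_inv_val, Units.val_inv_eq_inv_val] at h1
    have e : (ev lam i : F) * ev lam j * (((ev lam i : Fˣ) : F)⁻¹ * ((ev lam j : Fˣ) : F)⁻¹ * a) = a := by
      have h2 := (ev lam i).ne_zero
      have h3 := (ev lam j).ne_zero
      field_simp
    rw [e] at h1
    rw [ev_fm, ev_fm, ← h1]
    have h2 : ∀ c : G, y⁻¹ * (y * c * y⁻¹) * y⁻¹⁻¹ = c := fun c => by group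
    rw [h2, ev_inv_fun, ev_inv_fun, Units.val_inv_eq_inv_val, Units.val_inv_eq_inv_val]
  yy := fun i a => by
    have h1 := hy.yy i ((ev (fm σ⁻¹ lam⁻¹) i : F) ^ 2 * (σ⁻¹ : F ≃+* F) a)
    rw [map_mul, map_pow, ev_fm] at h1
    have hs : ∀ c : F, σ ((σ⁻¹ : F ≃+* F) c) = c := fun c => σ.apply_symm_apply c
    rw [hs, hs, ev_inv_fun, Units.val_inv_eq_inv_val] at h1
    have e : (ev lam i : F) ^ 2 * (((ev lam i : Fˣ) : F)⁻¹ ^ 2 * a) = a := by
      have h2 := (ev lam i).ne_zero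
      field_simp
    rw [e] at h1
    rw [ev_fm, ← h1]
    have h2 : ∀ c : G, y⁻¹ * (y * c * y⁻¹) * y⁻¹⁻¹ = c := fun c => by group
    rw [h2, ev_inv_fun, Units.val_inv_eq_inv_val]
  yh := fun mu => by
    have h1 := hy.yh (fm σ⁻¹ mu)
    have e : fm σ (fm σ⁻¹ mu) = mu := by
      funext k
      exact Units.ext (σ.apply_symm_apply _)
    rw [e] at h1
    rw [← h1]; group

/-- the torus itself -/
theorem Sem.h [CharP F 2] (lam : Fin n → Fˣ) (ht : Commute (R.h lam) R.t)
    (hx : ∀ i j, Dj i j → ∀ a, R.h lam * R.x i j a * (R.h lam)⁻¹ = R.x i j (ev lam i * ev lam j * a))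
    (hy : ∀ i a, R.h lam * R.y i a * (R.h lam)⁻¹ = R.y i ((ev lam i : F) ^ 2 * a)) :
    R.Sem (R.h lam) 1 lam where
  yt := ht
  yx := fun i j hij a => hx i j hij a
  yy := fun i a => hy i a
  yh := fun mu => by
    have : fm (1 : F ≃+* F) mu = mu := by ext k; rfl
    rw [this, ← map_inv, ← map_mul, ← map_mul]
    congr 1
    rw [mul_comm lam mu, mul_inv_cancel_right]

variable (R)

/-- The 2-group `T` -/
structure OutT (T : Subgroup G) : Prop where
  T2 : IsPGroup 2 T
  tT : R.t ∈ T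
  Tc : ∀ d ∈ T, d * R.t = R.t * d
  Tmax : ∀ P : Subgroup G, IsPGroup 2 P → T ≤ P → (∀ x ∈ P, x * R.t = R.t * x) → P ≤ T
  UT : R.Up ≤ T
  TK : ∀ A, R.ι A ∈ T → R.ι A ∈ R.Up
  ab : ∀ a ∈ T, ∀ b ∈ T, a * b * a⁻¹ * b⁻¹ ∈ R.Up
  dec : ∀ z ∈ T, ∃ y ∈ T, ∃ u ∈ R.Up, z = y * u ∧ ∃ σ lam, R.Sem y σ lam
  lin : ∀ y ∈ T, ∀ lam, R.Sem y 1 lam → y ∈ R.Up ∨ R.t * y ∈ R.Up

variable {R} {T : Subgroup G}

/-- the subgroup of the `y ∈ T` acting as `diag ∘ σ` -/
def D (R : Frame n F G) (T : Subgroup G) : Subgroup G where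
  carrier := {y | y ∈ T ∧ ∃ σ lam, R.Sem y σ lam}
  one_mem' := ⟨one_mem _, 1, 1, Sem.one⟩
  mul_mem' := by
    rintro y z ⟨hy, σ, lam, h1⟩ ⟨hz, τ, mu, h2⟩
    exact ⟨mul_mem hy hz, _, _, h1.mul h2⟩
  inv_mem' := by
    rintro y ⟨hy, σ, lam, h1⟩
    exact ⟨inv_mem hy, _, _, h1.inv⟩

theorem D_le : D R T ≤ T := fun _ h => h.1

theorem OutT.exists_D (h : R.OutT T) {z : G} (hz : z ∈ T) : ∃ y ∈ D R T, ∃ u ∈ R.Up, z = y * u := by
  obtain ⟨y, hy, u, hu, e, σ, lam, hs⟩ := h.dec z hz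
  exact ⟨y, ⟨hy, σ, lam, hs⟩, u, hu, e⟩

/-- `σ` is determined -/
theorem Sem.unique [CharP F 2] {y : G} {σ τ : F ≃+* F} {lam mu : Fin n → Fˣ} (h1 : R.Sem y σ lam)
    (h2 : R.Sem y τ mu) (i : Ix n) (hinj : ∀ a b, R.y i a = R.y i b → a = b) : σ = τ := by
  have key : ∀ a, (ev lam i : F) ^ 2 * σ a = (ev mu i : F) ^ 2 * τ a := fun a =>
    hinj _ _ ((h1.yy i a).symm.trans (h2.yy i a))
  have e1 := key 1
  rw [map_one, map_one, mul_one, mul_one] at e1
  ext a
  have e2 := key a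
  rw [e1] at e2
  exact mul_left_cancel₀ (pow_ne_zero 2 (ev mu i).ne_zero) e2

/-- elements of `U` commute with `Y_1` -/
theorem Up_comm_y [CharP F 2] [Finite F] {g : G} (hg : g ∈ R.Up) {i : Ix n} (hi : pos i = 0) (a : F) :
    Commute g (R.y i a) := by
  rw [R.Up_eq] at hg
  obtain ⟨A, hA, rfl⟩ := hg
  change R.ι A * R.ι (sy i a) = R.ι (sy i a) * R.ι A
  rw [← map_mul, ← map_mul, (Uu_comm_sy hA hi a).eq]

theorem Up_comm_t {g : G} (hg : g ∈ R.Up) : Commute g R.t := by
  obtain ⟨A, -, rfl⟩ := hg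
  exact R.comm A

/-- elements of `U` with `Sem` are linear -/
theorem Sem.eq_one_of_mem [CharP F 2] [Finite F] (hn : 0 < n) {y : G} {σ : F ≃+* F} {lam : Fin n → Fˣ}
    (hs : R.Sem y σ lam) (hy : y ∈ R.Up) : σ = 1 := by
  have hi : pos (Sum.inl ⟨0, hn⟩ : Ix n) = 0 := pos_inl _
  have key : ∀ a, (ev lam (Sum.inl ⟨0, hn⟩) : F) ^ 2 * σ a = a := fun a => R.y_inj
    ((hs.yy (Sum.inl ⟨0, hn⟩) a).symm.trans (mul_inv_eq_of_eq_mul (Up_comm_y hy hi a).eq))
  have e1 := key 1
  rw [map_one, mul_one] at e1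
  ext a
  have e2 := key a
  rw [e1, one_mul] at e2
  exact e2

theorem Sem.t : R.Sem R.t 1 1 where
  yt := Commute.refl _
  yx := fun i j _ a => by
    rw [ev_one_fun, ev_one_fun]
    have e : R.t * R.x i j a * R.t⁻¹ = R.x i j a := mul_inv_eq_of_eq_mul (R.comm _).symm.eq
    rw [e]; simp
  yy := fun i a => by
    rw [ev_one_fun]
    have e : R.t * R.y i a * R.t⁻¹ = R.y i a := mul_inv_eq_of_eq_mul (R.comm _).symm.eq
    rw [e]; simp
  yh := fun mu => by
    have : fm (1 : F ≃+* F) mu = mu := by ext k; rfl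
    rw [this]
    exact mul_inv_eq_of_eq_mul (R.comm _).symm.eq

/-- the outer involutions are of field type -/
theorem OutT.field [CharP F 2] [Finite F] (hn : 0 < n) (h : R.OutT T) {y : G} (hy : y ∈ T) {σ : F ≃+* F}
    {lam : Fin n → Fˣ} (hs : R.Sem y σ lam) (h2 : y * y ∈ R.Up) (h3 : y ∉ R.Up) (h4 : R.t * y ∉ R.Up) :
    (∀ a, σ (σ a) = a) ∧ ∃ a, σ a ≠ a := by
  have e1 := (hs.mul hs).eq_one_of_mem hn h2
  refine ⟨fun a => by
    have := congrArg (fun f : F ≃+* F => f a) e1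
    exact this, ?_⟩
  by_contra hcon
  push Not at hcon
  have e2 : σ = 1 := by ext a; exact hcon a
  subst e2
  rcases h.lin y hy lam hs with h5 | h5
  · exact h3 h5
  · exact h4 h5

/-- the frame for a 2-group `U*` -/
theorem OutT.fr (h : R.OutT T) {Us : Subgroup G} (Us2 : IsPGroup 2 Us) (norm : ∀ d ∈ T, ∀ w ∈ Us, d * w * d⁻¹ ∈ Us)
    (hU : ∀ w, w ∈ R.Up ↔ w ∈ Us ∧ w * R.t = R.t * w) : Out.Exclude.Fr R.t T R.Up Us where
  tt := R.tt
  T2 := h.T2
  tT := h.tT
  Tc := h.Tc
  Tmax := h.Tmax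
  Us2 := Us2
  norm := norm
  UT := h.UT
  hU := hU
  ab := h.ab

/-- normalisation has to be checked on `D` and `U` only -/
theorem OutT.norm_of (h : R.OutT T) {Us : Subgroup G} (hU : R.Up ≤ Us)
    (hD : ∀ y ∈ T, ∀ σ lam, R.Sem y σ lam → ∀ w ∈ Us, y * w * y⁻¹ ∈ Us) : ∀ d ∈ T, ∀ w ∈ Us, d * w * d⁻¹ ∈ Us := by
  intro d hd w hw
  obtain ⟨y, hy, u, hu, e, σ, lam, hs⟩ := h.dec d hd
  have e1 : d * w * d⁻¹ = y * (u * w * u⁻¹) * y⁻¹ := by rw [e]; group
  rw [e1]
  exact hD y hy σ lam hs _ (mul_mem (mul_mem (hU hu) hw) (inv_mem (hU hu)))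

end Frame

end Cfsg.Agent.OddHalf.SpN

private theorem dce_ffeea0b404c7 : _root_.True := by
  try have : _root_.True := by simp only [_root_.Cfsg.Agent.OddHalf.SpN.fm.eq_1]
  exact _root_.True.intro
end
end
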