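import Cfsg.Agent.OddHalf.D7F4.Adapted_m3
import Cfsg.Agent.OddHalf.SpN.OutDefs_m3
import Mathlib
import Cfsg.Agent.TitsK.KChkE_m3
import Cfsg.Agent.OddHalf.F4.EndOut_m3
import Cfsg.Agent.OddHalf.D9.Cut
import Cfsg.Agent.OddHalf.D9.DoubleKill_m3
import Mathlib.Data.Nat.Notation
import Cfsg.Agent.SporadicA.GolayFast
import Cfsg.Agent.OddHalf.D7Out.TransGen_m3
import Cfsg.Agent.OddHalf.SpN.Start_m3
import Cfsg.Agent.OddHalf.D4.Spor.JTwo
import Cfsg.Agent.OddHalf.D8.RuFam.BDef_m3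
import Cfsg.Agent.KFacts.Co1D4.Main
import Cfsg.Agent.OddHalf.D4.Spor.MTwentyFour_m3
import Cfsg.Agent.KFacts.MM.OutC_m3
import Cfsg.Agent.BabyM.TZeroE_m3
import Cfsg.Agent.TwoESix.LeviHyp_m3
import Cfsg.Agent.H898.TE6Facts
import Cfsg.Agent.StdO8.Gen_m3
import Cfsg.Agent.ClassicalGeometry.OrthAutRoot
import Cfsg.Agent.KFacts.Mult.TwESixTwo
import Cfsg.Agent.BabyU.FusFinal_m3
import Cfsg.Agent.TwoESix.GoodInst
import Cfsg.Agent.OddHalf.D9.FFour.Out_m3
import Cfsg.Agent.Lib.VonDyck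
import Cfsg.Agent.OddHalf.NI3.SubSL_m3
import Cfsg.Agent.KFacts.TwESix.Cent_m3
import Cfsg.Agent.OddHalf.D5.DblClean_m3
import Cfsg.Agent.FastGrp
import Cfsg.Agent.Prune
set_option linter.all false

section
prune_inst 0x7ffcfcf92bb82ddfdfff7e7ff6d3cffdb9f81fffe6fef9cbffe4e9ff0fdf030289e5ab858de010fe0ff6621410b87813f9ffeabfe26bdc7ffffd5ff45ffbee0fe5f6bd0951d688340fbc0fff63f07f8e7f3fffffffffffffffffffffffffffbeffbfffffffff

-- part: OddHalf/SpN/KInst_mg
section

end

-- part: OddHalf/SpN/OutFr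
section
prune_inst 0x30302d445122000000000092c10004405e0001901060000180200b020788c74000028120bca01500100a2a0400380060015400d0420000000a000000011c00801008000200400100220000000004000000000000000000000000000000000004000000000
set_option linter.all false
open scoped Cfsg.Agent.FastGrp

-- merged: Cfsg.Agent.OddHalf.SpN.OutFld
section

/-!
# D7, `K = Sp_2n(q)`, `q` even: the elements of `T` inducing an involutory field automorphism (helper979)

`GY D hn y`: `y ∈ T` acts as a field involution, `y² ∈ ⟨v⟩`.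

* `GY.exists` (A): a good element in the coset of every field element of order two;
* `GY.cent` (B), `GY.conj` (C), `GY.der` (D).
-/

set_option autoImplicit false

namespace Cfsg.Agent.OddHalf.SpN.Out

open Cfsg Cfsg.Agent.ClassicalGeometry.SympBasic Cfsg.Agent.ClassicalGeometry.SympAutSemi
open Cfsg.Agent.OddHalf.SpN
open scoped Matrix commutatorElement

variable {n : ℕ} {F : Type*} [Field F]

theorem ringEquiv_invol {τ : F ≃+* F} (h : τ * τ = 1) (x : F) : τ (τ x) = x := DFunLike.congr_fun h x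

theorem exists_ne_of_ne_one {τ : F ≃+* F} (h : τ ≠ 1) : ∃ x, τ x ≠ x := by
  by_contra hne
  push Not at hne
  exact h (RingEquiv.ext hne)

/-- automorphisms fixing the fixed field of an involution -/
theorem eq_one_or_eq [CharP F 2] {τ φ : F ≃+* F} (hτ : ∀ x, τ (τ x) = x) (hτ1 : ∃ x, τ x ≠ x)
    (h : ∀ a, τ a = a → φ a = a) : φ = 1 ∨ φ = τ := by
  obtain ⟨c, hc⟩ := hτ1
  have hc0 : c + τ c ≠ 0 := by
    intro h0
    apply hc
    rw [add_eq_zero_iff_eq_neg, CharTwo.neg_eq] at h0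
    exact h0.symm
  have hN : φ (c * τ c) = c * τ c := h _ (by rw [map_mul, hτ, mul_comm])
  have hS : φ (c + τ c) = c + τ c := h _ (by rw [map_add, hτ, add_comm])
  -- `φ` is determined by `φ c`
  have key : ∀ x, ∃ a b, τ a = a ∧ τ b = b ∧ x = a + b * c := by
    intro x
    have hb : τ ((x + τ x) * (c + τ c)⁻¹) = (x + τ x) * (c + τ c)⁻¹ := by
      rw [map_mul, map_inv₀, map_add, map_add, hτ, hτ, add_comm (τ x), add_comm (τ c)]
    refine ⟨x + (x + τ x) * (c + τ c)⁻¹ * c, (x + τ x) * (c + τ c)⁻¹, ?_, hb, ?_⟩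
    · rw [map_add, map_mul, hb]
      field_simp
      linear_combination (τ x * τ c - c * x) * (two0 : (2 : F) = 0)
    · linear_combination (-((x + τ x) * (c + τ c)⁻¹ * c)) * (two0 : (2 : F) = 0)
  have h3 : (φ c - c) * (φ c - τ c) = 0 := by
    rw [map_mul] at hN
    rw [map_add] at hS
    have : φ (τ c) = c + τ c - φ c := by rw [← hS]; ring
    rw [this] at hN
    linear_combination -hN
  rcases mul_eq_zero.1 h3 with h4 | h4
  · left
    ext x
    obtain ⟨a, b, ha, hb, rfl⟩ := key x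
    rw [map_add, map_mul, h a ha, h b hb, sub_eq_zero.1 h4]; rfl
  · right
    ext x
    obtain ⟨a, b, ha, hb, rfl⟩ := key x
    rw [map_add, map_mul, map_add, map_mul, h a ha, h b hb, ha, hb, sub_eq_zero.1 h4]

section comm

variable [CharP F 2]

/-- `x_12(a) y_1(b)` as a product of commutators -/
theorem zz_eq_comm (hn : 3 ≤ n) (a b : F) :
    zz hn a b = ⁅sx (Sum.inl (c0 hn)) (Sum.inl (c2 hn)) (a + b), sx (Sum.inl (c1 hn)) (Sum.inr (c2 hn)) (1 : F)⁆ *
      ⁅sy (Sum.inl (c1 hn)) b, sx (Sum.inl (c0 hn)) (Sum.inr (c1 hn)) (1 : F)⁆ := by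
  have h02 : c0 hn ≠ c2 hn := by simp [c0, c2]
  have h12 : c1 hn ≠ c2 hn := by simp [c1, c2]
  have e1 := sx_rel (i := Sum.inl (c0 hn)) (j := Sum.inl (c2 hn)) (k := Sum.inl (c1 hn)) (dj_ll h02)
    (dj_ll h12.symm) (dj_ll (c01 hn)) (a + b) (1 : F)
  have e2 := sy_rel (i := (Sum.inl (c1 hn) : Ix n)) (j := Sum.inl (c0 hn)) (dj_ll (c01 hn).symm) b (1 : F)
  rw [neg_inl, sx_symm (Sum.inr (c2 hn)), mul_one] at e1
  rw [neg_inl, sx_symm (Sum.inr (c1 hn)), mul_one, one_pow, mul_one] at e2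
  have f1 : ⁅sx (Sum.inl (c0 hn)) (Sum.inl (c2 hn)) (a + b), sx (Sum.inl (c1 hn)) (Sum.inr (c2 hn)) (1 : F)⁆ =
      sx (Sum.inl (c0 hn)) (Sum.inl (c1 hn)) (a + b) := by
    rw [commutatorElement_def, e1]; group
  have f2 : ⁅sy (Sum.inl (c1 hn)) b, sx (Sum.inl (c0 hn)) (Sum.inr (c1 hn)) (1 : F)⁆ =
      sx (Sum.inl (c1 hn)) (Sum.inl (c0 hn)) b * sy (Sum.inl (c0 hn)) b := by
    rw [commutatorElement_def, e2]; group
  rw [f1, f2, sx_symm (Sum.inl (c1 hn)) (Sum.inl (c0 hn)), ← mul_assoc, ← sx_add, add_assoc,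
    CharTwo.add_self_eq_zero, add_zero]
  rfl

end comm

variable {G : Type*} [Group G] [Finite F] [CharP F 2] {ι : Sy n F →* G} {t v : G} {T : Subgroup G}

/-- good field elements -/
structure GY (D : DatT ι t v T) (hn : 3 ≤ n) (y : G) : Prop where
  yT : y ∈ T
  ne : D.lf hn ⟨y, D.hT yT⟩ ≠ 1
  sq : D.lf hn ⟨y, D.hT yT⟩ * D.lf hn ⟨y, D.hT yT⟩ = 1
  R : y * y ∈ Subgroup.zpowers v

/-- (A) -/
theorem GY.exists [Finite G] (D : DatT ι t v T) (hn : 3 ≤ n) {y : G} (hy : y ∈ T)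
    (h1 : D.lf hn ⟨y, D.hT hy⟩ ≠ 1) (h2 : D.lf hn ⟨y, D.hT hy⟩ * D.lf hn ⟨y, D.hT hy⟩ = 1) :
    ∃ y' : G, ∃ g : GY D hn y', D.lf hn ⟨y', D.hT g.yT⟩ = D.lf hn ⟨y, D.hT hy⟩ ∧ orderOf y' ≤ orderOf y := by
  set Y : Subgroup.centralizer ({t} : Set G) := ⟨y, D.hT hy⟩ with hY
  obtain ⟨d, hd⟩ := D.tri hn hy
  have hYY : D.lf hn ⟨y * y, D.hT (mul_mem hy hy)⟩ = 1 := by
    rw [← h2, ← map_mul]; rfl
  obtain ⟨B, hB, r, hr, hyy, hsB⟩ := D.mem_UR hn (mul_mem hy hy) hYY
  have hss : D.sH hn Y * D.sH hn Y = rho n F B := by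
    rw [← hsB, ← map_mul]; rfl
  obtain ⟨A, hA, hAA⟩ := exists_good (ringEquiv_invol h2) (exists_ne_of_ne_one h1) (D.si hn Y) hd hB hss
  have hAT : ι A ∈ T := D.iota_mem.2 hA
  have hy' : y * ι A ∈ T := mul_mem hy hAT
  have hsy' : D.sH hn ⟨y * ι A, D.hT hy'⟩ = D.sH hn Y * rho n F A := by
    rw [← D.sH_iota hn A, ← map_mul]; rfl
  have hly' : D.lf hn ⟨y * ι A, D.hT hy'⟩ = D.lf hn Y := by
    have : D.lf hn ⟨y * ι A, D.hT hy'⟩ = D.lf hn Y * D.lf hn ⟨ι A, D.mem_C A⟩ := by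
      rw [← map_mul]; rfl
    rw [this, D.lf_iota, mul_one]
  have hR : (y * ι A) * (y * ι A) ∈ Subgroup.zpowers v := by
    have h3 : D.sH hn ⟨(y * ι A) * (y * ι A), D.hT (mul_mem hy' hy')⟩ = 1 := by
      rw [← hAA, ← hsy', ← map_mul]; rfl
    exact D.mem_R_of_sH hn h3
  have hgy : GY D hn (y * ι A) := ⟨hy', by rw [hly']; exact h1, by rw [hly']; exact h2, hR⟩
  refine ⟨y * ι A, hgy, hly', ?_⟩
  -- the square
  obtain ⟨A', hA', e⟩ := D.conj_U (inv_mem hy) hA
  rw [inv_inv] at e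
  have hr2 : (y * ι A) * (y * ι A) = ι (B * A' * A) * r := by
    have h4 := D.QK hr (A' * A)
    calc (y * ι A) * (y * ι A) = (y * y) * (y⁻¹ * ι A * y) * ι A := by group
      _ = ι B * (r * ι (A' * A)) := by rw [hyy, e, map_mul]; group
      _ = ι (B * A' * A) * r := by rw [← h4, map_mul, map_mul, map_mul]; group
  have hone : B * A' * A = 1 := by
    apply D.KR (by omega : 1 ≤ n)
    have : ι (B * A' * A) = (y * ι A) * (y * ι A) * r⁻¹ := by rw [hr2]; group
    rw [this]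
    exact mul_mem hR (inv_mem hr)
  rw [hone, map_one, one_mul] at hr2
  have h2N : 2 ∣ orderOf y := by
    have h5 : orderOf (D.lf hn Y) = 2 := orderOf_eq_prime (by rw [pow_two]; exact h2) h1
    rw [← h5]
    have h6 : Y ^ orderOf y = 1 := Subtype.ext (pow_orderOf_eq_one y)
    apply orderOf_dvd_of_pow_eq_one
    rw [← map_pow, h6, map_one]
  obtain ⟨m, hm⟩ := h2N
  have hrm : r ^ m = 1 := by
    have h5 : (ι B * r) ^ m = 1 := by
      rw [← hyy, ← pow_two, ← pow_mul, ← hm, pow_orderOf_eq_one]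
    have h6 : Commute (ι B) r := D.QK hr B
    rw [h6.mul_pow, ← map_pow] at h5
    have h7 : ι (B ^ m) ∈ Subgroup.zpowers v := by
      rw [mul_eq_one_iff_eq_inv.1 h5]
      exact inv_mem (pow_mem hr m)
    rw [D.KR (by omega : 1 ≤ n) h7, map_one, one_mul] at h5
    exact h5
  apply Nat.le_of_dvd (orderOf_pos y)
  apply orderOf_dvd_of_pow_eq_one
  rw [hm, pow_mul, pow_two, hr2, hrm]

/-- the normal form of a good element -/
structure NF (D : DatT ι t v T) (hn : 3 ≤ n) (y : G) (τ : F ≃+* F) (b : Sy n F) : Prop where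
  yT : y ∈ T
  τ2 : ∀ x, τ (τ x) = x
  τ1 : ∃ x, τ x ≠ x
  tri : ∃ k, Tri (rho n F b) k
  sys : D.sH hn ⟨y, D.hT yT⟩ = rho n F b * fa n τ * (rho n F b)⁻¹
  lf : D.lf hn ⟨y, D.hT yT⟩ = τ

theorem GY.nf {D : DatT ι t v T} {hn : 3 ≤ n} {y : G} (h : GY D hn y) :
    ∃ b, NF D hn y (D.lf hn ⟨y, D.hT h.yT⟩) b := by
  obtain ⟨d, hd⟩ := D.tri hn h.yT
  have h1 : D.sH hn ⟨y, D.hT h.yT⟩ * D.sH hn ⟨y, D.hT h.yT⟩ = 1 := by
    have h2 : D.sH hn ⟨y * y, D.hT (mul_mem h.yT h.yT)⟩ = 1 := D.sH_R hn h.R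
    rw [← h2, ← map_mul]; rfl
  obtain ⟨b, k, hk, e⟩ := exists_normal (ringEquiv_invol h.sq) (exists_ne_of_ne_one h.ne) (D.si hn _) hd h1
  exact ⟨b, h.yT, ringEquiv_invol h.sq, exists_ne_of_ne_one h.ne, ⟨k, hk⟩, e, rfl⟩

namespace NF

variable {D : DatT ι t v T} {hn : 3 ≤ n} {y : G} {τ : F ≃+* F} {b : Sy n F} (N : NF D hn y τ b)

include N

theorem conj {A A' : Sy n F} (h : rho n F A' = fa n τ * rho n F A * (fa n τ)⁻¹) :
    y * ι (b * A * b⁻¹) * y⁻¹ = ι (b * A' * b⁻¹) := by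
  refine (D.acts hn ⟨y, D.hT N.yT⟩).eq ?_
  rw [N.sys, map_mul, map_mul, map_mul, map_mul, map_inv, h]
  group

theorem bUp {A : Sy n F} (hA : A ∈ Up n F) : b * A * b⁻¹ ∈ Up n F := by
  obtain ⟨k, hk⟩ := N.tri
  exact hk.conj_mem (SI.of_rho b) hA (by rw [map_mul, map_mul, map_inv])

theorem bUp' {A : Sy n F} (hA : A ∈ Up n F) : b⁻¹ * A * b ∈ Up n F := by
  obtain ⟨k, hk⟩ := N.tri
  exact (Tri.inv (SI.of_rho b) hk).1.conj_mem (SI.of_rho b).inv' hA (by rw [map_mul, map_mul, map_inv, inv_inv])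

theorem bZ {A : Sy n F} (hA : A ∈ Zz hn) : b * A * b⁻¹ ∈ Zz hn := by
  rw [mem_Zz_iff] at hA ⊢
  intro B hB
  have h1 := (hA _ (N.bUp' hB)).eq
  show B * (b * A * b⁻¹) = b * A * b⁻¹ * B
  calc B * (b * A * b⁻¹) = b * ((b⁻¹ * B * b) * A) * b⁻¹ := by group
    _ = b * (A * (b⁻¹ * B * b)) * b⁻¹ := by rw [h1]
    _ = b * A * b⁻¹ * B := by group

theorem bZ' {A : Sy n F} (hA : A ∈ Zz hn) : b⁻¹ * A * b ∈ Zz hn := by
  rw [mem_Zz_iff] at hA ⊢
  intro B hB
  have h1 := (hA _ (N.bUp hB)).eq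
  show B * (b⁻¹ * A * b) = b⁻¹ * A * b * B
  calc B * (b⁻¹ * A * b) = b⁻¹ * ((b * B * b⁻¹) * A) * b := by group
    _ = b⁻¹ * (A * (b * B * b⁻¹)) * b := by rw [h1]
    _ = b⁻¹ * A * b * B := by group

/-- elements of `Z` commuting with `y` -/
theorem exists_param {A : Sy n F} (hA : A ∈ Zz hn) (hc : ι A * y = y * ι A) :
    ∃ p q, A = b * zz hn p q * b⁻¹ ∧ τ p = p ∧ τ q = q := by
  obtain ⟨p, q, e⟩ := N.bZ' hA
  have hA' : A = b * zz hn p q * b⁻¹ := by rw [← e]; group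
  have h1 := N.conj (fa_zz hn τ p q)
  rw [← hA', ← hc, mul_inv_cancel_right] at h1
  have h2 := D.inj h1
  rw [hA'] at h2
  have h3 : zz hn p q = zz hn (τ p) (τ q) := by
    have := congrArg (fun X => b⁻¹ * X * b) h2
    have e1 : b⁻¹ * (b * zz hn p q * b⁻¹) * b = zz hn p q := by group
    have e2 : b⁻¹ * (b * zz hn (τ p) (τ q) * b⁻¹) * b = zz hn (τ p) (τ q) := by group
    simpa only [e1, e2] using this
  obtain ⟨h4, h5⟩ := zz_inj hn h3
  exact ⟨p, q, hA', h4.symm, h5.symm⟩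

theorem comm_of {A : Sy n F} (h : rho n F A = fa n τ * rho n F A * (fa n τ)⁻¹) :
    ι (b * A * b⁻¹) * y = y * ι (b * A * b⁻¹) := by
  have h1 := N.conj h
  rw [mul_inv_eq_iff_eq_mul] at h1
  exact h1.symm

/-- (C) -/
theorem exists_conj {A : Sy n F} (hA : A ∈ Zz hn) (hc : ι A * y = y * ι A) :
    ∃ B ∈ Up n F, ι B * y * (ι B)⁻¹ = y * ι A := by
  obtain ⟨p, q, e, hp, hq⟩ := N.exists_param hA hc
  obtain ⟨c, hc1⟩ := exists_tr N.τ2 N.τ1 hp
  obtain ⟨d, hd1⟩ := exists_tr N.τ2 N.τ1 hq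
  refine ⟨b * zz hn c d * b⁻¹, N.bUp (zz_mem_Up hn c d), ?_⟩
  have h1 := N.conj (fa_zz hn τ c d)
  have h2 : A * (b * zz hn (τ c) (τ d) * b⁻¹) = b * zz hn c d * b⁻¹ := by
    rw [e]
    have h3 : zz hn p q * zz hn (τ c) (τ d) = zz hn c d := by
      rw [zz_mul, hc1, hd1, add_assoc, add_assoc, CharTwo.add_self_eq_zero, CharTwo.add_self_eq_zero, add_zero,
        add_zero]
    calc b * zz hn p q * b⁻¹ * (b * zz hn (τ c) (τ d) * b⁻¹) = b * (zz hn p q * zz hn (τ c) (τ d)) * b⁻¹ := by group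
      _ = _ := by rw [h3]
  rw [mul_inv_eq_iff_eq_mul, ← hc]
  calc ι (b * zz hn c d * b⁻¹) * y = ι A * (y * ι (b * zz hn c d * b⁻¹) * y⁻¹) * y := by
        rw [h1, ← map_mul, h2]
    _ = ι A * y * ι (b * zz hn c d * b⁻¹) := by group

/-- (D) -/
theorem mem_der {A : Sy n F} (hA : A ∈ Zz hn) (hc : ι A * y = y * ι A) :
    ι A ∈ ⁅(Up n F).map ι ⊓ Subgroup.centralizer ({y} : Set G), (Up n F).map ι ⊓ Subgroup.centralizer ({y} : Set G)⁆ := by
  obtain ⟨p, q, e, hp, hq⟩ := N.exists_param hA hc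
  have key : ∀ B ∈ Up n F, rho n F B = fa n τ * rho n F B * (fa n τ)⁻¹ →
      ι (b * B * b⁻¹) ∈ (Up n F).map ι ⊓ Subgroup.centralizer ({y} : Set G) := by
    intro B hB h
    exact ⟨⟨_, N.bUp hB, rfl⟩, Subgroup.mem_centralizer_singleton_iff.2 (N.comm_of h)⟩
  have hpq : τ (p + q) = p + q := by rw [map_add, hp, hq]
  have h02 : c0 hn < c2 hn := by show 0 < 2; omega
  have h12 : c1 hn < c2 hn := by show 1 < 2; omega
  have h01 : c0 hn < c1 hn := by show 0 < 1; omega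
  have k1 := key _ (sx_mem_Up (c0 hn) (c2 hn) (p + q)) (by
    conv_lhs => rw [← hpq]
    exact fa_sx τ _ _ _)
  have k2 := key _ (sx_mem_Up' h12 (1 : F)) (by
    conv_lhs => rw [← map_one τ]
    exact fa_sx τ _ _ _)
  have k3 := key _ (sy_mem_Up (c1 hn) q) (by
    conv_lhs => rw [← hq]
    exact fa_sy τ _ _)
  have k4 := key _ (sx_mem_Up' h01 (1 : F)) (by
    conv_lhs => rw [← map_one τ]
    exact fa_sx τ _ _ _)
  have h1 := mul_mem (Subgroup.commutator_mem_commutator k1 k2) (Subgroup.commutator_mem_commutator k3 k4)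
  have h2 : ι A = ⁅ι (b * sx (Sum.inl (c0 hn)) (Sum.inl (c2 hn)) (p + q) * b⁻¹),
      ι (b * sx (Sum.inl (c1 hn)) (Sum.inr (c2 hn)) 1 * b⁻¹)⁆ *
      ⁅ι (b * sy (Sum.inl (c1 hn)) q * b⁻¹), ι (b * sx (Sum.inl (c0 hn)) (Sum.inr (c1 hn)) 1 * b⁻¹)⁆ := by
    rw [← map_commutatorElement, ← map_commutatorElement, ← map_mul, e, zz_eq_comm hn p q]
    congr 1
    simp only [commutatorElement_def]
    group
  rw [h2]
  exact h1

/-- (B), linear elements -/
theorem cent_lin {u : G} (hu : u ∈ T) (hl : D.lf hn ⟨u, D.hT hu⟩ = 1) (huy : u * y = y * u)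
    (hc : ∀ A ∈ Up n F, ι A * y = y * ι A → ι A * u = u * ι A) :
    ∃ r ∈ Subgroup.zpowers v, ∃ A ∈ Zz hn, ι A * y = y * ι A ∧ u = r * ι A := by
  obtain ⟨A, hA, r, hr, e, hs⟩ := D.mem_UR hn hu hl
  have hrA : u = r * ι A := by rw [e, D.QK hr]
  have key : ∀ B ∈ Up n F, rho n F B = fa n τ * rho n F B * (fa n τ)⁻¹ → Commute (b⁻¹ * A * b) B := by
    intro B hB h
    have h1 := hc _ (N.bUp hB) (N.comm_of h)
    have h2 : Commute (b * B * b⁻¹) A := by
      apply D.inj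
      rw [map_mul ι (b * B * b⁻¹) A, map_mul ι A (b * B * b⁻¹)]
      have h3 : ι (b * B * b⁻¹) * (ι A * r) = ι A * r * ι (b * B * b⁻¹) := by rw [← e]; exact h1
      have h4 : ι A * r * ι (b * B * b⁻¹) = ι A * ι (b * B * b⁻¹) * r := by
        rw [mul_assoc, ← D.QK hr, ← mul_assoc]
      rw [h4, ← mul_assoc] at h3
      exact mul_right_cancel h3
    show b⁻¹ * A * b * B = B * (b⁻¹ * A * b)
    calc b⁻¹ * A * b * B = b⁻¹ * (A * (b * B * b⁻¹)) * b := by group
      _ = b⁻¹ * ((b * B * b⁻¹) * A) * b := by rw [h2.eq]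
      _ = B * (b⁻¹ * A * b) := by group
  obtain ⟨p, q, hpq⟩ := exists_Z_of_comm hn (A := b⁻¹ * A * b)
    (fun i => key _ (sy_mem_Up i 1) (by conv_lhs => rw [← map_one τ]
                                        exact fa_sy τ _ _))
    (fun i j hij => key _ (sx_mem_Up' hij 1) (by conv_lhs => rw [← map_one τ]
                                                 exact fa_sx τ _ _ _))
  have hAZ : A ∈ Zz hn := by
    have h1 := N.bZ (A := zz hn p q) ⟨p, q, rfl⟩
    rw [← hpq] at h1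
    have e1 : b * (b⁻¹ * A * b) * b⁻¹ = A := by group
    rwa [e1] at h1
  refine ⟨r, hr, A, hAZ, ?_, hrA⟩
  -- uniqueness of the decomposition
  obtain ⟨A', -, eA'⟩ := D.conj_U N.yT hA
  have hyr : y * r * y⁻¹ ∈ Subgroup.zpowers v := by
    apply D.mem_R_of_sH hn (g := ⟨y * r * y⁻¹, D.hT (mul_mem (mul_mem N.yT (D.RT hr)) (inv_mem N.yT))⟩)
    have h1 : D.sH hn ⟨y * r * y⁻¹, D.hT (mul_mem (mul_mem N.yT (D.RT hr)) (inv_mem N.yT))⟩ =
        D.sH hn ⟨y, D.hT N.yT⟩ * D.sH hn ⟨r, D.hT (D.RT hr)⟩ * (D.sH hn ⟨y, D.hT N.yT⟩)⁻¹ := by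
      rw [← map_mul, ← map_inv, ← map_mul]; rfl
    rw [h1, D.sH_R hn (r := ⟨r, D.hT (D.RT hr)⟩) hr]; group
  have h2 : r * ι A = (y * r * y⁻¹) * ι A' := by
    rw [← eA', ← hrA]
    have h3 : y * u * y⁻¹ = u := by rw [← huy]; group
    calc u = y * u * y⁻¹ := h3.symm
      _ = y * r * y⁻¹ * (y * ι A * y⁻¹) := by rw [hrA]; group
  have h4 : ι (A * A'⁻¹) ∈ Subgroup.zpowers v := by
    have : ι (A * A'⁻¹) = r⁻¹ * (y * r * y⁻¹) := by
      rw [map_mul, map_inv]
      calc ι A * (ι A')⁻¹ = r⁻¹ * (r * ι A) * (ι A')⁻¹ := by group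
        _ = r⁻¹ * (y * r * y⁻¹) := by rw [h2]; group
    rw [this]
    exact mul_mem (inv_mem hr) hyr
  have h5 : A = A' := mul_inv_eq_one.1 (D.KR (by omega : 1 ≤ n) h4)
  rw [← h5, mul_inv_eq_iff_eq_mul] at eA'
  exact eA'.symm

/-- (B) -/
theorem cent {u : G} (hu : u ∈ T) (huy : u * y = y * u)
    (hc : ∀ A ∈ Up n F, ι A * y = y * ι A → ι A * u = u * ι A) :
    ∃ r ∈ Subgroup.zpowers v, ∃ A ∈ Zz hn, ι A * y = y * ι A ∧ (u = r * ι A ∨ u = y * r * ι A) := by
  have h1 : D.lf hn ⟨u, D.hT hu⟩ = 1 ∨ D.lf hn ⟨u, D.hT hu⟩ = τ := by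
    apply eq_one_or_eq N.τ2 N.τ1
    obtain ⟨d, hd⟩ := D.tri hn hu
    obtain ⟨k, hk⟩ := N.tri
    set s : Equiv.Perm (Ix n → F) := (rho n F b)⁻¹ * D.sH hn ⟨u, D.hT hu⟩ * rho n F b with hs
    have hsi : SI s (D.lf hn ⟨u, D.hT hu⟩) := by
      have h2 := ((SI.of_rho b).inv'.mul' (D.si hn ⟨u, D.hT hu⟩)).mul' (SI.of_rho b)
      rwa [inv_one, one_mul, mul_one] at h2
    obtain ⟨e, he⟩ : ∃ e, Tri s e :=
      ⟨_, Tri.mul ((SI.of_rho b).inv'.mul' (D.si hn ⟨u, D.hT hu⟩))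
        (Tri.mul (SI.of_rho b).inv' (Tri.inv (SI.of_rho b) hk).1 hd) hk⟩
    have key : ∀ a, τ a = a → e (c0 hn) ^ 2 * D.lf hn ⟨u, D.hT hu⟩ a = a := by
      intro a ha
      have h3 : rho n F (zz hn 0 a) = fa n τ * rho n F (zz hn 0 a) * (fa n τ)⁻¹ := by
        conv_lhs => rw [← ha, ← map_zero τ]
        exact fa_zz hn τ _ _
      have h4 := hc _ (N.bUp (zz_mem_Up hn 0 a)) (N.comm_of h3)
      have h5 : u * ι (b * zz hn 0 a * b⁻¹) * u⁻¹ = ι (b * zz hn 0 a * b⁻¹) := by rw [← h4]; group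
      have h6 := (D.acts hn ⟨u, D.hT hu⟩).rho_eq D.inj h5
      have h7 : rho n F (zz hn 0 a) = s * rho n F (zz hn 0 a) * s⁻¹ := by
        rw [map_mul, map_mul, map_inv] at h6
        rw [hs]
        calc rho n F (zz hn 0 a) = (rho n F b)⁻¹ * (rho n F b * rho n F (zz hn 0 a) * (rho n F b)⁻¹) * rho n F b := by
              group
          _ = _ := by rw [h6]; group
      have h8 := (he.conj_zz hn hsi 0 a).trans h7.symm
      exact (zz_inj hn (rho_injective h8)).2
    have h9 : e (c0 hn) ^ 2 = 1 := by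
      have := key 1 (map_one τ)
      rwa [map_one, mul_one] at this
    intro a ha
    have h10 := key a ha
    rwa [h9, one_mul] at h10
  rcases h1 with h1 | h1
  · obtain ⟨r, hr, A, hA, hAy, e⟩ := N.cent_lin hu h1 huy hc
    exact ⟨r, hr, A, hA, hAy, Or.inl e⟩
  · have hu' : u * y⁻¹ ∈ T := mul_mem hu (inv_mem N.yT)
    have h2 : D.lf hn ⟨u * y⁻¹, D.hT hu'⟩ = 1 := by
      have h3 : D.lf hn ⟨u * y⁻¹, D.hT hu'⟩ = D.lf hn ⟨u, D.hT hu⟩ * (D.lf hn ⟨y, D.hT N.yT⟩)⁻¹ := by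
        rw [← map_inv, ← map_mul]; rfl
      rw [h3, h1, N.lf, mul_inv_cancel]
    obtain ⟨r, hr, A, hA, hAy, e⟩ := N.cent_lin hu' h2 (by rw [inv_mul_cancel_right, ← mul_assoc, ← huy]; group)
      (fun A hA hAy => by
        have h3 := hc A hA hAy
        have h4 : ι A * y⁻¹ = y⁻¹ * ι A := by
          rw [mul_inv_eq_iff_eq_mul, mul_assoc, hAy]; group
        rw [← mul_assoc, h3, mul_assoc, h4, ← mul_assoc])
    refine ⟨y⁻¹ * r * y, ?_, A, hA, hAy, Or.inr ?_⟩
    · have hy' := inv_mem N.yT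
      apply D.mem_R_of_sH hn (g := ⟨y⁻¹ * r * y, D.hT (mul_mem (mul_mem hy' (D.RT hr)) N.yT)⟩)
      have h1 : D.sH hn ⟨y⁻¹ * r * y, D.hT (mul_mem (mul_mem hy' (D.RT hr)) N.yT)⟩ =
          (D.sH hn ⟨y, D.hT N.yT⟩)⁻¹ * D.sH hn ⟨r, D.hT (D.RT hr)⟩ * (D.sH hn ⟨y, D.hT N.yT⟩) := by
        rw [← map_inv, ← map_mul, ← map_mul]; rfl
      rw [h1, D.sH_R hn (r := ⟨r, D.hT (D.RT hr)⟩) hr]; group
    · have h3 : u = r * ι A * y := by rw [← e]; group
      rw [h3, mul_assoc, hAy]; group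

end NF

end Cfsg.Agent.OddHalf.SpN.Out

end

-- merged: Cfsg.Agent.OddHalf.SpN.OutFr
section

/-!
# D7, `K = Sp_2n(q)`, `q` even, `q ≥ 4`: the frame `Fr` and the field part `Fld` (helper979)

* `exists_T`: from `Front.FE.Start0` a Sylow 2-subgroup `T` of `C(t)` with `T ∩ K = ι(Up)`: `DatT ι t v T`;
* `DatT.fr`: `Defs.Fr t v K U Z T`, `U = ι(Up)`, `Z = ι(Zz) = X_12 Y_1`;
* `DatT.exists_fld`: `Defs.Fld`;
* `DatT.hrep`: the hypothesis of `TransMin.lf_eq_one_of`.
-/

set_option autoImplicit false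

namespace Cfsg.Agent.OddHalf.SpN.Out

open Cfsg Cfsg.Agent.ClassicalGeometry.SympBasic Cfsg.Agent.ClassicalGeometry.SympAutSemi
open Cfsg.Agent.OddHalf.SpN Cfsg.Agent.OddHalf.D7Out
open scoped Matrix commutatorElement

universe u w

variable {n : ℕ} {F : Type u} [Field F] [CharP F 2] [Finite F]

omit [CharP F 2] [Finite F] in
theorem dat_of {G : Type w} [Group G] {ι : Sy n F →* G} (hι : Function.Injective ι) {t v : G}
    (S : Front.FE.Start0 ι.range t v) : Dat ι t v where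
  inj := hι
  tt := S.tt
  t1 := S.t1
  tQ := S.tQ
  pQ := S.pQ
  qK := fun A => S.qK _ ⟨A, rfl⟩
  nK := S.nK
  cK := fun c hc h => S.cK c hc (by rintro _ ⟨A, rfl⟩; exact h A)

theorem exists_T {G : Type w} [Group G] [Finite G] {ι : Sy n F →* G} (hι : Function.Injective ι) {t v : G}
    (S : Front.FE.Start0 ι.range t v) : ∃ T : Subgroup G, DatT ι t v T := by
  obtain ⟨T, pT, vT, tc, max, e⟩ := FrOf.exists_T S (U₀ := (Up n F).map ι) (isPGroup_Up.map ι)
    (Subgroup.map_le_range ι _) (by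
      intro P hP hU hPK
      have h1 : P.comap ι ≤ Up n F := by
        apply Up_max
        · exact hP.comap_of_injective ι hι
        · exact Subgroup.map_le_iff_le_comap.1 hU
      rw [← Subgroup.map_comap_eq_self hPK]
      exact Subgroup.map_mono h1)
  exact ⟨T, { dat_of hι S with pT := pT, vT := vT, tc := tc, max := max, U_eq := e.symm }⟩

namespace DatT

variable {G : Type w} [Group G] {ι : Sy n F →* G} {t v : G} {T : Subgroup G} (D : DatT ι t v T) (hn : 3 ≤ n)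

include D

/-- the action of `T` on `Z` -/
theorem conj_zz {x : G} (hx : x ∈ T) {d : Fin n → F} (hd : Tri (D.sH hn ⟨x, D.hT hx⟩) d) (a b : F) :
    x * ι (zz hn a b) * x⁻¹ = ι (zz hn (d (c0 hn) * d (c1 hn) * D.lf hn ⟨x, D.hT hx⟩ a)
      (d (c0 hn) ^ 2 * D.lf hn ⟨x, D.hT hx⟩ b)) :=
  (D.acts hn ⟨x, D.hT hx⟩).eq (hd.conj_zz hn (D.si hn _) a b)

/-- `C_T(Y_1)` acts linearly -/
theorem lf_of_Y {x : G} (hx : x ∈ T) (h : ∀ b, x * ι (zz hn 0 b) = ι (zz hn 0 b) * x) :
    D.lf hn ⟨x, D.hT hx⟩ = 1 := by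
  obtain ⟨d, hd⟩ := D.tri hn hx
  have key : ∀ b, d (c0 hn) ^ 2 * D.lf hn ⟨x, D.hT hx⟩ b = b := by
    intro b
    have h1 := D.conj_zz hn hx hd 0 b
    rw [h, mul_inv_cancel_right] at h1
    exact ((zz_inj hn (D.inj h1)).2).symm
  have h1 := key 1
  rw [map_one, mul_one] at h1
  ext b
  have h2 := key b
  rw [h1, one_mul] at h2
  exact h2

/-- **the frame** -/
theorem fr (hq : ∃ c : F, c ≠ 0 ∧ c ≠ 1) : Defs.Fr t v ι.range ((Up n F).map ι) ((Zz hn).map ι) T where
  tt := D.tt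
  t1 := D.t1
  pR := D.pQ
  tR := D.tQ
  nK := D.nK
  vK := by rintro _ ⟨A, rfl⟩; exact D.qK A
  cK := fun c hc h => D.cK c hc fun A => h _ ⟨A, rfl⟩
  KR := by
    rintro _ ⟨A, rfl⟩ h
    rw [D.KR (by omega : 1 ≤ n) h, map_one]
  pT := D.pT
  vT := D.vT
  tc := D.tc
  max := D.max
  U_eq := D.U_eq
  ZU := Subgroup.map_mono (Zz_le hn)
  Zc := by
    rintro _ ⟨_, ⟨a, b, rfl⟩, rfl⟩ _ ⟨B, hB, rfl⟩
    rw [← map_mul, ← map_mul, (comm_Z hn hB a b).eq]
  Zsq := by
    rintro _ ⟨_, ⟨a, b, rfl⟩, rfl⟩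
    rw [← map_mul, zz_mul, CharTwo.add_self_eq_zero, CharTwo.add_self_eq_zero, zz_zero, map_one]
  Z1 := by
    intro h
    have h1 : ι (zz hn 1 0) ∈ (Zz hn).map ι := ⟨_, ⟨1, 0, rfl⟩, rfl⟩
    rw [h, Subgroup.mem_bot, ← map_one ι, ← zz_zero hn] at h1
    exact one_ne_zero (zz_inj hn (D.inj h1)).1
  cU := by
    intro x hx h
    have hl : D.lf hn ⟨x, D.hT hx⟩ = 1 := D.lf_of_Y hn hx fun b => h _ ⟨_, zz_mem_Up hn 0 b, rfl⟩
    obtain ⟨A, hA, r, hr, e, -⟩ := D.mem_UR hn hx hl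
    refine ⟨r, hr, ι A, ⟨A, ?_, rfl⟩, by rw [e, D.QK hr]⟩
    show A ∈ Zz hn
    rw [mem_Zz_iff]
    intro B hB
    apply D.inj
    have h1 := h _ ⟨B, hB, rfl⟩
    rw [e, mul_assoc, ← D.QK hr, ← mul_assoc, ← mul_assoc] at h1
    rw [map_mul, map_mul]
    exact (mul_right_cancel h1).symm
  nconj := by
    rintro _ ⟨_, ⟨a, b, rfl⟩, rfl⟩ g
    exact D.nconj hn hq g

end DatT

/-! ### the field part -/

/-- the group of field automorphisms is commutative -/
@[reducible] noncomputable def autGroup (F : Type u) [Field F] [Finite F] : CommGroup (F ≃+* F) :=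
  { (inferInstance : Group (F ≃+* F)) with mul_comm := aut_comm }

theorem exists_odd (F : Type u) [Field F] [Finite F] : ∃ k m : ℕ, Odd m ∧ ∀ x : F ≃+* F, x ^ (2 ^ k * m) = 1 := by
  have : Finite (F ≃+* F) := DFunLike.finite (F ≃+* F)
  obtain ⟨k, m, hm, h⟩ := Nat.exists_eq_two_pow_mul_odd (Nat.card_pos (α := F ≃+* F)).ne'
  exact ⟨k, m, hm, fun x => by rw [← h, pow_card_eq_one']⟩

/-- the involution is unique -/
theorem aut_unique (F : Type u) [Field F] [Finite F] {x y : F ≃+* F} (hx : x ≠ 1) (hx2 : x * x = 1) (hy : y ≠ 1)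
    (hy2 : y * y = 1) : x = y := by
  classical
  have hc : IsCyclic (F ≃+* F) := Cfsg.Agent.LieRecognition.FieldSemilinear.isCyclic_ringAut F
  have : Finite (F ≃+* F) := DFunLike.finite (F ≃+* F)
  have : Fintype (F ≃+* F) := Fintype.ofFinite _
  by_contra hne
  have h1 := IsCyclic.card_pow_eq_one_le (α := F ≃+* F) (n := 2) (by norm_num)
  have h2 : ({1, x, y} : Finset (F ≃+* F)) ⊆ Finset.univ.filter fun a => a ^ 2 = 1 := by
    intro a ha
    rw [Finset.mem_insert, Finset.mem_insert, Finset.mem_singleton] at ha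
    rw [Finset.mem_filter]
    refine ⟨Finset.mem_univ _, ?_⟩
    rcases ha with rfl | rfl | rfl
    · exact one_pow 2
    · rw [pow_two, hx2]
    · rw [pow_two, hy2]
  have h3 : ({1, x, y} : Finset (F ≃+* F)).card = 3 := by
    rw [Finset.card_insert_of_notMem, Finset.card_insert_of_notMem, Finset.card_singleton]
    · rw [Finset.mem_singleton]; exact hne
    · rw [Finset.mem_insert, Finset.mem_singleton]
      rintro (h | h)
      · exact hx h.symm
      · exact hy h.symm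
  have h4 := Finset.card_le_card h2
  omega

theorem eq_one_of_odd_pow {H : Type*} [Group H] {x : H} {m j : ℕ} (hm : Odd m) (h1 : x ^ m = 1) (h2 : x ^ 2 ^ j = 1) :
    x = 1 := by
  have h3 := orderOf_dvd_of_pow_eq_one h1
  have h4 := orderOf_dvd_of_pow_eq_one h2
  have h5 : Nat.Coprime m (2 ^ j) := Nat.Coprime.pow_right _ (Nat.coprime_two_right.2 hm)
  have h6 := Nat.eq_one_of_dvd_coprimes h5 h3 h4
  exact orderOf_eq_one_iff.1 h6

namespace DatT

variable {G : Type w} [Group G] [Finite G] {ι : Sy n F →* G} {t v : G} {T : Subgroup G} (D : DatT ι t v T) (hn : 3 ≤ n)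

include D

/-- **the field part**. `lf x = 1 ↔ x` acts linearly, `x ∈ T`. -/
theorem exists_fld (hq : ∃ c : F, c ≠ 0 ∧ c ≠ 1) :
    ∃ (A : Type u) (_ : CommGroup A) (lf : Subgroup.centralizer ({t} : Set G) →* A),
      Defs.Fld (D.fr hn hq) lf D.hT ∧
      ∀ x (hx : x ∈ T), lf ⟨x, D.hT hx⟩ = 1 ↔ D.lf hn ⟨x, D.hT hx⟩ = 1 := by
  obtain ⟨k, m, hm, hkm⟩ := exists_odd F
  let cg : CommGroup (F ≃+* F) := autGroup F
  let f : Subgroup.centralizer ({t} : Set G) →* (F ≃+* F) :=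
    { toFun := fun x => D.lf hn x ^ m
      map_one' := by rw [map_one, one_pow]
      map_mul' := fun x y => by
        rw [map_mul]
        exact (show Commute (D.lf hn x) (D.lf hn y) from aut_comm _ _).mul_pow m }
  have hf : ∀ x, f x = D.lf hn x ^ m := fun _ => rfl
  have key : ∀ x (hx : x ∈ T), f ⟨x, D.hT hx⟩ = 1 ↔ D.lf hn ⟨x, D.hT hx⟩ = 1 := by
    intro x hx
    rw [hf]
    constructor
    · intro h
      obtain ⟨j, hj⟩ := D.pT ⟨x, hx⟩
      refine eq_one_of_odd_pow hm h (j := j) ?_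
      rw [← map_pow]
      have e : (⟨x, D.hT hx⟩ : Subgroup.centralizer ({t} : Set G)) ^ 2 ^ j = 1 :=
        Subtype.ext (show x ^ 2 ^ j = 1 from congrArg (fun z : ↥T => (z : G)) hj)
      rw [e, map_one]
    · intro h; rw [h, one_pow]
  have good : ∀ {y : G}, Defs.GoodY (v := v) f D.hT y → GY D hn y := by
    rintro y ⟨hy, h1, h2, h3⟩
    refine ⟨hy, fun h => h1 ((key y hy).2 h), ?_, h3⟩
    have h4 : f ⟨y * y, D.hT (mul_mem hy hy)⟩ = 1 := by
      rw [← h2, ← map_mul]; rfl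
    have h5 := (key _ (mul_mem hy hy)).1 h4
    rw [← h5, ← map_mul]; rfl
  refine ⟨F ≃+* F, cg, f, ?_, key⟩
  constructor
  · rintro ⟨x, hx⟩ ⟨A, rfl⟩
    rw [hf, D.lf_iota, one_pow]
  · intro x hx
    rw [hf, D.lf_R hn hx, one_pow]
  · intro x
    refine ⟨k, ?_⟩
    rw [hf, ← pow_mul, mul_comm, hkm]
  · intro x y hx hx2 hy hy2
    exact aut_unique F hx hx2 hy hy2
  · intro y hy h1 h2
    have h3 : D.lf hn ⟨y, D.hT hy⟩ ≠ 1 := fun h => h1 ((key y hy).2 h)
    have h4 : D.lf hn ⟨y, D.hT hy⟩ * D.lf hn ⟨y, D.hT hy⟩ = 1 := by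
      have h4 : f ⟨y * y, D.hT (mul_mem hy hy)⟩ = 1 := by
        rw [← h2, ← map_mul]; rfl
      have h5 := (key _ (mul_mem hy hy)).1 h4
      rw [← h5, ← map_mul]; rfl
    obtain ⟨y', g, hl, ho⟩ := GY.exists D hn hy h3 h4
    refine ⟨y', ⟨g.yT, ?_, ?_, g.R⟩, ho⟩
    · rw [hf, hl, ← hf]; exact h1
    · rw [hf, hl, ← hf]; exact h2
  · intro y hy u hu huy hc
    obtain ⟨b, N⟩ := (good hy).nf
    obtain ⟨r, hr, A, hA, hAy, h⟩ := N.cent hu huy fun A hA hAy => hc _ ⟨A, hA, rfl⟩ hAy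
    exact ⟨r, hr, ι A, ⟨A, hA, rfl⟩, hAy, h⟩
  · rintro y hy _ ⟨A, hA, rfl⟩ hc
    obtain ⟨b, N⟩ := (good hy).nf
    obtain ⟨B, hB, e⟩ := N.exists_conj hA hc
    exact ⟨ι B, ⟨B, hB, rfl⟩, e⟩
  · rintro y hy _ ⟨A, hA, rfl⟩ hc
    obtain ⟨b, N⟩ := (good hy).nf
    exact N.mem_der hA hc

end DatT

end Cfsg.Agent.OddHalf.SpN.Out

end

private theorem dce_690dab502260 : _root_.True := by
  try have : _root_.True := by simp only [_root_.Cfsg.Agent.OddHalf.SpN.Out.Dat.sH.congr_simp]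
  exact _root_.True.intro
end

-- part: OddHalf/SpN/OutEq
section
prune_inst 0x102041405422000000000092010020005c0001900060000190400a00034a93400040810104801800100aa20008040020001000d0000000000000000000010000002802009048a000000000800004000000000000000000000000000000041004000000000
set_option linter.all false
open scoped Cfsg.Agent.FastGrp

-- merged: Cfsg.Agent.OddHalf.SpN.GradeOf
section

/-!
# A graded group from a family of root groups with distinct degrees (helper200)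

`P` = type of roots, `deg : P → ℕ` (0 = not positive), roots of the same positive degree give the same groups.
-/

set_option autoImplicit false

namespace Cfsg.Agent.OddHalf.SpN.GradeOf

open Cfsg.Agent.OddHalf.F4.EndO

variable {G P : Type*} [Group G]

/-- the graded pieces -/
def Vd (deg : P → ℕ) (V : P → Subgroup G) (d : ℕ) : Subgroup G := ⨆ p : P, ⨆ _ : 0 < deg p ∧ deg p = d, V p

/-- the marked degrees -/
def lgd (deg : P → ℕ) (lg : P → Prop) (d : ℕ) : Prop := ∃ p, 0 < deg p ∧ deg p = d ∧ lg p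

theorem le_Vd {deg : P → ℕ} {V : P → Subgroup G} {p : P} (h : 0 < deg p) : V p ≤ Vd deg V (deg p) :=
  le_iSup₂_of_le (f := fun q (_ : 0 < deg q ∧ deg q = deg p) => V q) p ⟨h, rfl⟩ le_rfl

theorem Vd_eq {deg : P → ℕ} {V : P → Subgroup G} (hV : ∀ p q, 0 < deg p → deg p = deg q → V p = V q) {p : P}
    (h : 0 < deg p) : Vd deg V (deg p) = V p := by
  apply le_antisymm
  · exact iSup₂_le fun q hq => (hV q p hq.1 hq.2).le
  · exact le_Vd h

theorem Vd_bot {deg : P → ℕ} {V : P → Subgroup G} {d : ℕ} (h : ∀ p, 0 < deg p → deg p ≠ d) : Vd deg V d = ⊥ := by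
  rw [eq_bot_iff]
  exact iSup₂_le fun q hq => absurd hq.2 (h q hq.1)

theorem le_N' {deg : P → ℕ} {V : P → Subgroup G} {p : P} {h : ℕ} (hp : 0 < deg p) (hh : h ≤ deg p) :
    V p ≤ N (Vd deg V) h := (le_Vd hp).trans (le_N _ hh)

theorem le_Lg' {deg : P → ℕ} {V : P → Subgroup G} {lg : P → Prop} {p : P} {h : ℕ} (hp : 0 < deg p) (hl : lg p)
    (hh : h ≤ deg p) : V p ≤ Lg (Vd deg V) (lgd deg lg) h := (le_Vd hp).trans (le_Lg hh ⟨p, hp, rfl, hl⟩)

theorem N_eq (deg : P → ℕ) (V : P → Subgroup G) {h : ℕ} (hh : 1 ≤ h) :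
    N (Vd deg V) h = ⨆ p : P, ⨆ _ : h ≤ deg p, V p := by
  apply le_antisymm
  · refine N_le fun i hi => iSup₂_le fun p hp => ?_
    exact le_iSup₂_of_le (f := fun q (_ : h ≤ deg q) => V q) p (by rw [hp.2]; exact hi) le_rfl
  · exact iSup₂_le fun p hp => le_N' (by omega) hp

/-- The graded group. -/
theorem grd {t : G} {deg : P → ℕ} {V X : P → Subgroup G} {lg : P → Prop} {R n : ℕ}
    (hV : ∀ p q, 0 < deg p → deg p = deg q → V p = V q) (hX : ∀ p q, 0 < deg p → deg p = deg q → X p = X q)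
    (hlg : ∀ p q, 0 < deg p → deg p = deg q → lg p → lg q)
    (tt : t * t = 1)
    (conj : ∀ p, 0 < deg p → ∀ v ∈ V p, t * v * t ∈ V p)
    (sq : ∀ p, 0 < deg p → ∀ v ∈ V p, v * v = 1)
    (X_le : ∀ p, 0 < deg p → X p ≤ V p)
    (X_fix : ∀ p, 0 < deg p → ∀ x ∈ X p, t * x * t = x)
    (fix : ∀ p, 0 < deg p → ∀ v ∈ V p, t * v * t = v → v ∈ X p)
    (free : ∀ p, 0 < deg p → ¬ lg p → ∀ x ∈ X p, ∃ w ∈ V p, w⁻¹ * (t * w * t) = x)
    (lgV : ∀ p, 0 < deg p → lg p → V p ≤ X p)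
    (comm : ∀ p q, 0 < deg p → 0 < deg q → deg p ≠ deg q → ∀ v ∈ V p, ∀ w ∈ V q,
      v * w * v⁻¹ * w⁻¹ ∈ ⨆ r : P, ⨆ _ : deg p + deg q ≤ deg r, V r)
    (lcomm : ∀ p q, 0 < deg p → 0 < deg q → deg p ≠ deg q → lg p → lg q → ∀ v ∈ X p, ∀ w ∈ X q,
      v * w * v⁻¹ * w⁻¹ ∈ ⨆ r : P, ⨆ _ : deg p + deg q ≤ deg r ∧ lg r, X r)
    (top : ∀ p, deg p ≤ n)
    (indep : ∀ p, 0 < deg p → X p ⊓ (⨆ r : P, ⨆ _ : deg p + 1 ≤ deg r, X r) = ⊥)
    (lR : ∀ p, 0 < deg p → lg p → deg p ≤ R) :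
    Grd t (Vd deg V) (Vd deg X) (lgd deg lg) R n := by
  have cases : ∀ d : ℕ, (∃ p, 0 < deg p ∧ deg p = d) ∨ (∀ p, 0 < deg p → deg p ≠ d) := by
    intro d
    by_cases h : ∃ p, 0 < deg p ∧ deg p = d
    · exact Or.inl h
    · right
      intro p hp he
      exact h ⟨p, hp, he⟩
  have hlg' : ∀ p, 0 < deg p → (lgd deg lg (deg p) ↔ lg p) := by
    intro p hp
    constructor
    · rintro ⟨q, hq, he, hl⟩
      exact hlg q p hq he hl
    · intro hl
      exact ⟨p, hp, rfl, hl⟩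
  refine ⟨tt, ?_, ?_, ?_, ?_, ?_, ?_, ?_, ?_, ?_, ?_, ?_, ?_⟩
  · intro d v hv
    rcases cases d with ⟨p, hp, rfl⟩ | h
    · rw [Vd_eq hV hp] at hv ⊢
      exact conj p hp v hv
    · rw [Vd_bot h, Subgroup.mem_bot] at hv ⊢
      rw [hv, mul_one, tt]
  · intro d v hv
    rcases cases d with ⟨p, hp, rfl⟩ | h
    · rw [Vd_eq hV hp] at hv
      exact sq p hp v hv
    · rw [Vd_bot h, Subgroup.mem_bot] at hv
      rw [hv, mul_one]
  · intro d
    rcases cases d with ⟨p, hp, rfl⟩ | h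
    · rw [Vd_eq hV hp, Vd_eq hX hp]
      exact X_le p hp
    · rw [Vd_bot h]; exact bot_le
  · intro d v hv
    rcases cases d with ⟨p, hp, rfl⟩ | h
    · rw [Vd_eq hX hp] at hv
      exact X_fix p hp v hv
    · rw [Vd_bot h, Subgroup.mem_bot] at hv
      rw [hv, mul_one, tt]
  · intro d v hv hf
    rcases cases d with ⟨p, hp, rfl⟩ | h
    · rw [Vd_eq hV hp] at hv
      rw [Vd_eq hX hp]
      exact fix p hp v hv hf
    · rw [Vd_bot h, Subgroup.mem_bot] at hv
      rw [hv]; exact one_mem _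
  · intro d hl x hx
    rcases cases d with ⟨p, hp, rfl⟩ | h
    · rw [Vd_eq hX hp] at hx
      rw [Vd_eq hV hp]
      exact free p hp (fun h => hl ((hlg' p hp).2 h)) x hx
    · rw [Vd_bot h, Subgroup.mem_bot] at hx
      exact ⟨1, one_mem _, by rw [hx, mul_one, tt, inv_one, one_mul]⟩
  · intro d hl
    rcases cases d with ⟨p, hp, rfl⟩ | h
    · rw [Vd_eq hV hp, Vd_eq hX hp]
      exact lgV p hp ((hlg' p hp).1 hl)
    · rw [Vd_bot h]; exact bot_le
  · intro d e hd he hne v hv w hw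
    rcases cases d with ⟨p, hp, rfl⟩ | h
    · rcases cases e with ⟨q, hq, rfl⟩ | h'
      · rw [Vd_eq hV hp] at hv
        rw [Vd_eq hV hq] at hw
        rw [N_eq deg V (by omega)]
        exact comm p q hp hq hne v hv w hw
      · rw [Vd_bot h', Subgroup.mem_bot] at hw
        rw [hw, mul_one, inv_one, mul_one, mul_inv_cancel]; exact one_mem _
    · rw [Vd_bot h, Subgroup.mem_bot] at hv
      rw [hv, one_mul, inv_one, mul_one, mul_inv_cancel]; exact one_mem _
  · intro d e hd he hne hld hle v hv w hw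
    rcases cases d with ⟨p, hp, rfl⟩ | h
    · rcases cases e with ⟨q, hq, rfl⟩ | h'
      · rw [Vd_eq hX hp] at hv
        rw [Vd_eq hX hq] at hw
        have h1 : (⨆ r : P, ⨆ _ : deg p + deg q ≤ deg r ∧ lg r, X r) ≤ Lg (Vd deg X) (lgd deg lg) (deg p + deg q) :=
          iSup₂_le fun r hr => le_Lg' (by omega) hr.2 hr.1
        exact h1 (lcomm p q hp hq hne ((hlg' p hp).1 hld) ((hlg' q hq).1 hle) v hv w hw)
      · rw [Vd_bot h', Subgroup.mem_bot] at hw
        rw [hw, mul_one, inv_one, mul_one, mul_inv_cancel]; exact one_mem _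
    · rw [Vd_bot h, Subgroup.mem_bot] at hv
      rw [hv, one_mul, inv_one, mul_one, mul_inv_cancel]; exact one_mem _
  · intro d hd
    apply Vd_bot
    intro p _ he
    have := top p
    omega
  · intro d hd
    rcases cases d with ⟨p, hp, rfl⟩ | h
    · rw [Vd_eq hX hp, N_eq deg X (by omega)]
      exact indep p hp
    · rw [Vd_bot h, bot_inf_eq]
  · rintro d ⟨p, hp, rfl, hl⟩
    exact lR p hp hl

end Cfsg.Agent.OddHalf.SpN.GradeOf

end

-- merged: Cfsg.Agent.OddHalf.SpN.PosGrp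
section

/-!
# The root groups of a frame as a graded family, roots = pairs `(i, j)` (helper200)

`XP R (i, i) = Y_i`, `XP R (i, j) = X_ij`; degree functions `dgB`, `dgC`.
-/

set_option autoImplicit false

namespace Cfsg.Agent.OddHalf.SpN

open Cfsg.Agent.OddHalf.F4.EndO

variable {n : ℕ} {F : Type*} [Field F] {G : Type*} [Group G]

set_option maxHeartbeats 400000

theorem le_iSupP {P : Type*} {V : P → Subgroup G} {S : P → Prop} {r : P} (h : S r) :
    V r ≤ ⨆ q, ⨆ _ : S q, V q := le_iSup₂_of_le (f := fun q (_ : S q) => V q) r h le_rfl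

theorem iSupP_mono {P : Type*} {V : P → Subgroup G} {S S' : P → Prop} (h : ∀ r, S r → S' r) :
    (⨆ q, ⨆ _ : S q, V q) ≤ ⨆ q, ⨆ _ : S' q, V q := iSup₂_le fun r hr => le_iSupP (S := S') (h r hr)

/-- pairs of signed indices -/
abbrev PP (n : ℕ) : Type := Ix n × Ix n

/-- degree as a natural number -/
def dN (dg : Ix n → Ix n → ℤ) (p : PP n) : ℕ := (dg p.1 p.2).toNat

theorem dN_pos {dg : Ix n → Ix n → ℤ} {p : PP n} : 0 < dN dg p ↔ 0 < dg p.1 p.2 := by
  unfold dN; omega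

theorem dN_le {dg : Ix n → Ix n → ℤ} {p : PP n} {d : ℕ} (hd : 0 < d) : d ≤ dN dg p ↔ (d : ℤ) ≤ dg p.1 p.2 := by
  unfold dN; omega

theorem dN_cast {dg : Ix n → Ix n → ℤ} {p : PP n} (h : 0 < dg p.1 p.2) : (dN dg p : ℤ) = dg p.1 p.2 := by
  unfold dN; omega

theorem dgB_ii (i : Ix n) : dgB i i = Fd i := if_pos rfl

theorem dgB_ij {i j : Ix n} (h : i ≠ j) : dgB i j = Fd i + Fd j := if_neg h

theorem dj_of_dgB {i j : Ix n} (h : i ≠ j) (hp : 0 < dgB i j) : Dj i j := by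
  refine ⟨h, fun e => ?_⟩
  rw [dgB_ij h, e, Fd_neg] at hp
  omega

theorem dj_of_dgC {i j : Ix n} (h : i ≠ j) (hp : 0 < dgC i j) : Dj i j := by
  refine ⟨h, fun e => ?_⟩
  unfold dgC at hp
  rw [e, Fd_neg] at hp
  omega

/-- the same positive degree: the same root -/
theorem uniqB {p q : PP n} (hp : 0 < dgB p.1 p.2) (h : dgB p.1 p.2 = dgB q.1 q.2) : p = q ∨ p = (q.2, q.1) := by
  obtain ⟨i, j⟩ := p
  obtain ⟨k, l⟩ := q
  simp only at hp h ⊢
  by_cases h1 : i = j
  · subst h1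
    by_cases h2 : k = l
    · subst h2
      rw [dgB_ii, dgB_ii] at h
      rw [Fd_inj h]
      exact Or.inl rfl
    · rw [dgB_ii, dgB_ij h2] at h
      exact absurd h Fd_ne_two
  · have d1 := dj_of_dgB h1 hp
    rw [h] at hp
    by_cases h2 : k = l
    · subst h2
      rw [dgB_ij h1, dgB_ii] at h
      exact absurd h.symm Fd_ne_two
    · have d2 := dj_of_dgB h2 hp
      rw [dgB_ij h1, dgB_ij h2] at h
      rcases Fd_two d1 d2 h with ⟨e1, e2⟩ | ⟨e1, e2⟩
      · left; rw [e1, e2]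
      · right; rw [e1, e2]

theorem uniqC {p q : PP n} (hp : 0 < dgC p.1 p.2) (h : dgC p.1 p.2 = dgC q.1 q.2) : p = q ∨ p = (q.2, q.1) := by
  obtain ⟨i, j⟩ := p
  obtain ⟨k, l⟩ := q
  simp only at hp h ⊢
  by_cases h1 : i = j
  · subst h1
    by_cases h2 : k = l
    · subst h2
      unfold dgC at h
      have : Fd i = Fd k := by omega
      rw [Fd_inj this]
      exact Or.inl rfl
    · rw [h] at hp
      have d2 := dj_of_dgC h2 hp
      exact absurd h (two_Fd_ne d2)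
  · have d1 := dj_of_dgC h1 hp
    rw [h] at hp
    by_cases h2 : k = l
    · subst h2
      exact absurd h.symm (two_Fd_ne d1)
    · have d2 := dj_of_dgC h2 hp
      rcases Fd_two d1 d2 h with ⟨e1, e2⟩ | ⟨e1, e2⟩
      · left; rw [e1, e2]
      · right; rw [e1, e2]

namespace Frame

variable [CharP F 2] (R : Frame n F G)

/-- the root groups -/
def XP (p : PP n) : Subgroup G := open Classical in if p.1 = p.2 then R.ys p.1 else R.xs p.1 p.2

theorem XP_ii (i : Ix n) : R.XP (i, i) = R.ys i := if_pos rfl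

theorem XP_ij {i j : Ix n} (h : i ≠ j) : R.XP (i, j) = R.xs i j := if_neg h

theorem xs_symm (i j : Ix n) : R.xs i j = R.xs j i := by
  ext x
  rw [mem_xs, mem_xs]
  constructor <;> rintro ⟨a, rfl⟩ <;> exact ⟨a, R.x_symm _ _ _⟩

theorem XP_symm (i j : Ix n) : R.XP (i, j) = R.XP (j, i) := by
  by_cases h : i = j
  · subst h; rfl
  · rw [R.XP_ij h, R.XP_ij (Ne.symm h), R.xs_symm]

theorem XP_fix {p : PP n} {x : G} (hx : x ∈ R.XP p) : R.t * x * R.t = x := by
  have hc : Commute R.t x := by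
    unfold XP at hx
    split_ifs at hx with h
    · obtain ⟨a, rfl⟩ := hx; exact (R.y_t _ _).symm
    · obtain ⟨a, rfl⟩ := hx; exact (R.x_t _ _ _).symm
  rw [hc.eq, mul_assoc, R.tt, mul_one]

theorem XP_sq {p : PP n} {x : G} (hx : x ∈ R.XP p) : x * x = 1 := by
  unfold XP at hx
  split_ifs at hx with h
  · obtain ⟨a, rfl⟩ := hx; exact R.y_sq _ _
  · obtain ⟨a, rfl⟩ := hx; exact R.x_sq _ _ _

/-- commutators of short root elements at positive degrees -/
theorem comm_xx {i j k l : Ix n} (hij : Dj i j) (hkl : Dj k l) (hp : 0 < Fd i + Fd j) (hq : 0 < Fd k + Fd l)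
    (a b : F) : R.x i j a * R.x k l b * (R.x i j a)⁻¹ * (R.x k l b)⁻¹ = 1 ∨
      ∃ r s c, Dj r s ∧ Fd r + Fd s = (Fd i + Fd j) + (Fd k + Fd l) ∧
        R.x i j a * R.x k l b * (R.x i j a)⁻¹ * (R.x k l b)⁻¹ = R.x r s c := by
  -- one opposite pair of indices: `k = -j`
  have aux : ∀ i j l : Ix n, Dj i j → Dj (neg j) l → 0 < Fd i + Fd j → 0 < Fd (neg j) + Fd l → ∀ a b : F,
      R.x i j a * R.x (neg j) l b * (R.x i j a)⁻¹ * (R.x (neg j) l b)⁻¹ = 1 ∨
      ∃ r s c, Dj r s ∧ Fd r + Fd s = (Fd i + Fd j) + (Fd (neg j) + Fd l) ∧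
        R.x i j a * R.x (neg j) l b * (R.x i j a)⁻¹ * (R.x (neg j) l b)⁻¹ = R.x r s c := by
    intro i j l hij hjl hp hq a b
    have hjl' : Dj j l := dj_neg_left.1 hjl
    rw [Fd_neg] at hq
    have hil : i ≠ neg l := by
      intro e
      rw [e, Fd_neg] at hp
      omega
    by_cases e1 : i = l
    · left
      subst e1
      have hc : Commute (R.x i j a) (R.x (neg j) i b) := by
        rw [R.x_symm i j]
        exact R.x_comm' a b
      rw [hc.eq]; group
    · right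
      refine ⟨i, l, a * b, ⟨e1, hil⟩, by rw [Fd_neg]; ring, ?_⟩
      rw [R.x_rel hij hjl' ⟨e1, hil⟩]
      group
  by_cases h1 : k = neg j
  · subst h1; exact aux i j l hij hkl hp hq a b
  by_cases h2 : k = neg i
  · subst h2
    rw [R.x_symm i j, add_comm (Fd i)]
    exact aux j i l hij.symm hkl (by omega) hq a b
  by_cases h3 : l = neg j
  · subst h3
    rw [R.x_symm k, add_comm (Fd k)]
    exact aux i j k hij hkl.symm hp (by omega) a b
  by_cases h4 : l = neg i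
  · subst h4
    rw [R.x_symm k, add_comm (Fd k), R.x_symm i j, add_comm (Fd i)]
    exact aux j i k hij.symm hkl.symm (by omega) (by omega) a b
  left
  have hc : Commute (R.x i j a) (R.x k l b) := R.x_comm h2 h1 h4 h3 a b
  rw [hc.eq]; group

/-- the group of the root groups of degree `≥ d` -/
theorem map_Ud {dg : Ix n → Ix n → ℤ} (hdg : DegOk dg) (hs : ∀ i j, dg i j = dg j i)
    (hdj : ∀ i j, i ≠ j → 0 < dg i j → Dj i j) {d : ℕ} (hd : 0 < d) :
    (⨆ r : PP n, ⨆ _ : d ≤ dN dg r, R.XP r) ≤ (Ud hdg (d : ℤ) (by exact_mod_cast hd)).map R.ι := by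
  refine iSup₂_le fun r hr => ?_
  rw [dN_le hd] at hr
  obtain ⟨i, j⟩ := r
  intro x hx
  unfold XP at hx
  simp only at hx hr
  split_ifs at hx with h
  · obtain ⟨a, rfl⟩ := hx
    subst h
    exact ⟨_, sy_mem_Ud hdg (by omega) hr a, rfl⟩
  · obtain ⟨a, rfl⟩ := hx
    exact ⟨_, sx_mem_Ud hdg hs (by omega) (hdj i j h (by omega)) hr a, rfl⟩

/-- independence of the root groups -/
theorem indepP {dg : Ix n → Ix n → ℤ} (hdg : DegOk dg) (hs : ∀ i j, dg i j = dg j i)
    (hdj : ∀ i j, i ≠ j → 0 < dg i j → Dj i j) {p : PP n} (hp : 0 < dN dg p) :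
    R.XP p ⊓ (⨆ r : PP n, ⨆ _ : dN dg p + 1 ≤ dN dg r, R.XP r) = ⊥ := by
  rw [eq_bot_iff]
  rintro x ⟨hx, hx'⟩
  have h1 := R.map_Ud hdg hs hdj (d := dN dg p + 1) (by omega) hx'
  obtain ⟨A, hA, hAx⟩ := h1
  rw [dN_pos] at hp
  have hc := dN_cast hp
  obtain ⟨i, j⟩ := p
  unfold XP at hx
  simp only at hx hp hc
  rw [Subgroup.mem_bot]
  split_ifs at hx with h
  · obtain ⟨a, rfl⟩ := hx
    subst h
    have e1 : A = sy i a := R.inj hAx
    subst e1
    have := sy_eq_zero hdg _ (by push_cast; omega) hA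
    rw [this, R.y_zero]
  · obtain ⟨a, rfl⟩ := hx
    have e1 : A = sx i j a := R.inj hAx
    subst e1
    have := sx_eq_zero hdg _ (hdj i j h hp) (by push_cast; omega) hA
    rw [this, R.x_zero]

/-- the positive root groups generate a subgroup of `K` -/
theorem N_XP_le_K (dg : Ix n → Ix n → ℤ) : N (GradeOf.Vd (dN dg) R.XP) 1 ≤ R.K := by
  rw [GradeOf.N_eq _ _ le_rfl]
  refine iSup₂_le fun r _ => ?_
  intro x hx
  unfold XP at hx
  split_ifs at hx with h
  · obtain ⟨a, rfl⟩ := hx; exact R.y_mem_K _ _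
  · obtain ⟨a, rfl⟩ := hx; exact R.x_mem_K _ _ _

/-- the positive unipotent group -/
def UpP : Subgroup G := ⨆ p : PP n, ⨆ _ : 0 < Fd p.1 + Fd p.2, R.XP p

theorem N_XP_of (dg : Ix n → Ix n → ℤ) (key : ∀ r : PP n, 0 < dg r.1 r.2 ↔ 0 < Fd r.1 + Fd r.2) :
    N (GradeOf.Vd (dN dg) R.XP) 1 = R.UpP := by
  rw [GradeOf.N_eq _ _ le_rfl]
  apply le_antisymm
  · exact iSupP_mono fun r hr => (key r).1 (dN_pos.1 hr)
  · exact iSupP_mono fun r hr => dN_pos.2 ((key r).2 hr)

theorem N_XP_C : N (GradeOf.Vd (dN dgC) R.XP) 1 = R.UpP := R.N_XP_of dgC fun _ => Iff.rfl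

theorem N_XP_B : N (GradeOf.Vd (dN dgB) R.XP) 1 = R.UpP := by
  refine R.N_XP_of dgB fun r => ?_
  by_cases h : r.1 = r.2
  · rw [← h, dgB_ii]; constructor <;> intro h <;> omega
  · rw [dgB_ij h]

end Frame

end Cfsg.Agent.OddHalf.SpN

end

-- merged: Cfsg.Agent.OddHalf.SpN.EndS
section

/-!
# END of the pattern (0,O) = `{s}` for `Sp_2n(q)` (helper200)

`DataSE R W`: the doubles `W i j` of the short root groups with all their relations; long root elements are not moved.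
`DataSE.exists_hom`: a homomorphism `G → {±1}` with `t ↦ -1`.
-/

set_option autoImplicit false
set_option maxHeartbeats 400000

namespace Cfsg.Agent.OddHalf.SpN

open Cfsg.Agent.OddHalf.F4.EndO

variable {n : ℕ} {F : Type*} [Field F] {G : Type*} [Group G] [CharP F 2]

/-- Input of the end of pattern `{s}`. -/
structure DataSE (R : Frame n F G) (W : Ix n → Ix n → Subgroup G) : Prop where
  symm : ∀ i j, W i j = W j i
  xW : ∀ i j, Dj i j → ∀ a, R.x i j a ∈ W i j
  sq : ∀ i j, Dj i j → ∀ w ∈ W i j, w * w = 1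
  d : ∀ i j, Dj i j → ∀ w ∈ W i j, ∃ a, R.t * w * R.t = w * R.x i j a
  onto : ∀ i j, Dj i j → ∀ a, ∃ w ∈ W i j, R.t * w * R.t = w * R.x i j a
  fix : ∀ i j, Dj i j → ∀ w ∈ W i j, R.t * w * R.t = w → ∃ a, w = R.x i j a
  cy : ∀ i j k, Dj i j → k ≠ neg i → k ≠ neg j → ∀ w ∈ W i j, ∀ a, Commute w (R.y k a)
  w60 : ∀ i j k, Dj i j → Dj i k → Dj j k → ∀ w ∈ W i j, ∀ w' ∈ W i k, Commute w w'
  w90 : ∀ i j k l, Dj i j → Dj i k → Dj i l → Dj j k → Dj j l → Dj k l → ∀ w ∈ W i j, ∀ w' ∈ W k l, Commute w w'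
  par : ∀ i j, Dj i j → ∀ w ∈ W i j, ∀ w' ∈ W i (neg j), ∃ a, w * w' * w⁻¹ * w'⁻¹ = R.y i a
  w120 : ∀ i j k, Dj i j → Dj i k → Dj j k → ∀ w ∈ W j k, ∀ w' ∈ W i (neg j), w * w' * w⁻¹ * w'⁻¹ ∈ W i k
  yw : ∀ i j, Dj i j → ∀ w ∈ W i (neg j), ∀ v, ∃ w' ∈ W i j, ∃ a, R.y j v * w * R.y j v = w * w' * R.y i a
  nm : ∀ i a, a ≠ 0 → ¬ IsConj R.t (R.t * R.y i a)

/-- the pieces: short doubled, long not -/
def VS (R : Frame n F G) (W : Ix n → Ix n → Subgroup G) (p : PP n) : Subgroup G :=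
  open Classical in if p.1 = p.2 then R.ys p.1 else W p.1 p.2

theorem VS_ii (R : Frame n F G) (W : Ix n → Ix n → Subgroup G) (i : Ix n) : VS R W (i, i) = R.ys i := if_pos rfl

theorem VS_ij (R : Frame n F G) (W : Ix n → Ix n → Subgroup G) {i j : Ix n} (h : i ≠ j) : VS R W (i, j) = W i j :=
  if_neg h

omit [CharP F 2] in
theorem dNC {i j : Ix n} (h : 0 < Fd i + Fd j) : (dN dgC (i, j) : ℤ) = Fd i + Fd j := dN_cast (p := (i, j)) h

namespace DataSE

variable {R : Frame n F G} {W : Ix n → Ix n → Subgroup G}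

theorem VS_symm (h : DataSE R W) (i j : Ix n) : VS R W (i, j) = VS R W (j, i) := by
  by_cases hij : i = j
  · subst hij; rfl
  · rw [VS_ij R W hij, VS_ij R W (Ne.symm hij), h.symm]

/-- commutators of the doubles at positive degrees -/
theorem comm_ww (h : DataSE R W) {i j k l : Ix n} (hij : Dj i j) (hkl : Dj k l) (hp : 0 < Fd i + Fd j)
    (hq : 0 < Fd k + Fd l) (hne : Fd i + Fd j ≠ Fd k + Fd l) {w w' : G} (hw : w ∈ W i j) (hw' : w' ∈ W k l) :
    w * w' * w⁻¹ * w'⁻¹ = 1 ∨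
      ∃ r s, Fd r + Fd s = (Fd i + Fd j) + (Fd k + Fd l) ∧ w * w' * w⁻¹ * w'⁻¹ ∈ VS R W (r, s) := by
  -- one opposite pair: `k = -j`
  have aux : ∀ i j l : Ix n, Dj i j → Dj (neg j) l → 0 < Fd i + Fd j → 0 < Fd (neg j) + Fd l →
      ∀ w ∈ W i j, ∀ w' ∈ W (neg j) l,
      ∃ r s, Fd r + Fd s = (Fd i + Fd j) + (Fd (neg j) + Fd l) ∧ w * w' * w⁻¹ * w'⁻¹ ∈ VS R W (r, s) := by
    intro i j l hij hjl hp hq w hw w' hw'
    have hjl' : Dj j l := dj_neg_left.1 hjl
    rw [Fd_neg] at hq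
    by_cases e1 : i = l
    · subst e1
      rw [h.symm (neg j) i] at hw'
      obtain ⟨a, ha⟩ := h.par i j hij w hw w' hw'
      refine ⟨i, i, by rw [Fd_neg]; ring, ?_⟩
      rw [VS_ii, ha]; exact ⟨a, rfl⟩
    · have hil : Dj i l := ⟨e1, fun e => by rw [e, Fd_neg] at hp; omega⟩
      refine ⟨i, l, by rw [Fd_neg]; ring, ?_⟩
      rw [VS_ij R W e1]
      -- `w ∈ W i j = W j i`, `w' ∈ W (-j) l = W l (-j)`
      rw [h.symm] at hw hw'
      have := h.w120 l j i hjl'.symm hil.symm hij.symm w hw w' hw'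
      rw [h.symm]; exact this
  by_cases h1 : k = neg j
  · subst h1; exact Or.inr (aux i j l hij hkl hp hq w hw w' hw')
  by_cases h2 : k = neg i
  · subst h2
    obtain ⟨r, s, h3, h4⟩ := aux j i l hij.symm hkl (by omega) hq w (by rw [h.symm]; exact hw) w' hw'
    exact Or.inr ⟨r, s, by omega, h4⟩
  by_cases h3 : l = neg j
  · subst h3
    obtain ⟨r, s, h4, h5⟩ := aux i j k hij hkl.symm hp (by omega) w hw w' (by rw [h.symm]; exact hw')
    exact Or.inr ⟨r, s, by omega, h5⟩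
  by_cases h4 : l = neg i
  · subst h4
    obtain ⟨r, s, h5, h6⟩ := aux j i k hij.symm hkl.symm (by omega) (by omega) w (by rw [h.symm]; exact hw) w'
      (by rw [h.symm]; exact hw')
    exact Or.inr ⟨r, s, by omega, h6⟩
  -- no opposite pair: commute
  have hc : Commute w w' := by
    have n1 : i ≠ neg k := fun e => h2 (by rw [e, neg_neg])
    have n2 : i ≠ neg l := fun e => h4 (by rw [e, neg_neg])
    have n3 : j ≠ neg k := fun e => h1 (by rw [e, neg_neg])
    have n4 : j ≠ neg l := fun e => h3 (by rw [e, neg_neg])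
    by_cases e1 : i = k
    · subst e1
      have e2 : j ≠ l := fun e => hne (by rw [e])
      exact h.w60 i j l hij hkl ⟨e2, n4⟩ w hw w' hw'
    by_cases e2 : i = l
    · subst e2
      have e3 : j ≠ k := fun e => hne (by rw [e, add_comm])
      rw [h.symm k i] at hw'
      exact h.w60 i j k hij hkl.symm ⟨e3, n3⟩ w hw w' hw'
    by_cases e3 : j = k
    · subst e3
      rw [h.symm i j] at hw
      exact h.w60 j i l hij.symm hkl ⟨e2, n2⟩ w hw w' hw'
    by_cases e4 : j = l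
    · subst e4
      rw [h.symm i j] at hw
      rw [h.symm k j] at hw'
      exact h.w60 j i k hij.symm hkl.symm ⟨e1, n1⟩ w hw w' hw'
    exact h.w90 i j k l hij ⟨e1, n1⟩ ⟨e2, n2⟩ ⟨e3, n3⟩ ⟨e4, n4⟩ hkl w hw w' hw'
  left
  rw [hc.eq]; group

/-- commutators `[y, w]` at positive degrees -/
theorem comm_yw (h : DataSE R W) {k i j : Ix n} (hij : Dj i j) (hk : 0 < Fd k) (hp : 0 < Fd i + Fd j)
    {w : G} (hw : w ∈ W i j) (v : F) : R.y k v * w * (R.y k v)⁻¹ * w⁻¹ ∈
      ⨆ r : PP n, ⨆ _ : dN dgC (k, k) + dN dgC (i, j) ≤ dN dgC r, VS R W r := by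
  have key : ∀ k j : Ix n, Dj (neg k) j → 0 < Fd k → 0 < Fd (neg k) + Fd j → ∀ w ∈ W (neg k) j,
      R.y k v * w * (R.y k v)⁻¹ * w⁻¹ ∈ 
        ⨆ r : PP n, ⨆ _ : dN dgC (k, k) + dN dgC (neg k, j) ≤ dN dgC r, VS R W r := by
    intro k j hkj hk hp w hw
    have hkj' : Dj k j := dj_neg_left.1 hkj
    rw [h.symm] at hw
    obtain ⟨w', hw', a, e1⟩ := h.yw j k hkj'.symm w hw v
    have hw1 : w⁻¹ = w := inv_eq_of_mul_eq_one_left (h.sq j (neg k) hkj.symm w hw)
    have hww' : ∃ b, w * w' * w⁻¹ * w'⁻¹ = R.y j b := by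
      obtain ⟨b, hb⟩ := h.par j k hkj'.symm w' hw' w hw
      refine ⟨b, ?_⟩
      have : w * w' * w⁻¹ * w'⁻¹ = (w' * w * w'⁻¹ * w⁻¹)⁻¹ := by group
      rw [this, hb, R.y_inv]
    obtain ⟨b, hb⟩ := hww'
    have hc : Commute w (R.y j a) := h.cy j (neg k) j hkj.symm (ne_neg j) (by rw [neg_neg]; exact hkj'.1.symm) w hw a
    have e2 : R.y k v * w * (R.y k v)⁻¹ * w⁻¹ = R.y j b * w' * R.y j a := by
      calc R.y k v * w * (R.y k v)⁻¹ * w⁻¹ = w * w' * R.y j a * w⁻¹ := by rw [R.y_inv, e1]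
        _ = w * w' * (w⁻¹ * R.y j a) := by rw [mul_assoc, hc.inv_left.eq]
        _ = (w * w' * w⁻¹ * w'⁻¹) * w' * R.y j a := by group
        _ = R.y j b * w' * R.y j a := by rw [hb]
    rw [e2]
    rw [Fd_neg] at hp
    have n1 : (dN dgC (k, k) : ℤ) = Fd k + Fd k := dNC (by omega)
    have n2 : (dN dgC (neg k, j) : ℤ) = -Fd k + Fd j := by rw [dNC (by rw [Fd_neg]; omega), Fd_neg]
    have n3 : (dN dgC (j, j) : ℤ) = Fd j + Fd j := dNC (by omega)
    have n4 : (dN dgC (j, k) : ℤ) = Fd j + Fd k := dNC (by omega)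
    have m1 : ∀ b, R.y j b ∈ VS R W (j, j) := fun b => by rw [VS_ii]; exact ⟨b, rfl⟩
    have m2 : w' ∈ VS R W (j, k) := by rw [VS_ij R W hkj'.1.symm]; exact hw'
    refine mul_mem (mul_mem ?_ ?_) ?_
    · exact le_iSupP (r := (j, j)) (S := fun r => dN dgC (k, k) + dN dgC (neg k, j) ≤ dN dgC r) (by omega) (m1 b)
    · exact le_iSupP (r := (j, k)) (S := fun r => dN dgC (k, k) + dN dgC (neg k, j) ≤ dN dgC r) (by omega) m2
    · exact le_iSupP (r := (j, j)) (S := fun r => dN dgC (k, k) + dN dgC (neg k, j) ≤ dN dgC r) (by omega) (m1 a)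
  by_cases h1 : i = neg k
  · subst h1; exact key k j hij hk hp w hw
  by_cases h2 : j = neg k
  · subst h2
    have h3 := key k i hij.symm hk (by omega) w (by rw [h.symm]; exact hw)
    have h4 : dN dgC (i, neg k) = dN dgC (neg k, i) := by unfold dN; rw [dgC_symm]
    rw [h4]; exact h3
  have hc : Commute w (R.y k v) := h.cy i j k hij (fun e => h1 (by rw [e, neg_neg])) (fun e => h2 (by rw [e, neg_neg]))
    w hw v
  have : R.y k v * w * (R.y k v)⁻¹ * w⁻¹ = 1 := by rw [← hc.eq]; group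
  rw [this]; exact one_mem _

theorem grdS (h : DataSE R W) :
    Grd R.t (GradeOf.Vd (dN dgC) (VS R W)) (GradeOf.Vd (dN dgC) R.XP)
      (GradeOf.lgd (dN dgC) fun p : PP n => p.1 = p.2) (2 * 5 ^ n) (2 * 5 ^ n) := by
  have uniq : ∀ p q : PP n, 0 < dN dgC p → dN dgC p = dN dgC q → p = q ∨ p = (q.2, q.1) := by
    intro p q hp hpq
    have h1 := dN_pos.1 hp
    have h2 := dN_pos.1 (hpq ▸ hp)
    refine uniqC h1 ?_
    rw [← dN_cast h1, ← dN_cast h2, hpq]
  have hle : ∀ p : PP n, dN dgC p ≤ 2 * 5 ^ n := by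
    rintro ⟨i, j⟩
    have h1 : Fd i ≤ 5 ^ n := by
      rcases Fd_cases i with h | h
      · rw [h]; exact pow_le_pow_right₀ (by norm_num) (by unfold ex; omega)
      · rw [h]
        have h1 := pow_pos (show (0 : ℤ) < 5 by norm_num) (ex i)
        have h2 := pow_pos (show (0 : ℤ) < 5 by norm_num) n
        linarith
    have h2 : Fd j ≤ 5 ^ n := by
      rcases Fd_cases j with h | h
      · rw [h]; exact pow_le_pow_right₀ (by norm_num) (by unfold ex; omega)
      · rw [h]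
        have h1 := pow_pos (show (0 : ℤ) < 5 by norm_num) (ex j)
        have h2 := pow_pos (show (0 : ℤ) < 5 by norm_num) n
        linarith
    have h4 : dgC i j ≤ 2 * 5 ^ n := by unfold dgC; linarith
    have : ((2 * 5 ^ n : ℕ) : ℤ) = 2 * 5 ^ n := by push_cast; rfl
    unfold dN
    simp only
    have h5 := pow_pos (show (0 : ℤ) < 5 by norm_num) n
    omega
  refine GradeOf.grd ?_ ?_ ?_ R.tt ?_ ?_ ?_ ?_ ?_ ?_ ?_ ?_ ?_ ?_ ?_ ?_
  · intro p q hp hpq
    rcases uniq p q hp hpq with rfl | rfl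
    · rfl
    · exact h.VS_symm _ _
  · intro p q hp hpq
    rcases uniq p q hp hpq with rfl | rfl
    · rfl
    · exact R.XP_symm _ _
  · intro p q hp hpq hl
    rcases uniq p q hp hpq with rfl | rfl
    · exact hl
    · exact Eq.symm hl
  · rintro ⟨i, j⟩ hp v hv
    by_cases hij : i = j
    · subst hij
      have hx := hv
      rw [VS_ii, ← R.XP_ii] at hx
      rw [R.XP_fix hx]; exact hv
    · have hd := dj_of_dgC hij (dN_pos.1 hp)
      rw [VS_ij R W hij] at hv ⊢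
      obtain ⟨a, ha⟩ := h.d i j hd v hv
      rw [ha]; exact mul_mem hv (h.xW i j hd a)
  · rintro ⟨i, j⟩ hp v hv
    by_cases hij : i = j
    · subst hij
      rw [VS_ii, ← R.XP_ii] at hv
      exact R.XP_sq hv
    · have hd := dj_of_dgC hij (dN_pos.1 hp)
      rw [VS_ij R W hij] at hv
      exact h.sq i j hd v hv
  · rintro ⟨i, j⟩ hp
    by_cases hij : i = j
    · subst hij
      rw [VS_ii, R.XP_ii]
    · have hd := dj_of_dgC hij (dN_pos.1 hp)
      rw [VS_ij R W hij, R.XP_ij hij]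
      rintro _ ⟨a, rfl⟩
      exact h.xW i j hd a
  · intro p hp x hx
    exact R.XP_fix hx
  · rintro ⟨i, j⟩ hp v hv hf
    by_cases hij : i = j
    · subst hij
      rw [VS_ii] at hv
      rw [R.XP_ii]; exact hv
    · have hd := dj_of_dgC hij (dN_pos.1 hp)
      rw [VS_ij R W hij] at hv
      rw [R.XP_ij hij]
      obtain ⟨a, ha⟩ := h.fix i j hd v hv hf
      exact ⟨a, ha⟩
  · rintro ⟨i, j⟩ hp hl x hx
    have hd := dj_of_dgC hl (dN_pos.1 hp)
    rw [R.XP_ij hl] at hx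
    rw [VS_ij R W hl]
    obtain ⟨a, rfl⟩ := hx
    obtain ⟨w, hw, hw'⟩ := h.onto i j hd a
    exact ⟨w, hw, by rw [hw']; group⟩
  · rintro ⟨i, j⟩ hp hl
    simp only at hl
    subst hl
    rw [VS_ii, R.XP_ii]
  · rintro ⟨i, j⟩ ⟨k, l⟩ hp hq hne v hv w hw
    have hp' := dN_pos.1 hp
    have hq' := dN_pos.1 hq
    by_cases hij : i = j
    · subst hij
      rw [VS_ii] at hv
      obtain ⟨a, rfl⟩ := hv
      by_cases hkl : k = l
      · subst hkl
        rw [VS_ii] at hw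
        obtain ⟨b, rfl⟩ := hw
        have hik : k ≠ neg i := by
          intro e
          unfold dgC at hp' hq'
          simp only at hp' hq'
          rw [e, Fd_neg] at hq'
          omega
        have : R.y i a * R.y k b * (R.y i a)⁻¹ * (R.y k b)⁻¹ = 1 := by rw [(R.y_comm hik a b).eq]; group
        rw [this]; exact one_mem _
      · have hd := dj_of_dgC hkl hq'
        rw [VS_ij R W hkl] at hw
        have hp2 : 0 < Fd i := by
          have : 0 < Fd i + Fd i := hp'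
          omega
        exact h.comm_yw hd hp2 hq' hw a
    · have hd := dj_of_dgC hij hp'
      rw [VS_ij R W hij] at hv
      by_cases hkl : k = l
      · subst hkl
        rw [VS_ii] at hw
        obtain ⟨b, rfl⟩ := hw
        have hq2 : 0 < Fd k := by
          have : 0 < Fd k + Fd k := hq'
          omega
        have h1 := inv_mem (h.comm_yw hd hq2 hp' hv b)
        have h3 : (R.y k b * v * (R.y k b)⁻¹ * v⁻¹)⁻¹ = v * R.y k b * v⁻¹ * (R.y k b)⁻¹ := by group
        rw [h3, add_comm] at h1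
        exact h1
      · have hd' := dj_of_dgC hkl hq'
        rw [VS_ij R W hkl] at hw
        have f1 : (dN dgC (i, j) : ℤ) = Fd i + Fd j := dNC hp'
        have f2 : (dN dgC (k, l) : ℤ) = Fd k + Fd l := dNC hq'
        have hpp : 0 < Fd i + Fd j := hp'
        have hqq : 0 < Fd k + Fd l := hq'
        rcases h.comm_ww hd hd' hp' hq' (fun e => hne (by
          have : (dN dgC (i, j) : ℤ) = dN dgC (k, l) := by rw [f1, f2, e]
          exact_mod_cast this)) hv hw with h1 | ⟨r, s, hdeg, h1⟩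
        · rw [h1]; exact one_mem _
        · have f3 : (dN dgC (r, s) : ℤ) = Fd r + Fd s := dNC (by omega)
          exact le_iSupP (r := (r, s)) (S := fun r => dN dgC (i, j) + dN dgC (k, l) ≤ dN dgC r) (by omega) h1
  · rintro ⟨i, j⟩ ⟨k, l⟩ hp hq hne hij hkl v hv w hw
    simp only at hij hkl
    subst hij
    subst hkl
    have hp' := dN_pos.1 hp
    have hq' := dN_pos.1 hq
    rw [R.XP_ii] at hv hw
    obtain ⟨a, rfl⟩ := hv
    obtain ⟨b, rfl⟩ := hw
    have hik : k ≠ neg i := by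
      intro e
      unfold dgC at hp' hq'
      simp only at hp' hq'
      rw [e, Fd_neg] at hq'
      omega
    have : R.y i a * R.y k b * (R.y i a)⁻¹ * (R.y k b)⁻¹ = 1 := by rw [(R.y_comm hik a b).eq]; group
    rw [this]; exact one_mem _
  · exact hle
  · intro p hp
    exact R.indepP dgC_ok dgC_symm (fun i j => dj_of_dgC) hp
  · intro p _ _
    exact hle p

/-! ### The diagonal elements -/

/-- the group generated by `Y_k`, `k ∈ S` -/
def YS (R : Frame n F G) (S : Finset (Fin n)) : Subgroup G := ⨆ k : Fin n, ⨆ _ : k ∈ S, R.ys (Sum.inl k)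

theorem YS_comm {S : Finset (Fin n)} {l : G} (hl : l ∈ YS R S) {g : G}
    (hg : ∀ k ∈ S, ∀ a, Commute g (R.y (Sum.inl k) a)) : Commute g l := by
  have h1 : YS R S ≤ Subgroup.centralizer {g} := by
    refine iSup₂_le fun k hk => ?_
    rintro _ ⟨a, rfl⟩
    rw [Subgroup.mem_centralizer_singleton_iff]
    exact (hg k hk a).eq.symm
  exact (Subgroup.mem_centralizer_singleton_iff.1 (h1 hl)).symm

theorem YS_mono {S S' : Finset (Fin n)} (h : S ⊆ S') : YS R S ≤ YS R S' :=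
  iSup₂_le fun k hk => le_iSup₂_of_le (f := fun k (_ : k ∈ S') => R.ys (Sum.inl k)) k (h hk) le_rfl

theorem inl_ne_neg_inl (k l : Fin n) : (Sum.inl k : Ix n) ≠ neg (Sum.inl l) := by simp

theorem YS_insert {S : Finset (Fin n)} {k : Fin n} {l : G} (hl : l ∈ YS R (insert k S)) :
    ∃ a, ∃ l' ∈ YS R S, l = R.y (Sum.inl k) a * l' := by
  let T : Subgroup G :=
    { carrier := {l | ∃ a, ∃ l' ∈ YS R S, l = R.y (Sum.inl k) a * l'}
      one_mem' := ⟨0, 1, one_mem _, by rw [R.y_zero, mul_one]⟩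
      mul_mem' := by
        rintro _ _ ⟨a, l, hl, rfl⟩ ⟨b, m, hm, rfl⟩
        refine ⟨a + b, l * m, mul_mem hl hm, ?_⟩
        have hc : Commute (R.y (Sum.inl k) b) l := YS_comm hl fun j _ c => R.y_comm (inl_ne_neg_inl j k) _ _
        rw [R.y_add]
        calc R.y (Sum.inl k) a * l * (R.y (Sum.inl k) b * m) = R.y (Sum.inl k) a * (l * R.y (Sum.inl k) b) * m := by
              group
          _ = _ := by rw [← hc.eq]; group
      inv_mem' := by
        rintro _ ⟨a, l, hl, rfl⟩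
        refine ⟨a, l⁻¹, inv_mem hl, ?_⟩
        have hc : Commute (R.y (Sum.inl k) a) l⁻¹ := YS_comm (inv_mem hl) fun j _ c => R.y_comm (inl_ne_neg_inl j k) _ _
        rw [mul_inv_rev, R.y_inv, hc.eq] }
  have hT : YS R (insert k S) ≤ T := by
    refine iSup₂_le fun j hj => ?_
    rintro _ ⟨a, rfl⟩
    rcases Finset.mem_insert.1 hj with rfl | hj'
    · exact ⟨a, 1, one_mem _, (mul_one _).symm⟩
    · refine ⟨0, R.y (Sum.inl j) a, ?_, by rw [R.y_zero, one_mul]⟩
      exact le_iSup₂_of_le (f := fun k (_ : k ∈ S) => R.ys (Sum.inl k)) j hj' le_rfl ⟨a, rfl⟩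
  exact hT hl

/-- a nontrivial diagonal element has a nontrivial component -/
theorem YS_split {S : Finset (Fin n)} {l : G} (hl : l ∈ YS R S) :
    l = 1 ∨ ∃ k ∈ S, ∃ b, b ≠ 0 ∧ ∃ l' ∈ YS R (S.erase k), l = R.y (Sum.inl k) b * l' := by
  classical
  induction S using Finset.induction_on generalizing l with
  | empty =>
    left
    have : YS R (∅ : Finset (Fin n)) = ⊥ := by
      rw [eq_bot_iff]
      exact iSup₂_le fun k hk => absurd hk (Finset.notMem_empty k)
    rw [this] at hl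
    exact Subgroup.mem_bot.1 hl
  | insert k S hk ih =>
    obtain ⟨a, l', hl', rfl⟩ := YS_insert hl
    by_cases ha : a = 0
    · subst ha
      rw [R.y_zero, one_mul]
      rcases ih hl' with h1 | ⟨j, hj, b, hb, m, hm, h1⟩
      · exact Or.inl h1
      · right
        exact ⟨j, Finset.mem_insert_of_mem hj, b, hb, m, YS_mono (Finset.erase_subset_erase _
          (Finset.subset_insert _ _)) hm, h1⟩
    · right
      refine ⟨k, Finset.mem_insert_self _ _, a, ha, l', ?_, rfl⟩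
      rw [Finset.erase_insert hk]; exact hl'

/-- removal of the other components -/
theorem conj_single (h : DataSE R W) [Finite F] {j : Fin n} {b : F} (hb : b ≠ 0) (S : Finset (Fin n)) (hj : j ∉ S) {l : G}
    (hl : l ∈ YS R S) : IsConj (R.t * (R.y (Sum.inl j) b * l)) (R.t * R.y (Sum.inl j) b) := by
  classical
  induction S using Finset.induction_on generalizing l with
  | empty =>
    have : YS R (∅ : Finset (Fin n)) = ⊥ := by
      rw [eq_bot_iff]
      exact iSup₂_le fun k hk => absurd hk (Finset.notMem_empty k)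
    rw [this] at hl
    rw [Subgroup.mem_bot.1 hl, mul_one]
  | insert k S hk ih =>
    rw [Finset.mem_insert, not_or] at hj
    obtain ⟨a, l', hl', rfl⟩ := YS_insert hl
    refine IsConj.trans ?_ (ih hj.2 hl')
    -- `g = x_{k,-j}(c)`, `b c² = a`
    set K : Ix n := Sum.inl k with hK
    set J : Ix n := Sum.inl j with hJ
    have hKJ : Dj K J := by
      refine ⟨fun e => hj.1 ?_, inl_ne_neg_inl k j⟩
      exact (Sum.inl_injective e).symm
    have hJK := hKJ.symm
    obtain ⟨c, hc⟩ : ∃ c, b * c ^ 2 = a := by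
      obtain ⟨c, hc⟩ : ∃ c : F, c ^ 2 = a / b := by
        have : Function.Surjective (fun x : F => x ^ 2) := by
          refine Finite.injective_iff_surjective.mp ?_
          intro x y hxy
          have h0 : (x - y) * (x - y) = 0 := by
            have : x ^ 2 = y ^ 2 := hxy
            linear_combination this - (x * y - y ^ 2) * (two0 : (2 : F) = 0)
          exact sub_eq_zero.mp (mul_self_eq_zero.mp h0)
        exact this (a / b)
      exact ⟨c, by rw [hc]; field_simp⟩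
    set g := R.x (neg J) K c with hg
    have gg : g * g = 1 := R.x_sq _ _ _
    have ginv : g⁻¹ = g := inv_eq_of_mul_eq_one_left gg
    have tg : Commute R.t g := (R.x_t _ _ _).symm
    have g1 : g * R.y J b * g = R.y J b * R.x J K (b * c) * R.y K a := by
      have := R.rels.sl J K b c hJK
      rw [hc] at this; exact this
    have g2 : Commute g (R.y K a) := (R.y_x_comm (i := K) (j := neg J) (k := K)
      (fun e => hKJ.1 (neg_inj.1 e).symm) (ne_neg K) a c).symm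
    have g3 : Commute g l' := YS_comm hl' fun m hm d => by
      refine (R.y_x_comm (i := Sum.inl m) (j := neg J) (k := K) (fun e => ?_) (inl_ne_neg_inl k m) d c).symm
      have := neg_inj.1 e
      exact hj.2 (by rw [Sum.inl_injective this]; exact hm)
    obtain ⟨w, hw, hwt⟩ := h.onto K J hKJ (b * c)
    have w2 : w * w = 1 := h.sq K J hKJ w hw
    have wi : w⁻¹ = w := inv_eq_of_mul_eq_one_left w2
    have w1 : Commute w (R.y J b) := h.cy K J J hKJ (fun e => hKJ.2 (by rw [e, neg_neg])) (ne_neg J) w hw b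
    have w3 : Commute w l' := YS_comm hl' fun m hm d => h.cy K J _ hKJ (inl_ne_neg_inl m k) (inl_ne_neg_inl m j) w hw d
    have w4 : Commute w (R.x K J (b * c)) := by
      -- `t w t = w x`, so `w x w = ...`
      have h1 : (w * R.x K J (b * c)) * (w * R.x K J (b * c)) = 1 := by
        rw [← hwt]
        calc R.t * w * R.t * (R.t * w * R.t) = R.t * w * (R.t * R.t) * w * R.t := by group
          _ = R.t * (w * w) * R.t := by rw [R.tt]; group
          _ = 1 := by rw [w2, mul_one, R.tt]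
      have hx : (R.x K J (b * c))⁻¹ = R.x K J (b * c) := R.x_inv _ _ _
      calc w * R.x K J (b * c) = (w * R.x K J (b * c))⁻¹ * ((w * R.x K J (b * c)) * (w * R.x K J (b * c))) := by group
        _ = R.x K J (b * c) * w := by rw [h1, mul_one, mul_inv_rev, hx, wi]
    have ly : Commute (R.y K a) l' := YS_comm hl' fun m hm d => R.y_comm (inl_ne_neg_inl m k) _ _
    have yy : Commute (R.y J b) (R.y K a) := R.y_comm hKJ.2 _ _
    have yx : Commute (R.x J K (b * c)) (R.y K a) := (R.y_x_comm hJK.2 (ne_neg K) _ _).symm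
    have yx' : Commute (R.x J K (b * c)) (R.y J b) := (R.y_x_comm (ne_neg J) hKJ.2 _ _).symm
    have hxx : R.x J K (b * c) = R.x K J (b * c) := R.x_symm _ _ _
    have hxt : Commute R.t (R.x K J (b * c)) := (R.x_t _ _ _).symm
    rw [isConj_iff]
    refine ⟨w * g, ?_⟩
    -- after `g`
    have e1 : g * (R.t * (R.y J b * (R.y K a * l'))) * g⁻¹ = R.t * (R.y J b * R.x K J (b * c) * l') := by
      rw [ginv]
      calc g * (R.t * (R.y J b * (R.y K a * l'))) * g = (g * R.t) * R.y J b * R.y K a * (l' * g) := by group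
        _ = R.t * (g * R.y J b) * (R.y K a * g) * l' := by rw [← tg.eq, ← g3.eq]; group
        _ = R.t * (g * R.y J b * g) * R.y K a * l' := by rw [← g2.eq]; group
        _ = R.t * (R.y J b * R.x J K (b * c) * (R.y K a * R.y K a)) * l' := by rw [g1]; group
        _ = _ := by rw [R.y_sq, mul_one, hxx]; group
    have e2 : w * (R.t * (R.y J b * R.x K J (b * c) * l')) * w⁻¹ = R.t * (R.y J b * l') := by
      have h1 : w * R.t = R.t * (w * R.x K J (b * c)) := by
        rw [← hwt]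
        calc w * R.t = (R.t * R.t) * w * R.t := by rw [R.tt, one_mul]
          _ = _ := by group
      have hx2 : R.x K J (b * c) * R.x K J (b * c) = 1 := R.x_sq _ _ _
      rw [hxx] at yx'
      calc w * (R.t * (R.y J b * R.x K J (b * c) * l')) * w⁻¹
          = (w * R.t) * (R.y J b * R.x K J (b * c) * l') * w⁻¹ := by group
        _ = R.t * w * (R.x K J (b * c) * R.y J b) * R.x K J (b * c) * l' * w⁻¹ := by rw [h1]; group
        _ = R.t * w * R.y J b * (R.x K J (b * c) * R.x K J (b * c)) * l' * w⁻¹ := by rw [yx'.eq]; group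
        _ = R.t * (w * (R.y J b * l')) * w⁻¹ := by rw [hx2]; group
        _ = R.t * (R.y J b * l') := by rw [(w1.mul_right w3).eq]; group
    calc w * g * (R.t * (R.y J b * (R.y K a * l'))) * (w * g)⁻¹
        = w * (g * (R.t * (R.y J b * (R.y K a * l'))) * g⁻¹) * w⁻¹ := by group
      _ = _ := by rw [e1, e2]

theorem nm_Lg [Finite F] (h : DataSE R W) {l : G}
    (hl : l ∈ Lg (GradeOf.Vd (dN dgC) R.XP) (GradeOf.lgd (dN dgC) fun p : PP n => p.1 = p.2) 1) (hl1 : l ≠ 1) :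
    ¬ IsConj R.t (R.t * l) := by
  intro hconj
  have h1 : Lg (GradeOf.Vd (dN dgC) R.XP) (GradeOf.lgd (dN dgC) fun p : PP n => p.1 = p.2) 1 ≤
      YS R Finset.univ := by
    refine Lg_le fun d _ hld => ?_
    obtain ⟨⟨i, j⟩, hp, rfl, hij⟩ := hld
    simp only at hij
    subst hij
    have hX : ∀ p q : PP n, 0 < dN dgC p → dN dgC p = dN dgC q → R.XP p = R.XP q := by
      intro p q hp hpq
      have h1 := dN_pos.1 hp
      have h2 := dN_pos.1 (hpq ▸ hp)
      rcases uniqC (p := p) (q := q) h1 (by rw [← dN_cast h1, ← dN_cast h2, hpq]) with rfl | rfl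
      · rfl
      · exact R.XP_symm _ _
    rw [GradeOf.Vd_eq hX hp, R.XP_ii]
    have hpos : 0 < Fd i + Fd i := dN_pos.1 hp
    rcases i with k | k
    · exact le_iSup₂_of_le (f := fun k (_ : k ∈ Finset.univ) => R.ys (Sum.inl k)) k (Finset.mem_univ k) le_rfl
    · exfalso
      have h2 : Fd (Sum.inr k : Ix n) = -5 ^ ex (Sum.inr k : Ix n) := rfl
      have h3 := pow_pos (show (0 : ℤ) < 5 by norm_num) (ex (Sum.inr k : Ix n))
      omega
  rcases YS_split (h1 hl) with h2 | ⟨k, -, b, hb, l', hl', rfl⟩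
  · exact hl1 h2
  · exact h.nm (Sum.inl k) b hb (hconj.trans (h.conj_single hb _ (Finset.notMem_erase _ _) hl'))

/-- **END (0,O)**. -/
theorem exists_hom [Finite F] [Finite G] (h : DataSE R W)
    (hodd : Odd ((R.UpP ⊔ Subgroup.zpowers R.t).relIndex (Subgroup.centralizer {R.t}))) :
    ∃ m : G →* ℤˣ, m R.t = -1 := by
  refine h.grdS.exists_hom' ?_ ?_ fun l hl hl1 _ _ => h.nm_Lg hl hl1
  · intro ht
    exact R.t_notMem_K (R.N_XP_le_K dgC ht)
  · rw [R.N_XP_C]; exact hodd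

end DataSE

end Cfsg.Agent.OddHalf.SpN

end

-- merged: Cfsg.Agent.OddHalf.SpN.EndL
section

/-!
# END of the pattern (O,0) = `{l}` for `Sp_2n(q)`, all `q` (helper200)
-/

set_option autoImplicit false
set_option maxHeartbeats 400000

namespace Cfsg.Agent.OddHalf.SpN

open Cfsg.Agent.OddHalf.F4.EndO

variable {n : ℕ} {F : Type*} [Field F] {G : Type*} [Group G] [CharP F 2] (R : Frame n F G)

/-- the pieces: long doubled, short not -/
def VL (W : Ix n → Subgroup G) (p : PP n) : Subgroup G := open Classical in if p.1 = p.2 then W p.1 else R.xs p.1 p.2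

theorem VL_ii (W : Ix n → Subgroup G) (i : Ix n) : VL R W (i, i) = W i := if_pos rfl

theorem VL_ij (W : Ix n → Subgroup G) {i j : Ix n} (h : i ≠ j) : VL R W (i, j) = R.xs i j := if_neg h

theorem VL_symm (W : Ix n → Subgroup G) (i j : Ix n) : VL R W (i, j) = VL R W (j, i) := by
  by_cases h : i = j
  · subst h; rfl
  · rw [VL_ij R W h, VL_ij R W (Ne.symm h), R.xs_symm]

/-- bounds of the degrees -/
theorem ex_le (i : Ix n) : ex i ≤ n := by unfold ex; omega

theorem Fd_le_ex (i : Ix n) : Fd i ≤ 5 ^ ex i := by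
  rcases Fd_cases i with h | h
  · rw [h]
  · rw [h]; have := pow_pos (show (0 : ℤ) < 5 by norm_num) (ex i); linarith

theorem pow5_le {a b : ℕ} (h : a ≤ b) : (5 : ℤ) ^ a ≤ 5 ^ b := pow_le_pow_right₀ (by norm_num) h

theorem pow5_lt {a b : ℕ} (h : a < b) : (5 : ℤ) ^ a < 5 ^ b := pow_lt_pow_right₀ (by norm_num) h

theorem Fd_le_n (i : Ix n) : Fd i ≤ 5 ^ n := (Fd_le_ex i).trans (pow5_le (ex_le i))

theorem Fd_add_le {i j : Ix n} (h : Dj i j) : Fd i + Fd j ≤ 5 ^ n + 5 ^ (n - 1) := by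
  have h1 := ex_ne h
  have h2 := ex_le i
  have h3 := ex_le j
  have h4 := Fd_le_ex i
  have h5 := Fd_le_ex j
  rcases lt_or_gt_of_ne h1 with h6 | h6
  · have h7 := pow5_le (show ex i ≤ n - 1 by omega)
    have h8 := pow5_le h3
    linarith only [h4, h5, h7, h8]
  · have h7 := pow5_le (show ex j ≤ n - 1 by omega)
    have h8 := pow5_le h2
    linarith only [h4, h5, h7, h8]

/-- the combinatorial push -/
theorem exists_push (hn : 3 ≤ n) {i j : Ix n} (hij : Dj i j) (hp : 0 < Fd i + Fd j)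
    (hR : Fd i + Fd j ≠ 5 ^ n + 5 ^ (n - 1)) : ∃ k, Dj i k ∧ Dj j k ∧ (Fd j < Fd k ∨ Fd i < Fd k) := by
  have mk : ∀ m : ℕ, m < 3 → ∃ k : Ix n, Fd k = 5 ^ (n - m) ∧ ex k = n - m := fun m hm =>
    ⟨Sum.inl ⟨m, by omega⟩, rfl, rfl⟩
  have dj : ∀ i k : Ix n, ex i ≠ ex k → Dj i k := fun i k h => ⟨fun e => h (by rw [e]),
    fun e => h (by rw [e, ex_neg])⟩
  have hi := ex_le i
  have hj := ex_le j
  have hne := ex_ne hij
  have fi := Fd_le_ex i
  have fj := Fd_le_ex j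
  obtain ⟨k0, f0, e0⟩ := mk 0 (by omega)
  obtain ⟨k1, f1, e1⟩ := mk 1 (by omega)
  obtain ⟨k2, f2, e2⟩ := mk 2 (by omega)
  rw [Nat.sub_zero] at f0 e0
  -- the symmetric half
  have half : ∀ i j : Ix n, Dj i j → 0 < Fd i + Fd j → Fd i + Fd j ≠ 5 ^ n + 5 ^ (n - 1) → ex i = n → 
      ∃ k, Dj i k ∧ Dj j k ∧ Fd j < Fd k := by
    intro i j hij hp hR hi
    have hne := ex_ne hij
    have hj := ex_le j
    by_cases h1 : ex j = n - 1
    · refine ⟨k2, dj _ _ (by omega), dj _ _ (by (clear * - hn e2 h1; omega)), ?_⟩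
      rw [f2]
      have p2 := pow_pos (show (0 : ℤ) < 5 by norm_num) (n - 2)
      have p1 := pow_pos (show (0 : ℤ) < 5 by norm_num) (n - 1)
      have p3 := pow5_lt (show n - 1 < n by omega)
      rcases Fd_cases i with h2 | h2 <;> rcases Fd_cases j with h3 | h3
      all_goals rw [hi] at h2; rw [h1] at h3
      · exfalso; apply hR; rw [h2, h3]
      · linarith only [p2, p1, h3]
      · rw [h2, h3] at hp; linarith only [hp, p3]
      · rw [h2, h3] at hp; linarith only [hp, p1, p3]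
    · refine ⟨k1, dj _ _ (by omega), dj _ _ (by omega), ?_⟩
      rw [f1]
      exact (Fd_le_ex j).trans_lt (pow5_lt (by omega))
  by_cases h1 : ex i = n
  · obtain ⟨k, a, b, c⟩ := half i j hij hp hR h1
    exact ⟨k, a, b, Or.inl c⟩
  · by_cases h2 : ex j = n
    · obtain ⟨k, a, b, c⟩ := half j i hij.symm (by rw [add_comm]; exact hp) (by rw [add_comm (Fd j)]; exact hR) h2
      exact ⟨k, b, a, Or.inr c⟩
    · refine ⟨k0, dj _ _ (by omega), dj _ _ (by omega), Or.inl ?_⟩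
      rw [f0]
      exact fj.trans_lt (pow5_lt (by omega))

namespace DataO

variable {R} {W : Ix n → Subgroup G}

/-- commutators `[w, x]` at positive degrees -/
theorem comm_wx (h : DataO R.t R.x R.y W) (he : ∀ i, ∀ w ∈ W i, w * w = 1) {k i j : Ix n} (hij : Dj i j)
    (hk : 0 < Fd k) (hp : 0 < Fd i + Fd j) {w : G} (hw : w ∈ W k) (a : F) :
    w * R.x i j a * w⁻¹ * (R.x i j a)⁻¹ ∈ ⨆ r : PP n, ⨆ _ : dN dgB (k, k) + dN dgB (i, j) ≤ dN dgB r, VL R W r := by
  have key : ∀ k j : Ix n, Dj (neg k) j → 0 < Fd k → 0 < Fd (neg k) + Fd j → ∀ w ∈ W k, ∀ a : F,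
      w * R.x (neg k) j a * w⁻¹ * (R.x (neg k) j a)⁻¹ ∈
        ⨆ r : PP n, ⨆ _ : dN dgB (k, k) + dN dgB (neg k, j) ≤ dN dgB r, VL R W r := by
    intro k j hkj hk hp w hw a
    have hkj' : Dj k j := dj_neg_left.1 hkj
    obtain ⟨w', hw', d, h2⟩ := h.r2 he hkj'.symm hw a
    obtain ⟨m, hm⟩ := h.ww he hkj' hw hw'
    have gi : (R.x (neg k) j a)⁻¹ = R.x (neg k) j a := R.x_inv _ _ _
    have wi : w⁻¹ = w := inv_eq_of_mul_eq_one_left (he k w hw)
    have wi' : w'⁻¹ = w' := inv_eq_of_mul_eq_one_left (he j w' hw')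
    have e0 : R.x (neg k) j a * w * (R.x (neg k) j a)⁻¹ = R.x j k d * (w * w') := by rw [gi]; exact h2
    have e1 : w * R.x (neg k) j a * w⁻¹ * (R.x (neg k) j a)⁻¹ = R.x k j m * w' * R.x j k d := by
      calc w * R.x (neg k) j a * w⁻¹ * (R.x (neg k) j a)⁻¹
          = w * (R.x (neg k) j a * w * (R.x (neg k) j a)⁻¹)⁻¹ := by group
        _ = w * w'⁻¹ * w⁻¹ * (R.x j k d)⁻¹ := by rw [e0]; group
        _ = w * w' * w * R.x j k d := by rw [wi', wi, R.x_inv]
        _ = (w * w' * w * w') * w'⁻¹ * R.x j k d := by group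
        _ = R.x k j m * w' * R.x j k d := by rw [hm, wi']
    rw [e1]
    rw [Fd_neg] at hp
    have d1 : dgB k k = Fd k := dgB_ii k
    have d2 : dgB (neg k) j = -Fd k + Fd j := by rw [dgB_ij hkj.1, Fd_neg]
    have d3 : dgB k j = Fd k + Fd j := dgB_ij hkj'.1
    have d4 : dgB j k = Fd j + Fd k := dgB_ij hkj'.1.symm
    have d5 : dgB j j = Fd j := dgB_ii j
    have m1 : R.x k j m ∈ VL R W (k, j) := by rw [VL_ij R W hkj'.1]; exact ⟨m, rfl⟩
    have m2 : w' ∈ VL R W (j, j) := by rw [VL_ii]; exact hw'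
    have m3 : R.x j k d ∈ VL R W (j, k) := by rw [VL_ij R W hkj'.1.symm]; exact ⟨d, rfl⟩
    refine mul_mem (mul_mem ?_ ?_) ?_
    · refine le_iSupP (r := (k, j)) (S := fun r => dN dgB (k, k) + dN dgB (neg k, j) ≤ dN dgB r) ?_ m1
      unfold dN; simp only; rw [d1, d2, d3]; (clear * - hk hp; omega)
    · refine le_iSupP (r := (j, j)) (S := fun r => dN dgB (k, k) + dN dgB (neg k, j) ≤ dN dgB r) ?_ m2
      unfold dN; simp only; rw [d1, d2, d5]; (clear * - hk hp; omega)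
    · refine le_iSupP (r := (j, k)) (S := fun r => dN dgB (k, k) + dN dgB (neg k, j) ≤ dN dgB r) ?_ m3
      unfold dN; simp only; rw [d1, d2, d4]; (clear * - hk hp; omega)
  by_cases h1 : i = neg k
  · subst h1; exact key k j hij hk hp w hw a
  by_cases h2 : j = neg k
  · subst h2
    have h3 := key k i hij.symm hk (by omega) w hw a
    have h4 : dN dgB (i, neg k) = dN dgB (neg k, i) := by unfold dN; rw [dgB_symm]
    rw [R.x_symm i (neg k), h4]
    exact h3
  have hc : Commute w (R.x i j a) := by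
    by_cases h3 : k = i
    · subst h3; exact h.Wx k j hij w hw a
    by_cases h4 : k = j
    · subst h4; rw [R.x_symm]; exact h.Wx k i hij.symm w hw a
    exact h.Wx' k i j ⟨h3, fun e => h1 (by rw [e, neg_neg])⟩ ⟨h4, fun e => h2 (by rw [e, neg_neg])⟩ hij w hw a
  have : w * R.x i j a * w⁻¹ * (R.x i j a)⁻¹ = 1 := by rw [hc.eq]; group
  rw [this]; exact one_mem _

theorem grdL (hn : 3 ≤ n) (h : DataO R.t R.x R.y W) (he : ∀ i, ∀ w ∈ W i, w * w = 1) :
    Grd R.t (GradeOf.Vd (dN dgB) (VL R W)) (GradeOf.Vd (dN dgB) R.XP)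
      (GradeOf.lgd (dN dgB) fun p : PP n => p.1 ≠ p.2) (5 ^ n + 5 ^ (n - 1)) (2 * 5 ^ n) := by
  have uniq : ∀ p q : PP n, 0 < dN dgB p → dN dgB p = dN dgB q → p = q ∨ p = (q.2, q.1) := by
    intro p q hp hpq
    have h1 := dN_pos.1 hp
    have h2 := dN_pos.1 (hpq ▸ hp)
    refine uniqB h1 ?_
    rw [← dN_cast h1, ← dN_cast h2, hpq]
  have dj : ∀ p : PP n, 0 < dN dgB p → p.1 ≠ p.2 → Dj p.1 p.2 := fun p hp hne => dj_of_dgB hne (dN_pos.1 hp)
  refine GradeOf.grd ?_ ?_ ?_ R.tt ?_ ?_ ?_ ?_ ?_ ?_ ?_ ?_ ?_ ?_ ?_ ?_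
  · intro p q hp hpq
    rcases uniq p q hp hpq with rfl | rfl
    · rfl
    · exact VL_symm R W _ _
  · intro p q hp hpq
    rcases uniq p q hp hpq with rfl | rfl
    · rfl
    · exact R.XP_symm _ _
  · intro p q hp hpq hl
    rcases uniq p q hp hpq with rfl | rfl
    · exact hl
    · exact Ne.symm hl
  · rintro ⟨i, j⟩ hp v hv
    by_cases hij : i = j
    · subst hij
      rw [VL_ii] at hv ⊢
      obtain ⟨a, ha⟩ := h.d i v hv
      rw [ha]; exact mul_mem hv (h.yW i a)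
    · have hx := hv
      rw [VL_ij R W hij, ← R.XP_ij hij] at hx
      rw [R.XP_fix hx]; exact hv
  · rintro ⟨i, j⟩ hp v hv
    by_cases hij : i = j
    · subst hij
      rw [VL_ii] at hv
      exact he i v hv
    · rw [VL_ij R W hij, ← R.XP_ij hij] at hv
      exact R.XP_sq hv
  · rintro ⟨i, j⟩ hp
    by_cases hij : i = j
    · subst hij
      rw [VL_ii, R.XP_ii]
      rintro _ ⟨a, rfl⟩
      exact h.yW i a
    · rw [VL_ij R W hij, R.XP_ij hij]
  · intro p hp x hx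
    exact R.XP_fix hx
  · rintro ⟨i, j⟩ hp v hv hf
    by_cases hij : i = j
    · subst hij
      rw [VL_ii] at hv
      rw [R.XP_ii]
      obtain ⟨a, ha⟩ := h.fix i v hv hf
      exact ⟨a, ha⟩
    · rw [VL_ij R W hij] at hv
      rw [R.XP_ij hij]; exact hv
  · rintro ⟨i, j⟩ hp hl x hx
    have hij : i = j := by
      by_contra h'; exact hl h'
    subst hij
    rw [R.XP_ii] at hx
    rw [VL_ii]
    obtain ⟨a, rfl⟩ := hx
    obtain ⟨w, hw, hw'⟩ := h.onto i a
    exact ⟨w, hw, by rw [hw']; group⟩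
  · rintro ⟨i, j⟩ hp hl
    rw [VL_ij R W hl, R.XP_ij hl]
  · rintro ⟨i, j⟩ ⟨k, l⟩ hp hq hne v hv w hw
    have hp' := dN_pos.1 hp
    have hq' := dN_pos.1 hq
    simp only at hp' hq'
    by_cases hij : i = j
    · subst hij
      rw [VL_ii] at hv
      rw [dgB_ii] at hp'
      by_cases hkl : k = l
      · subst hkl
        rw [VL_ii] at hw
        rw [dgB_ii] at hq'
        have hik : i ≠ k := fun e => hne (by rw [e])
        have hd : Dj i k := ⟨hik, fun e => by rw [e, Fd_neg] at hp'; omega⟩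
        obtain ⟨d, hd'⟩ := h.ww he hd hv hw
        have e1 : v * w * v⁻¹ * w⁻¹ = R.x i k d := by
          rw [inv_eq_of_mul_eq_one_left (he i v hv), inv_eq_of_mul_eq_one_left (he k w hw), hd']
        rw [e1]
        refine le_iSupP (r := (i, k)) (S := fun r => dN dgB (i, i) + dN dgB (k, k) ≤ dN dgB r) ?_ (by
          rw [VL_ij R W hik]; exact ⟨d, rfl⟩)
        have d1 : dgB i i = Fd i := dgB_ii i
        have d2 : dgB k k = Fd k := dgB_ii k
        have d3 : dgB i k = Fd i + Fd k := dgB_ij hik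
        unfold dN; simp only; rw [d1, d2, d3]; omega
      · have hd := dj_of_dgB hkl hq'
        rw [VL_ij R W hkl] at hw
        obtain ⟨a, rfl⟩ := hw
        rw [dgB_ij hkl] at hq'
        exact h.comm_wx he hd hp' hq' hv a
    · have hd := dj_of_dgB hij hp'
      rw [VL_ij R W hij] at hv
      obtain ⟨a, rfl⟩ := hv
      rw [dgB_ij hij] at hp'
      by_cases hkl : k = l
      · subst hkl
        rw [VL_ii] at hw
        rw [dgB_ii] at hq'
        have h1 := h.comm_wx he hd hq' hp' hw a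
        have h2 := inv_mem h1
        have h3 : (w * R.x i j a * w⁻¹ * (R.x i j a)⁻¹)⁻¹ = R.x i j a * w * (R.x i j a)⁻¹ * w⁻¹ := by group
        rw [h3, add_comm] at h2
        exact h2
      · have hd' := dj_of_dgB hkl hq'
        rw [VL_ij R W hkl] at hw
        obtain ⟨b, rfl⟩ := hw
        rw [dgB_ij hkl] at hq'
        rcases R.comm_xx hd hd' hp' hq' a b with h1 | ⟨r, s, c, hrs, hdeg, h1⟩
        · rw [h1]; exact one_mem _
        · rw [h1]
          refine le_iSupP (r := (r, s)) (S := fun r => dN dgB (i, j) + dN dgB (k, l) ≤ dN dgB r) ?_ (by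
            rw [VL_ij R W hrs.1]; exact ⟨c, rfl⟩)
          have d1 : dgB i j = Fd i + Fd j := dgB_ij hij
          have d2 : dgB k l = Fd k + Fd l := dgB_ij hkl
          have d3 : dgB r s = Fd r + Fd s := dgB_ij hrs.1
          unfold dN; simp only; rw [d1, d2, d3]; (clear * - hp' hq' hdeg; omega)
  · rintro ⟨i, j⟩ ⟨k, l⟩ hp hq hne hij hkl v hv w hw
    have hp' := dN_pos.1 hp
    have hq' := dN_pos.1 hq
    simp only at hp' hq' hij hkl
    have hd := dj_of_dgB hij hp'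
    have hd' := dj_of_dgB hkl hq'
    rw [R.XP_ij hij] at hv
    rw [R.XP_ij hkl] at hw
    obtain ⟨a, rfl⟩ := hv
    obtain ⟨b, rfl⟩ := hw
    rw [dgB_ij hij] at hp'
    rw [dgB_ij hkl] at hq'
    rcases R.comm_xx hd hd' hp' hq' a b with h1 | ⟨r, s, c, hrs, hdeg, h1⟩
    · rw [h1]; exact one_mem _
    · rw [h1]
      refine le_iSupP (r := (r, s)) (S := fun r => dN dgB (i, j) + dN dgB (k, l) ≤ dN dgB r ∧ r.1 ≠ r.2) ?_ (by
        rw [R.XP_ij hrs.1]; exact ⟨c, rfl⟩)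
      have d1 : dgB i j = Fd i + Fd j := dgB_ij hij
      have d2 : dgB k l = Fd k + Fd l := dgB_ij hkl
      have d3 : dgB r s = Fd r + Fd s := dgB_ij hrs.1
      refine ⟨?_, hrs.1⟩
      unfold dN; simp only; rw [d1, d2, d3]; (clear * - hp' hq' hdeg; omega)
  · rintro ⟨i, j⟩
    have h1 := Fd_le_n i
    have h2 := Fd_le_n j
    have h3 := pow_pos (show (0 : ℤ) < 5 by norm_num) n
    have h4 : dgB i j ≤ 2 * 5 ^ n := by
      by_cases hij : i = j
      · rw [← hij, dgB_ii]; linarith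
      · rw [dgB_ij hij]; linarith
    unfold dN
    simp only
    have : ((2 * 5 ^ n : ℕ) : ℤ) = 2 * 5 ^ n := by push_cast; rfl
    omega
  · intro p hp
    exact R.indepP dgB_ok dgB_symm (fun i j => dj_of_dgB) hp
  · rintro ⟨i, j⟩ hp hl
    have hp' := dN_pos.1 hp
    have hd := dj_of_dgB hl hp'
    have h1 : Fd i + Fd j ≤ 5 ^ n + 5 ^ (n - 1) := Fd_add_le hd
    have h2 : dgB i j = Fd i + Fd j := dgB_ij hl
    have h3 := pow_pos (show (0 : ℤ) < 5 by norm_num) n
    have h4 := pow_pos (show (0 : ℤ) < 5 by norm_num) (n - 1)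
    unfold dN
    simp only
    rw [h2]
    have : ((5 ^ n + 5 ^ (n - 1) : ℕ) : ℤ) = 5 ^ n + 5 ^ (n - 1) := by push_cast; rfl
    omega

omit [CharP F 2] in
theorem dN_symm (i j : Ix n) : dN dgB (i, j) = dN dgB (j, i) := by unfold dN; rw [dgB_symm]

theorem XP_dgB {p q : PP n} (hp : 0 < dN dgB p) (hpq : dN dgB p = dN dgB q) : R.XP p = R.XP q := by
  have h1 := dN_pos.1 hp
  have h2 := dN_pos.1 (hpq ▸ hp)
  rcases uniqB (p := p) (q := q) h1 (by rw [← dN_cast h1, ← dN_cast h2, hpq]) with rfl | rfl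
  · rfl
  · exact R.XP_symm _ _

theorem pushL (hn : 3 ≤ n) (d : ℕ) (hd : 1 ≤ d) (hld : GradeOf.lgd (dN dgB) (fun p : PP n => p.1 ≠ p.2) d)
    (hR : d ≠ 5 ^ n + 5 ^ (n - 1)) (x : G) (hx : x ∈ GradeOf.Vd (dN dgB) R.XP d) (hx1 : x ≠ 1) :
    ∃ j, 1 ≤ j ∧ GradeOf.lgd (dN dgB) (fun p : PP n => p.1 ≠ p.2) j ∧
      GradeOf.lgd (dN dgB) (fun p : PP n => p.1 ≠ p.2) (d + j) ∧
      ∃ y ∈ GradeOf.Vd (dN dgB) R.XP j, y * x * y⁻¹ * x⁻¹ ∈ GradeOf.Vd (dN dgB) R.XP (d + j) ∧ y * x ≠ x * y := by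
  have hX : ∀ p q : PP n, 0 < dN dgB p → dN dgB p = dN dgB q → R.XP p = R.XP q := by
    intro p q hp hpq
    exact XP_dgB hp hpq
  have h5n := pow_pos (show (0 : ℤ) < 5 by norm_num) n
  have h5n' := pow_pos (show (0 : ℤ) < 5 by norm_num) (n - 1)
  have hRc : ((5 ^ n + 5 ^ (n - 1) : ℕ) : ℤ) = 5 ^ n + 5 ^ (n - 1) := by push_cast; rfl
  obtain ⟨⟨i, j⟩, hp, rfl, hij⟩ := hld
  simp only at hij
  rw [GradeOf.Vd_eq hX hp, R.XP_ij hij] at hx
  obtain ⟨a, rfl⟩ := hx
  have hp' := dN_pos.1 hp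
  have hdj := dj_of_dgB hij hp'
  have hdg : dgB i j = Fd i + Fd j := dgB_ij hij
  have hdN : (dN dgB (i, j) : ℤ) = Fd i + Fd j := by rw [dN_cast hp']; exact hdg
  have hpos : 0 < Fd i + Fd j := by rw [← hdg]; exact hp'
  obtain ⟨k, hik, hjk, hk⟩ := exists_push hn hdj hpos (by
    intro e
    apply hR
    have : (dN dgB (i, j) : ℤ) = ((5 ^ n + 5 ^ (n - 1) : ℕ) : ℤ) := by rw [hdN, e, hRc]
    exact_mod_cast this)
  have main : ∀ i j : Ix n, Dj i j → Dj i k → Dj j k → 0 < Fd i + Fd j → Fd j < Fd k → R.x i j a ≠ 1 →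
      ∃ e, 1 ≤ e ∧ GradeOf.lgd (dN dgB) (fun p : PP n => p.1 ≠ p.2) e ∧
        GradeOf.lgd (dN dgB) (fun p : PP n => p.1 ≠ p.2) (dN dgB (i, j) + e) ∧
        ∃ y ∈ GradeOf.Vd (dN dgB) R.XP e, y * R.x i j a * y⁻¹ * (R.x i j a)⁻¹ ∈
          GradeOf.Vd (dN dgB) R.XP (dN dgB (i, j) + e) ∧ y * R.x i j a ≠ R.x i j a * y := by
    intro i j hij hik hjk hpos hk hx1
    have hjk' : Dj (neg j) k := dj_neg_left.2 hjk
    have d1 : dgB (neg j) k = -Fd j + Fd k := by rw [dgB_ij hjk'.1, Fd_neg]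
    have d2 : dgB i j = Fd i + Fd j := dgB_ij hij.1
    have d3 : dgB i k = Fd i + Fd k := dgB_ij hik.1
    have n1 : (dN dgB (neg j, k) : ℤ) = -Fd j + Fd k := by rw [dN_cast (by simp only; omega)]; exact d1
    have n2 : (dN dgB (i, j) : ℤ) = Fd i + Fd j := by rw [dN_cast (by simp only; omega)]; exact d2
    have n3 : (dN dgB (i, k) : ℤ) = Fd i + Fd k := by rw [dN_cast (by simp only; omega)]; exact d3
    have n4 : dN dgB (i, j) + dN dgB (neg j, k) = dN dgB (i, k) := by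
      have : ((dN dgB (i, j) + dN dgB (neg j, k) : ℕ) : ℤ) = (dN dgB (i, k) : ℤ) := by
        push_cast; rw [n1, n2, n3]; ring
      exact_mod_cast this
    have e1 : R.x (neg j) k 1 * R.x i j a * (R.x (neg j) k 1)⁻¹ * (R.x i j a)⁻¹ = R.x i k a := by
      have h1 := R.rels.ss i j k a 1 hij hjk hik
      rw [mul_one] at h1
      have h2 : Commute (R.x i k a) (R.x i j a) := R.x_comm (ne_neg i) hik.2 hij.symm.2 hjk.2 _ _
      rw [R.x_inv (neg j), h1, ← h2.eq]; group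
    have pk : 0 < dN dgB (neg j, k) := by (clear * - hk n1; omega)
    have pk' : 0 < dN dgB (i, k) := by (clear * - hk n2 n3; omega)
    refine ⟨dN dgB (neg j, k), by (clear * - hk n1; omega), ⟨(neg j, k), pk, rfl, hjk'.1⟩, ?_, R.x (neg j) k 1, ?_, ?_, ?_⟩
    · rw [n4]; exact ⟨(i, k), pk', rfl, hik.1⟩
    · rw [GradeOf.Vd_eq hX pk, R.XP_ij hjk'.1]; exact ⟨1, rfl⟩
    · rw [n4, GradeOf.Vd_eq hX pk', R.XP_ij hik.1, e1]; exact ⟨a, rfl⟩
    · intro hc
      have h1 : R.x i k a = 1 := by rw [← e1, hc]; group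
      have h2 := R.x_eq_one hik h1
      apply hx1
      rw [h2, R.x_zero]
  rcases hk with hk | hk
  · exact main i j hdj hik hjk hpos hk hx1
  · have h1 := main j i hdj.symm hjk hik (by omega) hk (by rw [R.x_symm]; exact hx1)
    rw [R.x_symm j i, dN_symm j i] at h1
    exact h1

theorem nmL (hn : 3 ≤ n) (h : DataO R.t R.x R.y W) :
    ∀ x ∈ GradeOf.Vd (dN dgB) R.XP (5 ^ n + 5 ^ (n - 1)), x ≠ 1 → ¬ IsConj R.t (R.t * x) := by
  have hX : ∀ p q : PP n, 0 < dN dgB p → dN dgB p = dN dgB q → R.XP p = R.XP q := by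
    intro p q hp hpq
    exact XP_dgB hp hpq
  have h5n := pow_pos (show (0 : ℤ) < 5 by norm_num) n
  have h5n' := pow_pos (show (0 : ℤ) < 5 by norm_num) (n - 1)
  have hRc : ((5 ^ n + 5 ^ (n - 1) : ℕ) : ℤ) = 5 ^ n + 5 ^ (n - 1) := by push_cast; rfl
  intro x hx hx1
  let k0 : Ix n := Sum.inl ⟨0, by omega⟩
  let k1 : Ix n := Sum.inl ⟨1, by omega⟩
  have h01 : Dj k0 k1 := by
    refine ⟨fun e => ?_, fun e => ?_⟩
    · have := congrArg ex e
      have e0 : ex k0 = n := rfl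
      have e1 : ex k1 = n - 1 := rfl
      omega
    · have := congrArg ex e
      rw [ex_neg] at this
      have e0 : ex k0 = n := rfl
      have e1 : ex k1 = n - 1 := rfl
      omega
  have d0 : dgB k0 k1 = 5 ^ n + 5 ^ (n - 1) := dgB_ij h01.1
  have n0 : dN dgB (k0, k1) = 5 ^ n + 5 ^ (n - 1) := by
    have : (dN dgB (k0, k1) : ℤ) = ((5 ^ n + 5 ^ (n - 1) : ℕ) : ℤ) := by
      rw [dN_cast (by simp only; omega), hRc]; exact d0
    exact_mod_cast this
  have p0 : 0 < dN dgB (k0, k1) := by rw [n0]; positivity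
  rw [← n0, GradeOf.Vd_eq hX p0, R.XP_ij h01.1] at hx
  obtain ⟨a, rfl⟩ := hx
  refine h.nm k0 k1 a h01 ?_
  rintro rfl
  exact hx1 (R.x_zero _ _)

/-- **END (O,0)**. -/
theorem exists_hom [Finite G] (hn : 3 ≤ n) (h : DataO R.t R.x R.y W) (he : ∀ i, ∀ w ∈ W i, w * w = 1)
    (hodd : Odd ((R.UpP ⊔ Subgroup.zpowers R.t).relIndex (Subgroup.centralizer {R.t}))) :
    ∃ m : G →* ℤˣ, m R.t = -1 := by
  refine (h.grdL hn he).exists_hom (fun d hd hld hR x hx hx1 => pushL hn d hd hld hR x hx hx1) ?_ ?_ (h.nmL hn)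
  · intro ht
    exact R.t_notMem_K (R.N_XP_le_K dgB ht)
  · rw [R.N_XP_B]; exact hodd

end DataO

end Cfsg.Agent.OddHalf.SpN

end

-- merged: Cfsg.Agent.OddHalf.SpN.OfDL
section

/-!
# Pattern `{l}` from helper570's structure `DL` (helper200)
-/

set_option autoImplicit false
set_option maxHeartbeats 400000

namespace Cfsg.Agent.OddHalf.SpN

variable {n : ℕ} {F : Type*} [Field F] {G : Type*} [Group G] [CharP F 2] {R : Frame n F G}

theorem exists_root [Finite F] (a : F) : ∃ b : F, b ^ 2 = a := by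
  have : Function.Surjective (fun x : F => x ^ 2) := by
    refine Finite.injective_iff_surjective.mp ?_
    intro x y hxy
    have h0 : (x - y) * (x - y) = 0 := by
      have : x ^ 2 = y ^ 2 := hxy
      linear_combination this - (x * y - y ^ 2) * (two0 : (2 : F) = 0)
    exact sub_eq_zero.mp (mul_self_eq_zero.mp h0)
  exact this a

/-- `DataO` from the long doubles if short root elements are not moved -/
theorem DL.dataO [Finite F] (hn : 3 ≤ n) {γ : F} (D : DL R γ)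
    (nm : ∀ i j a, Dj i j → a ≠ 0 → ¬ IsConj R.t (R.t * R.x i j a)) : DataO R.t R.x R.y D.V where
  toRels := R.rels
  yW := D.y_mem
  Wsq := fun i w hw => by
    obtain ⟨u, hu⟩ := D.ht i w hw
    refine D.ker i (w * w) (mul_mem hw hw) ?_
    have hc : Commute w (R.y i u) := D.cy i w hw u
    calc R.t * (w * w) * R.t = R.t * w * (R.t * R.t)⁻¹ * w * R.t := by rw [R.tt]; group
      _ = (R.t * w * R.t) * (R.t * w * R.t) := by
        have : (R.t * R.t)⁻¹ = R.t * R.t := by rw [R.tt, inv_one]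
        rw [this]; group
      _ = w * (R.y i u * w) * R.y i u := by rw [hu]; group
      _ = w * w * (R.y i u * R.y i u) := by rw [← hc.eq]; group
      _ = w * w := by rw [R.y_sq, mul_one]
  Wy := fun i w hw a => D.cy i w hw a
  d := fun i w hw => D.ht i w hw
  onto := fun i a => D.onto i a
  fix := fun i w hw hf => D.ker i w hw hf
  Wx := fun i j hij w hw a => D.cx i w hw i j a (ne_neg i) hij.symm.2
  Wx' := fun i j k hij hik _ w hw a => D.cx i w hw j k a hij.symm.2 hik.symm.2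
  cent := fun i j hij g hg h0 hl _ => R.cent_short hn hij hg h0 hl
  nm := nm
  three := exists_dj hn
  root := exists_root

/-- **pattern `{l}`**, `q ≥ 4`: a homomorphism to `{±1}` with `t ↦ -1`. -/
theorem DL.exists_hom [Finite F] [Finite G] (hn : 3 ≤ n) {γ : F} (D : DL R γ) (hq : 3 ≤ Nat.card F)
    (nm : ∀ i j a, Dj i j → a ≠ 0 → ¬ IsConj R.t (R.t * R.x i j a))
    (hodd : Odd ((R.UpP ⊔ Subgroup.zpowers R.t).relIndex (Subgroup.centralizer {R.t}))) :
    ∃ m : G →* ℤˣ, m R.t = -1 := by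
  have h := D.dataO hn nm
  refine h.exists_hom hn (h.elem (fun i w hw w' hw' => D.comm i w hw w' hw') ?_) hodd
  intro b hb
  -- `b' ∉ {0, b}`
  have := Fintype.ofFinite F
  classical
  obtain ⟨b', hb'⟩ := Finset.exists_mem_notMem_of_card_lt_card (s := ({0, b} : Finset F)) (t := Finset.univ) (by
    refine lt_of_le_of_lt Finset.card_le_two ?_
    rw [Finset.card_univ, ← Nat.card_eq_fintype_card]; omega)
  have h2 := hb'.2
  rw [Finset.mem_insert, Finset.mem_singleton, not_or] at h2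
  refine ⟨b', h2.1, fun e => h2.2 ?_⟩
  have : b' = -b := by linear_combination e
  rw [this, CharTwo.neg_eq]

end Cfsg.Agent.OddHalf.SpN

end

-- merged: Cfsg.Agent.OddHalf.SpN.OfDS
section

/-!
# Patterns `{l}` and `{s}` in the clean case, `q ≥ 4` (helper200)
-/

set_option autoImplicit false
set_option maxHeartbeats 400000

namespace Cfsg.Agent.OddHalf.SpN

open scoped commutatorElement

variable {n : ℕ} {F : Type*} [Field F] {G : Type*} [Group G] [CharP F 2] {R : Frame n F G}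

/-- the two descriptions of the positive unipotent group -/
theorem UpP_eq (R : Frame n F G) : R.UpP = R.Up := by
  rw [R.Up_eq_closure]
  apply le_antisymm
  · refine iSup₂_le ?_
    rintro ⟨i, j⟩ hr
    simp only at hr
    by_cases hij : i = j
    · subst hij
      rw [R.XP_ii]
      rintro _ ⟨a, rfl⟩
      exact Subgroup.subset_closure (Or.inr ⟨i, by omega, a, rfl⟩)
    · rw [R.XP_ij hij]
      rintro _ ⟨a, rfl⟩
      exact Subgroup.subset_closure (Or.inl ⟨i, j, dj_of_dgC hij hr, hr, a, rfl⟩)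
  · rw [Subgroup.closure_le]
    rintro _ (⟨i, j, hij, h, a, rfl⟩ | ⟨i, h, a, rfl⟩)
    · exact le_iSupP (V := R.XP) (r := (i, j)) (S := fun q : PP n => 0 < Fd q.1 + Fd q.2) h (by
        rw [R.XP_ij hij.1]; exact ⟨a, rfl⟩)
    · exact le_iSupP (V := R.XP) (r := (i, i)) (S := fun q : PP n => 0 < Fd q.1 + Fd q.2) (by simp only; omega) (by
        rw [R.XP_ii]; exact ⟨a, rfl⟩)

/-- (3.2): if long root elements are not moved then `δ = 1`. -/
theorem DS.delta_eq_one {δ : F} (D : DS R δ) {i j : Ix n} (hij : Dj i j)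
    (nm : ∀ i a, a ≠ 0 → ¬ IsConj R.t (R.t * R.y i a)) : δ = 1 := by
  by_contra hne
  have hδ : 1 + δ ≠ 0 := by
    intro h
    apply hne
    have : δ = -1 := by linear_combination h
    rw [this, CharTwo.neg_eq]
  have hij' : Dj i (neg j) := dj_neg_right.2 hij
  obtain ⟨w, hw, hwt⟩ := D.onto i j hij 1
  obtain ⟨w', hw', hwt'⟩ := D.onto i (neg j) hij' 1
  set g := R.y (neg j) 1 with hg
  have gg : g * g = 1 := R.y_sq _ _
  have ginv : g⁻¹ = g := inv_eq_of_mul_eq_one_left gg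
  have tg : Commute R.t g := (R.y_t _ _).symm
  have ti := R.t_inv
  -- `g x_ij(1) g = x_ij(1) x_{i,-j}(1) y_i(1)`
  have gx : g * R.x i j 1 * g = R.x i j 1 * R.x i (neg j) 1 * R.y i 1 := by
    have h1 := R.rels.sl (neg j) i 1 1 (dj_neg_left.2 hij.symm)
    rw [neg_neg, mul_one, one_pow, mul_one] at h1
    -- `x_{j,i} y_{-j} x_{j,i} = y_{-j} x_{-j,i} y_i`
    rw [R.x_symm j i, R.x_symm (neg j) i, ← hg] at h1
    have h2 : R.x i j 1 * R.x i j 1 = 1 := R.x_sq _ _ _
    calc g * R.x i j 1 * g = g * (R.x i j 1 * g * R.x i j 1) * R.x i j 1 := by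
          calc g * R.x i j 1 * g = g * R.x i j 1 * g * (R.x i j 1 * R.x i j 1) := by rw [h2, mul_one]
            _ = _ := by group
      _ = (g * g) * R.x i (neg j) 1 * (R.y i 1 * R.x i j 1) := by rw [h1]; group
      _ = R.x i (neg j) 1 * (R.x i j 1 * R.y i 1) := by
        rw [gg, one_mul, (R.y_x_comm (ne_neg i) hij.symm.2 1 1).eq]
      _ = _ := by
        have h3 := R.rels.xx' i j 1 1
        rw [← mul_assoc, ← h3.eq]
  set u := g * w * g with hu
  have tu : R.t * u * R.t = u * (R.x i j 1 * R.x i (neg j) 1 * R.y i 1) := by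
    have tgt : R.t * g * R.t = g := R.t_of_comm tg.symm
    calc R.t * (g * w * g) * R.t = (R.t * g * R.t) * (R.t * w * R.t) * (R.t * g * R.t) := by rw [R.t_mul, R.t_mul]
      _ = g * w * (g * g) * R.x i j 1 * g := by rw [tgt, hwt, gg]; group
      _ = (g * w * g) * (g * R.x i j 1 * g) := by group
      _ = _ := by rw [gx]
  have t_of : ∀ v z : G, R.t * v * R.t = v * z → v⁻¹ * R.t * v = z * R.t := by
    intro v z hv
    calc v⁻¹ * R.t * v = v⁻¹ * (R.t * v * R.t) * R.t⁻¹ := by group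
      _ = z * R.t := by rw [hv, ti]; group
  have e1 := t_of _ _ tu
  have e2 := t_of _ _ hwt
  have e3 := t_of _ _ hwt'
  have e4 := D.par i (neg j) hij' w' hw' 1 hwt' 1
  rw [neg_neg, mul_one, mul_one] at e4
  -- `w'⁻¹ x_ij(1) w' = x_ij(1) y_i(δ)`
  have hy : Commute w' (R.y i δ) := D.cy i (neg j) hij' w' hw' i δ (ne_neg i) (by rw [neg_neg]; exact hij.1)
  have hyx : Commute (R.y i δ) (R.x i j 1) := R.y_x_comm (ne_neg i) hij.symm.2 _ _
  have e5 : w'⁻¹ * R.x i j 1 * w' = R.x i j 1 * R.y i δ := by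
    rw [commutatorElement_def] at e4
    have h1 : w' * R.x i j 1 * w'⁻¹ = R.y i δ * R.x i j 1 := by rw [← e4]; group
    have h2 : R.x i j 1 = w'⁻¹ * R.y i δ * w' * (w'⁻¹ * R.x i j 1 * w') := by
      calc R.x i j 1 = w'⁻¹ * (w' * R.x i j 1 * w'⁻¹) * w' := by group
        _ = _ := by rw [h1]; group
    have h3 : w'⁻¹ * R.y i δ * w' = R.y i δ := by rw [mul_assoc, ← hy.eq]; group
    rw [h3] at h2
    calc w'⁻¹ * R.x i j 1 * w' = R.y i δ * (R.y i δ * (w'⁻¹ * R.x i j 1 * w')) := by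
          rw [← mul_assoc, R.y_sq, one_mul]
      _ = R.x i j 1 * R.y i δ := by rw [← h2, hyx.eq]
  have ux : ∀ a, Commute u (R.y i a) := by
    intro a
    have c1 : Commute g (R.y i a) := R.y_comm (by rw [neg_neg]; exact hij.1) _ _
    have c2 : Commute w (R.y i a) := D.cy i j hij w hw i a (ne_neg i) hij.2
    exact (c1.mul_left c2).mul_left c1
  have e6 : (w * w')⁻¹ * R.t * (w * w') = (u⁻¹ * R.t * u) * R.y i (1 + δ) := by
    have c1 : Commute (R.y i δ) (R.x i (neg j) 1) := R.y_x_comm (ne_neg i) hij'.symm.2 _ _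
    have c2 : Commute R.t (R.y i (1 + δ)) := (R.y_t _ _).symm
    rw [e1]
    calc (w * w')⁻¹ * R.t * (w * w') = w'⁻¹ * (w⁻¹ * R.t * w) * w' := by group
      _ = (w'⁻¹ * R.x i j 1 * w') * (w'⁻¹ * R.t * w') := by rw [e2]; group
      _ = R.x i j 1 * (R.y i δ * R.x i (neg j) 1) * R.t := by rw [e5, e3]; group
      _ = R.x i j 1 * R.x i (neg j) 1 * R.y i δ * R.t := by rw [c1.eq]; group
      _ = R.x i j 1 * R.x i (neg j) 1 * (R.y i 1 * R.y i (1 + δ)) * R.t := by
        rw [← R.y_add, ← add_assoc, CharTwo.add_self_eq_zero, zero_add]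
      _ = R.x i j 1 * R.x i (neg j) 1 * R.y i 1 * (R.y i (1 + δ) * R.t) := by group
      _ = _ := by rw [← c2.eq]; group
  refine nm i (1 + δ) hδ ?_
  rw [isConj_iff]
  refine ⟨u * (w * w')⁻¹, ?_⟩
  calc u * (w * w')⁻¹ * R.t * (u * (w * w')⁻¹)⁻¹ = u * ((w * w')⁻¹ * R.t * (w * w')) * u⁻¹ := by group
    _ = u * ((u⁻¹ * R.t * u) * R.y i (1 + δ)) * u⁻¹ := by rw [e6]
    _ = R.t * (u * R.y i (1 + δ) * u⁻¹) := by group
    _ = R.t * R.y i (1 + δ) := by rw [(ux _).eq]; group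

/-- the relations of pattern `{s}`, `q ≥ 4` -/
theorem DS.dataSE [Finite F] (hn : 3 ≤ n) (hF : ∃ μ : Fˣ, (μ : F) ≠ 1) (D : DS R (1 : F))
    (nm : ∀ i a, a ≠ 0 → ¬ IsConj R.t (R.t * R.y i a)) : DataSE R D.W where
  symm := D.symm
  xW := fun i j _ a => D.x_mem i j a
  sq := fun i k hik w hw => by
    obtain ⟨j, hij, hkj⟩ := exists_dj hn i k
    exact D.sq hF (R.ks hn hF) hij hik hkj.symm hw
  d := fun i j hij w hw => D.ht i j hij w hw
  onto := fun i j hij a => D.onto i j hij a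
  fix := fun i j hij w hw hf => D.ker i j hij w hw hf
  cy := fun i j k hij h1 h2 w hw a => D.cy i j hij w hw k a h1 h2
  w60 := fun i j k hij hik hjk w hw w' hw' => D.comm60 hF (R.kt hn hF) hij hik hjk hw hw'
  w90 := fun i j k l hij hik hil hjk hjl hkl w hw w' hw' => D.comm90 hF (R.kt hn hF) hij hik hil hjk hjl hkl hw hw'
  par := fun i j hij w hw w' hw' => by
    obtain ⟨k, hik, hjk⟩ := exists_dj hn i j
    exact D.par_mem hF (R.kt hn hF) hij hik hjk hw hw'
  w120 := fun i j k hij hik hjk w hw w' hw' => D.mem120 hF (R.kt hn hF) hij hik hjk hw hw'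
  yw := fun i j hij w hw v => by
    obtain ⟨m, hm, s, h⟩ := D.y_conj_mem hF (R.kt hn hF) hij hw v
    exact ⟨m, hm, s, by rw [h]; group⟩
  nm := nm

/-- **pattern `{s}`**, `q ≥ 4`. -/
theorem DS.exists_hom [Finite F] [Finite G] (hn : 3 ≤ n) (hF : ∃ μ : Fˣ, (μ : F) ≠ 1) {δ : F} (D : DS R δ)
    (nm : ∀ i a, a ≠ 0 → ¬ IsConj R.t (R.t * R.y i a))
    (hodd : Odd ((R.Up ⊔ Subgroup.zpowers R.t).relIndex (Subgroup.centralizer {R.t}))) :
    ∃ m : G →* ℤˣ, m R.t = -1 := by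
  obtain ⟨j, hj, -⟩ := exists_dj hn (Sum.inl ⟨0, by omega⟩ : Ix n) (Sum.inl ⟨0, by omega⟩)
  have hδ := D.delta_eq_one hj nm
  subst hδ
  rw [← UpP_eq] at hodd
  exact (D.dataSE hn hF nm).exists_hom hodd

/-- clean case, `{l}` -/
theorem CFrame.exists_hom_l [Finite F] [Finite G] (R : CFrame n F G) (hn : 3 ≤ n) (hq : 3 ≤ Nat.card F) {γ : F}
    (D : DL R.toFrame γ) (nm : ∀ i j a, Dj i j → a ≠ 0 → ¬ IsConj R.t (R.t * R.x i j a)) :
    ∃ m : G →* ℤˣ, m R.t = -1 := by
  refine D.exists_hom hn hq nm ?_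
  rw [UpP_eq]
  exact R.odd_cent

/-- clean case, `{s}` -/
theorem CFrame.exists_hom_s [Finite F] [Finite G] (R : CFrame n F G) (hn : 3 ≤ n) (hF : ∃ μ : Fˣ, (μ : F) ≠ 1) {δ : F}
    (D : DS R.toFrame δ) (nm : ∀ i a, a ≠ 0 → ¬ IsConj R.t (R.t * R.y i a)) :
    ∃ m : G →* ℤˣ, m R.t = -1 := D.exists_hom hn hF nm R.odd_cent

end Cfsg.Agent.OddHalf.SpN

end

-- merged: Cfsg.Agent.OddHalf.SpN.OutEq
section

/-!
# Field automorphisms in `C(t)` normalise the doubles of the root groups (helper200)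

`FldAct R σ g` : `g ∈ C(t)` induces the (standard) field automorphism `σ` on `K`.
`DL.fld_mem`, `DS.fld_mem` : `g` normalises `V i`, `W i j`.
`DL.sem_mem`, `DS.sem_mem` : the same for helper859's `Sem`.
-/

set_option autoImplicit false
set_option maxHeartbeats 400000

namespace Cfsg.Agent.OddHalf.SpN

open scoped commutatorElement

variable {n : ℕ} {F : Type*} [Field F] {G : Type*} [Group G] [CharP F 2] {R : Frame n F G}

/-- `g ∈ C(t)` acts on the root elements and on the torus as the field automorphism `σ` -/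
structure FldAct (R : Frame n F G) (σ : F ≃+* F) (g : G) : Prop where
  ct : Commute g R.t
  x : ∀ i j a, g * R.x i j a * g⁻¹ = R.x i j (σ a)
  y : ∀ i a, g * R.y i a * g⁻¹ = R.y i (σ a)
  h : ∀ lam : Fin n → Fˣ, g * R.h lam * g⁻¹ = R.h (fm σ lam)

namespace FldAct

variable {σ τ : F ≃+* F} {g g' : G}

omit [CharP F 2] in
/-- conjugation commutes with conjugation by `t` -/
theorem tconj (A : FldAct R σ g) (v : G) : R.t * (g * v * g⁻¹) * R.t = g * (R.t * v * R.t) * g⁻¹ := by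
  have h1 := A.ct.eq
  have h2 : g⁻¹ * R.t = R.t * g⁻¹ := by rw [(A.ct.inv_left).eq]
  calc R.t * (g * v * g⁻¹) * R.t = (R.t * g) * v * (g⁻¹ * R.t) := by group
    _ = _ := by rw [← h1, h2]; group

omit [CharP F 2] in
theorem conj_mul (g a b : G) : g * (a * b) * g⁻¹ = (g * a * g⁻¹) * (g * b * g⁻¹) := by group

end FldAct

theorem one_add_sq_ne {a : F} (h : a ≠ 1) : 1 + a ^ 2 ≠ 0 := by
  intro h0
  have h1 : (a - 1) * (a - 1) = 0 := by linear_combination h0 - a * (two0 : (2 : F) = 0)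
  exact h (sub_eq_zero.mp (mul_self_eq_zero.mp h1))

/-- `g` normalises the long doubles -/
theorem DL.fld_mem (hn : 3 ≤ n) (hF : ∃ μ : Fˣ, (μ : F) ≠ 1) [Finite F] {γ : F} (D : DL R γ) {σ : F ≃+* F} {g : G}
    (A : FldAct R σ g) (hσ : σ γ = γ) {i : Ix n} {v : G} (hv : v ∈ D.V i) : g * v * g⁻¹ ∈ D.V i := by
  have tV : ∀ v ∈ D.V i, R.t * v * R.t ∈ D.V i := by
    intro v hv
    obtain ⟨u, hu⟩ := D.ht i v hv
    rw [hu]; exact mul_mem hv (D.y_mem i u)
  -- up to `t`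
  have key : ∀ v ∈ D.V i, g * v * g⁻¹ ∈ D.V i ∨ R.t * (g * v * g⁻¹) ∈ D.V i := by
    intro v hv
    obtain ⟨u, hu⟩ := D.ht i v hv
    obtain ⟨r, hr⟩ := exists_root u
    obtain ⟨w, hw, hwt⟩ := D.onto i (σ u)
    have hyw : ∀ a, Commute w (R.y i a) := fun a => D.cy i w hw a
    set v' := g * v * g⁻¹ with hv'
    have hyv : ∀ a, Commute v' (R.y i a) := by
      intro a
      have h1 : R.y i a = g * R.y i (σ.symm a) * g⁻¹ := by rw [A.y, RingEquiv.apply_symm_apply]
      have h2 : Commute v (R.y i (σ.symm a)) := D.cy i v hv _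
      rw [h1]
      change v' * _ = _ * v'
      rw [hv']
      calc g * v * g⁻¹ * (g * R.y i (σ.symm a) * g⁻¹) = g * (v * R.y i (σ.symm a)) * g⁻¹ := by group
        _ = _ := by rw [h2.eq]; group
    have hvt : R.t * v' * R.t = v' * R.y i (σ u) := by
      rw [hv', A.tconj, hu, FldAct.conj_mul, A.y]
    set k := v' * w⁻¹ with hk
    have hkt : Commute k R.t := by
      have h2 : R.t * k * R.t = k := by
        rw [hk, R.t_mul, R.t_inv', hvt, hwt]; group
      change k * R.t = R.t * k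
      calc k * R.t = (R.t * k * R.t) * R.t := by rw [h2]
        _ = R.t * k * (R.t * R.t) := by group
        _ = _ := by rw [R.tt, mul_one]
    have hky : ∀ l, l ≠ neg i → ∀ b, Commute k (R.y l b) := by
      intro l hl b
      by_cases hli : l = i
      · subst hli
        exact (hyv b).mul_left (hyw b).inv_left
      have hd : Dj i l := ⟨fun e => hli e.symm, fun e => hl (by rw [e, neg_neg])⟩
      obtain ⟨s, hs⟩ := exists_root b
      have h1 : ⁅w, R.y l b⁆ = R.x i l (γ * σ r * s) := by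
        rw [← hs]
        exact D.par i l hd w hw (σ r) (by rw [hwt, ← map_pow, hr]) s
      have h2 : ⁅v', R.y l b⁆ = R.x i l (γ * σ r * s) := by
        have h3 := D.par i l hd v hv r (by rw [hu, hr]) (σ.symm s)
        have h4 : R.y l b = g * R.y l (σ.symm s ^ 2) * g⁻¹ := by
          rw [A.y, map_pow, RingEquiv.apply_symm_apply, hs]
        have h5 : g * ⁅v, R.y l (σ.symm s ^ 2)⁆ * g⁻¹ = ⁅v', R.y l b⁆ := by
          rw [h4, hv', commutatorElement_def, commutatorElement_def]; group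
        rw [← h5, h3, A.x, map_mul, map_mul, hσ, RingEquiv.apply_symm_apply]
      -- `v' y v'⁻¹ = w y w⁻¹`
      have h3 : v' * R.y l b * v'⁻¹ = w * R.y l b * w⁻¹ := by
        rw [commutatorElement_def] at h1 h2
        rw [← h2] at h1
        exact mul_right_cancel h1.symm
      have h4 : R.y l b = w⁻¹ * (v' * R.y l b * v'⁻¹) * w := by rw [h3]; group
      -- `w⁻¹ v'` commutes; `k = v' w⁻¹`
      have hx : ∀ c, Commute w (R.x i l c) := fun c => D.cx i w hw i l c (ne_neg i) hd.symm.2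
      have hx' : ∀ c, Commute v' (R.x i l c) := by
        intro c
        have h1 : R.x i l c = g * R.x i l (σ.symm c) * g⁻¹ := by rw [A.x, RingEquiv.apply_symm_apply]
        have h2 : Commute v (R.x i l (σ.symm c)) := D.cx i v hv i l _ (ne_neg i) hd.symm.2
        rw [h1]
        change v' * _ = _ * v'
        rw [hv']
        calc g * v * g⁻¹ * (g * R.x i l (σ.symm c) * g⁻¹) = g * (v * R.x i l (σ.symm c)) * g⁻¹ := by group
          _ = _ := by rw [h2.eq]; group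
      -- `w⁻¹ y w = w⁻¹ [w, y]⁻¹ (w y) = x y`
      have h5 : w⁻¹ * R.y l b * w = R.x i l (γ * σ r * s) * R.y l b := by
        rw [commutatorElement_def] at h1
        have e1 : w * R.y l b * w⁻¹ = R.x i l (γ * σ r * s) * R.y l b := by rw [← h1]; group
        have e2 : R.y l b = w⁻¹ * R.x i l (γ * σ r * s) * w * (w⁻¹ * R.y l b * w) := by
          calc R.y l b = w⁻¹ * (w * R.y l b * w⁻¹) * w := by group
            _ = _ := by rw [e1]; group
        have e3 : w⁻¹ * R.x i l (γ * σ r * s) * w = R.x i l (γ * σ r * s) := by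
          rw [mul_assoc, ← (hx _).eq]; group
        rw [e3] at e2
        calc w⁻¹ * R.y l b * w = R.x i l (γ * σ r * s) * (R.x i l (γ * σ r * s) * (w⁻¹ * R.y l b * w)) := by
              rw [← mul_assoc, R.x_sq, one_mul]
          _ = _ := by rw [← e2]
      have h6 : v' * R.y l b * v'⁻¹ = R.x i l (γ * σ r * s) * R.y l b := by
        rw [commutatorElement_def] at h2
        rw [← h2]; group
      have h7 : v' * R.x i l (γ * σ r * s) * v'⁻¹ = R.x i l (γ * σ r * s) := by rw [(hx' _).eq]; group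
      change k * R.y l b = R.y l b * k
      have h8 : k * R.y l b * k⁻¹ = R.y l b := by
        calc k * R.y l b * k⁻¹ = v' * (w⁻¹ * R.y l b * w) * v'⁻¹ := by rw [hk]; group
          _ = (v' * R.x i l (γ * σ r * s) * v'⁻¹) * (v' * R.y l b * v'⁻¹) := by rw [h5]; group
          _ = R.x i l (γ * σ r * s) * R.x i l (γ * σ r * s) * R.y l b := by rw [h7, h6]; group
          _ = _ := by rw [R.x_sq, one_mul]
      calc k * R.y l b = k * R.y l b * k⁻¹ * k := by group
        _ = _ := by rw [h8]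
    obtain ⟨a, ha⟩ := R.FU1 hn hkt hky
    have hvk : v' = k * w := by rw [hk]; group
    rcases ha with ha | ha
    · left; rw [hvk, ha]; exact mul_mem (D.y_mem i a) hw
    · right
      rw [hvk, ha]
      have : R.t * (R.t * R.y i a * w) = R.y i a * w := by
        rw [← mul_assoc, ← mul_assoc, R.tt, one_mul]
      rw [this]
      exact mul_mem (D.y_mem i a) hw
  -- the commutators with the torus
  have key2 : ∀ v ∈ D.V i, ∀ lam, g * (v⁻¹ * (R.h lam * v * (R.h lam)⁻¹)) * g⁻¹ ∈ D.V i := by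
    intro v hv lam
    set lam' : Fin n → Fˣ := fm σ lam with hlam
    have e : g * (v⁻¹ * (R.h lam * v * (R.h lam)⁻¹)) * g⁻¹ =
        (g * v * g⁻¹)⁻¹ * (R.h lam' * (g * v * g⁻¹) * (R.h lam')⁻¹) := by
      rw [← A.h lam]; group
    rw [e]
    rcases key v hv with h1 | h1
    · exact mul_mem (inv_mem h1) (D.torus i _ h1 lam')
    · have h2 := D.torus i _ h1 lam'
      have h3 : R.t * (R.h lam' * (g * v * g⁻¹) * (R.h lam')⁻¹) ∈ D.V i := by
        have : R.t * (R.h lam' * (g * v * g⁻¹) * (R.h lam')⁻¹) =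
            R.h lam' * (R.t * (g * v * g⁻¹)) * (R.h lam')⁻¹ := by
          have hc := (R.h_t lam').eq
          calc R.t * (R.h lam' * (g * v * g⁻¹) * (R.h lam')⁻¹) =
              (R.t * R.h lam') * (g * v * g⁻¹) * (R.h lam')⁻¹ := by group
            _ = _ := by rw [← hc]; group
        rw [this]; exact h2
      have h4 := mul_mem (inv_mem h1) h3
      have h5 : (R.t * (g * v * g⁻¹))⁻¹ * (R.t * (R.h lam' * (g * v * g⁻¹) * (R.h lam')⁻¹)) =
          (g * v * g⁻¹)⁻¹ * (R.h lam' * (g * v * g⁻¹) * (R.h lam')⁻¹) := by group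
      rwa [h5] at h4
  obtain ⟨u, hu⟩ := D.ht i v hv
  obtain ⟨μ, hμ⟩ := hF
  obtain ⟨lam, hlam, -⟩ := exists_lam i μ
  have hl : (ev lam i : F) ≠ 1 := by rw [hlam]; exact hμ
  have hl2 := one_add_sq_ne hl
  obtain ⟨v0, hv0, hvt⟩ := D.onto i (u / (1 + (ev lam i : F) ^ 2))
  set v1 := v0⁻¹ * (R.h lam * v0 * (R.h lam)⁻¹) with hv1
  have hv1m : v1 ∈ D.V i := mul_mem (inv_mem hv0) (D.torus i _ hv0 lam)
  have hy0 : ∀ a, Commute v0 (R.y i a) := fun a => D.cy i v0 hv0 a
  have hh : ∀ z, R.t * (R.h lam * z * (R.h lam)⁻¹) * R.t = R.h lam * (R.t * z * R.t) * (R.h lam)⁻¹ := by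
    intro z
    have hc := (R.h_t lam).eq
    have hc' : (R.h lam)⁻¹ * R.t = R.t * (R.h lam)⁻¹ := (R.h_t lam).inv_left.eq
    calc R.t * (R.h lam * z * (R.h lam)⁻¹) * R.t = (R.t * R.h lam) * z * ((R.h lam)⁻¹ * R.t) := by group
      _ = _ := by rw [← hc, hc']; group
  have hv1t : R.t * v1 * R.t = v1 * R.y i u := by
    have e1 : R.t * v0⁻¹ * R.t = v0⁻¹ * R.y i (u / (1 + (ev lam i : F) ^ 2)) := by
      rw [R.t_inv', hvt, mul_inv_rev, R.y_inv, ← (hy0 _).inv_left.eq]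
    have e2 : R.t * (R.h lam * v0 * (R.h lam)⁻¹) * R.t = (R.h lam * v0 * (R.h lam)⁻¹) *
        R.y i ((ev lam i : F) ^ 2 * (u / (1 + (ev lam i : F) ^ 2))) := by
      rw [hh, hvt, FldAct.conj_mul, R.h_y]
    have e3 : Commute (R.y i (u / (1 + (ev lam i : F) ^ 2))) (R.h lam * v0 * (R.h lam)⁻¹) :=
      (D.cy i _ (D.torus i _ hv0 lam) _).symm
    calc R.t * v1 * R.t = (R.t * v0⁻¹ * R.t) * (R.t * (R.h lam * v0 * (R.h lam)⁻¹) * R.t) := by
          rw [hv1, R.t_mul]
      _ = v0⁻¹ * (R.y i (u / (1 + (ev lam i : F) ^ 2)) * (R.h lam * v0 * (R.h lam)⁻¹)) *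
          R.y i ((ev lam i : F) ^ 2 * (u / (1 + (ev lam i : F) ^ 2))) := by rw [e1, e2]; group
      _ = v1 * (R.y i (u / (1 + (ev lam i : F) ^ 2)) *
          R.y i ((ev lam i : F) ^ 2 * (u / (1 + (ev lam i : F) ^ 2)))) := by rw [e3.eq, hv1]; group
      _ = v1 * R.y i u := by
        rw [← R.y_add]
        congr 2
        field_simp
  -- `v = v1 y(a)`
  obtain ⟨a, ha⟩ := D.ker i (v1⁻¹ * v) (mul_mem (inv_mem hv1m) hv) (by
    have hy1 : Commute v1 (R.y i u) := D.cy i v1 hv1m _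
    have e1 : R.t * v1⁻¹ * R.t = (v1 * R.y i u)⁻¹ := by rw [R.t_inv', hv1t]
    calc R.t * (v1⁻¹ * v) * R.t = (v1 * R.y i u)⁻¹ * (v * R.y i u) := by rw [R.t_mul, e1, hu]
      _ = v1⁻¹ * ((R.y i u)⁻¹ * v * R.y i u) := by rw [hy1.eq]; group
      _ = v1⁻¹ * v := by
        rw [mul_assoc (R.y i u)⁻¹, (D.cy i v hv u : v * R.y i u = R.y i u * v)]; group)
  have hv2 : v = v1 * R.y i a := by rw [← ha]; group
  rw [hv2, FldAct.conj_mul, A.y]
  exact mul_mem (key2 v0 hv0 lam) (D.y_mem i _)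

/-- `g` normalises the short doubles -/
theorem DS.fld_mem [Finite F] (hn : 3 ≤ n) (hF : ∃ μ : Fˣ, (μ : F) ≠ 1) {δ : F} (D : DS R δ) {σ : F ≃+* F} {g : G}
    (A : FldAct R σ g) {i j : Ix n} (hij : Dj i j) {v : G} (hv : v ∈ D.W i j) : g * v * g⁻¹ ∈ D.W i j := by
  obtain ⟨μ, hμ⟩ := hF
  -- up to `t`
  have key : ∀ v ∈ D.W i j, g * v * g⁻¹ ∈ D.W i j ∨ R.t * (g * v * g⁻¹) ∈ D.W i j := by
    intro v hv
    obtain ⟨u, hu⟩ := D.ht i j hij v hv
    obtain ⟨w, hw, hwt⟩ := D.onto i j hij (σ u)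
    set v' := g * v * g⁻¹ with hv'
    have hyv : ∀ l, l ≠ neg i → l ≠ neg j → ∀ a, Commute v' (R.y l a) := by
      intro l h1 h2 a
      have h3 : R.y l a = g * R.y l (σ.symm a) * g⁻¹ := by rw [A.y, RingEquiv.apply_symm_apply]
      have h4 : Commute v (R.y l (σ.symm a)) := D.cy i j hij v hv l _ h1 h2
      rw [h3]
      change v' * _ = _ * v'
      rw [hv']
      calc g * v * g⁻¹ * (g * R.y l (σ.symm a) * g⁻¹) = g * (v * R.y l (σ.symm a)) * g⁻¹ := by group
        _ = _ := by rw [h4.eq]; group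
    have hvt : R.t * v' * R.t = v' * R.x i j (σ u) := by
      rw [hv', A.tconj, hu, FldAct.conj_mul, A.x]
    set k := v' * w⁻¹ with hk
    have hkt : Commute k R.t := by
      apply R.comm_of_t
      rw [hk, R.t_mul, R.t_inv', hvt, hwt]; group
    have hky : ∀ l, l ≠ neg i → l ≠ neg j → ∀ b, Commute k (R.y l b) := fun l h1 h2 b =>
      (hyv l h1 h2 b).mul_left (Commute.inv_left (D.cy i j hij w hw l b h1 h2))
    obtain ⟨a, b, d, hc, hlam⟩ := R.FU2 hn hij hkt hky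
    -- the torus
    obtain ⟨l1, hl1, hl1'⟩ := exists_lam i μ
    obtain ⟨l2, hl2, hl2'⟩ := exists_lam j μ⁻¹
    have e1 : ev (l1 * l2) i = μ := by rw [ev_mul_at, hl1, hl2' i hij.symm, mul_one]
    have e2 : ev (l1 * l2) j = μ⁻¹ := by rw [ev_mul_at, hl2, hl1' j hij, one_mul]
    set lam := l1 * l2 with hlamd
    have hkh : Commute k (R.h lam) := by
      have h1 : Commute w (R.h lam) := (D.torus_one i j hij w hw lam (by rw [e1, e2, mul_inv_cancel])).symm
      set lam' : Fin n → Fˣ := fm σ.symm lam with hlam'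
      have h2 : g * R.h lam' * g⁻¹ = R.h lam := by
        rw [A.h]
        congr 1
        funext k
        exact Units.ext (σ.apply_symm_apply _)
      have h3 : Commute v (R.h lam') := (D.torus_one i j hij v hv lam' (by
        apply Units.ext
        rw [Units.val_mul, hlam', ev_fm, ev_fm, e1, e2, ← map_mul, Units.mul_inv, map_one]; rfl)).symm
      have h4 : Commute v' (R.h lam) := by
        rw [← h2]
        change v' * _ = _ * v'
        rw [hv']
        calc g * v * g⁻¹ * (g * R.h lam' * g⁻¹) = g * (v * R.h lam') * g⁻¹ := by group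
          _ = _ := by rw [h3.eq]; group
      exact h4.mul_left h1.inv_left
    obtain ⟨h1, h2, -⟩ := hlam lam hkh
    have ne0 : ∀ ν : F, ν ≠ 1 → ∀ a : F, ν ^ 2 * a = a → a = 0 := by
      intro ν hν a ha
      have h3 := one_add_sq_ne hν
      have h4 : (1 + ν ^ 2) * a = 0 := by linear_combination ha + a * (two0 : (2 : F) = 0)
      exact (mul_eq_zero.mp h4).resolve_left h3
    have ha : a = 0 := ne0 _ (by rw [e1]; exact hμ) a h1
    have hb : b = 0 := ne0 _ (by
      rw [e2]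
      intro h
      apply hμ
      have : μ⁻¹ = 1 := Units.ext h
      rw [inv_eq_one.mp this]; rfl) b h2
    rw [ha, hb, R.y_zero, R.y_zero, one_mul, one_mul] at hc
    have hvk : v' = k * w := by rw [hk]; group
    rcases hc with hc | hc
    · left; rw [hvk, hc]; exact mul_mem (D.x_mem i j d) hw
    · right
      rw [hvk, hc]
      have : R.t * (R.t * R.x i j d * w) = R.x i j d * w := by
        rw [← mul_assoc, ← mul_assoc, R.tt, one_mul]
      rw [this]
      exact mul_mem (D.x_mem i j d) hw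
  -- the commutators with the torus
  have key2 : ∀ v ∈ D.W i j, ∀ lam, g * (v⁻¹ * (R.h lam * v * (R.h lam)⁻¹)) * g⁻¹ ∈ D.W i j := by
    intro v hv lam
    set lam' : Fin n → Fˣ := fm σ lam with hlam
    have e : g * (v⁻¹ * (R.h lam * v * (R.h lam)⁻¹)) * g⁻¹ =
        (g * v * g⁻¹)⁻¹ * (R.h lam' * (g * v * g⁻¹) * (R.h lam')⁻¹) := by
      rw [← A.h lam]; group
    rw [e]
    rcases key v hv with h1 | h1
    · exact mul_mem (inv_mem h1) (D.torus i j hij _ h1 lam')
    · have h2 := D.torus i j hij _ h1 lam'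
      have h3 : R.t * (R.h lam' * (g * v * g⁻¹) * (R.h lam')⁻¹) ∈ D.W i j := by
        have : R.t * (R.h lam' * (g * v * g⁻¹) * (R.h lam')⁻¹) =
            R.h lam' * (R.t * (g * v * g⁻¹)) * (R.h lam')⁻¹ := by
          have hc := (R.h_t lam').eq
          calc R.t * (R.h lam' * (g * v * g⁻¹) * (R.h lam')⁻¹) =
              (R.t * R.h lam') * (g * v * g⁻¹) * (R.h lam')⁻¹ := by group
            _ = _ := by rw [← hc]; group
        rw [this]; exact h2
      have h4 := mul_mem (inv_mem h1) h3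
      have h5 : (R.t * (g * v * g⁻¹))⁻¹ * (R.t * (R.h lam' * (g * v * g⁻¹) * (R.h lam')⁻¹)) =
          (g * v * g⁻¹)⁻¹ * (R.h lam' * (g * v * g⁻¹) * (R.h lam')⁻¹) := by group
      rwa [h5] at h4
  obtain ⟨u, hu⟩ := D.ht i j hij v hv
  obtain ⟨lam, hlam, hlam'⟩ := exists_lam i μ
  have hl : (ev lam i : F) * ev lam j = μ := by rw [hlam, hlam' j hij, Units.val_one, mul_one]
  have hl2 : 1 + (μ : F) ≠ 0 := by
    intro h0
    apply hμ
    linear_combination h0 - (two0 : (2 : F) = 0)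
  obtain ⟨v0, hv0, hvt⟩ := D.onto i j hij (u / (1 + (μ : F)))
  have hx : ∀ w ∈ D.W i j, ∀ a, Commute w (R.x i j a) := fun w hw a =>
    D.comm i j hij w hw _ (D.x_mem i j a)
  set v1 := v0⁻¹ * (R.h lam * v0 * (R.h lam)⁻¹) with hv1
  have hv1m : v1 ∈ D.W i j := mul_mem (inv_mem hv0) (D.torus i j hij _ hv0 lam)
  have hh : ∀ z, R.t * (R.h lam * z * (R.h lam)⁻¹) * R.t = R.h lam * (R.t * z * R.t) * (R.h lam)⁻¹ := by
    intro z
    have hc := (R.h_t lam).eq
    have hc' : (R.h lam)⁻¹ * R.t = R.t * (R.h lam)⁻¹ := (R.h_t lam).inv_left.eq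
    calc R.t * (R.h lam * z * (R.h lam)⁻¹) * R.t = (R.t * R.h lam) * z * ((R.h lam)⁻¹ * R.t) := by group
      _ = _ := by rw [← hc, hc']; group
  have hv1t : R.t * v1 * R.t = v1 * R.x i j u := by
    have e1 : R.t * v0⁻¹ * R.t = v0⁻¹ * R.x i j (u / (1 + (μ : F))) := by
      rw [R.t_inv', hvt, mul_inv_rev, R.x_inv, ← (hx _ hv0 _).inv_left.eq]
    have e2 : R.t * (R.h lam * v0 * (R.h lam)⁻¹) * R.t = (R.h lam * v0 * (R.h lam)⁻¹) *
        R.x i j (μ * (u / (1 + (μ : F)))) := by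
      rw [hh, hvt, FldAct.conj_mul, R.h_x, hl]
    have e3 : Commute (R.x i j (u / (1 + (μ : F)))) (R.h lam * v0 * (R.h lam)⁻¹) :=
      (hx _ (D.torus i j hij _ hv0 lam) _).symm
    calc R.t * v1 * R.t = (R.t * v0⁻¹ * R.t) * (R.t * (R.h lam * v0 * (R.h lam)⁻¹) * R.t) := by
          rw [hv1, R.t_mul]
      _ = v0⁻¹ * (R.x i j (u / (1 + (μ : F))) * (R.h lam * v0 * (R.h lam)⁻¹)) *
          R.x i j (μ * (u / (1 + (μ : F)))) := by rw [e1, e2]; group
      _ = v1 * (R.x i j (u / (1 + (μ : F))) * R.x i j (μ * (u / (1 + (μ : F))))) := by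
        rw [e3.eq, hv1]; group
      _ = v1 * R.x i j u := by
        rw [← R.x_add]
        congr 2
        field_simp
  -- `v = v1 x(a)`
  obtain ⟨a, ha⟩ := D.ker i j hij (v1⁻¹ * v) (mul_mem (inv_mem hv1m) hv) (by
    have e1 : R.t * v1⁻¹ * R.t = (v1 * R.x i j u)⁻¹ := by rw [R.t_inv', hv1t]
    calc R.t * (v1⁻¹ * v) * R.t = (v1 * R.x i j u)⁻¹ * (v * R.x i j u) := by rw [R.t_mul, e1, hu]
      _ = v1⁻¹ * ((R.x i j u)⁻¹ * v * R.x i j u) := by rw [(hx _ hv1m u).eq]; group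
      _ = v1⁻¹ * v := by rw [mul_assoc (R.x i j u)⁻¹, (hx _ hv u).eq]; group)
  have hv2 : v = v1 * R.x i j a := by rw [← ha]; group
  rw [hv2, FldAct.conj_mul, A.x]
  exact mul_mem (key2 v0 hv0 lam) (D.x_mem i j _)

/-- `Sem` up to the torus -/
theorem Frame.Sem.fld {y : G} {σ : F ≃+* F} {lam : Fin n → Fˣ} (h : R.Sem y σ lam) :
    FldAct R σ ((R.h lam)⁻¹ * y) where
  ct := (R.h_t lam).inv_left.mul_left h.yt
  x := fun i j a => by
    by_cases hij : Dj i j
    · have h1 := h.yx i j hij a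
      have h2 := R.h_x lam i j (σ a)
      have h3 : R.x i j (σ a) = (R.h lam)⁻¹ * R.x i j (ev lam i * ev lam j * σ a) * R.h lam := by
        rw [← h2]; group
      rw [h3, ← h1]; group
    · rw [R.x_of_not hij, R.x_of_not hij]; group
  y := fun i a => by
    have h1 := h.yy i a
    have h2 := R.h_y lam i (σ a)
    have h3 : R.y i (σ a) = (R.h lam)⁻¹ * R.y i (ev lam i ^ 2 * σ a) * R.h lam := by
      rw [← h2]; group
    rw [h3, ← h1]; group
  h := fun mu => by
    have h1 := h.yh mu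
    have h2 : (R.h lam)⁻¹ * R.h (fm σ mu) * R.h lam = R.h (fm σ mu) := by
      rw [← map_inv, ← map_mul, ← map_mul]
      congr 1
      rw [mul_comm lam⁻¹, inv_mul_cancel_right]
    calc (R.h lam)⁻¹ * y * R.h mu * ((R.h lam)⁻¹ * y)⁻¹ = (R.h lam)⁻¹ * (y * R.h mu * y⁻¹) * R.h lam := by group
      _ = _ := by rw [h1, h2]

theorem DL.sem_mem [Finite F] (hn : 3 ≤ n) (hF : ∃ μ : Fˣ, (μ : F) ≠ 1) {γ : F} (D : DL R γ) {σ : F ≃+* F}
    {lam : Fin n → Fˣ} {y : G} (A : R.Sem y σ lam) (hσ : σ γ = γ) {i : Ix n} {v : G} (hv : v ∈ D.V i) :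
    y * v * y⁻¹ ∈ D.V i := by
  have h1 := D.torus i _ (D.fld_mem hn hF A.fld hσ hv) lam
  have h2 : R.h lam * ((R.h lam)⁻¹ * y * v * ((R.h lam)⁻¹ * y)⁻¹) * (R.h lam)⁻¹ = y * v * y⁻¹ := by group
  rwa [h2] at h1

theorem DS.sem_mem [Finite F] (hn : 3 ≤ n) (hF : ∃ μ : Fˣ, (μ : F) ≠ 1) {δ : F} (D : DS R δ) {σ : F ≃+* F}
    {lam : Fin n → Fˣ} {y : G} (A : R.Sem y σ lam) {i j : Ix n} (hij : Dj i j) {v : G} (hv : v ∈ D.W i j) :
    y * v * y⁻¹ ∈ D.W i j := by
  have h1 := D.torus i j hij _ (D.fld_mem hn hF A.fld hij hv) lam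
  have h2 : R.h lam * ((R.h lam)⁻¹ * y * v * ((R.h lam)⁻¹ * y)⁻¹) * (R.h lam)⁻¹ = y * v * y⁻¹ := by group
  rwa [h2] at h1

end Cfsg.Agent.OddHalf.SpN

end

private theorem dce_dee134e8ef09 : _root_.True := by
  try have : _root_.True := by simp only [_root_.Cfsg.Agent.OddHalf.SpN.Frame.ys.congr_simp]
  exact _root_.True.intro
end

-- part: OddHalf/SpN/COneEnd
section
prune_inst 0x2020444800000000180082410004005e0001901063000181000e0006c8876125002720b4a01300190a2264003c0000015400d9000000000000020041190080000800028108a000000000000804000000000000000000000000000000000004000000000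
set_option linter.all false
open scoped Cfsg.Agent.FastGrp

-- merged: Cfsg.Agent.OddHalf.SpN.COneDefs
section

/-!
# ODD D7, `K = Sp_2n(q)`, pattern (C,O) (shadows `L_{2n+1}(q)`, `U_{2n+1}(q)`): the input (helper63)

Section 10 of `blueprints/ODD-D7-Sp-helper297.md` (case III.1: `γ = 0`, `δ = ε = c_l = 1`).
`wx i j u = w_{e_i+e_j}(u)` (`Dj i j`), `wy i u = w_{2e_i}(u)`.  Conventions as in `Defs`:
`h w_r(u) h⁻¹ = w_r(λ^r u)`, all conjugations on the left.  "∃ c" = the `X`-part is irrelevant.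
-/

set_option autoImplicit false

namespace Cfsg.Agent.OddHalf.SpN

variable {n : ℕ} {F : Type*} [Field F] {G : Type*} [Group G]

/-- The input of pattern (C,O): the groups `W_r` with all their relations for `γ = 0`, `δ = ε = c_l = 1`. -/
structure COne [CharP F 2] (R : Frame n F G) where
  wx : Ix n → Ix n → F → G
  wy : Ix n → F → G
  wx_symm : ∀ i j u, wx i j u = wx j i u
  /-- `[t, w_r(u)] = x_r(u)` -/
  wx_t : ∀ {i j}, Dj i j → ∀ u, R.t * wx i j u * R.t = wx i j u * R.x i j u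
  wy_t : ∀ i u, R.t * wy i u * R.t = wy i u * R.y i u
  h_wx : ∀ lam {i j}, Dj i j → ∀ u, R.h lam * wx i j u * (R.h lam)⁻¹ = wx i j (ev lam i * ev lam j * u)
  h_wy : ∀ lam i u, R.h lam * wy i u * (R.h lam)⁻¹ = wy i (ev lam i ^ 2 * u)
  /-- (6.1): `κ_s = 0` -/
  wx_add : ∀ {i j}, Dj i j → ∀ u v, wx i j (u + v) = wx i j u * wx i j v
  wy_zero : ∀ i, wy i 0 = 1
  wy_add : ∀ i u v, ∃ c, wy i u * wy i v = wy i (u + v) * R.y i c
  /-- (8.2): `c_l = 1` -/
  wy_sq : ∀ i u, wy i u * wy i u = R.y i u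
  /-- (3.s): `[W_s, X_a] = 1` for `(s, a) ≥ 0`, short-short, not partners -/
  a1 : ∀ {i j k l}, Dj i j → Dj k l → k ≠ neg i → k ≠ neg j → l ≠ neg i → l ≠ neg j →
    ∀ u v, Commute (wx i j u) (R.x k l v)
  /-- (3.s), (8): partners, `δ = 1` -/
  a2 : ∀ {i j}, Dj i j → ∀ u v, wx i j u * R.x i (neg j) v = R.y i (u * v) * (R.x i (neg j) v * wx i j u)
  /-- (6.1): 120 degrees -/
  a3 : ∀ {i j k}, Dj i j → Dj j k → Dj i k → ∀ u v, ∃ c,
    R.x (neg j) k v * wx i j u * (R.x (neg j) k v)⁻¹ = wx i j u * wx i k (u * v) * R.x i k c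
  /-- (3.s): short-long, `(s, a) ≥ 0` -/
  a4 : ∀ {i j k}, Dj i j → k ≠ neg i → k ≠ neg j → ∀ u v, Commute (wx i j u) (R.y k v)
  /-- (8.3) with `δ = 1` -/
  a5 : ∀ {i j}, Dj i j → ∀ u v, ∃ c d, R.y (neg j) v * wx i j u * (R.y (neg j) v)⁻¹ =
    wx i j u * wx i (neg j) (u * v) * R.x i (neg j) c * R.y i d
  /-- (3.l), `γ = 0` -/
  b1 : ∀ {i j}, j ≠ neg i → ∀ u v, Commute (wy i u) (R.y j v)
  b2 : ∀ {i j k}, Dj j k → j ≠ neg i → k ≠ neg i → ∀ u v, Commute (wy i u) (R.x j k v)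
  /-- (8.2) with `γ = 0` -/
  b3 : ∀ {i j}, Dj i j → ∀ u v, ∃ c d, R.x (neg i) j v * wy i u * (R.x (neg i) j v)⁻¹ =
    wy i u * wy j (u * v ^ 2) * wx i j (u * v) * R.x i j c * R.y j d
  /-- (6.2): 60 degrees, 90 degrees (disjoint), same root -/
  c1 : ∀ {i j k l}, Dj i j → Dj k l → k ≠ neg i → k ≠ neg j → l ≠ neg i → l ≠ neg j →
    ∀ u v, Commute (wx i j u) (wx k l v)
  /-- (6.2): partners -/
  c2 : ∀ {i j}, Dj i j → ∀ u v, ∃ c, wx i j u * wx i (neg j) v = R.y i c * (wx i (neg j) v * wx i j u)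
  /-- (6.2): 120 degrees, `[W_r, W_a] ≤ W_{r+a}` -/
  c3 : ∀ {i j k}, Dj i j → Dj j k → Dj i k → ∀ u v, ∃ c d,
    wx (neg j) k v * wx i j u * (wx (neg j) k v)⁻¹ = wx i j u * wx i k c * R.x i k d
  /-- section 4: long-long -/
  c4 : ∀ {i j}, Dj i j → ∀ u v, ∃ c, wy i u * wy j v = R.x i j c * (wy j v * wy i u)
  /-- (8.1): long-short, 45 and 90 degrees -/
  c5 : ∀ {i j k}, Dj j k → j ≠ neg i → k ≠ neg i → ∀ u v, Commute (wy i u) (wx j k v)
  /-- F3 -/
  f3 : ∀ i g, Commute g R.t → (∀ a, Commute g (R.y i a)) →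
    (∀ j, Dj i j → ∀ a, ∃ c, g * R.x i j a = R.y i c * (R.x i j a * g)) → g ∈ R.Q i ∨ R.t * g ∈ R.Q i

end Cfsg.Agent.OddHalf.SpN

end

-- merged: Cfsg.Agent.OddHalf.SpN.COneF
section

/-!
# ODD D7, `K = Sp_2n(q)`, pattern (C,O): the elements `p_j(u,v) = [w_{i,-j}(u), w_j(v)]` and the groups `F_i` (helper63)

`F_i = ⟨W_{2e_i}, W_{e_i±e_j}, p_j(u,v)⟩`; `F_i / Y_i` is elementary abelian, `Y_i = X_{2e_i}`.
-/

set_option autoImplicit false

namespace Cfsg.Agent.OddHalf.SpN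

section abs

variable {G : Type*} [Group G]

/-- `w` normalises `a` modulo something commuting with `b` -/
theorem comm_aux {a b w m : G} (h1 : w * a * w⁻¹ = a * m) (h2 : Commute w b) (h3 : Commute m b) :
    Commute (a * b * a⁻¹ * b⁻¹) w := by
  have e : w * (a * b * a⁻¹ * b⁻¹) * w⁻¹ = a * b * a⁻¹ * b⁻¹ := by
    calc w * (a * b * a⁻¹ * b⁻¹) * w⁻¹ = (w * a * w⁻¹) * (w * b * w⁻¹) * (w * a * w⁻¹)⁻¹ * (w * b * w⁻¹)⁻¹ := by
          group
      _ = a * (m * b * m⁻¹) * a⁻¹ * b⁻¹ := by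
          rw [h1, h2.mul_inv_cancel]; group
      _ = _ := by rw [h3.mul_inv_cancel]
  show a * b * a⁻¹ * b⁻¹ * w = w * (a * b * a⁻¹ * b⁻¹)
  calc a * b * a⁻¹ * b⁻¹ * w = (w * (a * b * a⁻¹ * b⁻¹) * w⁻¹) * w := by rw [e]
    _ = _ := by group

theorem conj_of_y {w a z : G} (e : w * a = z * (a * w)) (hz : Commute a z) : w * a * w⁻¹ = a * z := by
  rw [e, hz.eq]; group

theorem conj_of_comm {w a : G} (e : Commute w a) : w * a * w⁻¹ = a * 1 := by
  rw [e.mul_inv_cancel, mul_one]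

theorem comm_aux3 {a b w m z : G} (h1 : Commute w a) (h2 : w * b * w⁻¹ = b * m) (h3 : m * a⁻¹ = z * (a⁻¹ * m))
    (za : Commute z a) (zb : Commute z b) :
    w * (a * b * a⁻¹ * b⁻¹) = z * (a * b * a⁻¹ * b⁻¹ * w) := by
  have e : w * (a * b * a⁻¹ * b⁻¹) * w⁻¹ = z * (a * b * a⁻¹ * b⁻¹) := by
    calc w * (a * b * a⁻¹ * b⁻¹) * w⁻¹ = (w * a * w⁻¹) * (w * b * w⁻¹) * (w * a * w⁻¹)⁻¹ * (w * b * w⁻¹)⁻¹ := by
          group
      _ = a * b * (m * a⁻¹) * m⁻¹ * b⁻¹ := by
          rw [h2, h1.mul_inv_cancel]; group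
      _ = (a * b * z) * a⁻¹ * b⁻¹ := by rw [h3]; group
      _ = _ := by rw [mul_assoc a, ← zb.eq, ← mul_assoc a, ← za.eq]; simp only [mul_assoc]
  calc w * (a * b * a⁻¹ * b⁻¹) = (w * (a * b * a⁻¹ * b⁻¹) * w⁻¹) * w := by group
    _ = _ := by rw [e, mul_assoc]

theorem t_aux {t a b x y m k n x1 z1 z2 : G} (tt : t * t = 1) (ta : t * a * t = a * x) (tb : t * b * t = b * y)
    (hxb : x * b * x⁻¹ = b * m) (hxy : x * y * x⁻¹ = y * k) (ym : Commute y m) (yk : Commute y k)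
    (yz : Commute y z1) (hya : y * a * y⁻¹ = a * n) (hamk : a * (m * k) * a⁻¹ = (m * k) * z1)
    (han : a * n⁻¹ * a⁻¹ = n⁻¹ * z2) (bn : Commute b n) (hbmk : b * (m * k) * b⁻¹ = (m * k) * x1)
    (bz : Commute b z1) (np : Commute n (a * b * a⁻¹ * b⁻¹)) (zp : Commute z2 (a * b * a⁻¹ * b⁻¹)) :
    t * (a * b * a⁻¹ * b⁻¹) * t = (a * b * a⁻¹ * b⁻¹) * (n⁻¹ * z2 * (m * k) * x1 * z1) := by
  have ti : t⁻¹ = t := inv_eq_of_mul_eq_one_left tt
  have hya' : y * a⁻¹ * y⁻¹ = n⁻¹ * a⁻¹ := by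
    have := congrArg (fun g => g⁻¹) hya
    simp only [mul_inv_rev, inv_inv] at this
    rw [← this]; group
  have ymk : Commute y (m * k * z1) := (ym.mul_right yk).mul_right yz
  calc t * (a * b * a⁻¹ * b⁻¹) * t = t * (a * b * a⁻¹ * b⁻¹) * t⁻¹ := by rw [ti]
    _ = (t * a * t⁻¹) * (t * b * t⁻¹) * (t * a * t⁻¹)⁻¹ * (t * b * t⁻¹)⁻¹ := by group
    _ = (a * x) * (b * y) * (a * x)⁻¹ * (b * y)⁻¹ := by rw [ti, ta, tb]
    _ = a * (x * b * x⁻¹) * (x * y * x⁻¹) * a⁻¹ * y⁻¹ * b⁻¹ := by group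
    _ = a * b * (m * y) * k * a⁻¹ * y⁻¹ * b⁻¹ := by rw [hxb, hxy]; group
    _ = a * b * (y * a⁻¹ * y⁻¹) * (y * (a * (m * k) * a⁻¹) * y⁻¹) * b⁻¹ := by rw [← ym.eq]; group
    _ = a * b * (n⁻¹ * a⁻¹) * (m * k * z1) * b⁻¹ := by rw [hya', hamk, ymk.mul_inv_cancel]
    _ = a * (b * n⁻¹) * a⁻¹ * (m * k) * z1 * b⁻¹ := by group
    _ = (a * n⁻¹ * a⁻¹) * (a * b * a⁻¹ * b⁻¹) * (b * (m * k) * b⁻¹) * (b * z1 * b⁻¹) := by
        rw [bn.inv_right.eq]; group
    _ = (n⁻¹ * z2) * (a * b * a⁻¹ * b⁻¹) * (m * k * x1) * z1 := by rw [han, hbmk, bz.mul_inv_cancel]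
    _ = _ := by rw [(np.inv_left.mul_left zp).eq]; simp only [mul_assoc]

end abs

namespace COne

variable {n : ℕ} {F : Type*} [Field F] [CharP F 2] {G : Type*} [Group G] {R : Frame n F G}

/-- `g` centralises `Y_i` -/
def Cy (R : Frame n F G) (i : Ix n) (g : G) : Prop := ∀ a, Commute g (R.y i a)

/-- `g`, `h` commute modulo `Y_i` -/
def Cm (R : Frame n F G) (i : Ix n) (g h : G) : Prop := ∃ c, g * h = R.y i c * (h * g)

theorem Cm.symm {i : Ix n} {g h : G} (e : Cm R i g h) : Cm R i h g := by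
  obtain ⟨c, e⟩ := e
  exact ⟨c, by rw [e, ← mul_assoc, R.y_sq, one_mul]⟩

theorem Cm.of_commute {i : Ix n} {g h : G} (e : Commute g h) : Cm R i g h :=
  ⟨0, by rw [R.y_zero, one_mul]; exact e⟩

theorem Cy.one {i : Ix n} : Cy R i 1 := fun _ => Commute.one_left _

theorem Cy.mul {i : Ix n} {g h : G} (a : Cy R i g) (b : Cy R i h) : Cy R i (g * h) := fun c => (a c).mul_left (b c)

theorem Cy.inv {i : Ix n} {g : G} (a : Cy R i g) : Cy R i g⁻¹ := fun c => (a c).inv_left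

theorem Cm.mul {i : Ix n} {g g' h : G} (hg : Cy R i g) (a : Cm R i g h) (b : Cm R i g' h) : Cm R i (g * g') h := by
  obtain ⟨c, e⟩ := a
  obtain ⟨d, e'⟩ := b
  refine ⟨d + c, ?_⟩
  rw [mul_assoc, e', ← mul_assoc, (hg d).eq, mul_assoc, ← mul_assoc g, e, R.y_add]
  simp only [mul_assoc]

theorem Cm.inv {i : Ix n} {g h : G} (hg : Cy R i g) (a : Cm R i g h) : Cm R i g⁻¹ h := by
  obtain ⟨c, e⟩ := a
  refine ⟨c, ?_⟩
  have e2 : h * g = R.y i c * (g * h) := by rw [e, ← mul_assoc, R.y_sq, one_mul]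
  have e3 : g⁻¹ * R.y i c = R.y i c * g⁻¹ := (hg.inv c).eq
  calc g⁻¹ * h = g⁻¹ * (h * g) * g⁻¹ := by group
    _ = g⁻¹ * R.y i c * (g * h) * g⁻¹ := by rw [e2]; group
    _ = R.y i c * (h * g⁻¹) := by rw [e3]; group

/-- the elements centralising `Y_i` and commuting with `h` modulo `Y_i` -/
def cen (R : Frame n F G) (i : Ix n) (h : G) : Subgroup G where
  carrier := {g | Cy R i g ∧ Cm R i g h}
  one_mem' := ⟨Cy.one, Cm.of_commute (Commute.one_left h)⟩
  mul_mem' := fun a b => ⟨a.1.mul b.1, Cm.mul a.1 a.2 b.2⟩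
  inv_mem' := fun a => ⟨a.1.inv, Cm.inv a.1 a.2⟩

theorem mem_cen {i : Ix n} {g h : G} : g ∈ cen R i h ↔ Cy R i g ∧ Cm R i g h := Iff.rfl

/-- `Y_i` -/
def Yg (R : Frame n F G) (i : Ix n) : Subgroup G where
  carrier := {g | ∃ a, g = R.y i a}
  one_mem' := ⟨0, (R.y_zero i).symm⟩
  mul_mem' := by
    rintro _ _ ⟨a, rfl⟩ ⟨b, rfl⟩
    exact ⟨a + b, (R.y_add i a b).symm⟩
  inv_mem' := by
    rintro _ ⟨a, rfl⟩
    exact ⟨a, R.y_inv i a⟩

theorem y_mem_Yg (i : Ix n) (a : F) : R.y i a ∈ Yg R i := ⟨a, rfl⟩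

variable (D : COne R)

include D

theorem wx_zero {i j : Ix n} (h : Dj i j) : D.wx i j 0 = 1 := by
  have := D.wx_add h 0 0
  rw [add_zero] at this
  exact (mul_eq_left.mp this.symm)

theorem wx_sq {i j : Ix n} (h : Dj i j) (u : F) : D.wx i j u * D.wx i j u = 1 := by
  rw [← D.wx_add h, CharTwo.add_self_eq_zero, D.wx_zero h]

theorem wx_inv {i j : Ix n} (h : Dj i j) (u : F) : (D.wx i j u)⁻¹ = D.wx i j u :=
  inv_eq_of_mul_eq_one_left (D.wx_sq h u)

theorem a2' {i j : Ix n} (h : Dj i j) (u v : F) :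
    D.wx i (neg j) u * R.x i j v = R.y i (u * v) * (R.x i j v * D.wx i (neg j) u) := by
  have := D.a2 (i := i) (j := neg j) (dj_neg_right.mpr h) u v
  rwa [neg_neg] at this

theorem cy_wx {i j : Ix n} (h : Dj i j) (u : F) : Cy R i (D.wx i j u) := fun a =>
  D.a4 h (ne_neg i) h.2 u a

theorem cy_wy (i : Ix n) (u : F) : Cy R i (D.wy i u) := fun a => D.b1 (ne_neg i) u a

omit D in
theorem cy_x {i j : Ix n} (h : Dj i j) (u : F) : Cy R i (R.x i j u) := fun a =>
  (R.y_x_comm (ne_neg i) h.symm.2 a u).symm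

omit D in
theorem cy_y (i : Ix n) (u : F) : Cy R i (R.y i u) := fun a => R.y_comm (ne_neg i) u a

theorem cy_wy' {i j : Ix n} (h : Dj i j) (u : F) : Cy R i (D.wy j u) := fun a => D.b1 h.2 u a

/-- `p_j(u,v) = [w_{i,-j}(u), w_j(v)]` -/
def p (i j : Ix n) (u v : F) : G := D.wx i (neg j) u * D.wy j v * (D.wx i (neg j) u)⁻¹ * (D.wy j v)⁻¹

theorem p_zero_left {i j : Ix n} (h : Dj i j) (v : F) : D.p i j 0 v = 1 := by
  rw [p, D.wx_zero (dj_neg_right.mpr h)]; group

theorem p_zero_right {i j : Ix n} (u : F) : D.p i j u 0 = 1 := by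
  rw [p, D.wy_zero]; group

section one

variable {i j : Ix n} (hij : Dj i j) (u v : F)

include hij

theorem p_y : Cy R i (D.p i j u v) := fun a =>
  comm_aux (m := 1) (conj_of_comm ((D.cy_wx (dj_neg_right.mpr hij) u) a).symm) ((D.cy_wy' hij v) a).symm
    (Commute.one_left _)

theorem p_wx {k : Ix n} (hik : Dj i k) (hk : k ≠ neg j) (c : F) : Commute (D.p i j u v) (D.wx i k c) := by
  have h5 : Commute (D.wx i k c) (D.wy j v) := (D.c5 hik hij.2 hk v c).symm
  by_cases hkj : k = j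
  · subst hkj
    obtain ⟨e, he⟩ := D.c2 hij c u
    exact comm_aux (m := R.y i e) (conj_of_y he (D.cy_wx (dj_neg_right.mpr hij) u e)) h5 ((D.cy_wy' hij v) e).symm
  · refine comm_aux (m := 1) (conj_of_comm
      (D.c1 hik (dj_neg_right.mpr hij) (ne_neg i) hik.2 ?_ ?_ c u)) h5 (Commute.one_left _)
    · rw [Ne, neg_inj]; exact hij.1.symm
    · rw [Ne, neg_inj]; exact fun e => hkj e.symm

theorem p_x {k : Ix n} (hik : Dj i k) (hk : k ≠ neg j) (c : F) : Commute (D.p i j u v) (R.x i k c) := by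
  have h5 : Commute (R.x i k c) (D.wy j v) := (D.b2 hik hij.2 hk v c).symm
  by_cases hkj : k = j
  · subst hkj
    refine comm_aux (m := R.y i (u * c)) (conj_of_y ?_ (D.cy_wx (dj_neg_right.mpr hij) u _)) h5
      ((D.cy_wy' hij v) _).symm
    rw [D.a2' hij, ← mul_assoc (R.y i _), R.y_sq, one_mul]
  · refine comm_aux (m := 1) (conj_of_comm
      (D.a1 (dj_neg_right.mpr hij) hik (ne_neg i) ?_ hik.symm.2 ?_ u c).symm) h5 (Commute.one_left _)
    · rw [neg_neg]; exact hij.1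
    · rw [neg_neg]; exact hkj

/-- `x_{jl}`, `|l| ≠ |i|` -/
theorem p_xj {l : Ix n} (hil : Dj i l) (hjl : Dj j l) (c : F) : Commute (D.p i j u v) (R.x j l c) := by
  have hnj : Dj (neg j) l := dj_neg_left.mpr hjl
  obtain ⟨d, he⟩ := D.a3 (dj_neg_right.mpr hij) hnj hil u c
  rw [neg_neg, mul_assoc (D.wx i (neg j) u)] at he
  exact comm_aux he (D.b2 hjl (ne_neg j) hjl.symm.2 v c).symm
    ((D.c5 hil hij.2 hjl.symm.2 v _).symm.mul_left (D.b2 hil hij.2 hjl.symm.2 v _).symm)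

theorem p_xkl {k l : Ix n} (hkl : Dj k l) (hik : Dj i k) (hil : Dj i l) (hjk : Dj j k) (hjl : Dj j l) (c : F) :
    Commute (D.p i j u v) (R.x k l c) :=
  comm_aux (m := 1) (conj_of_comm (D.a1 (dj_neg_right.mpr hij) hkl hik.symm.2
      (by rw [neg_neg]; exact hjk.1.symm) hil.symm.2 (by rw [neg_neg]; exact hjl.1.symm) u c).symm)
    (D.b2 hkl hjk.symm.2 hjl.symm.2 v c).symm (Commute.one_left _)

theorem p_yj (c : F) : Commute (D.p i j u v) (R.y j c) := by
  obtain ⟨d, e, he⟩ := D.a5 (dj_neg_right.mpr hij) u c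
  rw [neg_neg, mul_assoc (D.wx i (neg j) u), mul_assoc (D.wx i (neg j) u)] at he
  exact comm_aux he (D.b1 (ne_neg j) v c).symm
    (((D.c5 hij hij.2 (ne_neg j) v _).symm.mul_left (D.b2 hij hij.2 (ne_neg j) v _).symm).mul_left
      (D.b1 hij.2 v _).symm)

theorem p_yk {k : Ix n} (hik : Dj i k) (hjk : Dj j k) (c : F) : Commute (D.p i j u v) (R.y k c) :=
  comm_aux (m := 1) (conj_of_comm (D.a4 (dj_neg_right.mpr hij) hik.symm.2
      (by rw [neg_neg]; exact hjk.1.symm) u c).symm)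
    (D.b1 hjk.symm.2 v c).symm (Commute.one_left _)

theorem p_wxj {l : Ix n} (hil : Dj i l) (hjl : Dj j l) (c : F) : Commute (D.p i j u v) (D.wx j l c) := by
  have hnj : Dj (neg j) l := dj_neg_left.mpr hjl
  obtain ⟨d, e, he⟩ := D.c3 (dj_neg_right.mpr hij) hnj hil u c
  rw [neg_neg, mul_assoc (D.wx i (neg j) u)] at he
  exact comm_aux he (D.c5 hjl (ne_neg j) hjl.symm.2 v c).symm
    ((D.c5 hil hij.2 hjl.symm.2 v _).symm.mul_left (D.b2 hil hij.2 hjl.symm.2 v _).symm)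

theorem p_wxkl {k l : Ix n} (hkl : Dj k l) (hik : Dj i k) (hil : Dj i l) (hjk : Dj j k) (hjl : Dj j l) (c : F) :
    Commute (D.p i j u v) (D.wx k l c) :=
  comm_aux (m := 1) (conj_of_comm (D.c1 (dj_neg_right.mpr hij) hkl hik.symm.2
      (by rw [neg_neg]; exact hjk.1.symm) hil.symm.2 (by rw [neg_neg]; exact hjl.1.symm) u c).symm)
    (D.c5 hkl hjk.symm.2 hjl.symm.2 v c).symm (Commute.one_left _)

theorem h_p (lam : Fin n → Fˣ) : R.h lam * D.p i j u v * (R.h lam)⁻¹ =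
    D.p i j (ev lam i * (ev lam j)⁻¹ * u) (ev lam j ^ 2 * v) := by
  have h1 := D.h_wx lam (dj_neg_right.mpr hij) u
  have h2 := D.h_wy lam j v
  rw [ev_neg] at h1
  rw [p, p]
  push_cast at h1 h2 ⊢
  rw [← h1, ← h2]
  group

/-- `x_{i,-j}` -/
theorem p_xn (c : F) : Cm R i (D.p i j u v) (R.x i (neg j) c) := by
  obtain ⟨e, d, he⟩ := D.b3 hij.symm v c
  have hn := dj_neg_right.mpr hij
  have hm : D.wy i (v * c ^ 2) * D.wx j i (v * c) * R.x j i e * R.y i d ∈ cen R i (D.wx i (neg j) u)⁻¹ := by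
    have key : ∀ g, Cy R i g → Cm R i g (D.wx i (neg j) u) → g ∈ cen R i (D.wx i (neg j) u)⁻¹ := fun g h1 h2 =>
      ⟨h1, (Cm.inv (D.cy_wx hn u) h2.symm).symm⟩
    refine mul_mem (mul_mem (mul_mem (key _ (D.cy_wy i _) ?_) (key _ ?_ ?_)) (key _ ?_ ?_)) (key _ (cy_y i d) ?_)
    · exact Cm.of_commute (D.c5 hn (ne_neg i) hn.symm.2 _ u)
    · rw [D.wx_symm]; exact D.cy_wx hij _
    · rw [D.wx_symm]; exact D.c2 hij _ u
    · rw [R.x_symm]; exact cy_x hij _
    · rw [R.x_symm]; exact Cm.symm ⟨_, D.a2' hij _ _⟩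
    · exact Cm.of_commute (D.cy_wx hn u d).symm
  obtain ⟨f, hf⟩ := hm.2
  have he' : R.x i (neg j) c * D.wy j v * (R.x i (neg j) c)⁻¹ =
      D.wy j v * (D.wy i (v * c ^ 2) * D.wx j i (v * c) * R.x j i e * R.y i d) := by
    rw [R.x_symm i (neg j), he]; simp only [mul_assoc]
  exact Cm.symm ⟨f, comm_aux3 (D.a1 hn hn (ne_neg i) hn.2 hn.symm.2 (ne_neg _) u c).symm he' hf
    (D.cy_wx hn u f).symm (D.cy_wy' hij v f).symm⟩

theorem p_wy (c : F) : Cm R i (D.p i j u v) (D.wy i c) := by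
  have hn := dj_neg_right.mpr hij
  obtain ⟨s, hs⟩ := D.c4 hij c v
  have e1 : D.wy i c * D.wy j v * (D.wy i c)⁻¹ = D.wy j v * R.x i j s :=
    conj_of_y hs (D.b2 hij hij.2 (ne_neg j) v s)
  have hm : R.x i j s ∈ cen R i (D.wx i (neg j) u)⁻¹ := by
    refine ⟨cy_x hij s, (Cm.inv (D.cy_wx hn u) ?_).symm⟩
    exact ⟨_, D.a2' hij _ _⟩
  obtain ⟨f, hf⟩ := hm.2
  exact Cm.symm ⟨f, comm_aux3 (D.c5 hn (ne_neg i) hn.symm.2 c u) e1 hf
    (D.cy_wx hn u f).symm (D.cy_wy' hij v f).symm⟩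

theorem t_p : ∃ c d, R.t * D.p i j u v * R.t = D.p i j u v * D.wy i (u ^ 2 * v) * R.x i j c * R.y i d := by
  have hn := dj_neg_right.mpr hij
  obtain ⟨e, f, hxb⟩ := D.b3 hij.symm v u
  obtain ⟨c, d, hya⟩ := D.a5 hn u v
  rw [neg_neg] at hya
  have hxy : R.x i (neg j) u * R.y j v * (R.x i (neg j) u)⁻¹ =
      R.y j v * (R.x i j (v * u) * R.y i (v * u ^ 2)) := by
    have h0 := R.y_rel hij.symm v u
    rw [R.x_symm (neg j) i, R.x_symm j i] at h0
    have h1 : R.x i (neg j) u * R.y j v = R.y j v * (R.x i j (v * u) * R.y i (v * u ^ 2)) * R.x i (neg j) u := by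
      have hc : Commute (R.y j v) (R.x i j (v * u) * R.y i (v * u ^ 2)) :=
        (R.y_x_comm hij.2 (ne_neg j) _ _).mul_right (R.y_comm hij.2 _ _)
      have h2 := congrArg (fun g => (R.x i j (v * u) * R.y i (v * u ^ 2))⁻¹ * g) h0
      simp only [inv_mul_cancel_left] at h2
      rw [← h2, mul_inv_rev, R.x_inv, R.y_inv]
      have hz : R.y i (v * u ^ 2) * R.x i j (v * u) = R.x i j (v * u) * R.y i (v * u ^ 2) :=
        (R.y_x_comm (ne_neg i) hij.symm.2 _ _)
      rw [hz, ← mul_assoc, hc.eq]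
    rw [h1]; group
  have hxb' : R.x i (neg j) u * D.wy j v * (R.x i (neg j) u)⁻¹ =
      D.wy j v * (D.wy i (v * u ^ 2) * D.wx i j (v * u) * R.x i j e * R.y i f) := by
    rw [R.x_symm i (neg j), hxb, D.wx_symm j i, R.x_symm j i]; simp only [mul_assoc]
  have hya' : R.y j v * D.wx i (neg j) u * (R.y j v)⁻¹ =
      D.wx i (neg j) u * (D.wx i j (u * v) * R.x i j c * R.y i d) := by
    rw [hya]; simp only [mul_assoc]
  -- commutation rules
  have cyW : ∀ w, Commute (D.wy i w) (R.y j v) := fun w => D.b1 hij.symm.2 w v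
  have cyV : ∀ w, Commute (D.wx i j w) (R.y j v) := fun w => D.a4 hij hij.symm.2 (ne_neg j) w v
  have cyX : ∀ w, Commute (R.x i j w) (R.y j v) := fun w => (R.y_x_comm hij.2 (ne_neg j) v w).symm
  have cyZ : ∀ w, Commute (R.y i w) (R.y j v) := fun w => R.y_comm hij.symm.2 w v
  have cbV : ∀ w, Commute (D.wx i j w) (D.wy j v) := fun w => (D.c5 hij hij.2 (ne_neg j) v w).symm
  have cbX : ∀ w, Commute (R.x i j w) (D.wy j v) := fun w => (D.b2 hij hij.2 (ne_neg j) v w).symm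
  have cbZ : ∀ w, Commute (R.y i w) (D.wy j v) := fun w => (D.b1 hij.2 v w).symm
  have cWV : ∀ w w', Commute (D.wy i w) (D.wx i j w') := fun w w' => D.c5 hij (ne_neg i) hij.symm.2 w w'
  have cWX : ∀ w w', Commute (D.wy i w) (R.x i j w') := fun w w' => D.b2 hij (ne_neg i) hij.symm.2 w w'
  have cWZ : ∀ w w', Commute (D.wy i w) (R.y i w') := fun w w' => D.b1 (ne_neg i) w w'
  have cVX : ∀ w w', Commute (D.wx i j w) (R.x i j w') := fun w w' =>
    D.a1 hij hij (ne_neg i) hij.2 hij.symm.2 (ne_neg j) w w'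
  have cVZ : ∀ w w', Commute (D.wx i j w) (R.y i w') := fun w w' => D.a4 hij (ne_neg i) hij.2 w w'
  have cXZ : ∀ w w', Commute (R.x i j w) (R.y i w') := fun w w' => (R.y_x_comm (ne_neg i) hij.symm.2 w' w).symm
  -- commute with `a` modulo `Y_i`
  have cenW : ∀ w, D.wy i w ∈ cen R i (D.wx i (neg j) u) := fun w =>
    ⟨D.cy_wy i w, Cm.of_commute (D.c5 hn (ne_neg i) hn.symm.2 _ u)⟩
  have cenV : ∀ w, D.wx i j w ∈ cen R i (D.wx i (neg j) u) := fun w => ⟨D.cy_wx hij _, D.c2 hij _ u⟩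
  have cenX : ∀ w, R.x i j w ∈ cen R i (D.wx i (neg j) u) := fun w =>
    ⟨cy_x hij _, Cm.symm ⟨_, D.a2' hij _ _⟩⟩
  have cenZ : ∀ w, R.y i w ∈ cen R i (D.wx i (neg j) u) := fun w =>
    ⟨cy_y i w, Cm.of_commute (D.cy_wx hn u w).symm⟩
  have turn : ∀ g ∈ cen R i (D.wx i (neg j) u), ∃ c, D.wx i (neg j) u * g * (D.wx i (neg j) u)⁻¹ = g * R.y i c := by
    rintro g ⟨g1, g2⟩
    obtain ⟨c, hc⟩ := g2.symm
    exact ⟨c, by rw [hc, (g1 c).eq]; group⟩
  obtain ⟨z1, hz1⟩ := turn ((D.wy i (v * u ^ 2) * D.wx i j (v * u) * R.x i j e * R.y i f) *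
      (R.x i j (v * u) * R.y i (v * u ^ 2)))
    (mul_mem (mul_mem (mul_mem (mul_mem (cenW _) (cenV _)) (cenX _)) (cenZ _)) (mul_mem (cenX _) (cenZ _)))
  obtain ⟨z2, hz2⟩ := turn (D.wx i j (u * v) * R.x i j c * R.y i d)⁻¹
    (inv_mem (mul_mem (mul_mem (cenV _) (cenX _)) (cenZ _)))
  obtain ⟨s, hs⟩ := D.c4 hij (v * u ^ 2) v
  have hb : D.wy j v * D.wy i (v * u ^ 2) = R.x i j s * (D.wy i (v * u ^ 2) * D.wy j v) := by
    rw [hs, ← mul_assoc, R.x_sq, one_mul]
  have hbmk : D.wy j v * ((D.wy i (v * u ^ 2) * D.wx i j (v * u) * R.x i j e * R.y i f) *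
      (R.x i j (v * u) * R.y i (v * u ^ 2))) * (D.wy j v)⁻¹ =
      ((D.wy i (v * u ^ 2) * D.wx i j (v * u) * R.x i j e * R.y i f) *
      (R.x i j (v * u) * R.y i (v * u ^ 2))) * R.x i j s := by
    have c1 : Commute (D.wy j v) (D.wx i j (v * u) * R.x i j e * R.y i f * (R.x i j (v * u) * R.y i (v * u ^ 2))) :=
      (((cbV _).symm.mul_right (cbX _).symm).mul_right (cbZ _).symm).mul_right
        ((cbX _).symm.mul_right (cbZ _).symm)
    have c2 : Commute (R.x i j s) (D.wy i (v * u ^ 2) * (D.wx i j (v * u) * R.x i j e * R.y i f *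
        (R.x i j (v * u) * R.y i (v * u ^ 2)))) := by
      have cXX : ∀ w w', Commute (R.x i j w) (R.x i j w') := fun w w' =>
        R.x_comm (ne_neg i) hij.2 hij.symm.2 (ne_neg j) w w'
      exact (cWX _ _).symm.mul_right ((((cVX _ _).symm.mul_right (cXX _ _)).mul_right (cXZ _ _)).mul_right
        ((cXX _ _).mul_right (cXZ _ _)))
    calc _ = (D.wy j v * D.wy i (v * u ^ 2)) * (D.wx i j (v * u) * R.x i j e * R.y i f *
          (R.x i j (v * u) * R.y i (v * u ^ 2))) * (D.wy j v)⁻¹ := by simp only [mul_assoc]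
      _ = R.x i j s * D.wy i (v * u ^ 2) * (D.wy j v * (D.wx i j (v * u) * R.x i j e * R.y i f *
          (R.x i j (v * u) * R.y i (v * u ^ 2))) * (D.wy j v)⁻¹) := by rw [hb]; simp only [mul_assoc]
      _ = R.x i j s * (D.wy i (v * u ^ 2) * (D.wx i j (v * u) * R.x i j e * R.y i f *
          (R.x i j (v * u) * R.y i (v * u ^ 2)))) := by rw [c1.mul_inv_cancel]; simp only [mul_assoc]
      _ = _ := by rw [c2.eq]; simp only [mul_assoc]
  have key := t_aux (t := R.t) (a := D.wx i (neg j) u) (b := D.wy j v) (x := R.x i (neg j) u) (y := R.y j v)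
    R.tt (D.wx_t hn u) (D.wy_t j v) hxb' hxy
    ((((cyW _).symm.mul_right (cyV _).symm).mul_right (cyX _).symm).mul_right (cyZ _).symm)
    ((cyX _).symm.mul_right (cyZ _).symm) (cyZ z1).symm hya' hz1 hz2
    (((cbV _).symm.mul_right (cbX _).symm).mul_right (cbZ _).symm) hbmk (cbZ z1).symm
    ((((D.p_wx hij u v hij (ne_neg j) (u * v)).symm).mul_left (D.p_x hij u v hij (ne_neg j) c).symm).mul_left
      (D.p_y hij u v d).symm)
    ((D.p_y hij u v z2).symm)
  refine ⟨c + e + v * u + s, d + z2 + f + v * u ^ 2 + z1, ?_⟩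
  have hXZ : ∀ w w', R.y i w * R.x i j w' = R.x i j w' * R.y i w := fun w w' => ((cXZ w' w).symm).eq
  have hXZ' : ∀ w w' g, R.y i w * (R.x i j w' * g) = R.x i j w' * (R.y i w * g) := fun w w' g => by
    rw [← mul_assoc, hXZ, mul_assoc]
  have hWZ : ∀ w w', R.y i w' * D.wy i w = D.wy i w * R.y i w' := fun w w' => (cWZ w w').symm.eq
  have hWZ' : ∀ w w' g, R.y i w' * (D.wy i w * g) = D.wy i w * (R.y i w' * g) := fun w w' g => by
    rw [← mul_assoc, hWZ, mul_assoc]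
  have hWX : ∀ w w', R.x i j w' * D.wy i w = D.wy i w * R.x i j w' := fun w w' => (cWX w w').symm.eq
  have hWX' : ∀ w w' g, R.x i j w' * (D.wy i w * g) = D.wy i w * (R.x i j w' * g) := fun w w' g => by
    rw [← mul_assoc, hWX, mul_assoc]
  have hVW : ∀ w w' g, D.wx i j w' * (D.wy i w * g) = D.wy i w * (D.wx i j w' * g) := fun w w' g => by
    rw [← mul_assoc, (cWV w w').symm.eq, mul_assoc]
  have hVV : ∀ w g, D.wx i j w * (D.wx i j w * g) = g := fun w g => by
    rw [← mul_assoc, D.wx_sq hij, one_mul]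
  rw [show R.t * D.p i j u v * R.t = R.t * (D.wx i (neg j) u * D.wy j v * (D.wx i (neg j) u)⁻¹ * (D.wy j v)⁻¹) * R.t
    from rfl, key]
  have huv : u * v = v * u := mul_comm u v
  have huv2 : u ^ 2 * v = v * u ^ 2 := mul_comm _ _
  show D.p i j u v * _ = _
  simp only [mul_assoc]
  congr 1
  rw [mul_inv_rev, mul_inv_rev, R.y_inv, R.x_inv, D.wx_inv hij, huv, huv2]
  simp only [mul_assoc]
  have hVZ : ∀ w w' g, D.wx i j w * (R.y i w' * g) = R.y i w' * (D.wx i j w * g) := fun w w' g => by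
    rw [← mul_assoc, (cVZ w w').eq, mul_assoc]
  rw [hWZ', hVW, hVZ, hVV]
  simp only [hXZ', hWX', hWZ', R.x_add, R.y_add, mul_assoc]

end one

/-! ### the groups `N_i`, `F_i(J)` -/

/-- generators of `N_i` -/
def NS (i : Ix n) : Set G :=
  {g | (∃ u, g = D.wy i u) ∨ (∃ a, g = R.y i a) ∨ ∃ j, Dj i j ∧ ((∃ u, g = D.wx i j u) ∨ ∃ a, g = R.x i j a)}

/-- `N_i = W_{2e_i} ∏ W_{e_i±e_j}` -/
def N (i : Ix n) : Subgroup G := Subgroup.closure (D.NS i)

theorem NS_cy {i : Ix n} {g : G} (h : g ∈ D.NS i) : Cy R i g := by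
  rcases h with ⟨u, rfl⟩ | ⟨a, rfl⟩ | ⟨j, hij, ⟨u, rfl⟩ | ⟨a, rfl⟩⟩
  exacts [D.cy_wy i u, cy_y i a, D.cy_wx hij u, cy_x hij a]

omit D in
/-- a subgroup generated by elements which centralise `Y_i` and commute modulo `Y_i` -/
theorem closure_cm {i : Ix n} {S : Set G} (h1 : ∀ s ∈ S, Cy R i s) (h2 : ∀ s ∈ S, ∀ s' ∈ S, Cm R i s s') :
    ∀ g ∈ Subgroup.closure S, Cy R i g ∧ ∀ h ∈ Subgroup.closure S, Cm R i g h := by
  have e1 : ∀ s' ∈ S, Subgroup.closure S ≤ cen R i s' := fun s' hs' =>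
    (Subgroup.closure_le _).mpr fun s hs => ⟨h1 s hs, h2 s hs s' hs'⟩
  intro g hg
  have hS : ∀ x ∈ Subgroup.closure S, Cy R i x := by
    intro x hx
    refine Subgroup.closure_induction (p := fun g _ => Cy R i g) (fun s hs => h1 s hs) Cy.one
      (fun a b _ _ ha hb => ha.mul hb) (fun a _ ha => ha.inv) hx
  refine ⟨hS g hg, fun h hh => ?_⟩
  have : Subgroup.closure S ≤ cen R i g := (Subgroup.closure_le _).mpr fun s hs =>
    ⟨h1 s hs, (e1 s hs hg).2.symm⟩
  exact (this hh).2.symm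

theorem NS_cm {i : Ix n} {g h : G} (hg : g ∈ D.NS i) (hh : h ∈ D.NS i) : Cm R i g h := by
  have hwx : ∀ {j k}, Dj i j → Dj i k → ∀ u v, Cm R i (D.wx i j u) (D.wx i k v) := by
    intro j k hij hik u v
    by_cases hk : k = neg j
    · subst hk; exact D.c2 hij u v
    · refine Cm.of_commute (D.c1 hij hik (ne_neg i) hij.2 hik.symm.2 hk u v)
  have hwxx : ∀ {j k}, Dj i j → Dj i k → ∀ u v, Cm R i (D.wx i j u) (R.x i k v) := by
    intro j k hij hik u v
    by_cases hk : k = neg j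
    · subst hk; exact ⟨_, D.a2 hij u v⟩
    · refine Cm.of_commute (D.a1 hij hik (ne_neg i) hij.2 hik.symm.2 hk u v)
  have hxx : ∀ {j k}, Dj i j → Dj i k → ∀ u v, Cm R i (R.x i j u) (R.x i k v) := by
    intro j k hij hik u v
    by_cases hk : k = neg j
    · subst hk
      refine Cm.of_commute ?_
      rw [R.x_symm i j, R.x_symm i (neg j)]
      have := R.x_comm' (i := j) (j := i) u v
      exact this
    · refine Cm.of_commute (R.x_comm (ne_neg i) hij.2 hik.symm.2 hk u v)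
  rcases hg with ⟨u, rfl⟩ | ⟨a, rfl⟩ | ⟨j, hij, ⟨u, rfl⟩ | ⟨a, rfl⟩⟩ <;>
    rcases hh with ⟨u', rfl⟩ | ⟨a', rfl⟩ | ⟨k, hik, ⟨u', rfl⟩ | ⟨a', rfl⟩⟩
  · obtain ⟨c, hc⟩ := D.wy_add i u u'
    obtain ⟨c', hc'⟩ := D.wy_add i u' u
    refine ⟨c' + c, ?_⟩
    have e : D.wy i (u + u') = D.wy i u' * D.wy i u * R.y i c' := by
      rw [hc', mul_assoc, R.y_sq, mul_one, add_comm]
    rw [hc, e, mul_assoc _ (R.y i c'), ← R.y_add]
    exact ((D.cy_wy i u').mul (D.cy_wy i u) _).eq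
  · exact Cm.of_commute (D.cy_wy i u a')
  · exact Cm.of_commute (D.c5 hik (ne_neg i) hik.symm.2 _ _)
  · exact Cm.of_commute (D.b2 hik (ne_neg i) hik.symm.2 _ _)
  · exact Cm.of_commute (D.cy_wy i u' a).symm
  · exact Cm.of_commute (cy_y i a a')
  · exact Cm.of_commute (D.cy_wx hik u' a).symm
  · exact Cm.of_commute (cy_x hik a' a).symm
  · exact Cm.of_commute (D.c5 hij (ne_neg i) hij.symm.2 _ _).symm
  · exact Cm.of_commute (D.cy_wx hij u a')
  · exact hwx hij hik u u'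
  · exact hwxx hij hik u a'
  · exact Cm.of_commute (D.b2 hij (ne_neg i) hij.symm.2 _ _).symm
  · exact Cm.of_commute (cy_x hij a a')
  · exact (hwxx hik hij u' a).symm
  · exact hxx hij hik a a'

theorem N_cy {i : Ix n} {g : G} (h : g ∈ D.N i) : Cy R i g :=
  (closure_cm (fun _ h => D.NS_cy h) (fun _ h _ h' => D.NS_cm h h') g h).1

theorem N_cm {i : Ix n} {g h : G} (hg : g ∈ D.N i) (hh : h ∈ D.N i) : Cm R i g h :=
  (closure_cm (fun _ h => D.NS_cy h) (fun _ h _ h' => D.NS_cm h h') g hg).2 h hh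

theorem wy_mem_N (i : Ix n) (u : F) : D.wy i u ∈ D.N i := Subgroup.subset_closure (Or.inl ⟨u, rfl⟩)

theorem y_mem_N (i : Ix n) (u : F) : R.y i u ∈ D.N i := Subgroup.subset_closure (Or.inr (Or.inl ⟨u, rfl⟩))

theorem wx_mem_N {i j : Ix n} (h : Dj i j) (u : F) : D.wx i j u ∈ D.N i :=
  Subgroup.subset_closure (Or.inr (Or.inr ⟨j, h, Or.inl ⟨u, rfl⟩⟩))

theorem x_mem_N {i j : Ix n} (h : Dj i j) (u : F) : R.x i j u ∈ D.N i :=
  Subgroup.subset_closure (Or.inr (Or.inr ⟨j, h, Or.inr ⟨u, rfl⟩⟩))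

theorem Q_le_N (i : Ix n) : R.Q i ≤ D.N i := by
  refine (Subgroup.closure_le _).mpr ?_
  rintro g (⟨a, rfl⟩ | ⟨j, a, rfl⟩)
  · exact D.y_mem_N i a
  · by_cases h : Dj i j
    · exact D.x_mem_N h a
    · rw [R.x_of_not h]; exact one_mem _

theorem p_cmx {i j k : Ix n} (hij : Dj i j) (hik : Dj i k) (u v c : F) : Cm R i (D.p i j u v) (R.x i k c) := by
  by_cases hk : k = neg j
  · subst hk; exact D.p_xn hij u v c
  · exact Cm.of_commute (D.p_x hij u v hik hk c)

/-- `a P a⁻¹ = P⁻¹` -/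
theorem p_inv {i j : Ix n} (hij : Dj i j) (u v : F) :
    D.wx i (neg j) u * D.p i j u v * (D.wx i (neg j) u)⁻¹ = (D.p i j u v)⁻¹ := by
  have h1 := D.wx_inv (dj_neg_right.mpr hij) u
  have h2 := D.wx_sq (dj_neg_right.mpr hij) u
  rw [p, mul_inv_rev, mul_inv_rev, mul_inv_rev, inv_inv, inv_inv]
  calc _ = (D.wx i (neg j) u * D.wx i (neg j) u) * D.wy j v * (D.wx i (neg j) u)⁻¹ * (D.wy j v)⁻¹ *
        (D.wx i (neg j) u)⁻¹ := by simp only [mul_assoc]
    _ = D.wy j v * (D.wx i (neg j) u)⁻¹ * (D.wy j v)⁻¹ * (D.wx i (neg j) u)⁻¹ := by rw [h2, one_mul]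
    _ = _ := by rw [h1]; simp only [mul_assoc]

theorem eq_zero_of_commute {i j : Ix n} (hij : Dj i j) {u : F} {e : F}
    (h : Commute (D.wx i j 1) (R.x i (neg j) u * R.y i e)) : u = 0 := by
  have h1 : Commute (D.wx i j 1) (R.x i (neg j) u) := by
    have h2 := D.cy_wx hij 1 e
    have h3 := h.mul_right h2
    rwa [mul_assoc, R.y_sq, mul_one] at h3
  have h4 := D.a2 hij 1 u
  rw [h1.eq, one_mul] at h4
  exact R.y_eq_one (mul_eq_right.mp h4.symm)

/-- (10.2) and the vanishing of the `t`-component -/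
theorem p_div {i j k : Ix n} (hij : Dj i j) (hik : Dj i k) (hjk : Dj j k) {u v u' v' : F}
    (hs : u ^ 2 * v = u' ^ 2 * v') : D.p i j u v * (D.p i k u' v')⁻¹ ∈ D.N i := by
  by_cases h0 : u ^ 2 * v = 0
  · have e1 : D.p i j u v = 1 := by
      rcases mul_eq_zero.mp h0 with h | h
      · rw [pow_eq_zero_iff two_ne_zero] at h; rw [h, D.p_zero_left hij]
      · rw [h, D.p_zero_right]
    have e2 : D.p i k u' v' = 1 := by
      rw [hs] at h0
      rcases mul_eq_zero.mp h0 with h | h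
      · rw [pow_eq_zero_iff two_ne_zero] at h; rw [h, D.p_zero_left hik]
      · rw [h, D.p_zero_right]
    rw [e1, e2, inv_one, mul_one]; exact one_mem _
  have hu : u ≠ 0 := fun h => h0 (by rw [h]; ring)
  obtain ⟨c, d, h1⟩ := D.t_p hij u v
  obtain ⟨c', d', h2⟩ := D.t_p hik u' v'
  have hkj : k ≠ neg j := hjk.symm.2
  have hjk' : j ≠ neg k := hjk.2
  set P := D.p i j u v with hP
  set P' := D.p i k u' v' with hP'
  have ti : R.t⁻¹ = R.t := R.t_inv
  have hWX : ∀ {l}, Dj i l → ∀ w w', Commute (D.wy i w) (R.x i l w') := fun h w w' =>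
    D.b2 h (ne_neg i) h.symm.2 w w'
  have cP'j : Commute P' (R.x i j c) := D.p_x hik u' v' hij hjk' c
  have cP'k : Commute P' (R.x i k c') := D.p_x hik u' v' hik (ne_neg k) c'
  have g1 : R.t * (P * P'⁻¹) * R.t = (P * P'⁻¹) * (R.x i j c * R.x i k c' * R.y i (d + d')) := by
    have e1 : R.t * (P * P'⁻¹) * R.t = (R.t * P * R.t) * (R.t * P' * R.t)⁻¹ := by
      rw [mul_inv_rev, mul_inv_rev, ti]
      calc _ = R.t * P * (R.t * R.t) * P'⁻¹ * R.t := by rw [R.tt]; group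
        _ = _ := by simp only [mul_assoc]
    rw [e1, h1, h2, ← hs]
    have e2 : Commute (R.x i j c * R.x i k c' * R.y i (d + d')) P' :=
      ((cP'j.mul_right cP'k).mul_right (D.p_y hik u' v' _)).symm
    have e3 : Commute (D.wy i (u ^ 2 * v)) (R.x i j c * R.y i d * (R.y i d' * R.x i k c')) :=
      ((hWX hij _ _).mul_right (D.cy_wy i _ _)).mul_right ((D.cy_wy i _ _).mul_right (hWX hik _ _))
    calc _ = P * (D.wy i (u ^ 2 * v) * (R.x i j c * R.y i d * (R.y i d' * R.x i k c'))) *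
          (D.wy i (u ^ 2 * v))⁻¹ * P'⁻¹ := by
          simp only [mul_inv_rev, R.x_inv, R.y_inv, mul_assoc]
      _ = P * (R.x i j c * R.y i d * (R.y i d' * R.x i k c')) * P'⁻¹ := by rw [e3.eq]; group
      _ = P * (R.x i j c * (R.y i (d + d') * R.x i k c')) * P'⁻¹ := by
          rw [R.y_add]; simp only [mul_assoc]
      _ = P * (R.x i j c * R.x i k c' * R.y i (d + d')) * P'⁻¹ := by
          rw [← (cy_x hik c' _).eq, mul_assoc (R.x i j c)]
      _ = _ := by rw [mul_assoc P, (e2.inv_right).eq, mul_assoc P]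
  set e := d + d' with he
  set m := D.wx i j c * D.wx i k c' * D.wy i e with hm
  have cXX : Commute (R.x i j c) (R.x i k c') := R.x_comm (ne_neg i) hij.2 hik.symm.2 hkj _ _
  have cxm : Commute (R.x i j c * R.x i k c' * R.y i e) m := by
    have cj : Commute (R.x i j c) m :=
      ((D.a1 hij hij (ne_neg i) hij.2 hij.symm.2 (ne_neg j) c c).symm.mul_right
        (D.a1 hik hij (ne_neg i) hik.2 hij.symm.2 hjk' c' c).symm).mul_right (hWX hij e c).symm
    have ck : Commute (R.x i k c') m :=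
      ((D.a1 hij hik (ne_neg i) hij.2 hik.symm.2 hkj c c').symm.mul_right
        (D.a1 hik hik (ne_neg i) hik.2 hik.symm.2 (ne_neg k) c' c').symm).mul_right (hWX hik e c').symm
    have cy : Commute (R.y i e) m := (((D.cy_wx hij c).mul (D.cy_wx hik c')).mul (D.cy_wy i e) e).symm
    exact (cj.mul_left ck).mul_left cy
  have mN : m ∈ D.N i := mul_mem (mul_mem (D.wx_mem_N hij _) (D.wx_mem_N hik _)) (D.wy_mem_N i _)
  have tm : R.t * m * R.t = m * (R.x i j c * R.x i k c' * R.y i e) := by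
    have e1 : R.t * m * R.t = (R.t * D.wx i j c * R.t) * (R.t * D.wx i k c' * R.t) * (R.t * D.wy i e * R.t) := by
      rw [hm]
      calc _ = R.t * D.wx i j c * (R.t * R.t) * D.wx i k c' * (R.t * R.t) * D.wy i e * R.t := by
            rw [R.tt]; simp only [mul_one, mul_assoc]
        _ = _ := by simp only [mul_assoc]
    rw [e1, D.wx_t hij, D.wx_t hik, D.wy_t]
    have c1 : Commute (R.x i j c) (D.wx i k c') := (D.a1 hik hij (ne_neg i) hik.2 hij.symm.2 hjk' c' c).symm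
    have c2 : Commute (R.x i j c * R.x i k c') (D.wy i e) :=
      (hWX hij e c).symm.mul_left (hWX hik e c').symm
    calc _ = D.wx i j c * (R.x i j c * D.wx i k c') * R.x i k c' * (D.wy i e * R.y i e) := by
          simp only [mul_assoc]
      _ = D.wx i j c * D.wx i k c' * ((R.x i j c * R.x i k c') * D.wy i e) * R.y i e := by
          rw [c1.eq]; simp only [mul_assoc]
      _ = _ := by rw [c2.eq, hm]; simp only [mul_assoc]
  have sq1 : (R.x i j c * R.x i k c' * R.y i e) * (R.x i j c * R.x i k c' * R.y i e) = 1 := by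
    have h3 : Commute (R.x i j c * R.x i k c') (R.y i e) := ((cy_x hij c).mul (cy_x hik c')) e
    calc _ = (R.x i j c * R.x i k c') * (R.y i e * (R.x i j c * R.x i k c')) * R.y i e := by
          simp only [mul_assoc]
      _ = (R.x i j c * R.x i k c') * (R.x i j c * R.x i k c') * (R.y i e * R.y i e) := by
          rw [← h3.eq]; simp only [mul_assoc]
      _ = R.x i j c * (R.x i k c' * R.x i j c) * R.x i k c' := by rw [R.y_sq]; simp only [mul_one, mul_assoc]
      _ = (R.x i j c * R.x i j c) * (R.x i k c' * R.x i k c') := by rw [← cXX.eq]; simp only [mul_assoc]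
      _ = 1 := by rw [R.x_sq, R.x_sq, one_mul]
  set g := P * P'⁻¹ with hg
  have tgm : g * m * R.t = R.t * (g * m) := by
    have e1 : R.t * (g * m) * R.t = g * m := by
      calc R.t * (g * m) * R.t = (R.t * g * R.t) * (R.t * m * R.t) := by
            calc _ = R.t * g * (R.t * R.t) * m * R.t := by rw [R.tt]; simp only [mul_one, mul_assoc]
              _ = _ := by simp only [mul_assoc]
        _ = g * ((R.x i j c * R.x i k c' * R.y i e) * m) * (R.x i j c * R.x i k c' * R.y i e) := by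
            rw [g1, tm]; simp only [mul_assoc]
        _ = g * m * ((R.x i j c * R.x i k c' * R.y i e) * (R.x i j c * R.x i k c' * R.y i e)) := by
            rw [cxm.eq]; simp only [mul_assoc]
        _ = g * m := by rw [sq1, mul_one]
    calc g * m * R.t = (R.t * R.t) * (g * m) * R.t := by rw [R.tt, one_mul]
      _ = R.t * (R.t * (g * m) * R.t) := by simp only [mul_assoc]
      _ = _ := by rw [e1]
  have cyg : Cy R i g := (D.p_y hij u v).mul (Cy.inv (D.p_y hik u' v'))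
  have cmg : ∀ l, Dj i l → ∀ a, Cm R i (g * m) (R.x i l a) := fun l hil a =>
    Cm.mul cyg (Cm.mul (D.p_y hij u v) (D.p_cmx hij hil u v a)
      (Cm.inv (D.p_y hik u' v') (D.p_cmx hik hil u' v' a))) (D.N_cm mN (D.x_mem_N hil a))
  rcases D.f3 i (g * m) tgm (cyg.mul (D.N_cy mN)) cmg with h | h
  · have : g = (g * m) * m⁻¹ := by group
    rw [this]
    exact mul_mem (D.Q_le_N i h) (inv_mem mN)
  · exfalso
    have hn := dj_neg_right.mpr hij
    have hPz : P = R.t * (R.t * (g * m) * m⁻¹ * P') := by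
      calc P = g * P' := by rw [hg]; group
        _ = (R.t * R.t) * g * P' := by rw [R.tt, one_mul]
        _ = _ := by group
    set z := R.t * (g * m) * m⁻¹ * P' with hz
    have cyq : Cy R i (R.t * (g * m) * m⁻¹) := (D.N_cy (D.Q_le_N i h)).mul (D.N_cy mN).inv
    have cza : Cm R i z (D.wx i (neg j) u) :=
      Cm.mul cyq (D.N_cm (mul_mem (D.Q_le_N i h) (inv_mem mN)) (D.wx_mem_N hn u))
        (Cm.of_commute (D.p_wx hik u' v' hn (by rw [Ne, neg_inj]; exact hjk.1) u))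
    obtain ⟨c1, hc1⟩ := cza.symm
    have hx : Commute (D.wx i (neg j) u) (R.x i (neg j) u) := D.a1 hn hn (ne_neg i) hn.2 hn.symm.2 (ne_neg _) u u
    have ht := D.wx_t hn u
    have hat : D.wx i (neg j) u * R.t * (D.wx i (neg j) u)⁻¹ = R.t * R.x i (neg j) u := by
      have e1 : R.t * D.wx i (neg j) u * R.t * (D.wx i (neg j) u)⁻¹ = R.x i (neg j) u := by
        rw [ht, hx.eq]; group
      calc _ = R.t * (R.t * D.wx i (neg j) u * R.t * (D.wx i (neg j) u)⁻¹) := by
            rw [← mul_assoc, ← mul_assoc, ← mul_assoc, R.tt, one_mul]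
        _ = _ := by rw [e1]
    have hPi : P⁻¹ = R.x i (neg j) u * (R.y i c1 * P) := by
      rw [← D.p_inv hij u v, ← hP]
      calc _ = (D.wx i (neg j) u * R.t * (D.wx i (neg j) u)⁻¹) * (D.wx i (neg j) u * z) * (D.wx i (neg j) u)⁻¹ := by
            rw [hPz]; group
        _ = (R.t * R.x i (neg j) u) * R.y i c1 * z := by rw [hat, hc1]; group
        _ = R.x i (neg j) u * (R.t * R.y i c1) * z := by rw [← (R.x_t i (neg j) u).eq]; simp only [mul_assoc]
        _ = _ := by rw [← (R.y_t i c1).eq, hPz]; simp only [mul_assoc]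
    obtain ⟨c2, hc2⟩ := D.p_xn hij u v u
    have cyP : Cy R i P := D.p_y hij u v
    have hPP : P * P = R.x i (neg j) u * R.y i (c1 + c2) := by
      have e1 : P * (R.x i (neg j) u * (R.y i c1 * P)) = 1 := by rw [← hPi]; group
      have e2 : R.y i c2 * (R.x i (neg j) u * (R.y i c1 * (P * P))) = 1 := by
        rw [← e1, ← mul_assoc P, hc2, ← mul_assoc (R.y i c1), ← (cyP c1).eq]
        simp only [mul_assoc]
        rw [(cyP c1).eq]
      have e3 : P * P = (R.y i c2 * (R.x i (neg j) u * R.y i c1))⁻¹ :=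
        eq_inv_of_mul_eq_one_right (by rw [← e2]; simp only [mul_assoc])
      rw [e3, mul_inv_rev, mul_inv_rev, R.y_inv, R.y_inv, R.x_inv, R.y_add, ← (cy_x hn u c1).eq]
      simp only [mul_assoc]
    refine hu (D.eq_zero_of_commute hij (e := c1 + c2) (u := u) ?_)
    rw [← hPP]
    have := D.p_wx hij u v hij (ne_neg j) 1
    exact this.symm.mul_right this.symm

theorem p_mem {i j k : Ix n} (hij : Dj i j) (hik : Dj i k) (hjk : Dj j k) {u v u' v' : F}
    (hs : u ^ 2 * v = u' ^ 2 * v') : ∃ m ∈ D.N i, D.p i j u v = m * D.p i k u' v' :=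
  ⟨_, D.p_div hij hik hjk hs, by group⟩


/-- `N_i` is generated by elements commuting with `P` modulo `Y_i` -/
theorem N_le_cen {i : Ix n} {g : G} (hg : Cy R i g) (h1 : ∀ j, Dj i j → ∀ u, Cm R i g (D.wx i j u))
    (h2 : ∀ j, Dj i j → ∀ a, Cm R i g (R.x i j a)) (h3 : ∀ u, Cm R i g (D.wy i u)) :
    ∀ m ∈ D.N i, Cm R i g m := by
  have : D.N i ≤ cen R i g := by
    refine (Subgroup.closure_le _).mpr ?_
    rintro m (⟨u, rfl⟩ | ⟨a, rfl⟩ | ⟨j, hij, ⟨u, rfl⟩ | ⟨a, rfl⟩⟩)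
    · exact ⟨D.cy_wy i u, (h3 u).symm⟩
    · exact ⟨cy_y i a, Cm.of_commute (hg a).symm⟩
    · exact ⟨D.cy_wx hij u, (h1 j hij u).symm⟩
    · exact ⟨cy_x hij a, (h2 j hij a).symm⟩
  exact fun m hm => (this hm).2.symm

section big

variable (h3 : ∀ i j : Ix n, ∃ k, Dj i k ∧ Dj j k)

include h3

theorem p_cm_wxn {i j : Ix n} (hij : Dj i j) (u v c : F) : Cm R i (D.p i j u v) (D.wx i (neg j) c) := by
  obtain ⟨k, hik, hjk⟩ := h3 i j
  obtain ⟨m, hm, e⟩ := D.p_mem hij hik hjk (u := u) (v := v) (u' := u) (v' := v) rfl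
  rw [e]
  exact Cm.mul (D.N_cy hm) (D.N_cm hm (D.wx_mem_N (dj_neg_right.mpr hij) c))
    (Cm.of_commute (D.p_wx hik u v (dj_neg_right.mpr hij) (by rw [Ne, neg_inj]; exact hjk.1) c))

theorem p_cm_N {i j : Ix n} (hij : Dj i j) (u v : F) : ∀ m ∈ D.N i, Cm R i (D.p i j u v) m :=
  D.N_le_cen (D.p_y hij u v) (fun k hik c => by
    by_cases hk : k = neg j
    · subst hk; exact D.p_cm_wxn h3 hij u v c
    · exact Cm.of_commute (D.p_wx hij u v hik hk c)) (fun k hik c => D.p_cmx hij hik u v c)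
    (fun c => D.p_wy hij u v c)

theorem p_sq {i j : Ix n} (hij : Dj i j) (u v : F) : D.p i j u v * D.p i j u v ∈ Yg R i := by
  obtain ⟨c, hc⟩ := (D.p_cm_wxn h3 hij u v u).symm
  have h1 := D.p_inv hij u v
  rw [hc] at h1
  refine ⟨c, ?_⟩
  have h2 : R.y i c * D.p i j u v = (D.p i j u v)⁻¹ := by rw [← h1]; group
  have h4 : R.y i c * (D.p i j u v * D.p i j u v) = 1 := by rw [← mul_assoc, h2, inv_mul_cancel]
  calc D.p i j u v * D.p i j u v = R.y i c * (R.y i c * (D.p i j u v * D.p i j u v)) := by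
        rw [← mul_assoc, R.y_sq, one_mul]
    _ = _ := by rw [h4, mul_one]

theorem p_add {i j : Ix n} (hij : Dj i j) (u u' v : F) :
    ∃ c, D.p i j (u + u') v = R.y i c * (D.p i j u' v * D.p i j u v) := by
  obtain ⟨c, hc⟩ := (D.p_cm_wxn h3 hij u' v u).symm
  refine ⟨c, ?_⟩
  have e : D.p i j (u + u') v = D.wx i (neg j) u * D.p i j u' v * (D.wx i (neg j) u)⁻¹ * D.p i j u v := by
    simp only [p]
    rw [D.wx_add (dj_neg_right.mpr hij)]
    group
  rw [e, hc]; group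

theorem p_cm_same {i j : Ix n} (hij : Dj i j) (u u' v : F) : Cm R i (D.p i j u v) (D.p i j u' v) := by
  obtain ⟨c, hc⟩ := D.p_add h3 hij u u' v
  obtain ⟨d, hd⟩ := D.p_add h3 hij u' u v
  rw [add_comm u' u, hc] at hd
  refine ⟨d + c, ?_⟩
  have e := congrArg (fun g => R.y i d * g) hd
  rw [← mul_assoc, ← mul_assoc (R.y i d) (R.y i d), R.y_sq, one_mul, ← R.y_add] at e
  exact e.symm

theorem p_mem' [Finite F] {i j k : Ix n} (hij : Dj i j) (hik : Dj i k) {u' v' v : F} (hv : v ≠ 0) :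
    ∃ a, ∃ m ∈ D.N i, D.p i k u' v' = m * D.p i j a v := by
  obtain ⟨a, ha⟩ : ∃ a : F, a ^ 2 = u' ^ 2 * v' / v := by
    have h2 : ringChar F = 2 := ringChar.eq F 2
    obtain ⟨a, ha⟩ := FiniteField.isSquare_of_char_two h2 (u' ^ 2 * v' / v)
    exact ⟨a, by rw [ha, sq]⟩
  have ha' : u' ^ 2 * v' = a ^ 2 * v := by rw [ha, div_mul_cancel₀ _ hv]
  refine ⟨a, ?_⟩
  by_cases hjk : Dj j k
  · exact D.p_mem hik hij hjk.symm ha'
  · obtain ⟨l, hil, hjl⟩ := h3 i j
    have hkl : Dj k l := by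
      by_contra hkl
      simp only [Dj, not_and_or, not_not] at hjk hkl hjl
      rcases hjk with h | h <;> rcases hkl with h' | h'
      · exact hjl.1 (h.trans h')
      · exact hjl.2 (h.trans h')
      · exact hjl.2 (by rw [h, h'])
      · exact hjl.1 (by rw [h, h', neg_neg])
    obtain ⟨m1, hm1, e1⟩ := D.p_mem hik hil hkl (u := u') (v := v') (u' := u') (v' := v') rfl
    obtain ⟨m2, hm2, e2⟩ := D.p_mem hil hij hjl.symm ha'
    exact ⟨m1 * m2, mul_mem hm1 hm2, by rw [e1, e2, mul_assoc]⟩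

theorem p_cm [Finite F] {i j k : Ix n} (hij : Dj i j) (hik : Dj i k) (u v u' v' : F) :
    Cm R i (D.p i j u v) (D.p i k u' v') := by
  by_cases hv : v = 0
  · rw [hv, D.p_zero_right]; exact Cm.of_commute (Commute.one_left _)
  obtain ⟨a, m, hm, e⟩ := D.p_mem' h3 hij hik hv (u' := u') (v' := v')
  rw [e]
  exact (Cm.mul (D.N_cy hm) (D.p_cm_N h3 hij u v m hm).symm (D.p_cm_same h3 hij a u v)).symm

end big

/-- generators of `F_i(J)` -/
def FS (i : Ix n) (J : Set (Ix n)) : Set G :=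
  {g | (∃ u, g = D.wy i u) ∨ (∃ a, g = R.y i a) ∨ ∃ j ∈ J, Dj i j ∧
    ((∃ u, g = D.wx i j u) ∨ (∃ a, g = R.x i j a) ∨ ∃ u v, g = D.p i j u v)}

/-- `F_i(J) = ⟨W_{2e_i}, W_{e_i+e_j}, p_j(u,v) : j ∈ J⟩` -/
def Fg (i : Ix n) (J : Set (Ix n)) : Subgroup G := Subgroup.closure (D.FS i J)

section Fmem

variable {i j : Ix n} {J : Set (Ix n)}

theorem wy_mem_F (u : F) : D.wy i u ∈ D.Fg i J := Subgroup.subset_closure (Or.inl ⟨u, rfl⟩)

theorem y_mem_F (u : F) : R.y i u ∈ D.Fg i J := Subgroup.subset_closure (Or.inr (Or.inl ⟨u, rfl⟩))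

theorem wx_mem_F (hJ : j ∈ J) (h : Dj i j) (u : F) : D.wx i j u ∈ D.Fg i J :=
  Subgroup.subset_closure (Or.inr (Or.inr ⟨j, hJ, h, Or.inl ⟨u, rfl⟩⟩))

theorem x_mem_F (hJ : j ∈ J) (h : Dj i j) (u : F) : R.x i j u ∈ D.Fg i J :=
  Subgroup.subset_closure (Or.inr (Or.inr ⟨j, hJ, h, Or.inr (Or.inl ⟨u, rfl⟩)⟩))

theorem p_mem_F (hJ : j ∈ J) (h : Dj i j) (u v : F) : D.p i j u v ∈ D.Fg i J :=
  Subgroup.subset_closure (Or.inr (Or.inr ⟨j, hJ, h, Or.inr (Or.inr ⟨u, v, rfl⟩)⟩))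

theorem F_mono {J' : Set (Ix n)} (h : J ⊆ J') : D.Fg i J ≤ D.Fg i J' := by
  refine Subgroup.closure_mono ?_
  rintro g (h1 | h1 | ⟨j, hj, hij, h1⟩)
  exacts [Or.inl h1, Or.inr (Or.inl h1), Or.inr (Or.inr ⟨j, h hj, hij, h1⟩)]

theorem N_le_F : D.N i ≤ D.Fg i Set.univ := by
  refine Subgroup.closure_mono ?_
  rintro g (h1 | h1 | ⟨j, hij, h1 | h1⟩)
  exacts [Or.inl h1, Or.inr (Or.inl h1), Or.inr (Or.inr ⟨j, trivial, hij, Or.inl h1⟩),
    Or.inr (Or.inr ⟨j, trivial, hij, Or.inr (Or.inl h1)⟩)]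

variable [Finite F] (h3 : ∀ i j : Ix n, ∃ k, Dj i k ∧ Dj j k)

include h3

theorem FS_cm {g h : G} (hg : g ∈ D.FS i Set.univ) (hh : h ∈ D.FS i Set.univ) : Cm R i g h := by
  have key : ∀ g, g ∈ D.FS i Set.univ → g ∈ D.N i ∨ ∃ j, Dj i j ∧ ∃ u v, g = D.p i j u v := by
    rintro g (⟨u, rfl⟩ | ⟨a, rfl⟩ | ⟨j, -, hij, ⟨u, rfl⟩ | ⟨a, rfl⟩ | ⟨u, v, rfl⟩⟩)
    exacts [Or.inl (D.wy_mem_N i u), Or.inl (D.y_mem_N i a), Or.inl (D.wx_mem_N hij u), Or.inl (D.x_mem_N hij a),
      Or.inr ⟨j, hij, u, v, rfl⟩]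
  rcases key g hg with h1 | ⟨j, hij, u, v, rfl⟩ <;> rcases key h hh with h2 | ⟨k, hik, u', v', rfl⟩
  · exact D.N_cm h1 h2
  · exact (D.p_cm_N h3 hik u' v' g h1).symm
  · exact D.p_cm_N h3 hij u v h h2
  · exact D.p_cm h3 hij hik u v u' v'

omit h3 [Finite F] in
theorem FS_cy {g : G} (hg : g ∈ D.FS i J) : Cy R i g := by
  rcases hg with ⟨u, rfl⟩ | ⟨a, rfl⟩ | ⟨j, -, hij, ⟨u, rfl⟩ | ⟨a, rfl⟩ | ⟨u, v, rfl⟩⟩
  exacts [D.cy_wy i u, cy_y i a, D.cy_wx hij u, cy_x hij a, D.p_y hij u v]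

omit h3 [Finite F] in
theorem F_cy {g : G} (hg : g ∈ D.Fg i J) : Cy R i g :=
  Subgroup.closure_induction (p := fun g _ => Cy R i g) (fun _ hs => D.FS_cy hs) Cy.one
    (fun _ _ _ _ ha hb => ha.mul hb) (fun _ _ ha => ha.inv) hg

theorem F_cm {g h : G} (hg : g ∈ D.Fg i J) (hh : h ∈ D.Fg i J) : Cm R i g h :=
  (closure_cm (fun _ h => D.FS_cy h) (fun _ h _ h' => D.FS_cm h3 h h') g (D.F_mono (Set.subset_univ J) hg)).2 h
    (D.F_mono (Set.subset_univ J) hh)

theorem F_sq {g : G} (hg : g ∈ D.Fg i J) : g * g ∈ Yg R i := by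
  refine Subgroup.closure_induction (p := fun g _ => g * g ∈ Yg R i) ?_ ?_ ?_ ?_ hg
  · rintro g (⟨u, rfl⟩ | ⟨a, rfl⟩ | ⟨j, -, hij, ⟨u, rfl⟩ | ⟨a, rfl⟩ | ⟨u, v, rfl⟩⟩)
    · rw [D.wy_sq]; exact y_mem_Yg i u
    · rw [R.y_sq]; exact one_mem _
    · rw [D.wx_sq hij]; exact one_mem _
    · rw [R.x_sq]; exact one_mem _
    · exact D.p_sq h3 hij u v
  · rw [one_mul]; exact one_mem _
  · intro a b ha hb h1 h2
    obtain ⟨c, hc⟩ := D.F_cm h3 hb ha
    have e : a * b * (a * b) = R.y i c * ((a * a) * (b * b)) := by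
      calc a * b * (a * b) = a * (b * a) * b := by group
        _ = (a * R.y i c) * (a * b * b) := by rw [hc]; group
        _ = _ := by rw [(D.F_cy ha c).eq]; group
    rw [e]
    exact mul_mem (y_mem_Yg i c) (mul_mem h1 h2)
  · intro a _ h1
    have : a⁻¹ * a⁻¹ = (a * a)⁻¹ := by group
    rw [this]; exact inv_mem h1

end Fmem

/-! ### normalisers -/

omit D in
theorem mem_normalizer_of_gen {H : Type*} [Group H] [Finite H] {S : Set H} {g : H}
    (h : ∀ s ∈ S, g * s * g⁻¹ ∈ Subgroup.closure S) :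
    g ∈ Subgroup.normalizer (Subgroup.closure S : Set H) := by
  have h1 : (Subgroup.closure S).map (MulAut.conj g).toMonoidHom ≤ Subgroup.closure S := by
    rw [Subgroup.map_le_iff_le_comap, Subgroup.closure_le]
    intro s hs
    exact h s hs
  have h2 : (Subgroup.closure S).map (MulAut.conj g).toMonoidHom = Subgroup.closure S :=
    Subgroup.eq_of_le_of_card_ge h1
      (Nat.card_congr ((Subgroup.closure S).equivMapOfInjective _ (MulAut.conj g).injective).toEquiv).le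
  rw [Subgroup.mem_normalizer_iff]
  intro x
  constructor
  · intro hx
    exact h1 ⟨x, hx, rfl⟩
  · intro hx
    have hx' : g * x * g⁻¹ ∈ (Subgroup.closure S).map (MulAut.conj g).toMonoidHom := by
      rw [h2]; exact hx
    obtain ⟨z, hz, e⟩ := hx'
    have e2 : g * z * g⁻¹ = g * x * g⁻¹ := e
    have e3 : z = x := mul_left_cancel (mul_right_cancel e2)
    rwa [← e3]

section nor

variable [Finite G] [Finite F] (h3 : ∀ i j : Ix n, ∃ k, Dj i k ∧ Dj j k) {i : Ix n}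

/-- to normalise `F_i` -/
theorem mem_nor {g : G} (h0 : ∀ u, g * D.wy i u * g⁻¹ ∈ D.Fg i Set.univ) (h1 : Cy R i g)
    (h2 : ∀ j, Dj i j → ∀ u, g * D.wx i j u * g⁻¹ ∈ D.Fg i Set.univ)
    (h4 : ∀ j, Dj i j → ∀ u, g * R.x i j u * g⁻¹ ∈ D.Fg i Set.univ)
    (h5 : ∀ j, Dj i j → ∀ u v, g * D.p i j u v * g⁻¹ ∈ D.Fg i Set.univ) :
    g ∈ Subgroup.normalizer (D.Fg i Set.univ : Set G) := by
  refine mem_normalizer_of_gen ?_
  rintro s (⟨u, rfl⟩ | ⟨a, rfl⟩ | ⟨j, -, hij, ⟨u, rfl⟩ | ⟨a, rfl⟩ | ⟨u, v, rfl⟩⟩)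
  · exact h0 u
  · rw [(h1 a).mul_inv_cancel]; exact D.y_mem_F a
  · exact h2 j hij u
  · exact h4 j hij a
  · exact h5 j hij u v

omit [Finite G] [Finite F] in
theorem conj_mem_of_comm {g s : G} {H : Subgroup G} (h : Commute g s) (hs : s ∈ H) : g * s * g⁻¹ ∈ H := by
  rw [h.mul_inv_cancel]; exact hs

omit [Finite G] in
theorem x_conj {k l : Ix n} (hik : Dj i k) (hil : Dj i l) (hkl : Dj k l) (c : F) :
    (∀ j, Dj i j → ∀ u, R.x k l c * D.wx i j u * (R.x k l c)⁻¹ ∈ D.N i) ∧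
    (∀ j, Dj i j → ∀ u, R.x k l c * R.x i j u * (R.x k l c)⁻¹ ∈ D.N i) ∧
    (∀ j, Dj i j → ∀ u v, R.x k l c * D.p i j u v * (R.x k l c)⁻¹ ∈ D.Fg i Set.univ) := by
  have hwx : ∀ {k l : Ix n}, Dj i k → Dj i l → Dj k l → ∀ (j : Ix n), Dj i j → ∀ u, l ≠ neg j →
      R.x k l c * D.wx i j u * (R.x k l c)⁻¹ ∈ D.N i := by
    intro k l hik hil hkl j hij u hjl
    by_cases hk : k = neg j
    · subst hk
      obtain ⟨d, hd⟩ := D.a3 hij (dj_neg_left.mp hkl) hil u c
      rw [hd]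
      exact mul_mem (mul_mem (D.wx_mem_N hij _) (D.wx_mem_N hil _)) (D.x_mem_N hil _)
    · exact D.conj_mem_of_comm (D.a1 hij hkl hik.symm.2 hk hil.symm.2 hjl u c).symm (D.wx_mem_N hij u)
  have hx : ∀ {k l : Ix n}, Dj i k → Dj i l → Dj k l → ∀ (j : Ix n), Dj i j → ∀ u, l ≠ neg j →
      R.x k l c * R.x i j u * (R.x k l c)⁻¹ ∈ D.N i := by
    intro k l hik hil hkl j hij u hjl
    by_cases hk : k = neg j
    · subst hk
      have hd := R.x_rel hij (dj_neg_left.mp hkl) hil u c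
      have e : R.x (neg j) l c * R.x i j u * (R.x (neg j) l c)⁻¹ = (R.x i l (u * c))⁻¹ * R.x i j u := by
        have h4 : R.x (neg j) l c * R.x i j u = (R.x i l (u * c))⁻¹ * (R.x i j u * R.x (neg j) l c) := by
          rw [hd]; group
        rw [h4]; group
      rw [e]
      exact mul_mem (inv_mem (D.x_mem_N hil _)) (D.x_mem_N hij _)
    · exact D.conj_mem_of_comm (R.x_comm hik.symm.2 hk hil.symm.2 hjl u c).symm (D.x_mem_N hij u)
  -- commuting with `p`
  have hp0 : ∀ {k l : Ix n}, Dj i k → Dj i l → Dj k l → ∀ (j : Ix n), Dj i j → ∀ u v, k ≠ neg j → l ≠ neg j →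
      Commute (R.x k l c) (D.p i j u v) := by
    intro k l hik hil hkl j hij u v hk hl
    by_cases hkj : k = j
    · subst hkj; exact (D.p_xj hij u v hil hkl c).symm
    by_cases hlj : l = j
    · subst hlj; rw [R.x_symm]; exact (D.p_xj hij u v hik hkl.symm c).symm
    · exact (D.p_xkl hij u v hkl hik hil ⟨fun e => hkj e.symm, fun e => hk (by rw [e, neg_neg])⟩
        ⟨fun e => hlj e.symm, fun e => hl (by rw [e, neg_neg])⟩ c).symm
  have hN : ∀ m ∈ D.N i, R.x k l c * m * (R.x k l c)⁻¹ ∈ D.N i := by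
    intro m hm
    refine Subgroup.closure_induction (p := fun m _ => R.x k l c * m * (R.x k l c)⁻¹ ∈ D.N i) ?_ ?_ ?_ ?_ hm
    · rintro s (⟨u, rfl⟩ | ⟨a, rfl⟩ | ⟨j, hij, h⟩)
      · exact D.conj_mem_of_comm (D.b2 hkl hik.symm.2 hil.symm.2 u c).symm (D.wy_mem_N i u)
      · exact D.conj_mem_of_comm (R.y_x_comm hik.symm.2 hil.symm.2 a c).symm (D.y_mem_N i a)
      · by_cases hl : l = neg j
        · have hk : k ≠ neg j := fun e => hkl.1 (e.trans hl.symm)
          rw [R.x_symm k l]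
          rcases h with ⟨u, rfl⟩ | ⟨u, rfl⟩
          exacts [hwx hil hik hkl.symm j hij u hk, hx hil hik hkl.symm j hij u hk]
        · rcases h with ⟨u, rfl⟩ | ⟨u, rfl⟩
          exacts [hwx hik hil hkl j hij u hl, hx hik hil hkl j hij u hl]
    · rw [mul_one, mul_inv_cancel]; exact one_mem _
    · intro a b _ _ ha hb
      have e : R.x k l c * (a * b) * (R.x k l c)⁻¹ =
          (R.x k l c * a * (R.x k l c)⁻¹) * (R.x k l c * b * (R.x k l c)⁻¹) := by group
      rw [e]; exact mul_mem ha hb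
    · intro a _ ha
      have e : R.x k l c * a⁻¹ * (R.x k l c)⁻¹ = (R.x k l c * a * (R.x k l c)⁻¹)⁻¹ := by group
      rw [e]; exact inv_mem ha
  refine ⟨fun j hij u => hN _ (D.wx_mem_N hij u), fun j hij u => hN _ (D.x_mem_N hij u), fun j hij u v => ?_⟩
  by_cases h : k ≠ neg j ∧ l ≠ neg j
  · exact D.conj_mem_of_comm (hp0 hik hil hkl j hij u v h.1 h.2) (D.p_mem_F (Set.mem_univ _) hij u v)
  · -- `p_j = m p_k'` with `k'` the other index
    obtain ⟨k', hik', hjk', hc⟩ : ∃ k', Dj i k' ∧ Dj j k' ∧ Commute (R.x k l c) (D.p i k' u v) := by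
      by_cases hk : k = neg j
      · refine ⟨l, hil, ?_, hp0 hik hil hkl l hil u v ?_ (ne_neg l)⟩
        · rw [hk] at hkl; exact dj_neg_left.mp hkl
        · exact hkl.2
      · have hl : l = neg j := by
          by_contra hl; exact h ⟨hk, hl⟩
        refine ⟨k, hik, ?_, hp0 hik hil hkl k hik u v (ne_neg k) ?_⟩
        · rw [hl] at hkl; exact (dj_neg_right.mp hkl).symm
        · exact hkl.symm.2
    obtain ⟨m, hm, e⟩ := D.p_mem hij hik' hjk' (u := u) (v := v) (u' := u) (v' := v) rfl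
    have e2 : R.x k l c * D.p i j u v * (R.x k l c)⁻¹ =
        (R.x k l c * m * (R.x k l c)⁻¹) * (R.x k l c * D.p i k' u v * (R.x k l c)⁻¹) := by rw [e]; group
    rw [e2, hc.mul_inv_cancel]
    exact mul_mem (D.N_le_F (hN m hm)) (D.p_mem_F (Set.mem_univ _) hik' u v)

theorem x_nor {k l : Ix n} (hik : Dj i k) (hil : Dj i l) (hkl : Dj k l) (c : F) :
    R.x k l c ∈ Subgroup.normalizer (D.Fg i Set.univ : Set G) := by
  obtain ⟨h1, h2, h4⟩ := D.x_conj hik hil hkl c
  refine D.mem_nor (fun u => D.conj_mem_of_comm (D.b2 hkl hik.symm.2 hil.symm.2 u c).symm (D.wy_mem_F u))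
    (fun a => (R.y_x_comm hik.symm.2 hil.symm.2 a c).symm) (fun j hij u => D.N_le_F (h1 j hij u))
    (fun j hij u => D.N_le_F (h2 j hij u)) h4

omit D [Finite G] [Finite F] in
theorem closure_conj {S : Set G} {g : G} {H : Subgroup G} (h : ∀ s ∈ S, g * s * g⁻¹ ∈ H) :
    ∀ m ∈ Subgroup.closure S, g * m * g⁻¹ ∈ H := by
  intro m hm
  refine Subgroup.closure_induction (p := fun m _ => g * m * g⁻¹ ∈ H) h ?_ ?_ ?_ hm
  · rw [mul_one, mul_inv_cancel]; exact one_mem _
  · intro a b _ _ ha hb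
    have e : g * (a * b) * g⁻¹ = (g * a * g⁻¹) * (g * b * g⁻¹) := by group
    rw [e]; exact mul_mem ha hb
  · intro a _ ha
    have e : g * a⁻¹ * g⁻¹ = (g * a * g⁻¹)⁻¹ := by group
    rw [e]; exact inv_mem ha

omit [Finite G] in
theorem wx_conj {k l : Ix n} (hik : Dj i k) (hil : Dj i l) (hkl : Dj k l) (c : F) :
    (∀ j, Dj i j → ∀ u, D.wx k l c * D.wx i j u * (D.wx k l c)⁻¹ ∈ D.N i) ∧
    (∀ j, Dj i j → ∀ u, D.wx k l c * R.x i j u * (D.wx k l c)⁻¹ ∈ D.N i) ∧
    (∀ j, Dj i j → ∀ u v, D.wx k l c * D.p i j u v * (D.wx k l c)⁻¹ ∈ D.Fg i Set.univ) := by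
  have hwx : ∀ {k l : Ix n}, Dj i k → Dj i l → Dj k l → ∀ (j : Ix n), Dj i j → ∀ u, l ≠ neg j →
      D.wx k l c * D.wx i j u * (D.wx k l c)⁻¹ ∈ D.N i := by
    intro k l hik hil hkl j hij u hjl
    by_cases hk : k = neg j
    · subst hk
      obtain ⟨d, e, hd⟩ := D.c3 hij (dj_neg_left.mp hkl) hil u c
      rw [hd]
      exact mul_mem (mul_mem (D.wx_mem_N hij _) (D.wx_mem_N hil _)) (D.x_mem_N hil _)
    · exact D.conj_mem_of_comm (D.c1 hij hkl hik.symm.2 hk hil.symm.2 hjl u c).symm (D.wx_mem_N hij u)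
  have hx : ∀ {k l : Ix n}, Dj i k → Dj i l → Dj k l → ∀ (j : Ix n), Dj i j → ∀ u, l ≠ neg j →
      D.wx k l c * R.x i j u * (D.wx k l c)⁻¹ ∈ D.N i := by
    intro k l hik hil hkl j hij u hjl
    by_cases hk : k = neg j
    · subst hk
      obtain ⟨d, hd⟩ := D.a3 (i := l) (j := neg j) (k := i) hkl.symm (dj_neg_left.mpr hij.symm) hil.symm c u
      rw [neg_neg, R.x_symm j i, D.wx_symm l (neg j)] at hd
      have hw := D.wx_inv hkl c
      have e : D.wx (neg j) l c * R.x i j u * (D.wx (neg j) l c)⁻¹ =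
          (D.wx l i (c * u) * R.x l i d) * R.x i j u := by
        have h4 : R.x i j u * D.wx (neg j) l c = D.wx (neg j) l c * (D.wx l i (c * u) * R.x l i d) * R.x i j u := by
          rw [← mul_assoc, ← hd]; group
        have h5 : (D.wx (neg j) l c)⁻¹ * (R.x i j u * D.wx (neg j) l c) =
            (D.wx l i (c * u) * R.x l i d) * R.x i j u := by rw [h4]; group
        rw [← h5]
        rw [hw]; simp only [mul_assoc]
      rw [e, D.wx_symm, R.x_symm l i]
      exact mul_mem (mul_mem (D.wx_mem_N hil _) (D.x_mem_N hil _)) (D.x_mem_N hij _)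
    · refine D.conj_mem_of_comm (D.a1 hkl hij ?_ ?_ ?_ ?_ c u) (D.x_mem_N hij u)
      · exact hik.2
      · exact hil.2
      · intro e; exact hk (by rw [e, neg_neg])
      · intro e; exact hjl (by rw [e, neg_neg])
  -- commuting with `p`
  have hp0 : ∀ {k l : Ix n}, Dj i k → Dj i l → Dj k l → ∀ (j : Ix n), Dj i j → ∀ u v, k ≠ neg j → l ≠ neg j →
      Commute (D.wx k l c) (D.p i j u v) := by
    intro k l hik hil hkl j hij u v hk hl
    by_cases hkj : k = j
    · subst hkj; exact (D.p_wxj hij u v hil hkl c).symm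
    by_cases hlj : l = j
    · subst hlj; rw [D.wx_symm]; exact (D.p_wxj hij u v hik hkl.symm c).symm
    · exact (D.p_wxkl hij u v hkl hik hil ⟨fun e => hkj e.symm, fun e => hk (by rw [e, neg_neg])⟩
        ⟨fun e => hlj e.symm, fun e => hl (by rw [e, neg_neg])⟩ c).symm
  have hN : ∀ m ∈ D.N i, D.wx k l c * m * (D.wx k l c)⁻¹ ∈ D.N i := by
    refine closure_conj (S := D.NS i) ?_
    rintro s (⟨u, rfl⟩ | ⟨a, rfl⟩ | ⟨j, hij, h⟩)
    · exact D.conj_mem_of_comm (D.c5 hkl hik.symm.2 hil.symm.2 u c).symm (D.wy_mem_N i u)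
    · exact D.conj_mem_of_comm (D.a4 hkl hik.2 hil.2 c a) (D.y_mem_N i a)
    · by_cases hl : l = neg j
      · have hk : k ≠ neg j := fun e => hkl.1 (e.trans hl.symm)
        rw [D.wx_symm k l]
        rcases h with ⟨u, rfl⟩ | ⟨u, rfl⟩
        exacts [hwx hil hik hkl.symm j hij u hk, hx hil hik hkl.symm j hij u hk]
      · rcases h with ⟨u, rfl⟩ | ⟨u, rfl⟩
        exacts [hwx hik hil hkl j hij u hl, hx hik hil hkl j hij u hl]
  refine ⟨fun j hij u => hN _ (D.wx_mem_N hij u), fun j hij u => hN _ (D.x_mem_N hij u), fun j hij u v => ?_⟩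
  by_cases h : k ≠ neg j ∧ l ≠ neg j
  · exact D.conj_mem_of_comm (hp0 hik hil hkl j hij u v h.1 h.2) (D.p_mem_F (Set.mem_univ _) hij u v)
  · obtain ⟨k', hik', hjk', hc⟩ : ∃ k', Dj i k' ∧ Dj j k' ∧ Commute (D.wx k l c) (D.p i k' u v) := by
      by_cases hk : k = neg j
      · refine ⟨l, hil, ?_, hp0 hik hil hkl l hil u v ?_ (ne_neg l)⟩
        · rw [hk] at hkl; exact dj_neg_left.mp hkl
        · exact hkl.2
      · have hl : l = neg j := by
          by_contra hl; exact h ⟨hk, hl⟩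
        refine ⟨k, hik, ?_, hp0 hik hil hkl k hik u v (ne_neg k) ?_⟩
        · rw [hl] at hkl; exact (dj_neg_right.mp hkl).symm
        · exact hkl.symm.2
    obtain ⟨m, hm, e⟩ := D.p_mem hij hik' hjk' (u := u) (v := v) (u' := u) (v' := v) rfl
    have e2 : D.wx k l c * D.p i j u v * (D.wx k l c)⁻¹ =
        (D.wx k l c * m * (D.wx k l c)⁻¹) * (D.wx k l c * D.p i k' u v * (D.wx k l c)⁻¹) := by rw [e]; group
    rw [e2, hc.mul_inv_cancel]
    exact mul_mem (D.N_le_F (hN m hm)) (D.p_mem_F (Set.mem_univ _) hik' u v)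

theorem wx_nor {k l : Ix n} (hik : Dj i k) (hil : Dj i l) (hkl : Dj k l) (c : F) :
    D.wx k l c ∈ Subgroup.normalizer (D.Fg i Set.univ : Set G) := by
  obtain ⟨h1, h2, h4⟩ := D.wx_conj hik hil hkl c
  exact D.mem_nor (fun u => D.conj_mem_of_comm (D.c5 hkl hik.symm.2 hil.symm.2 u c).symm (D.wy_mem_F u))
    (fun a => D.a4 hkl hik.2 hil.2 c a) (fun j hij u => D.N_le_F (h1 j hij u))
    (fun j hij u => D.N_le_F (h2 j hij u)) h4

include h3

omit [Finite G] in
theorem y_conj {k : Ix n} (hik : Dj i k) (c : F) :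
    (∀ m ∈ D.N i, R.y k c * m * (R.y k c)⁻¹ ∈ D.N i) ∧
    (∀ j, Dj i j → ∀ u v, R.y k c * D.p i j u v * (R.y k c)⁻¹ ∈ D.Fg i Set.univ) := by
  have hN : ∀ m ∈ D.N i, R.y k c * m * (R.y k c)⁻¹ ∈ D.N i := by
    refine closure_conj (S := D.NS i) ?_
    rintro s (⟨u, rfl⟩ | ⟨a, rfl⟩ | ⟨j, hij, ⟨u, rfl⟩ | ⟨u, rfl⟩⟩)
    · exact D.conj_mem_of_comm (D.b1 hik.symm.2 u c).symm (D.wy_mem_N i u)
    · exact D.conj_mem_of_comm (R.y_comm hik.2 c a) (D.y_mem_N i a)
    · by_cases hk : k = neg j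
      · subst hk
        obtain ⟨d, e, hd⟩ := D.a5 hij u c
        rw [hd]
        exact mul_mem (mul_mem (mul_mem (D.wx_mem_N hij _) (D.wx_mem_N hik _)) (D.x_mem_N hik _)) (D.y_mem_N i _)
      · exact D.conj_mem_of_comm (D.a4 hij hik.symm.2 hk u c).symm (D.wx_mem_N hij u)
    · by_cases hk : k = neg j
      · subst hk
        have h4 := R.y_rel (i := neg j) (j := i) hik.symm c u
        rw [neg_neg, R.x_symm j i] at h4
        have e : R.y (neg j) c * R.x i j u * (R.y (neg j) c)⁻¹ =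
            R.x (neg j) i (c * u) * R.y i (c * u ^ 2) * R.x i j u := by rw [h4]; group
        rw [e, R.x_symm (neg j) i]
        exact mul_mem (mul_mem (D.x_mem_N hik _) (D.y_mem_N i _)) (D.x_mem_N hij _)
      · refine D.conj_mem_of_comm (R.y_x_comm hik.2 ?_ c u) (D.x_mem_N hij u)
        intro e; exact hk (by rw [e, neg_neg])
  refine ⟨hN, fun j hij u v => ?_⟩
  have hp0 : ∀ {j : Ix n}, Dj i j → k ≠ neg j → Commute (R.y k c) (D.p i j u v) := by
    intro j hij hk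
    by_cases hkj : k = j
    · subst hkj; exact (D.p_yj hij u v c).symm
    · exact (D.p_yk hij u v hik ⟨fun e => hkj e.symm, fun e => hk (by rw [e, neg_neg])⟩ c).symm
  by_cases hk : k = neg j
  · obtain ⟨l, hil, hjl⟩ := h3 i j
    obtain ⟨m, hm, e⟩ := D.p_mem hij hil hjl (u := u) (v := v) (u' := u) (v' := v) rfl
    have hc := hp0 hil (by rw [hk, Ne, neg_inj]; exact hjl.1)
    have e2 : R.y k c * D.p i j u v * (R.y k c)⁻¹ =
        (R.y k c * m * (R.y k c)⁻¹) * (R.y k c * D.p i l u v * (R.y k c)⁻¹) := by rw [e]; group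
    rw [e2, hc.mul_inv_cancel]
    exact mul_mem (D.N_le_F (hN m hm)) (D.p_mem_F (Set.mem_univ _) hil u v)
  · exact D.conj_mem_of_comm (hp0 hij hk) (D.p_mem_F (Set.mem_univ _) hij u v)

theorem y_nor {k : Ix n} (hik : Dj i k) (c : F) :
    R.y k c ∈ Subgroup.normalizer (D.Fg i Set.univ : Set G) := by
  obtain ⟨h1, h2⟩ := D.y_conj h3 hik c
  exact D.mem_nor (fun u => D.N_le_F (h1 _ (D.wy_mem_N i u)))
    (fun a => R.y_comm hik.2 c a) (fun j hij u => D.N_le_F (h1 _ (D.wx_mem_N hij u)))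
    (fun j hij u => D.N_le_F (h1 _ (D.x_mem_N hij u))) h2

theorem wy_nor {k : Ix n} (hik : Dj i k) (c : F) :
    D.wy k c ∈ Subgroup.normalizer (D.Fg i Set.univ : Set G) := by
  have hN : ∀ m ∈ D.N i, D.wy k c * m * (D.wy k c)⁻¹ ∈ D.Fg i Set.univ := by
    refine closure_conj (S := D.NS i) ?_
    rintro s (⟨u, rfl⟩ | ⟨a, rfl⟩ | ⟨j, hij, ⟨u, rfl⟩ | ⟨u, rfl⟩⟩)
    · obtain ⟨d, hd⟩ := D.c4 hik u c
      have e : D.wy k c * D.wy i u * (D.wy k c)⁻¹ = (R.x i k d)⁻¹ * D.wy i u := by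
        have : D.wy k c * D.wy i u = (R.x i k d)⁻¹ * (D.wy i u * D.wy k c) := by rw [hd]; group
        rw [this]; group
      rw [e]
      exact mul_mem (inv_mem (D.x_mem_F (Set.mem_univ _) hik _)) (D.wy_mem_F u)
    · exact D.conj_mem_of_comm (D.b1 hik.2 c a) (D.y_mem_F a)
    · by_cases hk : j = neg k
      · subst hk
        have e : D.wy k c * D.wx i (neg k) u * (D.wy k c)⁻¹ = (D.p i k u c)⁻¹ * D.wx i (neg k) u := by
          rw [p]; group
        rw [e]
        exact mul_mem (inv_mem (D.p_mem_F (Set.mem_univ _) hik _ _)) (D.wx_mem_F (Set.mem_univ _) hij _)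
      · exact D.conj_mem_of_comm (D.c5 hij hik.2 hk c u) (D.wx_mem_F (Set.mem_univ _) hij u)
    · by_cases hk : j = neg k
      · subst hk
        obtain ⟨d, e, hd⟩ := D.b3 hik.symm c u
        rw [R.x_symm (neg k) i] at hd
        have hy : D.wy k c = R.y k c * (D.wy k c)⁻¹ := by rw [← D.wy_sq]; group
        have e : D.wy k c * R.x i (neg k) u * (D.wy k c)⁻¹ =
            R.y k c * ((D.wy i (c * u ^ 2) * D.wx k i (c * u) * R.x k i d * R.y i e) * R.x i (neg k) u) *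
              (R.y k c)⁻¹ := by
          have h4 : (D.wy k c)⁻¹ * R.x i (neg k) u * D.wy k c =
              (D.wy i (c * u ^ 2) * D.wx k i (c * u) * R.x k i d * R.y i e) * R.x i (neg k) u := by
            have h5 : R.x i (neg k) u * D.wy k c = D.wy k c *
                (D.wy i (c * u ^ 2) * D.wx k i (c * u) * R.x k i d * R.y i e) * R.x i (neg k) u := by
              have h6 : D.wy k c * (D.wy i (c * u ^ 2) * D.wx k i (c * u) * R.x k i d * R.y i e) =
                  R.x i (neg k) u * D.wy k c * (R.x i (neg k) u)⁻¹ := by rw [hd]; simp only [mul_assoc]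
              rw [h6]; group
            rw [mul_assoc, h5]; group
          rw [← h4]
          conv_lhs => rw [hy]
          group
        rw [e]
        refine (Subgroup.mem_normalizer_iff.mp (D.y_nor h3 hik c) _).mp ?_
        rw [D.wx_symm k i, R.x_symm k i]
        exact mul_mem (mul_mem (mul_mem (mul_mem (D.wy_mem_F _) (D.wx_mem_F (Set.mem_univ _) hik _))
          (D.x_mem_F (Set.mem_univ _) hik _)) (D.y_mem_F _)) (D.x_mem_F (Set.mem_univ _) hij _)
      · exact D.conj_mem_of_comm (D.b2 hij hik.2 hk c u) (D.x_mem_F (Set.mem_univ _) hij u)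
  refine D.mem_nor (fun u => hN _ (D.wy_mem_N i u)) (fun a => D.b1 hik.2 c a)
    (fun j hij u => hN _ (D.wx_mem_N hij u)) (fun j hij u => hN _ (D.x_mem_N hij u)) ?_
  intro j hij u v
  have hp0 : ∀ {j : Ix n}, Dj i j → Dj j k → D.wy k c * D.p i j u v * (D.wy k c)⁻¹ ∈ D.Fg i Set.univ := by
    intro j hij hjk
    have hn := dj_neg_right.mpr hij
    obtain ⟨s, hs⟩ := D.c4 hjk.symm c v
    obtain ⟨g1, -, g2⟩ := D.x_conj hik hij hjk.symm s
    have ca : Commute (D.wy k c) (D.wx i (neg j) u) := D.c5 hn hik.2 (by rw [Ne, neg_inj]; exact hjk.1) c u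
    have cb : D.wy k c * D.wy j v * (D.wy k c)⁻¹ = R.x k j s * D.wy j v := by rw [hs]; group
    have e : D.wy k c * D.p i j u v * (D.wy k c)⁻¹ =
        (D.wx i (neg j) u * (R.x k j s * D.wx i (neg j) u * (R.x k j s)⁻¹)⁻¹) *
          (R.x k j s * D.p i j u v * (R.x k j s)⁻¹) := by
      calc _ = (D.wy k c * D.wx i (neg j) u * (D.wy k c)⁻¹) * (D.wy k c * D.wy j v * (D.wy k c)⁻¹) *
            (D.wy k c * D.wx i (neg j) u * (D.wy k c)⁻¹)⁻¹ * (D.wy k c * D.wy j v * (D.wy k c)⁻¹)⁻¹ := by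
            rw [p]; group
        _ = _ := by rw [ca.mul_inv_cancel, cb, p]; group
    rw [e]
    exact mul_mem (D.N_le_F (mul_mem (D.wx_mem_N hn u) (inv_mem (g1 _ hn u)))) (g2 j hij u v)
  by_cases hjk : Dj j k
  · exact hp0 hij hjk
  · obtain ⟨l, hil, hjl⟩ := h3 i j
    have hlk : Dj l k := by
      by_contra hkl
      simp only [Dj, not_and_or, not_not] at hjk hkl hjl
      rcases hjk with h | h <;> rcases hkl with h' | h'
      · exact hjl.1 (by rw [h, h'])
      · exact hjl.2 (by rw [h, h', neg_neg])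
      · exact hjl.2 (by rw [h, h'])
      · exact hjl.1 (by rw [h, h'])
    obtain ⟨m, hm, e⟩ := D.p_mem hij hil hjl (u := u) (v := v) (u' := u) (v' := v) rfl
    have e2 : D.wy k c * D.p i j u v * (D.wy k c)⁻¹ =
        (D.wy k c * m * (D.wy k c)⁻¹) * (D.wy k c * D.p i l u v * (D.wy k c)⁻¹) := by rw [e]; group
    rw [e2]
    exact mul_mem (hN m hm) (hp0 hil hlk)

end nor

end COne

end Cfsg.Agent.OddHalf.SpN

end

-- merged: Cfsg.Agent.OddHalf.SpN.COneI
section

/-!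
# ODD D7, `K = Sp_2n(q)`, pattern (C,O): involutions of `tF_i`, fixed points of the torus on `F_i` (helper63)

* `inv_F` : every involution of `tF_i` is `F_i`-conjugate to `t`.
* `eq_one_of_fix` : `C_{F_i}(h) = 1` for `h = h(λ)`, `λ_i ≠ 1`, `λ_j = 1`.
* `mem_of_fix` : `C_{F_i}(h) ≤ F_i(J)`.
-/

set_option autoImplicit false

namespace Cfsg.Agent.OddHalf.SpN

/-- fixed point free action on generators of an abelian group -/
theorem eq_one_of_fpf {G : Type*} [Group G] {S : Set G} [Finite G] {A : Subgroup G} (hA : A = Subgroup.closure S)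
    (comm : ∀ a ∈ A, ∀ b ∈ A, a * b = b * a) {h : G} (hh : ∀ a ∈ A, h * a * h⁻¹ ∈ A)
    (hs : ∀ s ∈ S, ∃ s' ∈ A, h * s' * h⁻¹ * s'⁻¹ = s) {a : G} (ha : a ∈ A) (e : h * a * h⁻¹ = a) : a = 1 := by
  let ψ : A →* A :=
    { toFun := fun a => ⟨h * a.1 * h⁻¹ * a.1⁻¹, mul_mem (hh _ a.2) (inv_mem a.2)⟩
      map_one' := Subtype.ext (by simp)
      map_mul' := fun a b => Subtype.ext (by
        show h * (a.1 * b.1) * h⁻¹ * (a.1 * b.1)⁻¹ = (h * a.1 * h⁻¹ * a.1⁻¹) * (h * b.1 * h⁻¹ * b.1⁻¹)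
        have e1 : (h * b.1 * h⁻¹ * b.1⁻¹) * a.1⁻¹ = a.1⁻¹ * (h * b.1 * h⁻¹ * b.1⁻¹) :=
          comm _ (mul_mem (hh _ b.2) (inv_mem b.2)) _ (inv_mem a.2)
        calc _ = h * a.1 * h⁻¹ * ((h * b.1 * h⁻¹ * b.1⁻¹) * a.1⁻¹) := by group
          _ = _ := by rw [e1]; group) }
  have hsurj : Function.Surjective ψ := by
    rw [← MonoidHom.range_eq_top]
    have h1 : A ≤ ψ.range.map A.subtype := by
      conv_lhs => rw [hA]
      rw [Subgroup.closure_le]
      intro s hs'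
      obtain ⟨s', h1, h2⟩ := hs s hs'
      exact ⟨ψ ⟨s', h1⟩, ⟨_, rfl⟩, h2⟩
    rw [eq_top_iff]
    intro x _
    obtain ⟨y, hy, hyx⟩ := h1 x.2
    have : y = x := Subtype.ext hyx
    rwa [← this]
  have hinj : Function.Injective ψ := Finite.injective_iff_surjective.mpr hsurj
  have h1 : ψ ⟨a, ha⟩ = ψ 1 := by
    rw [map_one]
    exact Subtype.ext (by show h * a * h⁻¹ * a⁻¹ = 1; rw [e, mul_inv_cancel])
  exact congrArg Subtype.val (hinj h1)

namespace COne

variable {n : ℕ} {F : Type*} [Field F] [CharP F 2] {G : Type*} [Group G] {R : Frame n F G} (D : COne R)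

include D

theorem not_x_eq_y {i j : Ix n} (hij : Dj i j) {c : F} (h : R.x i j 1 = R.y i c) : False := by
  have h1 := D.a2' hij 1 1
  rw [h, one_mul, ((D.cy_wx (dj_neg_right.mpr hij) 1) c).eq] at h1
  exact one_ne_zero (R.y_eq_one (mul_eq_right.mp h1.symm))

theorem wy_conj_t (i : Ix n) (u : F) : D.wy i u * R.t * (D.wy i u)⁻¹ = R.t * R.y i u := by
  have h1 := D.wy_t i u
  have h2 : R.t * (D.wy i u * R.t * (D.wy i u)⁻¹) = R.y i u := by
    rw [← mul_assoc, ← mul_assoc, h1, (D.cy_wy i u u).eq]; group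
  rw [← h2, ← mul_assoc R.t R.t, R.tt, one_mul]

theorem wx_conj_t {i j : Ix n} (hij : Dj i j) (u : F) :
    D.wx i j u * R.t * (D.wx i j u)⁻¹ = R.t * R.x i j u := by
  have h1 := D.wx_t hij u
  have h2 : R.t * (D.wx i j u * R.t * (D.wx i j u)⁻¹) = R.x i j u := by
    rw [← mul_assoc, ← mul_assoc, h1, (D.a1 hij hij (ne_neg i) hij.2 hij.symm.2 (ne_neg j) u u).eq]; group
  rw [← h2, ← mul_assoc R.t R.t, R.tt, one_mul]

theorem wy_inv (i : Ix n) (u : F) : (D.wy i u)⁻¹ = D.wy i u * R.y i u := by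
  apply inv_eq_of_mul_eq_one_right
  rw [← mul_assoc, D.wy_sq, R.y_sq]

theorem wy_comm_Q {i : Ix n} {q : G} (hq : q ∈ R.Q i) (u : F) : Commute (D.wy i u) q := by
  refine Subgroup.closure_induction (p := fun q _ => Commute (D.wy i u) q) ?_ (Commute.one_right _)
    (fun _ _ _ _ h1 h2 => h1.mul_right h2) (fun _ _ h1 => h1.inv_right) hq
  rintro g (⟨a, rfl⟩ | ⟨j, a, rfl⟩)
  · exact D.cy_wy i u a
  · by_cases h : Dj i j
    · exact D.b2 h (ne_neg i) h.symm.2 u a
    · rw [R.x_of_not h]; exact Commute.one_right _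

section fin

variable [Finite F] (h3 : ∀ i j : Ix n, ∃ k, Dj i k ∧ Dj j k) {i : Ix n} {J : Set (Ix n)}

omit [Finite F] in
theorem Q_le_F : R.Q i ≤ D.Fg i Set.univ := (D.Q_le_N i).trans D.N_le_F

omit [Finite F] in
/-- `t b` is `F_i(J)`-conjugate to `t` -/
theorem rch_y {b : G} (h : ∃ c ∈ D.Fg i J, c * R.t * c⁻¹ = R.t * b) (e : F) :
    ∃ c ∈ D.Fg i J, c * R.t * c⁻¹ = R.t * (b * R.y i e) := by
  obtain ⟨c, hc, h1⟩ := h
  refine ⟨c * D.wy i e, mul_mem hc (D.wy_mem_F e), ?_⟩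
  have h2 := D.wy_conj_t i e
  calc c * D.wy i e * R.t * (c * D.wy i e)⁻¹ = c * (D.wy i e * R.t * (D.wy i e)⁻¹) * c⁻¹ := by group
    _ = (c * R.t * c⁻¹) * (c * R.y i e * c⁻¹) := by rw [h2]; group
    _ = _ := by rw [h1, (D.F_cy hc e).mul_inv_cancel, mul_assoc]

include h3

theorem rch_mul {b b' : G} (hb' : b' ∈ D.Fg i J) (h : ∃ c ∈ D.Fg i J, c * R.t * c⁻¹ = R.t * b)
    (h' : ∃ c ∈ D.Fg i J, c * R.t * c⁻¹ = R.t * b') : ∃ c ∈ D.Fg i J, c * R.t * c⁻¹ = R.t * (b * b') := by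
  obtain ⟨c, hc, h1⟩ := h
  obtain ⟨c', hc', h2⟩ := h'
  obtain ⟨e, he⟩ := D.F_cm h3 hc hb'
  have h4 : ∃ c ∈ D.Fg i J, c * R.t * c⁻¹ = R.t * (b * b' * R.y i e) := by
    refine ⟨c * c', mul_mem hc hc', ?_⟩
    calc c * c' * R.t * (c * c')⁻¹ = c * (c' * R.t * c'⁻¹) * c⁻¹ := by group
      _ = (c * R.t * c⁻¹) * (c * b') * c⁻¹ := by rw [h2]; group
      _ = R.t * b * (R.y i e * b') := by rw [h1, he]; group
      _ = _ := by rw [← (D.F_cy hb' e).eq]; simp only [mul_assoc]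
  have h5 := D.rch_y h4 e
  rwa [mul_assoc (b * b'), R.y_sq, mul_one] at h5

theorem rch_wy {j : Ix n} (hJ : j ∈ J) (hij : Dj i j) (a : F) :
    ∃ c ∈ D.Fg i J, c * R.t * c⁻¹ = R.t * D.wy i a := by
  obtain ⟨u, hu⟩ : ∃ u : F, u ^ 2 = a := by
    obtain ⟨u, hu⟩ := FiniteField.isSquare_of_char_two (ringChar.eq F 2) a
    exact ⟨u, by rw [hu, sq]⟩
  obtain ⟨c, d, h1⟩ := D.t_p hij u 1
  rw [mul_one, hu] at h1
  have hP := D.p_mem_F hJ hij u 1
  have hb : D.wy i a * R.x i j c * R.y i d ∈ D.Fg i J :=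
    mul_mem (mul_mem (D.wy_mem_F a) (D.x_mem_F hJ hij c)) (D.y_mem_F d)
  obtain ⟨e, he⟩ := D.F_cm h3 hP hb
  have h2 : ∃ c' ∈ D.Fg i J, c' * R.t * c'⁻¹ = R.t * (D.wy i a * R.x i j c * R.y i d * R.y i e) := by
    refine ⟨D.p i j u 1, hP, ?_⟩
    have h4 : R.t * (D.p i j u 1 * R.t * (D.p i j u 1)⁻¹) = D.wy i a * R.x i j c * R.y i d * R.y i e := by
      calc _ = (R.t * D.p i j u 1 * R.t) * (D.p i j u 1)⁻¹ := by group
        _ = D.p i j u 1 * (D.wy i a * R.x i j c * R.y i d) * (D.p i j u 1)⁻¹ := by rw [h1]; group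
        _ = _ := by rw [he, (D.F_cy hb e).eq]; group
    rw [← h4, ← mul_assoc R.t R.t, R.tt, one_mul]
  have h4 := D.rch_mul h3 (D.x_mem_F hJ hij c) h2 ⟨_, D.wx_mem_F hJ hij c, D.wx_conj_t hij c⟩
  have h5 := D.rch_y h4 (d + e)
  have e1 : D.wy i a * R.x i j c * R.y i d * R.y i e * R.x i j c * R.y i (d + e) = D.wy i a := by
    have e2 := (cy_x (R := R) hij c (d + e)).eq
    calc _ = D.wy i a * R.x i j c * (R.y i d * R.y i e) * R.x i j c * R.y i (d + e) := by
          simp only [mul_assoc]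
      _ = D.wy i a * (R.x i j c * (R.y i (d + e) * R.x i j c)) * R.y i (d + e) := by
          rw [← R.y_add]; simp only [mul_assoc]
      _ = D.wy i a * ((R.x i j c * R.x i j c) * R.y i (d + e)) * R.y i (d + e) := by
          rw [← e2]; simp only [mul_assoc]
      _ = _ := by rw [R.x_sq, one_mul, mul_assoc, R.y_sq, mul_one]
  rwa [e1] at h5

/-- `t b ~ t` for `b ∈ W_i Q_i(J)` -/
theorem rch_B {j : Ix n} (hJ : j ∈ J) (hij : Dj i j) {b : G}
    (hb : b ∈ Subgroup.closure {g | (∃ u, g = D.wy i u) ∨ (∃ a, g = R.y i a) ∨ ∃ k ∈ J, Dj i k ∧ ∃ a, g = R.x i k a}) :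
    b ∈ D.Fg i J ∧ ∃ c ∈ D.Fg i J, c * R.t * c⁻¹ = R.t * b := by
  have one : ∃ c ∈ D.Fg i J, c * R.t * c⁻¹ = R.t * 1 := ⟨1, one_mem _, by group⟩
  refine Subgroup.closure_induction (p := fun b _ => b ∈ D.Fg i J ∧ ∃ c ∈ D.Fg i J, c * R.t * c⁻¹ = R.t * b)
    ?_ ?_ ?_ ?_ hb
  · rintro g (⟨u, rfl⟩ | ⟨a, rfl⟩ | ⟨k, hk, hik, a, rfl⟩)
    · exact ⟨D.wy_mem_F u, D.rch_wy h3 hJ hij u⟩
    · have := D.rch_y one a
      rw [one_mul] at this
      exact ⟨D.y_mem_F a, this⟩
    · exact ⟨D.x_mem_F hk hik a, _, D.wx_mem_F hk hik a, D.wx_conj_t hik a⟩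
  · exact ⟨one_mem _, one⟩
  · rintro a b - - ⟨ha, ha'⟩ ⟨hb, hb'⟩
    exact ⟨mul_mem ha hb, D.rch_mul h3 hb ha' hb'⟩
  · rintro a - ⟨ha, ha'⟩
    obtain ⟨e, he⟩ := D.F_sq h3 ha
    have e1 : a⁻¹ = a * R.y i e := by
      apply inv_eq_of_mul_eq_one_right
      rw [← mul_assoc, he, R.y_sq]
    exact ⟨inv_mem ha, by rw [e1]; exact D.rch_y ha' e⟩

theorem t_notMem_F : R.t ∉ D.Fg i J := by
  intro ht
  obtain ⟨j, hij, -⟩ := h3 i i
  have ht' := D.F_mono (Set.subset_univ J) ht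
  obtain ⟨c, hc⟩ := D.F_cm h3 ht' (D.wx_mem_F (Set.mem_univ j) hij 1)
  have h1 := D.wx_t hij 1
  rw [hc] at h1
  refine D.not_x_eq_y hij (c := c) ?_
  have h2 : R.y i c * (D.wx i j 1 * R.t) * R.t = R.y i c * D.wx i j 1 := by
    rw [mul_assoc, mul_assoc (D.wx i j 1), R.tt, mul_one]
  rw [h2, ← ((D.cy_wx hij 1) c).eq] at h1
  exact (mul_left_cancel h1).symm

theorem mem_Q_of_comm {g : G} (hg : g ∈ D.Fg i J) (hc : Commute g R.t) : g ∈ R.Q i := by
  have hg' := D.F_mono (Set.subset_univ J) hg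
  rcases D.f3 i g hc (D.F_cy hg) (fun j hij a => D.F_cm h3 hg' (D.x_mem_F (Set.mem_univ j) hij a)) with h | h
  · exact h
  · exfalso
    apply D.t_notMem_F h3 (i := i) (J := Set.univ)
    have : R.t = (R.t * g) * g⁻¹ := by group
    rw [this]
    exact mul_mem (D.Q_le_F h) (inv_mem hg')

/-- **every involution of `tF_i` is `F_i`-conjugate to `t`** -/
theorem inv_F {f : G} (hf : f ∈ D.Fg i Set.univ) (h : R.t * f * (R.t * f) = 1) :
    ∃ c ∈ D.Fg i Set.univ, c * R.t * c⁻¹ = R.t * f := by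
  obtain ⟨e, he⟩ := D.F_sq h3 hf
  have h1 : R.t * f * R.t = f * R.y i e := by
    have h2 : R.t * f * R.t = f⁻¹ := eq_inv_of_mul_eq_one_left (by rw [← h]; simp only [mul_assoc])
    rw [h2]
    apply inv_eq_of_mul_eq_one_right
    rw [← mul_assoc, he, R.y_sq]
  have h2 : Commute (f * D.wy i e) R.t := by
    have e1 : R.t * (f * D.wy i e) * R.t = f * D.wy i e := by
      calc _ = (R.t * f * R.t) * (R.t * D.wy i e * R.t) := by
            calc _ = R.t * f * (R.t * R.t) * D.wy i e * R.t := by rw [R.tt]; simp only [mul_one, mul_assoc]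
              _ = _ := by simp only [mul_assoc]
        _ = f * (R.y i e * D.wy i e) * R.y i e := by rw [h1, D.wy_t]; simp only [mul_assoc]
        _ = _ := by rw [← (D.cy_wy i e e).eq, mul_assoc, mul_assoc, R.y_sq, mul_one]
    show f * D.wy i e * R.t = R.t * (f * D.wy i e)
    calc _ = (R.t * R.t) * (f * D.wy i e) * R.t := by rw [R.tt, one_mul]
      _ = R.t * (R.t * (f * D.wy i e) * R.t) := by simp only [mul_assoc]
      _ = _ := by rw [e1]
  have h4 := D.mem_Q_of_comm h3 (mul_mem hf (D.wy_mem_F e)) h2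
  obtain ⟨j, hij, -⟩ := h3 i i
  refine (D.rch_B h3 (Set.mem_univ j) hij ?_).2
  have e1 : f = (f * D.wy i e) * (D.wy i e)⁻¹ := by group
  rw [e1]
  refine mul_mem ?_ (inv_mem (Subgroup.subset_closure (Or.inl ⟨e, rfl⟩)))
  have hle : R.Q i ≤ Subgroup.closure {g | (∃ u, g = D.wy i u) ∨ (∃ a, g = R.y i a) ∨
      ∃ k ∈ Set.univ, Dj i k ∧ ∃ a, g = R.x i k a} := by
    refine (Subgroup.closure_le _).mpr ?_
    rintro g (⟨a, rfl⟩ | ⟨k, a, rfl⟩)
    · exact Subgroup.subset_closure (Or.inr (Or.inl ⟨a, rfl⟩))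
    · by_cases hik : Dj i k
      · exact Subgroup.subset_closure (Or.inr (Or.inr ⟨k, Set.mem_univ k, hik, a, rfl⟩))
      · rw [R.x_of_not hik]; exact one_mem _
  exact hle h4

/-- `f t f⁻¹ = t w_i(a) q` -/
theorem conj_t {f : G} (hf : f ∈ D.Fg i Set.univ) : ∃ a, ∃ q ∈ R.Q i, f * R.t * f⁻¹ = R.t * (D.wy i a * q) := by
  refine Subgroup.closure_induction
    (p := fun f _ => ∃ a, ∃ q ∈ R.Q i, f * R.t * f⁻¹ = R.t * (D.wy i a * q)) ?_ ?_ ?_ ?_ hf
  · rintro g (⟨u, rfl⟩ | ⟨a, rfl⟩ | ⟨j, -, hij, ⟨u, rfl⟩ | ⟨a, rfl⟩ | ⟨u, v, rfl⟩⟩)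
    · exact ⟨0, _, R.y_mem_Q i u, by rw [D.wy_conj_t, D.wy_zero, one_mul]⟩
    · exact ⟨0, 1, one_mem _, by rw [D.wy_zero, (R.y_t i a).mul_inv_cancel, mul_one, mul_one]⟩
    · exact ⟨0, _, R.x_mem_Q i j u, by rw [D.wx_conj_t hij, D.wy_zero, one_mul]⟩
    · exact ⟨0, 1, one_mem _, by rw [D.wy_zero, (R.x_t i j a).mul_inv_cancel, mul_one, mul_one]⟩
    · obtain ⟨c, d, h1⟩ := D.t_p hij u v
      have hb : D.wy i (u ^ 2 * v) * R.x i j c * R.y i d ∈ D.Fg i Set.univ :=
        mul_mem (mul_mem (D.wy_mem_F _) (D.x_mem_F (Set.mem_univ _) hij c)) (D.y_mem_F d)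
      obtain ⟨e, he⟩ := D.F_cm h3 (D.p_mem_F (Set.mem_univ _) hij u v) hb
      refine ⟨u ^ 2 * v, R.x i j c * R.y i d * R.y i e,
        mul_mem (mul_mem (R.x_mem_Q i j c) (R.y_mem_Q i d)) (R.y_mem_Q i e), ?_⟩
      have h4 : R.t * (D.p i j u v * R.t * (D.p i j u v)⁻¹) = D.wy i (u ^ 2 * v) * R.x i j c * R.y i d * R.y i e := by
        calc _ = (R.t * D.p i j u v * R.t) * (D.p i j u v)⁻¹ := by group
          _ = D.p i j u v * (D.wy i (u ^ 2 * v) * R.x i j c * R.y i d) * (D.p i j u v)⁻¹ := by rw [h1]; group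
          _ = _ := by rw [he, (D.F_cy hb e).eq]; group
      have h5 : D.wy i (u ^ 2 * v) * (R.x i j c * R.y i d * R.y i e) =
          R.t * (D.p i j u v * R.t * (D.p i j u v)⁻¹) := by rw [h4]; simp only [mul_assoc]
      rw [h5, ← mul_assoc R.t R.t, R.tt, one_mul]
  · exact ⟨0, 1, one_mem _, by rw [D.wy_zero]; group⟩
  · rintro f f' hf hf' ⟨a, q, hq, h1⟩ ⟨a', q', hq', h2⟩
    have hb' : D.wy i a' * q' ∈ D.Fg i Set.univ := mul_mem (D.wy_mem_F _) (D.Q_le_F hq')
    obtain ⟨e, he⟩ := D.F_cm h3 hf hb'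
    obtain ⟨c, hc⟩ := D.wy_add i a a'
    refine ⟨a + a', R.y i c * q * q' * R.y i e,
      mul_mem (mul_mem (mul_mem (R.y_mem_Q i c) hq) hq') (R.y_mem_Q i e), ?_⟩
    calc f * f' * R.t * (f * f')⁻¹ = f * (f' * R.t * f'⁻¹) * f⁻¹ := by group
      _ = (f * R.t * f⁻¹) * (f * (D.wy i a' * q')) * f⁻¹ := by rw [h2]; group
      _ = R.t * (D.wy i a * q) * (R.y i e * (D.wy i a' * q')) := by rw [h1, he]; group
      _ = R.t * (D.wy i a * (q * D.wy i a') * q' * R.y i e) := by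
          rw [← (D.F_cy hb' e).eq]; simp only [mul_assoc]
      _ = R.t * ((D.wy i a * D.wy i a') * (q * q' * R.y i e)) := by
          rw [← (D.wy_comm_Q hq a').eq]; simp only [mul_assoc]
      _ = _ := by rw [hc]; simp only [mul_assoc]
  · rintro f hf ⟨a, q, hq, h1⟩
    have hb : D.wy i a * q ∈ D.Fg i Set.univ := mul_mem (D.wy_mem_F _) (D.Q_le_F hq)
    obtain ⟨e, he⟩ := D.F_cm h3 (inv_mem hf) (inv_mem hb)
    refine ⟨a, q⁻¹ * R.y i a * R.y i e, mul_mem (mul_mem (inv_mem hq) (R.y_mem_Q i a)) (R.y_mem_Q i e), ?_⟩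
    have h2 : f⁻¹ * R.t * f = R.t * (f⁻¹ * (D.wy i a * q)⁻¹ * f) := by
      have h4 : R.t = f⁻¹ * (R.t * (D.wy i a * q)) * f := by rw [← h1]; group
      have h5 : (f⁻¹ * R.t * f) * (f⁻¹ * (D.wy i a * q) * f) = R.t := by
        calc _ = f⁻¹ * (R.t * (D.wy i a * q)) * f := by group
          _ = _ := h4.symm
      have h6 : f⁻¹ * (D.wy i a * q)⁻¹ * f = (f⁻¹ * (D.wy i a * q) * f)⁻¹ := by group
      rw [h6, eq_mul_inv_iff_mul_eq, h5]
    rw [inv_inv, h2, he]
    have h7 : R.y i e * ((D.wy i a * q)⁻¹ * f⁻¹) * f = (D.wy i a * q)⁻¹ * R.y i e := by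
      rw [((D.F_cy (inv_mem hb)) e).eq]; group
    rw [h7, mul_inv_rev, D.wy_inv]
    have h8 : Commute q⁻¹ (D.wy i a) := (D.wy_comm_Q hq a).symm.inv_left
    rw [← mul_assoc q⁻¹, h8.eq]; simp only [mul_assoc]

end fin

/-! ### fixed points of the torus -/

omit D in
theorem sq_ne_one {x : Fˣ} (h : x ≠ 1) : x ^ 2 ≠ 1 := by
  intro h1
  apply h
  have h2 : (x : F) ^ 2 = 1 := by rw [← Units.val_pow_eq_pow_val, h1, Units.val_one]
  have h4 : ((x : F) + 1) ^ 2 = 0 := by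
    rw [CharTwo.add_sq, h2, one_pow, CharTwo.add_self_eq_zero]
  exact Units.ext (by rw [Units.val_one]; exact CharTwo.add_eq_zero.mp (eq_zero_of_pow_eq_zero (n := 2) h4))

omit D in
theorem exists_mul_add {x : Fˣ} (h : x ≠ 1) (a : F) : ∃ b : F, (x : F) * b + b = a := by
  have h1 : (x : F) + 1 ≠ 0 := fun e => h (Units.ext (by rw [Units.val_one]; exact CharTwo.add_eq_zero.mp e))
  exact ⟨a / (x + 1), by field_simp⟩

omit D in
theorem Q_comm {i : Ix n} : ∀ a ∈ R.Q i, ∀ b ∈ R.Q i, a * b = b * a := by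
  have hxx : ∀ {j k}, Dj i j → Dj i k → ∀ u v, Commute (R.x i j u) (R.x i k v) := by
    intro j k hij hik u v
    by_cases hk : k = neg j
    · subst hk
      rw [R.x_symm i j, R.x_symm i (neg j)]
      exact R.x_comm' (i := j) (j := i) u v
    · exact R.x_comm (ne_neg i) hij.2 hik.symm.2 hk u v
  have hx : ∀ j u, ∀ b ∈ R.Q i, Commute (R.x i j u) b := by
    intro j u b hb
    by_cases hij : Dj i j
    · refine Subgroup.closure_induction (p := fun b _ => Commute (R.x i j u) b) ?_ (Commute.one_right _)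
        (fun _ _ _ _ h1 h2 => h1.mul_right h2) (fun _ _ h1 => h1.inv_right) hb
      rintro g (⟨a, rfl⟩ | ⟨k, a, rfl⟩)
      · exact cy_x hij u a
      · by_cases hik : Dj i k
        · exact hxx hij hik u a
        · rw [R.x_of_not hik]; exact Commute.one_right _
    · rw [R.x_of_not hij]; exact Commute.one_left _
  have hy : ∀ u, ∀ b ∈ R.Q i, Commute (R.y i u) b := by
    intro u b hb
    refine Subgroup.closure_induction (p := fun b _ => Commute (R.y i u) b) ?_ (Commute.one_right _)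
      (fun _ _ _ _ h1 h2 => h1.mul_right h2) (fun _ _ h1 => h1.inv_right) hb
    rintro g (⟨a, rfl⟩ | ⟨k, a, rfl⟩)
    · exact cy_y i u a
    · by_cases hik : Dj i k
      · exact (cy_x hik a u).symm
      · rw [R.x_of_not hik]; exact Commute.one_right _
  intro a ha b hb
  refine Subgroup.closure_induction (p := fun a _ => Commute a b) ?_ (Commute.one_left _)
    (fun _ _ _ _ h1 h2 => h1.mul_left h2) (fun _ _ h1 => h1.inv_left) ha
  rintro g (⟨a, rfl⟩ | ⟨k, a, rfl⟩)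
  exacts [hy a b hb, hx k a b hb]

omit D in
theorem h_Q {i : Ix n} (lam : Fin n → Fˣ) : ∀ a ∈ R.Q i, R.h lam * a * (R.h lam)⁻¹ ∈ R.Q i := by
  refine closure_conj (S := ({g | ∃ a, g = R.y i a} ∪ {g | ∃ k a, g = R.x i k a})) ?_
  rintro s (⟨a, rfl⟩ | ⟨k, a, rfl⟩)
  · rw [R.h_y]; exact R.y_mem_Q i _
  · rw [R.h_x]; exact R.x_mem_Q i k _

omit D in
/-- `C_{Q_i}(h) = 1` -/
theorem Q_fpf [Finite G] {i : Ix n} {lam : Fin n → Fˣ} (hi : ev lam i ≠ 1) (hj : ∀ j, Dj i j → ev lam i * ev lam j ≠ 1)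
    {q : G} (hq : q ∈ R.Q i) (e : R.h lam * q * (R.h lam)⁻¹ = q) : q = 1 := by
  refine eq_one_of_fpf (h := R.h lam) rfl Q_comm (h_Q lam) ?_ hq e
  rintro s (⟨a, rfl⟩ | ⟨k, a, rfl⟩)
  · obtain ⟨b, hb⟩ := exists_mul_add (sq_ne_one hi) a
    refine ⟨R.y i b, R.y_mem_Q i b, ?_⟩
    rw [R.h_y, R.y_inv, ← R.y_add, ← hb]
    push_cast; rfl
  · by_cases hik : Dj i k
    · obtain ⟨b, hb⟩ := exists_mul_add (hj k hik) a
      refine ⟨R.x i k b, R.x_mem_Q i k b, ?_⟩
      rw [R.h_x, R.x_inv, ← R.x_add, ← hb]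
      push_cast; rfl
    · exact ⟨1, one_mem _, by rw [R.x_of_not hik]; group⟩

/-- `C_{F_i}(h) = 1` -/
theorem eq_one_of_fix [Finite F] [Finite G] (h3 : ∀ i j : Ix n, ∃ k, Dj i k ∧ Dj j k) {i : Ix n} {lam : Fin n → Fˣ}
    (hi : ev lam i ≠ 1) (hj : ∀ j, Dj i j → ev lam i * ev lam j ≠ 1) {f : G} (hf : f ∈ D.Fg i Set.univ)
    (e : R.h lam * f * (R.h lam)⁻¹ = f) : f = 1 := by
  obtain ⟨a, q, hq, h1⟩ := D.conj_t h3 hf
  have ht : R.h lam * R.t * (R.h lam)⁻¹ = R.t := (R.h_t lam).mul_inv_cancel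
  have hb : R.h lam * (D.wy i a * q) * (R.h lam)⁻¹ = D.wy i a * q := by
    have h2 : R.h lam * (f * R.t * f⁻¹) * (R.h lam)⁻¹ = f * R.t * f⁻¹ := by
      calc _ = (R.h lam * f * (R.h lam)⁻¹) * (R.h lam * R.t * (R.h lam)⁻¹) * (R.h lam * f * (R.h lam)⁻¹)⁻¹ := by
            group
        _ = _ := by rw [e, ht]
    rw [h1] at h2
    have h4 : R.h lam * (R.t * (D.wy i a * q)) * (R.h lam)⁻¹ =
        (R.h lam * R.t * (R.h lam)⁻¹) * (R.h lam * (D.wy i a * q) * (R.h lam)⁻¹) := by group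
    rw [h4, ht] at h2
    exact mul_left_cancel h2
  -- `[t, b] = y_i(a)`
  have hq1 : R.t * q * R.t = q := by
    have : Commute R.t q := by
      refine Subgroup.closure_induction (p := fun b _ => Commute R.t b) ?_ (Commute.one_right _)
        (fun _ _ _ _ h1 h2 => h1.mul_right h2) (fun _ _ h1 => h1.inv_right) hq
      rintro g (⟨a, rfl⟩ | ⟨k, a, rfl⟩)
      exacts [(R.y_t i a).symm, (R.x_t i k a).symm]
    rw [this.eq, mul_assoc, R.tt, mul_one]
  have ha : R.h lam * R.y i a * (R.h lam)⁻¹ = R.y i a := by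
    have h5 : R.t * (D.wy i a * q) * R.t = R.y i a * (D.wy i a * q) := by
      calc _ = (R.t * D.wy i a * R.t) * (R.t * q * R.t) := by
            calc _ = R.t * D.wy i a * (R.t * R.t) * q * R.t := by rw [R.tt]; simp only [mul_one, mul_assoc]
              _ = _ := by simp only [mul_assoc]
        _ = _ := by rw [hq1, D.wy_t, (D.cy_wy i a a).eq]; simp only [mul_assoc]
    have h6 : R.y i a = R.t * (D.wy i a * q) * R.t * (D.wy i a * q)⁻¹ := by rw [h5]; group
    rw [h6]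
    calc _ = (R.h lam * R.t * (R.h lam)⁻¹) * (R.h lam * (D.wy i a * q) * (R.h lam)⁻¹) *
          (R.h lam * R.t * (R.h lam)⁻¹) * (R.h lam * (D.wy i a * q) * (R.h lam)⁻¹)⁻¹ := by group
      _ = _ := by rw [ht, hb]
  rw [R.h_y] at ha
  have ha0 : a = 0 := by
    by_contra h0
    have h7 := R.y_inj ha
    apply sq_ne_one hi
    apply Units.ext
    push_cast
    exact mul_right_cancel₀ h0 (by rw [h7, one_mul])
  rw [ha0, D.wy_zero, one_mul] at hb h1
  have hq0 := Q_fpf hi hj hq hb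
  rw [hq0, mul_one] at h1
  have hc : Commute f R.t := by
    show f * R.t = R.t * f
    calc f * R.t = (f * R.t * f⁻¹) * f := by group
      _ = _ := by rw [h1]
  exact Q_fpf hi hj (D.mem_Q_of_comm h3 hf hc) e

omit D in
theorem Q_fix_mem [Finite G] {i : Ix n} {J : Set (Ix n)}
    {lam : Fin n → Fˣ} (hi : ev lam i = 1) (hJ : ∀ j ∈ J, ev lam j = 1)
    (hj : ∀ j, Dj i j → j ∉ J → ev lam j ≠ 1) {q : G} (hq : q ∈ R.Q i) (e : R.h lam * q * (R.h lam)⁻¹ = q) :
    q ∈ Subgroup.closure {g | (∃ a, g = R.y i a) ∨ ∃ j ∈ J, Dj i j ∧ ∃ a, g = R.x i j a} := by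
  have hleQ : Subgroup.closure {g | (∃ a, g = R.y i a) ∨ ∃ j ∈ J, Dj i j ∧ ∃ a, g = R.x i j a} ≤ R.Q i := by
    refine (Subgroup.closure_le _).mpr ?_
    rintro g (⟨b, rfl⟩ | ⟨j, hjJ, hij, b, rfl⟩)
    exacts [R.y_mem_Q i b, R.x_mem_Q i j b]
  have hleQ' : Subgroup.closure {g | ∃ j, Dj i j ∧ j ∉ J ∧ ∃ a, g = R.x i j a} ≤ R.Q i := by
    refine (Subgroup.closure_le _).mpr ?_
    rintro g ⟨j, hij, hjJ, b, rfl⟩
    exact R.x_mem_Q i j b
  have dec : ∀ q ∈ R.Q i, ∃ q1 ∈ Subgroup.closure {g | (∃ a, g = R.y i a) ∨ ∃ j ∈ J, Dj i j ∧ ∃ a, g = R.x i j a},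
      ∃ q2 ∈ Subgroup.closure {g | ∃ j, Dj i j ∧ j ∉ J ∧ ∃ a, g = R.x i j a}, q = q1 * q2 := by
    intro q hq
    refine Subgroup.closure_induction (p := fun q _ =>
      ∃ q1 ∈ Subgroup.closure {g | (∃ a, g = R.y i a) ∨ ∃ j ∈ J, Dj i j ∧ ∃ a, g = R.x i j a},
      ∃ q2 ∈ Subgroup.closure {g | ∃ j, Dj i j ∧ j ∉ J ∧ ∃ a, g = R.x i j a}, q = q1 * q2) ?_ ?_ ?_ ?_ hq
    · rintro g (⟨a, rfl⟩ | ⟨k, a, rfl⟩)
      · exact ⟨_, Subgroup.subset_closure (Or.inl ⟨a, rfl⟩), 1, one_mem _, (mul_one _).symm⟩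
      · by_cases hik : Dj i k
        · by_cases hk : k ∈ J
          · exact ⟨_, Subgroup.subset_closure (Or.inr ⟨k, hk, hik, a, rfl⟩), 1, one_mem _, (mul_one _).symm⟩
          · exact ⟨1, one_mem _, _, Subgroup.subset_closure ⟨k, hik, hk, a, rfl⟩, (one_mul _).symm⟩
        · exact ⟨1, one_mem _, 1, one_mem _, by rw [R.x_of_not hik, one_mul]⟩
    · exact ⟨1, one_mem _, 1, one_mem _, (one_mul _).symm⟩
    · rintro _ _ - - ⟨q1, h1, q2, h2, rfl⟩ ⟨q1', h1', q2', h2', rfl⟩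
      refine ⟨q1 * q1', mul_mem h1 h1', q2 * q2', mul_mem h2 h2', ?_⟩
      have := Q_comm q2 (hleQ' h2) q1' (hleQ h1')
      calc q1 * q2 * (q1' * q2') = q1 * (q2 * q1') * q2' := by group
        _ = _ := by rw [this]; group
    · rintro _ - ⟨q1, h1, q2, h2, rfl⟩
      refine ⟨q1⁻¹, inv_mem h1, q2⁻¹, inv_mem h2, ?_⟩
      rw [mul_inv_rev]
      exact Q_comm _ (inv_mem (hleQ' h2)) _ (inv_mem (hleQ h1))
  obtain ⟨q1, h1, q2, h2, rfl⟩ := dec q hq
  have turn : ∀ {g : G}, R.h lam * g * (R.h lam)⁻¹ = g → Commute (R.h lam) g := by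
    intro g hg
    show R.h lam * g = g * R.h lam
    calc R.h lam * g = (R.h lam * g * (R.h lam)⁻¹) * R.h lam := by group
      _ = _ := by rw [hg]
  have c1 : Commute (R.h lam) q1 := by
    refine Subgroup.closure_induction (p := fun c _ => Commute (R.h lam) c) ?_ (Commute.one_right _)
      (fun _ _ _ _ h1 h2 => h1.mul_right h2) (fun _ _ h1 => h1.inv_right) h1
    rintro g (⟨b, rfl⟩ | ⟨j, hjJ, hij, b, rfl⟩) <;> apply turn
    · rw [R.h_y, hi, Units.val_one, one_pow, one_mul]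
    · rw [R.h_x, hi, hJ j hjJ, Units.val_one, one_mul, one_mul]
  have e2 : R.h lam * q2 * (R.h lam)⁻¹ = q2 := by
    have h4 : R.h lam * (q1 * q2) * (R.h lam)⁻¹ =
        (R.h lam * q1 * (R.h lam)⁻¹) * (R.h lam * q2 * (R.h lam)⁻¹) := by group
    rw [h4, c1.mul_inv_cancel] at e
    exact mul_left_cancel e
  have h5 : q2 = 1 := by
    refine eq_one_of_fpf (h := R.h lam) (S := {g | ∃ j, Dj i j ∧ j ∉ J ∧ ∃ a, g = R.x i j a}) rfl
      (fun a ha b hb => Q_comm a (hleQ' ha) b (hleQ' hb)) ?_ ?_ h2 e2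
    · refine closure_conj ?_
      rintro s ⟨k, hik, hk, a, rfl⟩
      rw [R.h_x]
      exact Subgroup.subset_closure ⟨k, hik, hk, _, rfl⟩
    · rintro s ⟨k, hik, hk, a, rfl⟩
      have hne : ev lam i * ev lam k ≠ 1 := by rw [hi, one_mul]; exact hj k hik hk
      obtain ⟨b, hb⟩ := exists_mul_add hne a
      refine ⟨R.x i k b, Subgroup.subset_closure ⟨k, hik, hk, _, rfl⟩, ?_⟩
      rw [R.h_x, R.x_inv, ← R.x_add, ← hb]
      push_cast; rfl
  rw [h5, mul_one]
  exact h1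

/-- `C_{F_i}(h) ≤ F_i(J)` -/
theorem mem_of_fix [Finite F] [Finite G] (h3 : ∀ i j : Ix n, ∃ k, Dj i k ∧ Dj j k) {i : Ix n} {J : Set (Ix n)}
    {lam : Fin n → Fˣ} (hi : ev lam i = 1) (hJ : ∀ j ∈ J, ev lam j = 1)
    (hj : ∀ j, Dj i j → j ∉ J → ev lam j ≠ 1) {j₀ : Ix n} (hj₀ : j₀ ∈ J) (hij₀ : Dj i j₀)
    {f : G} (hf : f ∈ D.Fg i Set.univ) (e : R.h lam * f * (R.h lam)⁻¹ = f) : f ∈ D.Fg i J := by
  obtain ⟨a, q, hq, h1⟩ := D.conj_t h3 hf
  have ht : R.h lam * R.t * (R.h lam)⁻¹ = R.t := (R.h_t lam).mul_inv_cancel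
  have hb : R.h lam * (D.wy i a * q) * (R.h lam)⁻¹ = D.wy i a * q := by
    have h2 : R.h lam * (f * R.t * f⁻¹) * (R.h lam)⁻¹ = f * R.t * f⁻¹ := by
      calc _ = (R.h lam * f * (R.h lam)⁻¹) * (R.h lam * R.t * (R.h lam)⁻¹) * (R.h lam * f * (R.h lam)⁻¹)⁻¹ := by
            group
        _ = _ := by rw [e, ht]
    rw [h1] at h2
    have h4 : R.h lam * (R.t * (D.wy i a * q)) * (R.h lam)⁻¹ =
        (R.h lam * R.t * (R.h lam)⁻¹) * (R.h lam * (D.wy i a * q) * (R.h lam)⁻¹) := by group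
    rw [h4, ht] at h2
    exact mul_left_cancel h2
  have hq' : R.h lam * q * (R.h lam)⁻¹ = q := by
    have h2 : R.h lam * (D.wy i a * q) * (R.h lam)⁻¹ =
        (R.h lam * D.wy i a * (R.h lam)⁻¹) * (R.h lam * q * (R.h lam)⁻¹) := by group
    rw [h2, D.h_wy, hi, Units.val_one, one_pow, one_mul] at hb
    exact mul_left_cancel hb
  have hqJ := Q_fix_mem hi hJ hj hq hq'
  have hle : Subgroup.closure {g | (∃ a, g = R.y i a) ∨ ∃ j ∈ J, Dj i j ∧ ∃ a, g = R.x i j a} ≤
      Subgroup.closure {g | (∃ u, g = D.wy i u) ∨ (∃ a, g = R.y i a) ∨ ∃ k ∈ J, Dj i k ∧ ∃ a, g = R.x i k a} :=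
    Subgroup.closure_mono fun g hg => Or.inr hg
  obtain ⟨hbF, c, hc, hct⟩ := D.rch_B h3 hj₀ hij₀
    (mul_mem (Subgroup.subset_closure (Or.inl ⟨a, rfl⟩)) (hle hqJ))
  -- `c` commutes with `h`
  have hch : Commute (R.h lam) c := by
    refine Subgroup.closure_induction (p := fun c _ => Commute (R.h lam) c) ?_ (Commute.one_right _)
      (fun _ _ _ _ h1 h2 => h1.mul_right h2) (fun _ _ h1 => h1.inv_right) hc
    have turn : ∀ {g : G}, R.h lam * g * (R.h lam)⁻¹ = g → Commute (R.h lam) g := by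
      intro g hg
      show R.h lam * g = g * R.h lam
      calc R.h lam * g = (R.h lam * g * (R.h lam)⁻¹) * R.h lam := by group
        _ = _ := by rw [hg]
    rintro g (⟨u, rfl⟩ | ⟨b, rfl⟩ | ⟨j, hjJ, hij, ⟨u, rfl⟩ | ⟨b, rfl⟩ | ⟨u, v, rfl⟩⟩) <;> apply turn
    · rw [D.h_wy, hi, Units.val_one, one_pow, one_mul]
    · rw [R.h_y, hi, Units.val_one, one_pow, one_mul]
    · rw [D.h_wx lam hij, hi, hJ j hjJ, Units.val_one, one_mul, one_mul]
    · rw [R.h_x, hi, hJ j hjJ, Units.val_one, one_mul, one_mul]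
    · rw [D.h_p hij u v, hi, hJ j hjJ]
      simp
  have hct2 : Commute (c⁻¹ * f) R.t := by
    have h5 : c * R.t * c⁻¹ = f * R.t * f⁻¹ := by rw [hct, h1]
    show c⁻¹ * f * R.t = R.t * (c⁻¹ * f)
    calc c⁻¹ * f * R.t = c⁻¹ * (f * R.t * f⁻¹) * f := by group
      _ = _ := by rw [← h5]; group
  have hcf : c⁻¹ * f ∈ D.Fg i Set.univ := mul_mem (inv_mem (D.F_mono (Set.subset_univ J) hc)) hf
  have hcq := D.mem_Q_of_comm h3 hcf hct2
  have hcfix : R.h lam * (c⁻¹ * f) * (R.h lam)⁻¹ = c⁻¹ * f := by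
    calc _ = (R.h lam * c⁻¹ * (R.h lam)⁻¹) * (R.h lam * f * (R.h lam)⁻¹) := by group
      _ = _ := by rw [e, hch.inv_right.mul_inv_cancel]
  have h6 := Q_fix_mem hi hJ hj hcq hcfix
  have hle2 : Subgroup.closure {g | (∃ a, g = R.y i a) ∨ ∃ j ∈ J, Dj i j ∧ ∃ a, g = R.x i j a} ≤ D.Fg i J := by
    refine (Subgroup.closure_le _).mpr ?_
    rintro g (⟨b, rfl⟩ | ⟨j, hjJ, hij, b, rfl⟩)
    exacts [D.y_mem_F b, D.x_mem_F hjJ hij b]
  have h7 : f = c * (c⁻¹ * f) := by group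
  rw [h7]
  exact mul_mem hc (hle2 h6)

end COne

end Cfsg.Agent.OddHalf.SpN

end

-- merged: Cfsg.Agent.OddHalf.SpN.COneU
section

/-!
# ODD D7, `K = Sp_2n(q)`, `q ≥ 4`, pattern (C,O): the group `U*` (helper63)

`COne.exists_Ustar` : a 2-group `S` containing `U`, normalised by `t`, `t ∉ S`, all involutions of `tS` are
`S`-conjugate to `t`.
-/

set_option autoImplicit false

namespace Cfsg.Agent.OddHalf.SpN

/-- A 2-group `A` normalised by the involution `t ∉ A` such that all involutions of `tA` are `A`-conjugate to `t`. -/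
structure Good {G : Type*} [Group G] (t : G) (A : Subgroup G) : Prop where
  p2 : IsPGroup 2 A
  nt : ∀ a ∈ A, t * a * t ∈ A
  tn : t ∉ A
  inv : ∀ a ∈ A, t * a * (t * a) = 1 → ∃ c ∈ A, c * t * c⁻¹ = t * a

section glue

variable {G : Type*} [Group G] {t : G} {A B : Subgroup G}

/-- the product `AB` -/
def glue (A B : Subgroup G) (h : ∀ a ∈ A, ∀ b ∈ B, a * b * a⁻¹ ∈ B) : Subgroup G where
  carrier := {g | ∃ a ∈ A, ∃ b ∈ B, g = a * b}
  one_mem' := ⟨1, one_mem _, 1, one_mem _, (one_mul _).symm⟩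
  mul_mem' := by
    rintro _ _ ⟨a, ha, b, hb, rfl⟩ ⟨a', ha', b', hb', rfl⟩
    refine ⟨a * a', mul_mem ha ha', (a'⁻¹ * b * a'⁻¹⁻¹) * b', mul_mem (h _ (inv_mem ha') _ hb) hb', ?_⟩
    group
  inv_mem' := by
    rintro _ ⟨a, ha, b, hb, rfl⟩
    refine ⟨a⁻¹, inv_mem ha, a * b⁻¹ * a⁻¹, h _ ha _ (inv_mem hb), ?_⟩
    group

theorem Good.glue (tt : t * t = 1) (hA : Good t A) (hB : Good t B) (h : ∀ a ∈ A, ∀ b ∈ B, a * b * a⁻¹ ∈ B)
    (disj : ∀ b ∈ B, b ∈ A ∨ t * b ∈ A → b = 1) : Good t (glue A B h) := by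
  have ti : t⁻¹ = t := inv_eq_of_mul_eq_one_left tt
  refine ⟨?_, ?_, ?_, ?_⟩
  · have h1 : A ≤ Subgroup.normalizer (B : Set G) := by
      intro a ha
      rw [Subgroup.mem_normalizer_iff]
      intro b
      constructor
      · exact fun hb => h a ha b hb
      · intro hb
        have := h a⁻¹ (inv_mem ha) _ hb
        have e : a⁻¹ * (a * b * a⁻¹) * a⁻¹⁻¹ = b := by group
        rwa [e] at this
    have h2 := hA.p2.to_sup_of_normal_right' hB.p2 h1
    refine h2.to_le ?_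
    rintro _ ⟨a, ha, b, hb, rfl⟩
    exact Subgroup.mul_mem_sup ha hb
  · rintro _ ⟨a, ha, b, hb, rfl⟩
    refine ⟨t * a * t, hA.nt a ha, t * b * t, hB.nt b hb, ?_⟩
    calc t * (a * b) * t = t * a * 1 * b * t := by group
      _ = _ := by rw [← tt]; simp only [mul_assoc]
  · rintro ⟨a, ha, b, hb, e⟩
    have h1 : t * b ∈ A := by
      have : t * b = t * a⁻¹ * t := by
        have : b = a⁻¹ * t := by rw [e]; group
        rw [this]; group
      rw [this]
      exact hA.nt _ (inv_mem ha)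
    have h2 := disj b hb (Or.inr h1)
    rw [h2, mul_one] at e
    exact hA.tn (by rw [e]; exact ha)
  · rintro _ ⟨a, ha, b, hb, rfl⟩ h0
    have e1 : t * a * (t * a) = 1 := by
      have h1 : t * a * (t * a) ∈ A := by
        have : t * a * (t * a) = (t * a * t) * a := by group
        rw [this]; exact mul_mem (hA.nt a ha) ha
      have h2 : t * a * (t * a) ∈ B := by
        have h3 : (t * a) * (t * a) * (((t * a)⁻¹ * b * (t * a)) * b) = 1 := by
          rw [← h0]; group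
        have h4 : (t * a)⁻¹ * b * (t * a) ∈ B := by
          have h5 := h a⁻¹ (inv_mem ha) _ (hB.nt b hb)
          have e : a⁻¹ * (t * b * t) * a⁻¹⁻¹ = (t * a)⁻¹ * b * (t * a) := by
            rw [mul_inv_rev, ti]; group
          rwa [e] at h5
        have h5 : t * a * (t * a) = (((t * a)⁻¹ * b * (t * a)) * b)⁻¹ := eq_inv_of_mul_eq_one_left h3
        rw [h5]; exact inv_mem (mul_mem h4 hb)
      exact disj _ h2 (Or.inl h1)
    obtain ⟨c, hc, hc2⟩ := hA.inv a ha e1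
    have hb' : c⁻¹ * b * c ∈ B := by
      have := h c⁻¹ (inv_mem hc) b hb
      rwa [inv_inv] at this
    have e2 : t * (c⁻¹ * b * c) * (t * (c⁻¹ * b * c)) = 1 := by
      have e3 : t * (c⁻¹ * b * c) = c⁻¹ * (t * (a * b)) * c := by
        have : t * (a * b) = c * t * c⁻¹ * b := by rw [hc2]; group
        rw [this]; group
      rw [e3]
      calc _ = c⁻¹ * (t * (a * b) * (t * (a * b))) * c := by group
        _ = 1 := by rw [h0]; group
    obtain ⟨d, hd, hd2⟩ := hB.inv _ hb' e2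
    refine ⟨c * d, ⟨c, hc, d, hd, rfl⟩, ?_⟩
    calc c * d * t * (c * d)⁻¹ = c * (d * t * d⁻¹) * c⁻¹ := by group
      _ = (c * t * c⁻¹) * b := by rw [hd2]; group
      _ = _ := by rw [hc2]; group

end glue

/-- coprime action on a coset of an elementary abelian 2-group -/
theorem avg {G : Type*} [Group G] [Finite G] {H Q : Subgroup G} (hodd : Odd (Nat.card H))
    (comm : ∀ a ∈ Q, ∀ b ∈ Q, a * b = b * a) (sq : ∀ a ∈ Q, a * a = 1) (hHQ : ∀ h ∈ H, ∀ q ∈ Q, h * q * h⁻¹ ∈ Q)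
    {c : G} (hc : ∀ h ∈ H, c⁻¹ * (h * c * h⁻¹) ∈ Q) : ∃ q ∈ Q, ∀ h ∈ H, h * (c * q) * h⁻¹ = c * q := by
  classical
  let _ : CommGroup Q := { (inferInstance : Group Q) with mul_comm := fun a b => Subtype.ext (comm _ a.2 _ b.2) }
  have _ : Fintype H := Fintype.ofFinite H
  let γ : H → Q := fun h => ⟨c⁻¹ * (h.1 * c * h.1⁻¹), hc _ h.2⟩
  let φ : H → (Q →* Q) := fun g =>
    { toFun := fun q => ⟨g.1 * q.1 * g.1⁻¹, hHQ _ g.2 _ q.2⟩
      map_one' := Subtype.ext (by show g.1 * 1 * g.1⁻¹ = 1; group)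
      map_mul' := fun a b => Subtype.ext (by
        show g.1 * (a.1 * b.1) * g.1⁻¹ = (g.1 * a.1 * g.1⁻¹) * (g.1 * b.1 * g.1⁻¹); group) }
  have hγ : ∀ g h : H, φ g (γ h) = (γ g)⁻¹ * γ (g * h) := fun g h => Subtype.ext (by
    show g.1 * (c⁻¹ * (h.1 * c * h.1⁻¹)) * g.1⁻¹ = (c⁻¹ * (g.1 * c * g.1⁻¹))⁻¹ *
      (c⁻¹ * ((g.1 * h.1) * c * (g.1 * h.1)⁻¹))
    group)
  have key : ∀ g : H, φ g (∏ h : H, γ h) = γ g * ∏ h : H, γ h := by
    intro g
    rw [map_prod]
    simp only [hγ]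
    rw [Finset.prod_mul_distrib, Finset.prod_const, Finset.card_univ]
    have h1 : ∏ h : H, γ (g * h) = ∏ h : H, γ h := Equiv.prod_comp (Equiv.mulLeft g) γ
    rw [h1]
    congr 1
    have h2 : (γ g)⁻¹ = γ g := inv_eq_of_mul_eq_one_left (Subtype.ext (sq _ (γ g).2))
    rw [h2]
    have h3 : γ g ^ 2 = 1 := by rw [pow_two]; exact Subtype.ext (sq _ (γ g).2)
    obtain ⟨m, hm⟩ := hodd
    rw [Nat.card_eq_fintype_card] at hm
    rw [hm, pow_add, pow_mul, h3, one_pow, one_mul, pow_one]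
  refine ⟨(∏ h : H, γ h : Q).1, (∏ h : H, γ h : Q).2, fun g hg => ?_⟩
  have h4 := congrArg Subtype.val (key ⟨g, hg⟩)
  have h5 : g * (∏ h : H, γ h : Q).1 * g⁻¹ = (c⁻¹ * (g * c * g⁻¹)) * (∏ h : H, γ h : Q).1 := h4
  have h6 := sq _ (hc g hg)
  calc g * (c * (∏ h : H, γ h : Q).1) * g⁻¹ = (g * c * g⁻¹) * (g * (∏ h : H, γ h : Q).1 * g⁻¹) := by group
    _ = c * ((c⁻¹ * (g * c * g⁻¹)) * (c⁻¹ * (g * c * g⁻¹))) * (∏ h : H, γ h : Q).1 := by rw [h5]; group
    _ = _ := by rw [h6, mul_one]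

namespace COne

variable {n : ℕ} {F : Type*} [Field F] [CharP F 2] {G : Type*} [Group G] {R : Frame n F G} (D : COne R)

include D

section conj

variable [Finite F] (h3 : ∀ i j : Ix n, ∃ k, Dj i k ∧ Dj j k) {i : Ix n} {J : Set (Ix n)}

omit [Finite F] in
/-- `t` normalises `F_i` -/
theorem t_F : ∀ f ∈ D.Fg i J, R.t * f * R.t ∈ D.Fg i J := by
  have ti : R.t⁻¹ = R.t := R.t_inv
  have h : ∀ f ∈ D.Fg i J, R.t * f * R.t⁻¹ ∈ D.Fg i J := by
    refine closure_conj (S := D.FS i J) ?_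
    rintro g (⟨u, rfl⟩ | ⟨a, rfl⟩ | ⟨j, hj, hij, ⟨u, rfl⟩ | ⟨a, rfl⟩ | ⟨u, v, rfl⟩⟩)
    · rw [ti, D.wy_t]; exact mul_mem (D.wy_mem_F u) (D.y_mem_F u)
    · rw [(R.y_t i a).symm.mul_inv_cancel]; exact D.y_mem_F a
    · rw [ti, D.wx_t hij]; exact mul_mem (D.wx_mem_F hj hij u) (D.x_mem_F hj hij u)
    · rw [(R.x_t i j a).symm.mul_inv_cancel]; exact D.x_mem_F hj hij a
    · obtain ⟨c, d, h1⟩ := D.t_p hij u v
      rw [ti, h1]
      exact mul_mem (mul_mem (mul_mem (D.p_mem_F hj hij u v) (D.wy_mem_F _)) (D.x_mem_F hj hij c)) (D.y_mem_F d)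
  intro f hf
  have := h f hf
  rwa [ti] at this

omit [Finite F] in
/-- the torus normalises `F_i` -/
theorem h_F (lam : Fin n → Fˣ) : ∀ f ∈ D.Fg i J, R.h lam * f * (R.h lam)⁻¹ ∈ D.Fg i J := by
  refine closure_conj (S := D.FS i J) ?_
  rintro g (⟨u, rfl⟩ | ⟨a, rfl⟩ | ⟨j, hj, hij, ⟨u, rfl⟩ | ⟨a, rfl⟩ | ⟨u, v, rfl⟩⟩)
  · rw [D.h_wy]; exact D.wy_mem_F _
  · rw [R.h_y]; exact D.y_mem_F _
  · rw [D.h_wx lam hij]; exact D.wx_mem_F hj hij _
  · rw [R.h_x]; exact D.x_mem_F hj hij _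
  · rw [D.h_p hij]; exact D.p_mem_F hj hij _ _

include h3

theorem F_p2 : IsPGroup 2 (D.Fg i J) := by
  intro g
  refine ⟨2, Subtype.ext ?_⟩
  obtain ⟨e, he⟩ := D.F_sq h3 g.2
  show (g.1) ^ (2 ^ 2) = 1
  calc g.1 ^ (2 ^ 2) = (g.1 * g.1) * (g.1 * g.1) := by rw [show 2 ^ 2 = 2 * 2 from rfl, pow_mul, pow_two, pow_two]
    _ = 1 := by rw [he, R.y_sq]

end conj

/-- the torus elements supported on the indices `< k` -/
def HL (R : Frame n F G) (k : ℕ) : Subgroup G where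
  carrier := {g | ∃ lam : Fin n → Fˣ, (∀ j : Fin n, k ≤ j → lam j = 1) ∧ g = R.h lam}
  one_mem' := ⟨1, fun _ _ => rfl, (map_one _).symm⟩
  mul_mem' := by
    rintro _ _ ⟨l, hl, rfl⟩ ⟨l', hl', rfl⟩
    exact ⟨l * l', fun j hj => by rw [Pi.mul_apply, hl j hj, hl' j hj, one_mul], (map_mul _ _ _).symm⟩
  inv_mem' := by
    rintro _ ⟨l, hl, rfl⟩
    exact ⟨l⁻¹, fun j hj => by rw [Pi.inv_apply, hl j hj, inv_one], (map_inv _ _).symm⟩

omit D in
theorem HL_mono {k m : ℕ} (h : k ≤ m) : HL R k ≤ HL R m := by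
  rintro _ ⟨l, hl, rfl⟩
  exact ⟨l, fun j hj => hl j (h.trans hj), rfl⟩

omit D in
theorem HL_odd [Finite G] (k : ℕ) : Odd (Nat.card (HL R k)) := by
  rw [← Nat.not_even_iff_odd, even_iff_two_dvd]
  intro h
  obtain ⟨x, ho⟩ := exists_prime_orderOf_dvd_card' 2 h
  obtain ⟨l, hl, hx⟩ := x.2
  have h1 : x.1 * x.1 = 1 := by
    have := pow_orderOf_eq_one x
    rw [ho, pow_two] at this
    exact congrArg Subtype.val this
  rw [hx, ← map_mul, ← map_one R.h] at h1
  have h2 := R.h_injective h1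
  have h4 : l = 1 := by
    funext j
    by_contra hj
    apply sq_ne_one hj
    rw [pow_two]
    exact congrFun h2 j
  rw [h4, map_one] at hx
  have h5 : x = 1 := Subtype.ext hx
  rw [h5, orderOf_one] at ho
  exact absurd ho (by norm_num)

/-- `R_k = C_{F_k}(H_{<k})` -/
def Rk (k : Fin n) : Subgroup G := D.Fg (Sum.inl k) Set.univ ⊓ Subgroup.centralizer (HL R k : Set G)

theorem mem_Rk {k : Fin n} {r : G} :
    r ∈ D.Rk k ↔ r ∈ D.Fg (Sum.inl k) Set.univ ∧ ∀ g ∈ HL R k, g * r = r * g := by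
  rw [Rk, Subgroup.mem_inf, Subgroup.mem_centralizer_iff]
  rfl

section Rk

variable [Finite F] [Finite G] (h3 : ∀ i j : Ix n, ∃ k, Dj i k ∧ Dj j k)

include h3

theorem Rk_good (k : Fin n) : Good R.t (D.Rk k) := by
  refine ⟨(D.F_p2 h3).to_le inf_le_left, ?_, fun h => D.t_notMem_F h3 (D.mem_Rk.mp h).1, ?_⟩
  · intro a ha0
    obtain ⟨ha, ha'⟩ := D.mem_Rk.mp ha0
    refine D.mem_Rk.mpr ⟨D.t_F a ha, ?_⟩
    rintro _ ⟨l, hl, rfl⟩
    have h1 := ha' _ ⟨l, hl, rfl⟩
    have h2 := (R.h_t l).eq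
    calc R.h l * (R.t * a * R.t) = (R.h l * R.t) * a * R.t := by group
      _ = R.t * (R.h l * a) * R.t := by rw [h2]; group
      _ = R.t * a * (R.h l * R.t) := by rw [h1]; group
      _ = _ := by rw [h2]; group
  · intro r hr0 h0
    obtain ⟨hr, hr'⟩ := D.mem_Rk.mp hr0
    obtain ⟨c, hc, hct⟩ := D.inv_F h3 hr h0
    have Qt : ∀ q ∈ R.Q (Sum.inl k), Commute q R.t := by
      intro q hq
      refine Subgroup.closure_induction (p := fun b _ => Commute b R.t) ?_ (Commute.one_left _)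
        (fun _ _ _ _ h1 h2 => h1.mul_left h2) (fun _ _ h1 => h1.inv_left) hq
      rintro g (⟨a, rfl⟩ | ⟨k, a, rfl⟩)
      exacts [R.y_t _ a, R.x_t _ k a]
    have sqQ : ∀ q ∈ R.Q (Sum.inl k), q * q = 1 := by
      intro q hq
      refine Subgroup.closure_induction (p := fun b _ => b ∈ R.Q (Sum.inl k) → b * b = 1) ?_ ?_ ?_ ?_ hq hq
      · rintro g (⟨a, rfl⟩ | ⟨k, a, rfl⟩) -
        exacts [R.y_sq _ a, R.x_sq _ k a]
      · intro _; rw [one_mul]
      · intro a b ha hb h1 h2 _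
        have h4 := Q_comm b hb a ha
        calc a * b * (a * b) = a * (b * a) * b := by group
          _ = (a * a) * (b * b) := by rw [h4]; group
          _ = 1 := by rw [h1 ha, h2 hb, one_mul]
      · intro a ha h1 _
        have : a⁻¹ * a⁻¹ = (a * a)⁻¹ := by group
        rw [this, h1 ha, inv_one]
    have hHQ : ∀ h ∈ HL R k, ∀ q ∈ R.Q (Sum.inl k), h * q * h⁻¹ ∈ R.Q (Sum.inl k) := by
      rintro _ ⟨l, -, rfl⟩ q hq
      exact h_Q l q hq
    have hcc : ∀ h ∈ HL R k, c⁻¹ * (h * c * h⁻¹) ∈ R.Q (Sum.inl k) := by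
      rintro _ ⟨l, hl, rfl⟩
      have hF : c⁻¹ * (R.h l * c * (R.h l)⁻¹) ∈ D.Fg (Sum.inl k) Set.univ := mul_mem (inv_mem hc) (D.h_F l c hc)
      refine D.mem_Q_of_comm h3 hF ?_
      have e1 : (R.h l * c * (R.h l)⁻¹) * R.t * (R.h l * c * (R.h l)⁻¹)⁻¹ = c * R.t * c⁻¹ := by
        have h4 : (R.h l)⁻¹ * R.t * R.h l = R.t := by
          rw [mul_assoc, ← (R.h_t l).eq]; group
        have h5 : Commute (R.h l) (R.t * r) := (R.h_t l).mul_right (hr' _ ⟨l, hl, rfl⟩)
        calc _ = R.h l * (c * ((R.h l)⁻¹ * R.t * R.h l) * c⁻¹) * (R.h l)⁻¹ := by group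
          _ = _ := by rw [h4, hct, h5.mul_inv_cancel]
      show c⁻¹ * (R.h l * c * (R.h l)⁻¹) * R.t = R.t * (c⁻¹ * (R.h l * c * (R.h l)⁻¹))
      calc _ = c⁻¹ * ((R.h l * c * (R.h l)⁻¹) * R.t * (R.h l * c * (R.h l)⁻¹)⁻¹) * (R.h l * c * (R.h l)⁻¹) := by group
        _ = _ := by rw [e1]; group
    obtain ⟨q, hq, hq2⟩ := avg (H := HL R k) (Q := R.Q (Sum.inl k)) (HL_odd k) Q_comm sqQ hHQ hcc
    refine ⟨c * q, D.mem_Rk.mpr ⟨mul_mem hc (D.Q_le_F hq), ?_⟩, ?_⟩
    · intro g hg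
      calc g * (c * q) = (g * (c * q) * g⁻¹) * g := by group
        _ = _ := by rw [hq2 g hg]
    · calc c * q * R.t * (c * q)⁻¹ = c * (q * R.t * q⁻¹) * c⁻¹ := by group
        _ = _ := by rw [(Qt q hq).mul_inv_cancel, hct]

/-- `C_{R_k}(h_k(μ)) = 1` -/
theorem Rk_fpf {k : Fin n} {μ : Fˣ} (hμ : μ ≠ 1) {r : G} (hr : r ∈ D.Rk k)
    (e : R.h (Pi.mulSingle k μ) * r = r * R.h (Pi.mulSingle k μ)) : r = 1 := by
  have h1 : ev (Pi.mulSingle k μ) (Sum.inl k : Ix n) = μ := Pi.mulSingle_eq_same (M := fun _ : Fin n => Fˣ) k μ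
  refine D.eq_one_of_fix h3 (i := Sum.inl k) (lam := Pi.mulSingle k μ) ?_ ?_ (D.mem_Rk.mp hr).1 ?_
  · rw [h1]; exact hμ
  · intro j hj
    have h2 : ev (Pi.mulSingle k μ) j = 1 := by
      rcases j with j | j
      · have : j ≠ k := fun h => hj.1 (by rw [h])
        exact Pi.mulSingle_eq_of_ne (M := fun _ : Fin n => Fˣ) this μ
      · have : j ≠ k := fun h => hj.2 (by rw [h]; rfl)
        show ((Pi.mulSingle k μ : Fin n → Fˣ) j)⁻¹ = 1
        rw [Pi.mulSingle_eq_of_ne this, inv_one]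
    rw [h1, h2, mul_one]; exact hμ
  · rw [e]; group

/-- `R_m ≤ N(F_k)` for `k < m` -/
theorem Rk_nor {k m : Fin n} (hkm : k < m) {μ : Fˣ} (hμ : μ ≠ 1) {r : G} (hr : r ∈ D.Rk m) :
    r ∈ Subgroup.normalizer (D.Fg (Sum.inl k) Set.univ : Set G) := by
  obtain ⟨hr1, hr2⟩ := D.mem_Rk.mp hr
  have hdj : Dj (Sum.inl m : Ix n) (Sum.inl k) :=
    ⟨fun h => hkm.ne' (Sum.inl_injective h), fun h => by simp at h⟩
  have h0 : ∀ j : Ix n, Dj (Sum.inl k) j → ev (Pi.mulSingle k μ) j = 1 := by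
    intro j hj
    rcases j with j | j
    · have : j ≠ k := fun h => hj.1 (by rw [h])
      exact Pi.mulSingle_eq_of_ne (M := fun _ : Fin n => Fˣ) this μ
    · have : j ≠ k := fun h => hj.2 (by rw [h]; rfl)
      show ((Pi.mulSingle k μ : Fin n → Fˣ) j)⁻¹ = 1
      rw [Pi.mulSingle_eq_of_ne this, inv_one]
  have h1 : ev (Pi.mulSingle k μ) (Sum.inl k : Ix n) = μ := Pi.mulSingle_eq_same (M := fun _ : Fin n => Fˣ) k μ
  obtain ⟨j₀, hm0, hk0⟩ := h3 (Sum.inl m) (Sum.inl k)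
  have hF : r ∈ D.Fg (Sum.inl m) {j | Dj (Sum.inl k) j} := by
    refine D.mem_of_fix h3 (lam := Pi.mulSingle k μ) (h0 _ hdj.symm) (fun j hj => h0 j hj) ?_ (j₀ := j₀) hk0 hm0 hr1 ?_
    · intro j hmj hj h
      have hj' : ¬ Dj (Sum.inl k) j := hj
      simp only [Dj, not_and_or, not_not] at hj'
      rcases hj' with hj | hj
      · rw [← hj, h1] at h; exact hμ h
      · have hj' : j = neg (Sum.inl k) := by rw [hj, neg_neg]
        rw [hj', ev_neg, h1, inv_eq_one] at h; exact hμ h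
    · have := hr2 (R.h (Pi.mulSingle k μ)) ⟨_, fun j hj => ?_, rfl⟩
      · rw [this]; group
      · have : j ≠ k := fun h => by rw [h] at hj; exact absurd hkm (not_lt.mpr hj)
        exact Pi.mulSingle_eq_of_ne (M := fun _ : Fin n => Fˣ) this μ
  have hle : D.Fg (Sum.inl m) {j | Dj (Sum.inl k) j} ≤ Subgroup.normalizer (D.Fg (Sum.inl k) Set.univ : Set G) := by
    refine (Subgroup.closure_le _).mpr ?_
    rintro g (⟨u, rfl⟩ | ⟨a, rfl⟩ | ⟨j, hj, hij, ⟨u, rfl⟩ | ⟨a, rfl⟩ | ⟨u, v, rfl⟩⟩)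
    · exact D.wy_nor h3 hdj.symm u
    · exact D.y_nor h3 hdj.symm a
    · exact D.wx_nor hdj.symm hj hij u
    · exact D.x_nor hdj.symm hj hij a
    · have e1 := D.wx_nor hdj.symm (dj_neg_right.mpr hj) (dj_neg_right.mpr hij) u
      have e2 := D.wy_nor h3 hj v
      exact mul_mem (mul_mem (mul_mem e1 e2) (inv_mem e1)) (inv_mem e2)
  exact hle hF

theorem exists_chain {μ : Fˣ} (hμ : μ ≠ 1) : ∀ m, m ≤ n → ∃ A : Subgroup G, Good R.t A ∧
    (∀ k : Fin n, n - m ≤ k → D.Rk k ≤ A) ∧ (∀ a ∈ A, ∀ g ∈ HL R (n - m), g * a = a * g) ∧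
    ∀ k : Fin n, (k : ℕ) < n - m → A ≤ Subgroup.normalizer (D.Fg (Sum.inl k) Set.univ : Set G) := by
  intro m
  induction m with
  | zero =>
    intro _
    refine ⟨⊥, ⟨IsPGroup.of_bot, ?_, ?_, ?_⟩, ?_, ?_, ?_⟩
    · intro a ha
      rw [Subgroup.mem_bot] at ha ⊢
      rw [ha, mul_one, R.tt]
    · intro h; exact R.t1 (Subgroup.mem_bot.mp h)
    · intro a ha _
      rw [Subgroup.mem_bot] at ha
      exact ⟨1, one_mem _, by rw [ha]; group⟩
    · intro k hk; exact absurd k.2 (by omega)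
    · intro a ha g _
      rw [Subgroup.mem_bot] at ha
      rw [ha]; group
    · intro k _; exact bot_le
  | succ m ih =>
    intro hm
    obtain ⟨A, hA, hA1, hA2, hA3⟩ := ih (by omega)
    have hk0 : n - (m + 1) < n := by omega
    let k0 : Fin n := ⟨n - (m + 1), hk0⟩
    have hk1 : n - m = (k0 : ℕ) + 1 := by show n - m = n - (m + 1) + 1; omega
    have h : ∀ a ∈ A, ∀ b ∈ D.Rk k0, a * b * a⁻¹ ∈ D.Rk k0 := by
      intro a ha b hb
      obtain ⟨hb1, hb2⟩ := D.mem_Rk.mp hb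
      refine D.mem_Rk.mpr ⟨(Subgroup.mem_normalizer_iff.mp (hA3 k0 (by omega) ha) b).mp hb1, ?_⟩
      intro g hg
      have e1 := hA2 a ha g (HL_mono (by omega) hg)
      have e2 := hb2 g hg
      calc g * (a * b * a⁻¹) = (g * a) * b * a⁻¹ := by group
        _ = a * (g * b) * a⁻¹ := by rw [e1]; group
        _ = a * b * (g * a⁻¹) := by rw [e2]; group
        _ = _ := by
          have : g * a⁻¹ = a⁻¹ * g := by
            calc g * a⁻¹ = a⁻¹ * (a * g) * a⁻¹ := by group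
              _ = _ := by rw [← e1]; group
          rw [this]; group
    have disj : ∀ b ∈ D.Rk k0, b ∈ A ∨ R.t * b ∈ A → b = 1 := by
      intro b hb hbA
      have hg : R.h (Pi.mulSingle k0 μ) ∈ HL R (n - m) := by
        refine ⟨_, fun j hj => ?_, rfl⟩
        have : j ≠ k0 := fun e => by rw [e] at hj; omega
        exact Pi.mulSingle_eq_of_ne (M := fun _ : Fin n => Fˣ) this μ
      refine D.Rk_fpf h3 hμ hb ?_
      rcases hbA with hbA | hbA
      · exact hA2 b hbA _ hg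
      · have e1 := hA2 _ hbA _ hg
        have e2 := (R.h_t (Pi.mulSingle k0 μ)).eq
        rw [← mul_assoc, e2, mul_assoc, mul_assoc] at e1
        exact mul_left_cancel e1
    refine ⟨glue A (D.Rk k0) h, hA.glue R.tt (D.Rk_good h3 k0) h disj, ?_, ?_, ?_⟩
    · intro k hk r hr
      by_cases hkm : n - m ≤ k
      · exact ⟨r, hA1 k hkm hr, 1, one_mem _, (mul_one _).symm⟩
      · have : k = k0 := Fin.ext (by show (k : ℕ) = n - (m + 1); omega)
        exact ⟨1, one_mem _, r, by rw [← this]; exact hr, (one_mul _).symm⟩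
    · rintro _ ⟨a, ha, b, hb, rfl⟩ g hg
      have e1 := hA2 a ha g (HL_mono (by omega) hg)
      have e2 := (D.mem_Rk.mp hb).2 g hg
      rw [← mul_assoc, e1, mul_assoc, e2, mul_assoc]
    · rintro k hk _ ⟨a, ha, b, hb, rfl⟩
      exact mul_mem (hA3 k (by omega) ha) (D.Rk_nor h3 (k := k) (m := k0) (Fin.lt_def.mpr hk) hμ hb)

/-- **Section 10**: the group `U*` of pattern (C,O). -/
theorem exists_Ustar {μ : Fˣ} (hμ : μ ≠ 1) : ∃ S : Subgroup G, Good R.t S ∧
    (∀ (k : Fin n) (a : F), R.y (Sum.inl k) a ∈ S) ∧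
    (∀ (k j : Fin n), k < j → ∀ a : F, R.x (Sum.inl k) (Sum.inl j) a ∈ S ∧ R.x (Sum.inl k) (Sum.inr j) a ∈ S) := by
  obtain ⟨S, hS, h1, -, -⟩ := D.exists_chain h3 hμ n le_rfl
  have h2 : ∀ k, D.Rk k ≤ S := fun k => h1 k (by omega)
  refine ⟨S, hS, fun k a => h2 k (D.mem_Rk.mpr ⟨D.y_mem_F a, ?_⟩), fun k j hkj a => ⟨?_, ?_⟩⟩
  · rintro _ ⟨l, hl, rfl⟩
    have e := R.h_y l (Sum.inl k) a
    have hk : ev l (Sum.inl k : Ix n) = 1 := hl k le_rfl
    rw [hk, Units.val_one, one_pow, one_mul] at e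
    exact mul_inv_eq_iff_eq_mul.mp e
  · have hd : Dj (Sum.inl k : Ix n) (Sum.inl j) := ⟨fun h => hkj.ne (Sum.inl_injective h), fun h => by simp at h⟩
    refine h2 k (D.mem_Rk.mpr ⟨D.x_mem_F (Set.mem_univ _) hd a, ?_⟩)
    rintro _ ⟨l, hl, rfl⟩
    have e := R.h_x l (Sum.inl k) (Sum.inl j) a
    have hk : ev l (Sum.inl k : Ix n) = 1 := hl k le_rfl
    have hj : ev l (Sum.inl j : Ix n) = 1 := hl j hkj.le
    rw [hk, hj, Units.val_one, one_mul, one_mul] at e
    exact mul_inv_eq_iff_eq_mul.mp e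
  · have hd : Dj (Sum.inl k : Ix n) (Sum.inr j) := ⟨fun h => by simp at h, fun h => hkj.ne (Sum.inl_injective h)⟩
    refine h2 k (D.mem_Rk.mpr ⟨D.x_mem_F (Set.mem_univ _) hd a, ?_⟩)
    rintro _ ⟨l, hl, rfl⟩
    have e := R.h_x l (Sum.inl k) (Sum.inr j) a
    have hk : ev l (Sum.inl k : Ix n) = 1 := hl k le_rfl
    have hj : ev l (Sum.inr j : Ix n) = 1 := by
      show (l j)⁻¹ = 1
      rw [hl j hkj.le, inv_one]
    rw [hk, hj, Units.val_one, one_mul, one_mul] at e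
    exact mul_inv_eq_iff_eq_mul.mp e

end Rk

end COne

end Cfsg.Agent.OddHalf.SpN

end

-- merged: Cfsg.Agent.OddHalf.SpN.COneEnd
section

/-!
# ODD D7, `K = Sp_2n(q)`, `n ≥ 3`, `q ≥ 4`, END of the pattern (C,O) (helper63)

`COne.exists_hom` : `t ↦ -1` for some homomorphism `G →* {±1}`.
-/

set_option autoImplicit false

namespace Cfsg.Agent.OddHalf.SpN

open Cfsg.Agent.OddHalf.F4.EndO

/-- third index -/
theorem exists_third {n : ℕ} (hn : 3 ≤ n) (i j : Ix n) : ∃ k, Dj i k ∧ Dj j k := by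
  classical
  let a : Ix n → Fin n := Sum.elim id id
  have ha : ∀ i j : Ix n, a i ≠ a j → Dj i j := by
    intro i j h
    refine ⟨fun e => h (by rw [e]), fun e => h ?_⟩
    rw [e]
    rcases j with j | j <;> rfl
  obtain ⟨k, hk⟩ : ∃ k : Fin n, k ∉ ({a i, a j} : Finset (Fin n)) := by
    by_contra h
    push_neg at h
    have h1 : (Finset.univ : Finset (Fin n)) ⊆ {a i, a j} := fun k _ => h k
    have h2 := Finset.card_le_card h1
    rw [Finset.card_univ, Fintype.card_fin] at h2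
    have h3 : ({a i, a j} : Finset (Fin n)).card ≤ 2 := Finset.card_le_two
    omega
  rw [Finset.mem_insert, Finset.mem_singleton, not_or] at hk
  exact ⟨Sum.inl k, ha _ _ (fun e => hk.1 e.symm), ha _ _ (fun e => hk.2 e.symm)⟩

variable {n : ℕ} {F : Type*} [Field F] [CharP F 2] [Finite F] {G : Type*} [Group G] [Finite G]

/-- **transfer**: a good 2-group containing a Sylow subgroup of `C(t)` modulo `t` -/
theorem Good.exists_hom {t : G} (tt : t * t = 1) {S : Subgroup G} (hS : Good t S) {T : Subgroup G}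
    (hT : T ≤ S ⊔ Subgroup.zpowers t) (hodd : Odd (T.relIndex (Subgroup.centralizer {t}))) :
    ∃ m : G →* ℤˣ, m t = -1 := by
  refine exists_hom_of_extremal tt hS.nt hS.tn hS.p2 (T := T) ?_ hodd ?_
  · have h1 : S ⊔ Subgroup.zpowers t ≤ Ht t S tt hS.nt := by
      refine sup_le (fun x hx => mem_Ht.2 (Or.inl hx)) ?_
      rw [Subgroup.zpowers_le]
      exact mem_Ht.2 (Or.inr (by rw [tt]; exact one_mem _))
    exact fun x hx => mem_Ht.1 (h1 (hT hx))
  · intro g hg h0 _ _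
    obtain ⟨c, hc, h1⟩ := hS.inv g hg h0
    exact ⟨c, hc, by rw [← h1]; group⟩

namespace COne

/-- **END (C,O)**. -/
theorem exists_hom {R : Frame n F G} (D : COne R) (hn : 3 ≤ n) {μ : Fˣ} (hμ : μ ≠ 1)
    (hodd : Odd ((R.Up ⊔ Subgroup.zpowers R.t).relIndex (Subgroup.centralizer {R.t}))) :
    ∃ m : G →* ℤˣ, m R.t = -1 := by
  obtain ⟨S, hS, hy, hx⟩ := D.exists_Ustar (exists_third hn) hμ
  refine hS.exists_hom R.tt (sup_le_sup_right ?_ _) hodd
  rw [R.Up_eq_closure, Subgroup.closure_le]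
  rintro _ (⟨i, j, hij, h, a, rfl⟩ | ⟨i, h, a, rfl⟩)
  · rcases i with i | i <;> rcases j with j | j
    · rcases lt_trichotomy i j with h1 | h1 | h1
      · exact (hx i j h1 a).1
      · exact absurd (by rw [h1]) hij.1
      · rw [R.x_symm]; exact (hx j i h1 a).1
    · rcases lt_trichotomy i j with h1 | h1 | h1
      · exact (hx i j h1 a).2
      · exact absurd (by rw [h1]; rfl) hij.2
      · exfalso
        have h2 := Fd_inl_lt h1
        have h3 : Fd (Sum.inr j : Ix n) = -Fd (Sum.inl j : Ix n) := Fd_neg (Sum.inl j)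
        omega
    · rcases lt_trichotomy i j with h1 | h1 | h1
      · exfalso
        have h2 := Fd_inl_lt h1
        have h3 : Fd (Sum.inr i : Ix n) = -Fd (Sum.inl i : Ix n) := Fd_neg (Sum.inl i)
        omega
      · exact absurd (by rw [h1]; rfl) hij.2
      · rw [R.x_symm]; exact (hx j i h1 a).2
    · exfalso
      have h2 := Fd_inl_pos i
      have h4 := Fd_inl_pos j
      have h3 : Fd (Sum.inr i : Ix n) = -Fd (Sum.inl i : Ix n) := Fd_neg (Sum.inl i)
      have h5 : Fd (Sum.inr j : Ix n) = -Fd (Sum.inl j : Ix n) := Fd_neg (Sum.inl j)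
      omega
  · rcases i with i | i
    · exact hy i a
    · exfalso
      have h2 := Fd_inl_pos i
      have h3 : Fd (Sum.inr i : Ix n) = -Fd (Sum.inl i : Ix n) := Fd_neg (Sum.inl i)
      omega

/-- **END (C,O), clean case**. -/
theorem exists_hom' {R : CFrame n F G} (D : COne R.toFrame) (hn : 3 ≤ n) {μ : Fˣ} (hμ : μ ≠ 1) :
    ∃ m : G →* ℤˣ, m R.t = -1 := D.exists_hom hn hμ R.odd_cent

end COne

end Cfsg.Agent.OddHalf.SpN

end

private theorem dce_b7dc07838cd7 : _root_.True := by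
  try have : _root_.True := by simp only [_root_.Cfsg.Agent.OddHalf.SpN.COne.Rk.eq_1]
  try have : _root_.True := by simp only [_root_.Cfsg.Agent.OddHalf.SpN.Dj.eq_1]
  try have : _root_.True := by simp only [_root_.Cfsg.Agent.OddHalf.SpN.COne.p.eq_1]
  exact _root_.True.intro
end

-- part: OddHalf/D9/M22/RowTwo_mg
section
prune_inst 0x20302c440922020000000092c10024605e0001901022000191600f020686d7200502a720cc801f00180aa20420340060014400d0421000000a000000411d01a0902a42009348a104260009809007180c00000000000000000000000000041004000000000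
set_option linter.all false
open scoped Cfsg.Agent.FastGrp

-- part: OddHalf/D9/M22/RowFour
section
/-!
# D9: the row `4.M22` (helper322)

`row` : the row `m22four` of `D9/Cut.lean` from the facts `EData` on `M22`.
`Cov` and the facts `OutTwo`, `OrdThree` for any perfect central extension of a group `X` with `EData`.
-/

set_option autoImplicit false

namespace Cfsg.Agent.OddHalf.D9.M22.RowFour

open Subgroup Cfsg Cfsg.Agent.OddHalf.Iface
open Cfsg.Agent.OddHalf.D9.CovTwo Cfsg.Agent.OddHalf.D9.M22.Lift Cfsg.Agent.OddHalf.D9.M22.CovFour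

universe u v

/-- the projection `K → X` -/
theorem cov_of {G : Type u} [Group G] {K : Subgroup G} (S : Std0 G K) {X : Type v} [Group X]
    (e : ↥K ⧸ center ↥K ≃* X) :
    Cov (e.toMonoidHom.comp (QuotientGroup.mk' (center ↥K))) := by
  refine ⟨?_, ?_, S.std.1.1.commutator_eq_top, ?_⟩
  · intro x
    obtain ⟨k, hk⟩ := QuotientGroup.mk_surjective (e.symm x)
    refine ⟨k, ?_⟩
    change e (QuotientGroup.mk k) = x
    rw [hk, MulEquiv.apply_symm_apply]
  · intro k
    change e (QuotientGroup.mk k) = 1 ↔ _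
    rw [map_eq_one_iff e e.injective, QuotientGroup.eq_one_iff]
  · intro c hc
    obtain ⟨n, hn⟩ := S.z2 ⟨c, hc⟩
    exact ⟨n, congrArg Subtype.val hn⟩

/-- a generator of a cyclic centre of order 4 -/
theorem exists_four {K : Type u} [Group K] (hc : IsCyclic ↥(center K)) (h4 : Nat.card ↥(center K) = 4) :
    ∃ r : K, Four r := by
  obtain ⟨r, hr⟩ := hc.exists_generator
  have hor : orderOf r = 4 := by rw [orderOf_eq_card_of_forall_mem_zpowers hr, h4]
  have h1 : r ^ 4 = 1 := by rw [← hor, pow_orderOf_eq_one]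
  refine ⟨r, r.2, ?_, ?_, ?_⟩
  · intro c hc'
    have : Finite ↥(center K) := Nat.finite_of_card_ne_zero (by rw [h4]; norm_num)
    obtain ⟨n, hn⟩ := (mem_powers_iff_mem_zpowers.2 (hr ⟨c, hc'⟩) : (⟨c, hc'⟩ : ↥(center K)) ∈ Submonoid.powers r)
    have hn' : r ^ (n % 4) = ⟨c, hc'⟩ := by
      rw [← hn]
      change r ^ (n % 4) = r ^ n
      conv_rhs => rw [← Nat.div_add_mod n 4, pow_add, pow_mul, h1, one_pow, one_mul]
    have h2 : (r : K) ^ (n % 4) = c := congrArg Subtype.val hn'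
    have h3 : n % 4 < 4 := Nat.mod_lt _ (by norm_num)
    interval_cases h : n % 4
    · left; rw [← h2, pow_zero]
    · right; left; rw [← h2, pow_one]
    · right; right; left; rw [← h2, pow_two]
    · right; right; right; rw [← h2, pow_succ, pow_two]
  · have h2 := congrArg Subtype.val h1
    calc (r : K) * r * (r * r) = (r : K) ^ 4 := by
          rw [show (4 : ℕ) = 2 + 2 from rfl, pow_add, pow_two]
      _ = 1 := h2
  · intro h
    have h2 : r ^ 2 = 1 := by rw [pow_two]; exact Subtype.ext h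
    have h3 := orderOf_dvd_of_pow_eq_one h2
    rw [hor] at h3
    exact absurd h3 (by norm_num)

/-- **The row `4.X`** -/
theorem false_four {G : Type u} [Group G] (C : Ctx G) {K : Subgroup G} (S : Std0 G K) (hc : Cyc K)
    (h4 : Nat.card ↥(center ↥K) = 4) {X : Type v} [Group X] {E : Subgroup X} {a b : X} (D : EData X E a b)
    (e : ↥K ⧸ center ↥K ≃* X) : False := by
  have := C.fin
  have := C.simple
  have hcov := cov_of S e
  set π := e.toMonoidHom.comp (QuotientGroup.mk' (center ↥K)) with hπ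
  obtain ⟨r, R⟩ := exists_four (Cut.center_isCyclic S.z2 hc) h4
  have hne : center ↥K ≠ ⊥ := by
    intro h
    rw [h, Subgroup.card_bot] at h4
    exact absurd h4 (by norm_num)
  obtain ⟨z, q, F⟩ := exists_fr C S hc hne
  have hrq : (r : G) ∈ zpowers q := F.cK r (F.Kt r r.2) fun x hx =>
    congrArg Subtype.val (mem_center_iff.1 R.mem ⟨x, hx⟩)
  have hrz : (r : G) * r = z := by
    apply F.uniq (mul_mem hrq hrq)
    · exact congrArg Subtype.val R.r4
    · intro h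
      exact R.r2 (Subtype.ext h)
  subst hrz
  have hord : orderOf ((r : G) * r) = 2 := by
    have : Fact (Nat.Prime 2) := ⟨Nat.prime_two⟩
    exact orderOf_eq_prime (by rw [pow_two]; exact F.tt) F.t1
  obtain hconj := Cfsg.Agent.StandardComponent.AltFinal.exists_conj C.na hord
  exact F.false_big (hcov.outTwo D.out2) (hcov.ordThree D.ord3) (R.outSq hcov D) hrq rfl hconj

/-- **D9, row `4.M22`**, from the facts on `M22`. -/
theorem row (D : ∃ (E : Subgroup ↥Spor.M22) (a b : ↥Spor.M22), EData ↥Spor.M22 E a b) :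
    Cut.Row.{u} (fun K _ => Nat.card ↥(center K) = 4 ∧ Spor.IsoM22 (K ⧸ center K)) := by
  intro G _ C K S hc ⟨h4, ⟨e⟩⟩
  obtain ⟨E, a, b, D⟩ := D
  exact false_four C S hc h4 D e

end Cfsg.Agent.OddHalf.D9.M22.RowFour
end

-- part: OddHalf/D9/M22/RowTwo
section
-- merged: Cfsg.Agent.OddHalf.D9.SquareKill
section

/-!
# The square functor: the kill for `2.M₂₂` and `4.M₂₂`

`K` is normal in `C_G(z)`, `z ∈ Z(K)` is the only involution of the 2-group `C_G(K)`. For a conjugate `e` of `z` in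
`C_G(z)` let `B(e)` be the set of the elements of `C_G(z, e)` commuting with all the elements of odd order of
`C_G(z, e)`. `SFacts z` collects facts about `K` which imply: for a noncentral involution `e ∈ K` conjugate to
`z`, `z` is a square in `B(e)`, and all squares in `B(e)` centralise `K`. This contradicts the symmetry between
`(z, e)` and `(e', z)`, `e = z ^ g`, `e' = z ^ g⁻¹`. The outer conjugates are excluded by `OutKill`.
-/

set_option autoImplicit false

namespace Cfsg.Agent.OddHalf.D9.SquareKill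

open Subgroup DoubleKill

/-- The facts about `K` used by `eq_of_mem_Nn`. -/
structure InFacts {K : Type*} [Group K] (z : K) : Prop where
  zz : z * z = 1
  z1 : z ≠ 1
  zc : ∀ y : K, y * z = z * y
  /-- `z` is the only involution of the centre -/
  zu : ∀ c : K, (∀ y, c * y = y * c) → c * c = 1 → c = 1 ∨ c = z
  /-- (N1) -/
  inv : ∀ k : K, (∀ y, k * k * y = y * (k * k)) → ∃ c : K, (∀ y, c * y = y * c) ∧ k * c * (k * c) = 1
  /-- (N2) -/
  fix : ∀ e : K, e * e = 1 → (¬ ∀ y, e * y = y * e) → ∀ α : MulAut K, α e = e →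
    (∀ x, Odd (orderOf x) → x * e = e * x → α x = x) → α * α = 1
  /-- (N3) -/
  nosq : (∀ c : K, (∀ y, c * y = y * c) → c = 1 ∨ c = z) → ∀ y : K, y * y ≠ z
  /-- (N3) -/
  root : (∀ c : K, (∀ y, c * y = y * c) → c = 1 ∨ c = z) →
    ∀ e : K, e * e = 1 → (¬ ∀ y, e * y = y * e) → ∃ y, y * y = e
  /-- (N4) -/
  lift : (∀ c : K, (∀ y, c * y = y * c) → c = 1 ∨ c = z) →
    ∀ α : MulAut K, α * α = 1 → (∀ k, α ≠ MulAut.conj k) → ∀ e : K, e * e = 1 → (¬ ∀ y, e * y = y * e) →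
    ∃ k : K, k * α k = 1 ∧ k * α e * k⁻¹ = e ∧ ∀ x, Odd (orderOf x) → x * e = e * x → k * α x * k⁻¹ = x
  /-- (N5) -/
  exp2 : ∀ α : MulAut K, ∃ k, α * α = MulAut.conj k

/-- The facts about `K` used by `false_of_sfacts`. -/
structure SFacts {K : Type*} [Group K] (z : K) : Prop extends InFacts z where
  /-- (N6) -/
  out : ∀ α : MulAut K, α * α = 1 → (∀ k, α ≠ MulAut.conj k) →
    ∃ k, α k * k⁻¹ ≠ 1 ∧ α k * k⁻¹ ∈ closure {x | ∃ y, α y = y ∧ y * y = x}

variable {G : Type*} [Group G]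

/-- `B(a, b)`: the elements of `C(a, b)` commuting with the elements of odd order of `C(a, b)` -/
def InB (a b y : G) : Prop :=
  y * a = a * y ∧ y * b = b * y ∧ ∀ x : G, Odd (orderOf x) → x * a = a * x → x * b = b * x → y * x = x * y

theorem InB.conj {a b y : G} (h : InB a b y) (g : G) :
    InB (g * a * g⁻¹) (g * b * g⁻¹) (g * y * g⁻¹) := by
  refine ⟨OutKill.conj_comm g h.1, OutKill.conj_comm g h.2.1, fun x hx hxa hxb => ?_⟩
  have h1 : orderOf (g⁻¹ * x * g⁻¹⁻¹) = orderOf x := (MulAut.conj g⁻¹).orderOf_eq x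
  have h2 := OutKill.conj_comm g⁻¹ hxa
  have h3 := OutKill.conj_comm g⁻¹ hxb
  have e1 : g⁻¹ * (g * a * g⁻¹) * g⁻¹⁻¹ = a := by group
  have e2 : g⁻¹ * (g * b * g⁻¹) * g⁻¹⁻¹ = b := by group
  rw [e1] at h2
  rw [e2] at h3
  have h4 := OutKill.conj_comm g (h.2.2 _ (by rw [h1]; exact hx) h2 h3)
  have e3 : g * (g⁻¹ * x * g⁻¹⁻¹) * g⁻¹ = x := by group
  rw [e3] at h4
  exact h4

theorem InB.symm {a b y : G} (h : InB a b y) : InB b a y :=
  ⟨h.2.1, h.1, fun x hx hb ha => h.2.2 x hx ha hb⟩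

/-- A finite 2-group with a single involution `z` is `{1, z}` or contains a square root of `z` -/
theorem exists_root {C : Subgroup G} (hC : IsPGroup 2 C) {z : G}
    (hR : ∀ r ∈ C, r * r = 1 → r = 1 ∨ r = z) :
    (∃ r ∈ C, r * r = z) ∨ ∀ r ∈ C, r = 1 ∨ r = z := by
  classical
  by_cases h : ∀ r ∈ C, r = 1 ∨ r = z
  · right; exact h
  left
  push Not at h
  obtain ⟨r, hr, hr1, hrz⟩ := h
  have hex : ∃ n : ℕ, r ^ 2 ^ n = 1 := by
    obtain ⟨n, hn⟩ := hC ⟨r, hr⟩
    exact ⟨n, Subtype.ext_iff.mp hn⟩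
  set n := Nat.find hex with hn
  have h1 : r ^ 2 ^ n = 1 := Nat.find_spec hex
  have h2 : n ≠ 0 := by
    intro h0
    rw [h0, pow_zero, pow_one] at h1
    exact hr1 h1
  have h3 : n ≠ 1 := by
    intro h0
    rw [h0, pow_one, pow_two] at h1
    rcases hR r hr h1 with h4 | h4
    · exact hr1 h4
    · exact hrz h4
  obtain ⟨m, hm⟩ : ∃ m, n = m + 2 := ⟨n - 2, by omega⟩
  have h4 : r ^ 2 ^ (m + 1) ≠ 1 := Nat.find_min hex (by omega)
  have h5 : r ^ 2 ^ (m + 1) = r ^ 2 ^ m * r ^ 2 ^ m := by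
    rw [← pow_add, ← two_mul, ← pow_succ']
  have h6 : r ^ 2 ^ (m + 1) * r ^ 2 ^ (m + 1) = 1 := by
    rw [← pow_add, ← two_mul, ← pow_succ', ← h1, hm]
  refine ⟨r ^ 2 ^ m, C.pow_mem hr _, ?_⟩
  rw [← h5]
  rcases hR _ (C.pow_mem hr _) h6 with h7 | h7
  · exact absurd h7 h4
  · exact h7

section

variable {K : Subgroup G} {z : G} (hzK : z ∈ K) (hF : InFacts (⟨z, hzK⟩ : K))

include hF

theorem comm_z : ∀ k ∈ K, k * z = z * k := fun k hk => Subtype.ext_iff.mp (hF.zc ⟨k, hk⟩)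

theorem zz : z * z = 1 := Subtype.ext_iff.mp hF.zz

theorem z1 : z ≠ 1 := fun h => hF.z1 (Subtype.ext h)

/-- an involution inducing an inner automorphism on `K` is in `K` -/
theorem mem_K (hR : ∀ r, (∀ k ∈ K, r * k = k * r) → r * r = 1 → r = 1 ∨ r = z) {e : G}
    (he : e * e = 1) (heN : e ∈ Nn K) : e ∈ K := by
  obtain ⟨k, hk, h⟩ := heN
  have hr : ∀ x ∈ K, (k⁻¹ * e) * x = x * (k⁻¹ * e) := by
    intro x hx
    have h1 := h x hx
    calc k⁻¹ * e * x = k⁻¹ * (e * x * e⁻¹) * e := by group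
      _ = k⁻¹ * (k * x * k⁻¹) * e := by rw [h1]
      _ = x * (k⁻¹ * e) := by group
  obtain ⟨r, hr'⟩ : ∃ r, r = k⁻¹ * e := ⟨_, rfl⟩
  rw [← hr'] at hr
  have hek : e = k * r := by rw [hr']; group
  have hkr := hr k hk
  have h2 : (k * k) * (r * r) = 1 := by
    rw [← he, hek]
    calc k * k * (r * r) = k * (k * r) * r := by group
      _ = k * (r * k) * r := by rw [hkr]
      _ = k * r * (k * r) := by group
  have hkk : k * k = (r * r)⁻¹ := eq_inv_of_mul_eq_one_left h2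
  have h3 : ∀ x ∈ K, k * k * x = x * (k * k) := by
    intro x hx
    rw [hkk]
    have h4 : r * r * x = x * (r * r) := by rw [mul_assoc, hr x hx, ← mul_assoc, hr x hx, mul_assoc]
    rw [inv_mul_eq_iff_eq_mul, ← mul_assoc, h4]
    group
  obtain ⟨c, hc, hkc⟩ := hF.inv ⟨k, hk⟩ (fun y => Subtype.ext (h3 y y.2))
  have hcK : ∀ x ∈ K, (c : G) * x = x * c := fun x hx => Subtype.ext_iff.mp (hc ⟨x, hx⟩)
  have hkc' : k * (c : G) * (k * c) = 1 := Subtype.ext_iff.mp hkc
  have hcr : ∀ x ∈ K, ((c : G)⁻¹ * r) * x = x * ((c : G)⁻¹ * r) := by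
    intro x hx
    have h4 : (c : G)⁻¹ * x = x * (c : G)⁻¹ := by
      rw [inv_mul_eq_iff_eq_mul, ← mul_assoc, hcK x hx, mul_inv_cancel_right]
    rw [mul_assoc, hr x hx, ← mul_assoc, h4, mul_assoc]
  have hrr : (c : G)⁻¹ * r * ((c : G)⁻¹ * r) = 1 := by
    have h5 := hcr (k * c) (K.mul_mem hk c.2)
    have h6 : (k * (c : G)) * (k * c) * (((c : G)⁻¹ * r) * ((c : G)⁻¹ * r)) = 1 := by
      rw [← he, hek]
      calc (k * (c : G)) * (k * c) * (((c : G)⁻¹ * r) * ((c : G)⁻¹ * r))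
          = k * c * ((k * c) * ((c : G)⁻¹ * r)) * ((c : G)⁻¹ * r) := by group
        _ = k * c * (((c : G)⁻¹ * r) * (k * c)) * ((c : G)⁻¹ * r) := by rw [h5]
        _ = k * r * (k * r) := by group
    rwa [hkc', one_mul] at h6
  have h7 : e = k * c * ((c : G)⁻¹ * r) := by rw [hek]; group
  rcases hR _ hcr hrr with h6 | h6
  · rw [h7, h6, mul_one]; exact K.mul_mem hk c.2
  · rw [h7, h6]; exact K.mul_mem (K.mul_mem hk c.2) hzK

/-- squares of elements of `C(z)` induce inner automorphisms -/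
theorem sq_mem_Nn (hKn : ∀ h, h * z = z * h → ∀ k ∈ K, h * k * h⁻¹ ∈ K) {y : G}
    (hy : y * z = z * y) : y * y ∈ Nn K := by
  have hyC : y ∈ centralizer ({z} : Set G) := mem_centralizer_singleton_iff.mpr hy
  obtain ⟨k, hk⟩ := hF.exp2 (act hKn ⟨y, hyC⟩)
  rw [← map_mul] at hk
  exact mem_Nn_of_act hKn hk

/-- elements of odd order of `C(z)` are in `K` -/
theorem odd_mem (hKn : ∀ h, h * z = z * h → ∀ k ∈ K, h * k * h⁻¹ ∈ K)
    (hC : IsPGroup 2 (centralizer (K : Set G))) {x : G} (hx : Odd (orderOf x))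
    (hxz : x * z = z * x) : x ∈ K := by
  have h1 := sq_mem_Nn hzK hF hKn hxz
  have hcop : Nat.Coprime 2 (orderOf x) := Nat.coprime_two_left.mpr hx
  obtain ⟨m, hm⟩ := exists_pow_eq_self_of_coprime hcop
  have h2 : x ∈ Nn K := by
    rw [← hm, pow_two]
    exact (Nn K).pow_mem h1 m
  obtain ⟨k, hk, h⟩ := h2
  have hr : ∀ y ∈ K, (k⁻¹ * x) * y = y * (k⁻¹ * x) := by
    intro y hy
    have h3 := h y hy
    calc k⁻¹ * x * y = k⁻¹ * (x * y * x⁻¹) * x := by group
      _ = k⁻¹ * (k * y * k⁻¹) * x := by rw [h3]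
      _ = y * (k⁻¹ * x) := by group
  have hrC : k⁻¹ * x ∈ centralizer (K : Set G) := by
    rw [mem_centralizer_iff]
    intro y hy
    exact (hr y hy).symm
  obtain ⟨n, hn⟩ := hC ⟨_, hrC⟩
  have hn' : (k⁻¹ * x) ^ 2 ^ n = 1 := Subtype.ext_iff.mp hn
  have hcomm : Commute k (k⁻¹ * x) := (hr k hk).symm
  have h4 : x ^ 2 ^ n = k ^ 2 ^ n := by
    have h5 : x = k * (k⁻¹ * x) := by group
    conv_lhs => rw [h5]
    rw [hcomm.mul_pow, hn', mul_one]
  obtain ⟨m', hm'⟩ := exists_pow_eq_self_of_coprime (Nat.Coprime.pow_left n hcop)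
  rw [← hm', h4]
  exact K.pow_mem (K.pow_mem hk _) _

/-- squares in `B(z, e)` centralise `K` -/
theorem sq_cent (hKn : ∀ h, h * z = z * h → ∀ k ∈ K, h * k * h⁻¹ ∈ K) {e : G} (heK : e ∈ K)
    (hee : e * e = 1) (hnc : ¬ ∀ y ∈ K, e * y = y * e) {b : G} (hb : InB z e b) :
    ∀ k ∈ K, b * b * k = k * (b * b) := by
  have hbC : b ∈ centralizer ({z} : Set G) := mem_centralizer_singleton_iff.mpr hb.1
  have h1 := hF.fix ⟨e, heK⟩ (Subtype.ext hee) (fun h => hnc (fun y hy => Subtype.ext_iff.mp (h ⟨y, hy⟩)))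
    (act hKn ⟨b, hbC⟩) (by
      apply Subtype.ext
      show b * e * b⁻¹ = e
      rw [hb.2.1, mul_inv_cancel_right]) (by
      intro x hx hxe
      apply Subtype.ext
      show b * (x : G) * b⁻¹ = x
      have h2 := hb.2.2 (x : G) (by rw [orderOf_coe]; exact hx) (comm_z hzK hF x x.2)
        (Subtype.ext_iff.mp hxe)
      rw [h2, mul_inv_cancel_right])
  intro k hk
  have h2 : (act hKn ⟨b, hbC⟩ * act hKn ⟨b, hbC⟩) ⟨k, hk⟩ = ⟨k, hk⟩ := by rw [h1]; rfl
  have h3 : b * (b * k * b⁻¹) * b⁻¹ = k := Subtype.ext_iff.mp h2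
  calc b * b * k = b * (b * k * b⁻¹) * b⁻¹ * (b * b) := by group
    _ = k * (b * b) := by rw [h3]

/-- `z` is a square in `B(z, e)` -/
theorem exists_sq (hKn : ∀ h, h * z = z * h → ∀ k ∈ K, h * k * h⁻¹ ∈ K)
    (hC : IsPGroup 2 (centralizer (K : Set G)))
    (hR : ∀ r, (∀ k ∈ K, r * k = k * r) → r * r = 1 → r = 1 ∨ r = z)
    (g : G) (heK : g * z * g⁻¹ ∈ K) (hnc : ¬ ∀ y ∈ K, g * z * g⁻¹ * y = y * (g * z * g⁻¹)) :
    ∃ b, InB z (g * z * g⁻¹) b ∧ b * b = z := by
  have hzz := zz hzK hF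
  have hKz := comm_z hzK hF
  have hee : g * z * g⁻¹ * (g * z * g⁻¹) = 1 := by
    calc g * z * g⁻¹ * (g * z * g⁻¹) = g * (z * z) * g⁻¹ := by group
      _ = 1 := by rw [hzz]; group
  have memC : ∀ r, r ∈ centralizer (K : Set G) ↔ ∀ k ∈ K, r * k = k * r := by
    intro r
    rw [mem_centralizer_iff]
    exact ⟨fun h k hk => (h k hk).symm, fun h k hk => (h k hk).symm⟩
  rcases exists_root hC (z := z) (fun r hr => hR r ((memC r).mp hr)) with ⟨r, hr, hrr⟩ | hsmall
  · rw [memC] at hr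
    refine ⟨r, ⟨hr z hzK, hr _ heK, fun x hx hxz _ => hr x (odd_mem hzK hF hKn hC hx hxz)⟩, hrr⟩
  · have hcen : ∀ c : K, (∀ y, c * y = y * c) → c = 1 ∨ c = ⟨z, hzK⟩ := by
      intro c hc
      rcases hsmall c ((memC _).mpr (fun k hk => Subtype.ext_iff.mp (hc ⟨k, hk⟩))) with h | h
      · left; exact Subtype.ext h
      · right; exact Subtype.ext h
    have hncK : ¬ ∀ y : K, (⟨g * z * g⁻¹, heK⟩ : K) * y = y * ⟨g * z * g⁻¹, heK⟩ :=
      fun h => hnc (fun y hy => Subtype.ext_iff.mp (h ⟨y, hy⟩))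
    obtain ⟨y, hy⟩ := hF.root hcen ⟨g * z * g⁻¹, heK⟩ (Subtype.ext hee) hncK
    have hyy : (y : G) * y = g * z * g⁻¹ := Subtype.ext_iff.mp hy
    obtain ⟨y', hy'⟩ : ∃ y', y' = g⁻¹ * (y : G) * g := ⟨_, rfl⟩
    have hy'2 : y' * y' = z := by
      rw [hy']
      calc g⁻¹ * (y : G) * g * (g⁻¹ * (y : G) * g) = g⁻¹ * ((y : G) * y) * g := by group
        _ = z := by rw [hyy]; group
    have hy'z : y' * z = z * y' := by
      rw [← hy'2, mul_assoc]
    have hy'C : y' ∈ centralizer ({z} : Set G) := mem_centralizer_singleton_iff.mpr hy'z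
    have hy'K : y' ∉ K := fun h => hF.nosq hcen ⟨y', h⟩ (Subtype.ext hy'2)
    set α := act hKn ⟨y', hy'C⟩ with hα
    have hαα : α * α = 1 := by
      rw [hα, ← map_mul]
      ext k
      show y' * y' * (k : G) * (y' * y')⁻¹ = k
      rw [hy'2, ← hKz k k.2, mul_inv_cancel_right]
    have hαo : ∀ k, α ≠ MulAut.conj k := by
      intro k hk
      obtain ⟨k, hk, h⟩ := mem_Nn_of_act hKn hk
      apply hy'K
      have hr : ∀ x ∈ K, (k⁻¹ * y') * x = x * (k⁻¹ * y') := by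
        intro x hx
        have h3 : y' * x * y'⁻¹ = k * x * k⁻¹ := h x hx
        calc k⁻¹ * y' * x = k⁻¹ * (y' * x * y'⁻¹) * y' := by group
          _ = k⁻¹ * (k * x * k⁻¹) * y' := by rw [h3]
          _ = x * (k⁻¹ * y') := by group
      have h4 : y' = k * (k⁻¹ * y') := by group
      rcases hsmall _ ((memC _).mpr hr) with h5 | h5
      · rw [h4, h5, mul_one]; exact hk
      · rw [h4, h5]; exact K.mul_mem hk hzK
    obtain ⟨k, hk1, hke, hkx⟩ := hF.lift hcen α hαα hαo ⟨g * z * g⁻¹, heK⟩ (Subtype.ext hee) hncK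
    have hk1' : (k : G) * (y' * k * y'⁻¹) = 1 := Subtype.ext_iff.mp hk1
    have hke' : (k : G) * (y' * (g * z * g⁻¹) * y'⁻¹) * (k : G)⁻¹ = g * z * g⁻¹ :=
      Subtype.ext_iff.mp hke
    refine ⟨k * y', ⟨?_, ?_, ?_⟩, ?_⟩
    · rw [mul_assoc, hy'z, ← mul_assoc, hKz k k.2, mul_assoc]
    · calc (k : G) * y' * (g * z * g⁻¹)
          = (k : G) * (y' * (g * z * g⁻¹) * y'⁻¹) * (k : G)⁻¹ * (k * y') := by group
        _ = g * z * g⁻¹ * (k * y') := by rw [hke']
    · intro x hx hxz hxe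
      have hxK := odd_mem hzK hF hKn hC hx hxz
      have h1 := hkx ⟨x, hxK⟩ (by rw [orderOf_mk]; exact hx) (Subtype.ext hxe)
      have h2 : (k : G) * (y' * x * y'⁻¹) * (k : G)⁻¹ = x := Subtype.ext_iff.mp h1
      calc (k : G) * y' * x = (k : G) * (y' * x * y'⁻¹) * (k : G)⁻¹ * (k * y') := by group
        _ = x * (k * y') := by rw [h2]
    · calc (k : G) * y' * (k * y') = (k : G) * (y' * k * y'⁻¹) * (y' * y') := by group
        _ = z := by rw [hk1', one_mul, hy'2]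

/-- no other conjugate of `z` induces an inner automorphism on `K` -/
theorem eq_of_mem_Nn (hKn : ∀ h, h * z = z * h → ∀ k ∈ K, h * k * h⁻¹ ∈ K)
    (hC : IsPGroup 2 (centralizer (K : Set G)))
    (hR : ∀ r, (∀ k ∈ K, r * k = k * r) → r * r = 1 → r = 1 ∨ r = z)
    (g : G) (hg : g * z * g⁻¹ ∈ Nn K) : g * z * g⁻¹ = z := by
  by_contra hne
  have hzz := zz hzK hF
  have hz1 := z1 hzK hF
  have sqc : ∀ g : G, g * z * g⁻¹ * (g * z * g⁻¹) = 1 := by
    intro g
    calc g * z * g⁻¹ * (g * z * g⁻¹) = g * (z * z) * g⁻¹ := by group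
      _ = 1 := by rw [hzz]; group
  have nc : ∀ g : G, g * z * g⁻¹ ≠ z → ∀ h : g * z * g⁻¹ ∈ K,
      ¬ ∀ y ∈ K, g * z * g⁻¹ * y = y * (g * z * g⁻¹) := by
    intro g hne h hall
    rcases hF.zu ⟨g * z * g⁻¹, h⟩ (fun y => Subtype.ext (hall y y.2)) (Subtype.ext (sqc g)) with h1 | h1
    · apply hz1
      have h2 : g * z * g⁻¹ = 1 := Subtype.ext_iff.mp h1
      calc z = g⁻¹ * (g * z * g⁻¹) * g := by group
        _ = 1 := by rw [h2]; group
    · exact hne (Subtype.ext_iff.mp h1)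
  have heK := mem_K hzK hF hR (sqc g) hg
  obtain ⟨b, hb, hbb⟩ := exists_sq hzK hF hKn hC hR g heK (nc g hne heK)
  -- `e' = z ^ g⁻¹` is a square in `C(z)`
  have hb' := hb.conj g⁻¹
  have e1 : g⁻¹ * (g * z * g⁻¹) * g⁻¹⁻¹ = z := by group
  rw [e1] at hb'
  have he'N : g⁻¹ * z * g⁻¹⁻¹ ∈ Nn K := by
    have h1 := sq_mem_Nn hzK hF hKn hb'.2.1
    have h2 : g⁻¹ * b * g⁻¹⁻¹ * (g⁻¹ * b * g⁻¹⁻¹) = g⁻¹ * z * g⁻¹⁻¹ := by
      rw [← hbb]; group
    rwa [h2] at h1
  have hne' : g⁻¹ * z * g⁻¹⁻¹ ≠ z := by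
    intro h
    apply hne
    have h4 : g * (g⁻¹ * z * g⁻¹⁻¹) * g⁻¹ = z := by group
    rw [h] at h4
    exact h4
  have he'K := mem_K hzK hF hR (sqc g⁻¹) he'N
  obtain ⟨b1, hb1, hb1b⟩ := exists_sq hzK hF hKn hC hR g⁻¹ he'K (nc g⁻¹ hne' he'K)
  have hb2 := (hb1.conj g).symm
  have e2 : g * (g⁻¹ * z * g⁻¹⁻¹) * g⁻¹ = z := by group
  rw [e2] at hb2
  have h3 := sq_cent hzK hF hKn heK (sqc g) (nc g hne heK) hb2
  have h4 : g * b1 * g⁻¹ * (g * b1 * g⁻¹) = g * z * g⁻¹ := by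
    rw [← hb1b]; group
  rw [h4] at h3
  exact nc g hne heK h3

end

end Cfsg.Agent.OddHalf.D9.SquareKill

end

-- merged: Cfsg.Agent.OddHalf.D9.CovTwoSmall
section

/-!
# `z^G ∩ KR = {z}` from `SquareKill` (row `2.M₂₂`)

`Fr.inner_of`: in the frame `Fr K q z` the facts `InFacts z` (N1–N5) give `z^G ∩ KR = {z}`.
-/

set_option autoImplicit false

namespace Cfsg.Agent.OddHalf.D9.CovTwoSmall

open Subgroup Cfsg.Agent.OddHalf.D9.CovTwo Cfsg.Agent.OddHalf.D9.SquareKill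

universe u

variable {G : Type u} [Group G] {K : Subgroup G} {q z : G}

theorem KR_le_Nn (F : Fr K q z) {h : G} (hh : KR K q h) : h ∈ DoubleKill.Nn K := by
  obtain ⟨k, hk, r, hr, rfl⟩ := hh
  refine ⟨k, hk, fun x hx => ?_⟩
  have h1 := F.kr hx hr
  calc k * r * x * (k * r)⁻¹ = k * (r * x) * r⁻¹ * k⁻¹ := by group
    _ = k * (x * r) * r⁻¹ * k⁻¹ := by rw [h1]
    _ = k * x * k⁻¹ := by group

theorem cent_iff (F : Fr K q z) (r : G) : r ∈ centralizer (K : Set G) ↔ r ∈ zpowers q := by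
  rw [mem_centralizer_iff]
  constructor
  · intro h
    exact F.cK r (h z F.zK).symm h
  · intro h x hx
    exact F.QK r h x hx

theorem isPGroup (F : Fr K q z) : IsPGroup 2 (centralizer (K : Set G)) := by
  have h : centralizer (K : Set G) = zpowers q := by
    ext r
    exact cent_iff F r
  rw [h]
  exact F.pQ

theorem uniq [Finite G] (F : Fr K q z) : ∀ r, (∀ k ∈ K, r * k = k * r) → r * r = 1 → r = 1 ∨ r = z := by
  intro r hr hrr
  by_cases h1 : r = 1
  · exact Or.inl h1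
  · right
    refine F.uniq ?_ hrr h1
    rw [← cent_iff F, mem_centralizer_iff]
    intro x hx
    exact (hr x hx).symm

/-- **`z^G ∩ KR = {z}`** -/
theorem inner_of [Finite G] (F : Fr K q z) (hF : InFacts (⟨z, F.zK⟩ : ↥K)) (g : G)
    (hg : KR K q (g * z * g⁻¹)) : g * z * g⁻¹ = z :=
  eq_of_mem_Nn F.zK hF (fun _ hh _ hk => F.nrm hh hk) (isPGroup F) (uniq F) g (KR_le_Nn F hg)

/-- the row from `InFacts`, `OutTwo`, `OutSq` -/
theorem false_of [Finite G] (F : Fr K q z) (hO : OutTwo ↥K) (hF : InFacts (⟨z, F.zK⟩ : ↥K))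
    (hII : OutSq (⟨z, F.zK⟩ : ↥K)) (hne : ∃ g : G, g * z * g⁻¹ ≠ z ∧ g * z * g⁻¹ * z = z * (g * z * g⁻¹)) :
    False :=
  F.false_of_inner hO (inner_of F hF) hII hne

end Cfsg.Agent.OddHalf.D9.CovTwoSmall

end

-- merged: Cfsg.Agent.OddHalf.D9.M22.RowTwo
section

/-!
# D9: the row `2.M22` (helper322)

`row` : the row `m22` of `D9/Cut.lean` from the facts `PData` on `M22`.
-/

set_option autoImplicit false

namespace Cfsg.Agent.OddHalf.D9.M22.RowTwo

open Subgroup Cfsg Cfsg.Agent.OddHalf.Iface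
open Cfsg.Agent.OddHalf.D9.CovTwo Cfsg.Agent.OddHalf.D9.M22.Lift Cfsg.Agent.OddHalf.D9.M22.CovPair
open Cfsg.Agent.OddHalf.D9.M22.RowFour (cov_of)

universe u v

/-- the facts for `SquareKill` -/
theorem inFacts {K : Type u} [Group K] {X : Type v} [Group X] {π : K →* X} {E : Subgroup X} {a b : X} {z : K}
    [Finite K] (C : Cov π) (D : PData X E a b) (R : Pair z) : SquareKill.InFacts z where
  zz := R.zz
  z1 := R.z1
  zc y := (R.zc y).symm
  zu c hc _ := R.cases c (mem_center_iff.2 fun y => (hc y).symm)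
  inv k hk := by
    have h1 : k * k ∈ center K := mem_center_iff.2 fun y => (hk y).symm
    have h2 : π k * π k = 1 := by rw [← map_mul]; exact (C.ker _).2 h1
    exact ⟨1, fun y => by rw [one_mul, mul_one], by rw [mul_one]; exact R.sq_one C D h2⟩
  fix e he hec α hα hx := R.fix C D he (fun h => hec fun y => (mem_center_iff.1 h y).symm) hα hx
  nosq _ := R.nosq C D
  root _ e he hec := R.root C D he fun h => hec fun y => (mem_center_iff.1 h y).symm
  lift _ α hα hout e he hec := R.lift C D hα hout he fun h => hec fun y => (mem_center_iff.1 h y).symm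
  exp2 := Pair.exp2 C D

/-- the centre of order 2 -/
theorem exists_pair {K : Type u} [Group K] (h2 : Nat.card ↥(center K) = 2) : ∃ z : K, Pair z := by
  have : Finite ↥(center K) := Nat.finite_of_card_ne_zero (by rw [h2]; norm_num)
  obtain ⟨x, y, hxy, hall⟩ := Nat.card_eq_two_iff.1 h2
  have hcase : ∀ c : ↥(center K), c = x ∨ c = y := by
    intro c
    have h := Set.mem_univ c
    rw [← hall] at h
    simpa using h
  obtain ⟨z, hz1, hz⟩ : ∃ z : ↥(center K), z ≠ 1 ∧ ∀ c : ↥(center K), c = 1 ∨ c = z := by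
    rcases hcase 1 with h | h
    · exact ⟨y, fun h' => hxy (by rw [← h, h']), fun c => by rw [h]; exact hcase c⟩
    · exact ⟨x, fun h' => hxy (by rw [← h, h']), fun c => by rw [h]; exact (hcase c).symm⟩
  refine ⟨z, z.2, fun c hc => ?_, ?_, fun h => hz1 (Subtype.ext h)⟩
  · rcases hz ⟨c, hc⟩ with h | h
    · left; exact congrArg Subtype.val h
    · right; exact congrArg Subtype.val h
  · rcases hz (z * z) with h | h
    · exact congrArg Subtype.val h
    · exact absurd (mul_eq_left.1 h) hz1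

/-- **The row `2.X`** -/
theorem false_two {G : Type u} [Group G] (C : Ctx G) {K : Subgroup G} (S : Std0 G K) (hc : Cyc K)
    (h2 : Nat.card ↥(center ↥K) = 2) {X : Type v} [Group X] {E : Subgroup X} {a b : X} (D : PData X E a b)
    (e : ↥K ⧸ center ↥K ≃* X) : False := by
  have := C.fin
  have := C.simple
  have hcov := cov_of S e
  set π := e.toMonoidHom.comp (QuotientGroup.mk' (center ↥K)) with hπ
  obtain ⟨r, R⟩ := exists_pair h2
  have hne : center ↥K ≠ ⊥ := by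
    intro h
    rw [h, Subgroup.card_bot] at h2
    exact absurd h2 (by norm_num)
  obtain ⟨z, q, F⟩ := exists_fr C S hc hne
  have hrq : (r : G) ∈ zpowers q := F.cK r (F.Kt r r.2) fun x hx =>
    congrArg Subtype.val (mem_center_iff.1 R.mem ⟨x, hx⟩)
  have hrz : (r : G) = z := by
    apply F.uniq hrq
    · exact congrArg Subtype.val R.zz
    · intro h
      exact R.z1 (Subtype.ext h)
  subst hrz
  have hord : orderOf (r : G) = 2 := by
    have : Fact (Nat.Prime 2) := ⟨Nat.prime_two⟩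
    exact orderOf_eq_prime (by rw [pow_two]; exact F.tt) F.t1
  obtain hconj := Cfsg.Agent.StandardComponent.AltFinal.exists_conj C.na hord
  exact CovTwoSmall.false_of F (hcov.outTwo D.out2) (inFacts hcov D R) (R.outSq hcov D) hconj

/-- **D9, row `2.M22`**, from the facts on `M22`. -/
theorem row (D : ∃ (E : Subgroup ↥Spor.M22) (a b : ↥Spor.M22), PData ↥Spor.M22 E a b) :
    Cut.Row.{u} (fun K _ => Cut.Two (fun X _ => Spor.IsoM22 X) K) := by
  intro G _ C K S hc ⟨h2, ⟨e⟩⟩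
  obtain ⟨E, a, b, D⟩ := D
  exact false_two C S hc h2 D e

end Cfsg.Agent.OddHalf.D9.M22.RowTwo

end
end

-- part: OddHalf/D9/M22/PDataM22
section
-- merged: Cfsg.Agent.OddHalf.D9.M22.DataU
section

/-!
# Packed elements of `M22` commuting with `zP`, involutions of `N(WL)`
-/

set_option autoImplicit false

namespace Cfsg.Agent.OddHalf.D9.M22.DataU

/-- elements of `C(zP)` mapping 4 to the moved points of `zP` -/
def R1 : List ℕ := [
  984818244535754528103549039458486304,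
  965128854020860192151391391390468128,
  963721886883755259286232606933354528,
  979121071158219704299181131031480352,
  968708902336673183175954409307867168,
  967812279691448225500382947153381408,
  971592882964418941354553515258775584,
  970499966350631336865513127433832480,
  976448692869377735270425038196672544,
  981818691054096003685363657089320992,
  972512676110088067912772961567868960,
  966182099583441531322624363496310816,
  983548720921252936276249910206105632,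
  975346028712660580592452217730074656,
  980224387687010295957922729495201824,
  961365507626256404119956257276790816]

/-- elements of `C(zP)` fixing 4 and mapping 1 to 1, 2, 3, 5, 14, 17 -/
def R2 : List ℕ := [
  984818244535754528103549039458486304,
  984721978136738731986858641841030208,
  984806823288735101514964346924480608,
  984194076295974029493954907895547040,
  984734650921275015040877327156284864,
  984239680340857133004336663034369568]

/-- elements of `C(zP)` fixing 4, 1 and mapping 3 to 3, 5, 14, 17 -/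
def R3 : List ℕ := [
  984818244535754528103549039458486304,
  984202951082164080105044112956360736,
  984724508489452699215480746259449888,
  984235865005994746954145143334668320]

/-- involutions of the normaliser of `WL` -/
def nL : List ℕ := [
  983553010088178266402939871779325984,
  974338656214362718975024378963690560,
  968571400229892424521567095052929056,
  962286864140653867024520594739169312,
  976990105829392847739289005721748544,
  971833682212383564744611475376015392,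
  984404951986650291017642929327245344,
  974422238081544939122441376219924512,
  980599603407022916402920467664013344]

end Cfsg.Agent.OddHalf.D9.M22.DataU

end

-- merged: Cfsg.Agent.OddHalf.D9.M22.UFact
section

/-!
# `C(zP)` maps `aP` to `aP` or `aP zP` (fact (U) for `2.M22`) (helper278)

* `map_a` : every `g ∈ C(zP)` in `M22` conjugates `aP` to `aP` or `aP zP`;
* `odd_comm` : the elements of odd order of `C(zP)` commute with `aP`;
* `autD` : the automorphism of `M22` induced by an element of `D22`;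
* `fixv`, `fix2`, `line`, `tran`, `eight`, `cent` : the fields of `CovPair.PData`.
-/

set_option autoImplicit false
set_option Elab.async false

namespace Cfsg.Agent.OddHalf.D9.M22.UFact

open Cfsg Cfsg.Agent.SporadicA.GolayBase Cfsg.Agent.SporadicA.GolayPerm
open Cfsg.Agent.SporadicStructure.M24El Cfsg.Agent.KFacts.MM
open Cfsg.Agent.KFacts.MM.El (pm pr ev val weq okl pts)
open Cfsg.Agent.KFacts.MM.Data (WL zP kW)
open Cfsg.Agent.OddHalf.D9.M22.Data (aP bP)
open Cfsg.Agent.OddHalf.D9.M22.DataU (R1 R2 R3 nL)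
open Cfsg.Agent.J4Type.Aut22 (D22)
open Cfsg.Agent.KFacts.MM.InvM22 (isPerm_of_ok)
open Cfsg.Agent.OddHalf.D9.M22 Cfsg.Agent.OddHalf.D9.M22.EDataM22
open Cfsg.Agent.SporadicA.M24Frames (Adm smul_mem_octads O0 O0_mem eq_of_eq_on)
open scoped Pointwise

theorem eq_of_val {a : Fin 7 → GolayPt} (ha : Adm a) {g h : Equiv.Perm GolayPt} (hg : g ∈ M24)
    (hh : h ∈ M24) (H : ∀ i, val g (idx (a i)) = val h (idx (a i))) : g = h := by
  apply eq_of_eq_on ha hg hh
  intro i
  have h1 := H i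
  unfold El.val at h1
  rw [pt_idx] at h1
  exact idx_injective h1

theorem M22_le24 {g : Equiv.Perm GolayPt} (h : g ∈ Spor.M22) : g ∈ M24 :=
  ((SporadicA.MathieuRecog.mem_M22_iff _).1 h).1

theorem val23 {g : Equiv.Perm GolayPt} (h : g ∈ Spor.M22) : val g 23 = 23 := by
  have h1 := ((SporadicA.MathieuRecog.mem_M22_iff _).1 h).2.1
  show idx (g none) = 23
  rw [h1]
  rfl

theorem val0 {g : Equiv.Perm GolayPt} (h : g ∈ Spor.M22) : val g 0 = 0 := by
  have h1 := ((SporadicA.MathieuRecog.mem_M22_iff _).1 h).2.2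
  show idx (g (some 0)) = 0
  rw [h1]
  rfl

theorem isPerm_z : isPerm zP = true := isPerm_of_ok InvM22.ok_z
theorem isPerm_a : isPerm aP = true := isPerm_of_ok ok_aP

/-! ### `g ∈ C(zP)` -/

/-- `g ∈ M22` commutes with `zP` -/
def Cz (g : Equiv.Perm GolayPt) : Prop := g ∈ Spor.M22 ∧ g * pm zP = pm zP * g

/-- `g` maps `aP` to `aP` or `aP zP` -/
def Good (g : Equiv.Perm GolayPt) : Prop := g * pm aP = pm aP * g ∨ g * pm aP = pm aP * pm zP * g

theorem Cz.mul {g h : Equiv.Perm GolayPt} (hg : Cz g) (hh : Cz h) : Cz (g * h) :=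
  ⟨Spor.M22.mul_mem hg.1 hh.1, by rw [mul_assoc, hh.2, ← mul_assoc, hg.2, mul_assoc]⟩

theorem Cz.inv {g : Equiv.Perm GolayPt} (hg : Cz g) : Cz g⁻¹ :=
  ⟨Spor.M22.inv_mem hg.1, by rw [inv_mul_eq_iff_eq_mul, ← mul_assoc, hg.2, mul_inv_cancel_right]⟩

theorem az_comm : pm aP * pm zP = pm zP * pm aP := aP_comm zP_mem

theorem z_sq : pm zP * pm zP = 1 := InvM22.pm_sq

/-- `Good` is closed under `h g` -/
theorem Good.mul {g h : Equiv.Perm GolayPt} (hg : Good g) (hh : Good h) (hgz : Cz g) : Good (g * h) := by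
  rcases hh with hh | hh <;> rcases hg with hg | hg
  · left; rw [mul_assoc, hh, ← mul_assoc, hg, mul_assoc]
  · right; rw [mul_assoc, hh, ← mul_assoc, hg, mul_assoc]
  · right
    calc g * h * pm aP = g * (h * pm aP) := mul_assoc _ _ _
      _ = g * pm aP * pm zP * h := by rw [hh]; group
      _ = pm aP * (g * pm zP) * h := by rw [hg]; group
      _ = pm aP * pm zP * (g * h) := by rw [hgz.2]; group
  · left
    calc g * h * pm aP = g * (h * pm aP) := mul_assoc _ _ _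
      _ = g * pm aP * pm zP * h := by rw [hh]; group
      _ = pm aP * pm zP * (g * pm zP) * h := by rw [hg]; group
      _ = pm aP * (pm zP * pm zP) * (g * h) := by rw [hgz.2]; group
      _ = pm aP * (g * h) := by rw [z_sq]; group

/-- the test for the tables -/
def tst (P : ℕ) : Bool := ok22 P && weq [P, zP] [zP, P] && (weq [P, aP] [aP, P] || weq [P, aP] [aP, zP, P])

theorem of_tst {P : ℕ} (h : tst P = true) : isPerm P = true ∧ Cz (pm P) ∧ Good (pm P) := by
  unfold tst at h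
  rw [Bool.and_eq_true, Bool.and_eq_true, Bool.or_eq_true] at h
  obtain ⟨⟨h1, h2⟩, h3⟩ := h
  have hp := isPerm_of_ok (ok_of_ok22 h1)
  refine ⟨hp, ⟨pm_M22 h1, eq_two hp isPerm_z isPerm_z hp h2⟩, ?_⟩
  rcases h3 with h3 | h3
  · left; exact eq_two hp isPerm_a isPerm_a hp h3
  · right
    have h4 := El.pr_of_weq (okl_two hp isPerm_a) (okl_three isPerm_a isPerm_z hp) h3
    rwa [El.pr_cons, El.pr_one, El.pr_cons, El.pr_cons, El.pr_one, ← mul_assoc] at h4

private noncomputable def _root_.Cfsg.Agent.GolayF.f0 : {f // @Cfsg.Agent.OddHalf.D9.M22.UFact.tst = f} :=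
  ⟨_, by delta Cfsg.Agent.KFacts.MM.El.ev Cfsg.Agent.KFacts.MM.El.weq Cfsg.Agent.OddHalf.D9.M22.UFact.tst Cfsg.Agent.OddHalf.D9.M22.ok22 Cfsg.Agent.SporadicStructure.M24El.ok; rewrite [Cfsg.Agent.GolayF.papp_eq, Cfsg.Agent.GolayF.isPerm_eq, Cfsg.Agent.GolayF.isAut_eq]; exact rfl⟩

theorem R1_tst : R1.all tst = true := by (rewrite [Cfsg.Agent.GolayF.f0.2]; decide +kernel)
theorem R2_tst : (R2.all fun P => tst P && Nat.beq (papp P 4) 4) = true := by (rewrite [Cfsg.Agent.GolayF.f0.2, Cfsg.Agent.GolayF.papp_eq]; decide +kernel)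
theorem R3_tst : (R3.all fun P => tst P && Nat.beq (papp P 4) 4 && Nat.beq (papp P 1) 1) = true := by
  (rewrite [Cfsg.Agent.GolayF.f0.2, Cfsg.Agent.GolayF.papp_eq]; decide +kernel)

/-- the moved points -/
theorem cov1 : (pts.all fun j => Nat.beq (papp zP j) j || R1.any fun P => Nat.beq (papp P 4) j) = true := by
  (rewrite [Cfsg.Agent.GolayF.papp_eq]; decide +kernel)

/-- the fixed points -/
theorem cov2 : (pts.all fun j => !(Nat.beq (papp zP j) j) || Nat.beq j 23 || Nat.beq j 0 ||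
    R2.any fun P => Nat.beq (papp P 1) j) = true := by (rewrite [Cfsg.Agent.GolayF.papp_eq]; decide +kernel)

theorem cov3 : (pts.all fun j => !(Nat.beq (papp zP j) j) || Nat.beq j 23 || Nat.beq j 0 || Nat.beq j 1 ||
    Nat.beq j 2 || R3.any fun P => Nat.beq (papp P 3) j) = true := by (rewrite [Cfsg.Agent.GolayF.papp_eq]; decide +kernel)

/-- the octads through 23, 0, 4, 22 and 1 or 3 -/
def o1 : ℕ := 12656663
def o3 : ℕ := 12599513

theorem o1_mem : fin o1 ∈ octads :=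
  (fin_mem_octads_iff (by norm_num [o1])).2 (by (rewrite [Cfsg.Agent.GolayF.isCode_eq, Cfsg.Agent.GolayF.popcount_eq]; decide +kernel))
theorem o3_mem : fin o3 ∈ octads :=
  (fin_mem_octads_iff (by norm_num [o3])).2 (by (rewrite [Cfsg.Agent.GolayF.isCode_eq, Cfsg.Agent.GolayF.popcount_eq]; decide +kernel))

/-- an element fixing five points of an octad maps the octad to itself -/
theorem oct_map {g : Equiv.Perm GolayPt} (hg : g ∈ M24) {m : ℕ} (hm : fin m ∈ octads) (l : List ℕ)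
    (hl : l.Nodup ∧ l.length = 5 ∧ ∀ i ∈ l, i < 24 ∧ m.testBit i = true) (hf : ∀ i ∈ l, val g i = i)
    {i : ℕ} (hi : i < 24) (him : m.testBit i = true) : m.testBit (val g i) = true := by
  obtain ⟨hnd, hlen, hlm⟩ := hl
  have hmem : ∀ j < 24, m.testBit j = true → pt j ∈ fin m := fun j hj h => by
    rw [mem_fin, idx_pt hj]; exact h
  have hfix : ∀ j ∈ l, g (pt j) = pt j := fun j hj => by
    have h1 := hf j hj
    rw [← El.pt_val, h1]
  have hsub : (l.map pt).toFinset ⊆ g • fin m ∩ fin m := by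
    intro q hq
    rw [List.mem_toFinset, List.mem_map] at hq
    obtain ⟨j, hj, rfl⟩ := hq
    rw [Finset.mem_inter]
    refine ⟨?_, hmem j (hlm j hj).1 (hlm j hj).2⟩
    have h2 := Finset.smul_mem_smul_finset (a := g) (hmem j (hlm j hj).1 (hlm j hj).2)
    have h3 : g • pt j = pt j := hfix j hj
    rwa [h3] at h2
  have hcard : (l.map pt).toFinset.card = 5 := by
    rw [List.toFinset_card_of_nodup, List.length_map, hlen]
    rw [List.nodup_map_iff_inj_on hnd]
    intro x hx y hy hxy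
    have h4 := congrArg idx hxy
    rwa [idx_pt (hlm x hx).1, idx_pt (hlm y hy).1] at h4
  have heq : g • fin m = fin m := by
    apply octad_unique (smul_mem_octads hg hm) hm
    rw [← hcard]
    exact Finset.card_le_card hsub
  have h5 := Finset.smul_mem_smul_finset (a := g) (hmem i hi him)
  rw [heq, mem_fin] at h5
  exact h5

theorem c1 : (pts.all fun j => !(o1.testBit j) || !(Nat.beq (papp zP j) j) || Nat.beq j 23 || Nat.beq j 0 ||
    Nat.beq j 1 || Nat.beq j 2) = true := by (rewrite [Cfsg.Agent.GolayF.papp_eq]; decide +kernel)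

theorem c3 : (pts.all fun j => !(o3.testBit j) || !(Nat.beq (papp zP j) j) || Nat.beq j 23 || Nat.beq j 0 ||
    Nat.beq j 3 || Nat.beq j 14) = true := by (rewrite [Cfsg.Agent.GolayF.papp_eq]; decide +kernel)

theorem z4 : papp zP 4 = 22 := by (rewrite [Cfsg.Agent.GolayF.papp_eq]; decide +kernel)

/-- the frame -/
def fr : Fin 7 → GolayPt := ![none, some 0, some 1, some 2, some 3, some 14, some 4]

theorem adm_fr : Adm fr := ⟨by decide, O0, O0_mem, by decide, by decide⟩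

theorem Cz.fixz {g : Equiv.Perm GolayPt} (hg : Cz g) {i : ℕ} (hi : i < 24) :
    papp zP i = i ↔ papp zP (val g i) = val g i := val_fix isPerm_z hg.2 hi

theorem Cz.v23 {g : Equiv.Perm GolayPt} (hg : Cz g) : val g 23 = 23 :=
  val23 hg.1

theorem Cz.v0 {g : Equiv.Perm GolayPt} (hg : Cz g) : val g 0 = 0 := val0 hg.1

theorem Cz.v22 {g : Equiv.Perm GolayPt} (hg : Cz g) (h4 : val g 4 = 4) : val g 22 = 22 := by
  have h := val_comm isPerm_z hg.2 (i := 4) (by norm_num)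
  rwa [h4, z4] at h

/-- `g` fixing 4 and 1 fixes 2 -/
theorem Cz.v2 {g : Equiv.Perm GolayPt} (hg : Cz g) (h4 : val g 4 = 4) (h1 : val g 1 = 1) : val g 2 = 2 := by
  have hM := M22_le24 hg.1
  have h2 := oct_map hM o1_mem [23, 0, 4, 22, 1] (by decide +kernel) (by
    intro i hi
    simp only [List.mem_cons, List.not_mem_nil, or_false] at hi
    rcases hi with rfl | rfl | rfl | rfl | rfl
    · exact hg.v23
    · exact hg.v0
    · exact h4
    · exact hg.v22 h4
    · exact h1) (i := 2) (by norm_num) (by decide +kernel)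
  have h3 := (hg.fixz (i := 2) (by norm_num)).1 (by (rewrite [Cfsg.Agent.GolayF.papp_eq]; decide +kernel))
  have h5 := List.all_eq_true.1 c1 _ (El.mem_pts (El.val_lt g 2))
  rw [h2, h3, Nat.beq_refl] at h5
  simp only [Bool.not_true, Bool.false_or, Bool.or_eq_true, Nat.beq_eq] at h5
  rcases h5 with ((h5 | h5) | h5) | h5
  · exact absurd (El.val_inj (by norm_num) (by norm_num) (h5.trans hg.v23.symm)) (by norm_num)
  · exact absurd (El.val_inj (by norm_num) (by norm_num) (h5.trans hg.v0.symm)) (by norm_num)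
  · exact absurd (El.val_inj (by norm_num) (by norm_num) (h5.trans h1.symm)) (by norm_num)
  · exact h5

theorem Cz.v14 {g : Equiv.Perm GolayPt} (hg : Cz g) (h4 : val g 4 = 4) (h1 : val g 3 = 3) : val g 14 = 14 := by
  have hM := M22_le24 hg.1
  have h2 := oct_map hM o3_mem [23, 0, 4, 22, 3] (by decide +kernel) (by
    intro i hi
    simp only [List.mem_cons, List.not_mem_nil, or_false] at hi
    rcases hi with rfl | rfl | rfl | rfl | rfl
    · exact hg.v23
    · exact hg.v0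
    · exact h4
    · exact hg.v22 h4
    · exact h1) (i := 14) (by norm_num) (by decide +kernel)
  have h3 := (hg.fixz (i := 14) (by norm_num)).1 (by (rewrite [Cfsg.Agent.GolayF.papp_eq]; decide +kernel))
  have h5 := List.all_eq_true.1 c3 _ (El.mem_pts (El.val_lt g 14))
  rw [h2, h3, Nat.beq_refl] at h5
  simp only [Bool.not_true, Bool.false_or, Bool.or_eq_true, Nat.beq_eq] at h5
  rcases h5 with ((h5 | h5) | h5) | h5
  · exact absurd (El.val_inj (by norm_num) (by norm_num) (h5.trans hg.v23.symm)) (by norm_num)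
  · exact absurd (El.val_inj (by norm_num) (by norm_num) (h5.trans hg.v0.symm)) (by norm_num)
  · exact absurd (El.val_inj (by norm_num) (by norm_num) (h5.trans h1.symm)) (by norm_num)
  · exact h5

/-- an element of `C(zP)` fixing 4, 1, 3 is trivial -/
theorem Cz.eq_one {g : Equiv.Perm GolayPt} (hg : Cz g) (h4 : val g 4 = 4) (h1 : val g 1 = 1)
    (h3 : val g 3 = 3) : g = 1 := by
  apply eq_of_val adm_fr (M22_le24 hg.1) M24.one_mem
  have key : ∀ i < 24, val g i = i → val g i = val 1 i := fun i hi h => by rw [h, El.val_one hi]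
  intro i
  fin_cases i
  · exact key 23 (by norm_num) hg.v23
  · exact key 0 (by norm_num) hg.v0
  · exact key 1 (by norm_num) h1
  · exact key 2 (by norm_num) (hg.v2 h4 h1)
  · exact key 3 (by norm_num) h3
  · exact key 14 (by norm_num) (hg.v14 h4 h3)
  · exact key 4 (by norm_num) h4

theorem val_inv_mul {P : ℕ} {g : Equiv.Perm GolayPt} (hP : isPerm P = true) {i j : ℕ} (hi : i < 24) (_ : j < 24)
    (h : papp P i = val g j) : val ((pm P)⁻¹ * g) j = i := by
  apply El.val_inj (g := pm P) (El.val_lt _ _) hi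
  rw [← El.val_mul, mul_inv_cancel_left, El.val_pm hP hi, h]

theorem good_one : Good 1 := Or.inl (by rw [one_mul, mul_one])

/-- **`C(zP)` maps `aP` to `aP` or `aP zP`.** -/
theorem map_a {g : Equiv.Perm GolayPt} (hg : Cz g) : Good g := by
  -- step 3
  have s3 : ∀ g, Cz g → val g 4 = 4 → val g 1 = 1 → Good g := by
    intro g hg h4 h1
    have h3 := (hg.fixz (i := 3) (by norm_num)).1 (by (rewrite [Cfsg.Agent.GolayF.papp_eq]; decide +kernel))
    have h5 := List.all_eq_true.1 cov3 _ (El.mem_pts (El.val_lt g 3))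
    rw [h3, Nat.beq_refl] at h5
    simp only [Bool.not_true, Bool.false_or, Bool.or_eq_true, Nat.beq_eq] at h5
    rcases h5 with (((h5 | h5) | h5) | h5) | h5
    · exact absurd (El.val_inj (by norm_num) (by norm_num) (h5.trans hg.v23.symm)) (by norm_num)
    · exact absurd (El.val_inj (by norm_num) (by norm_num) (h5.trans hg.v0.symm)) (by norm_num)
    · exact absurd (El.val_inj (by norm_num) (by norm_num) (h5.trans h1.symm)) (by norm_num)
    · exact absurd (El.val_inj (by norm_num) (by norm_num) (h5.trans (hg.v2 h4 h1).symm)) (by norm_num)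
    · obtain ⟨P, hP, h6⟩ := List.any_eq_true.1 h5
      have h7 := List.all_eq_true.1 R3_tst P hP
      rw [Bool.and_eq_true, Bool.and_eq_true, Nat.beq_eq, Nat.beq_eq] at h7
      obtain ⟨⟨h7, h8⟩, h9⟩ := h7
      obtain ⟨hp, hc, hgood⟩ := of_tst h7
      have h10 : (pm P)⁻¹ * g = 1 := by
        apply (hc.inv.mul hg).eq_one
        · exact val_inv_mul hp (by norm_num) (by norm_num) (h8.trans h4.symm)
        · exact val_inv_mul hp (by norm_num) (by norm_num) (h9.trans h1.symm)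
        · exact val_inv_mul hp (by norm_num) (by norm_num) (Nat.eq_of_beq_eq_true h6)
      rw [inv_mul_eq_one] at h10
      rw [← h10]
      exact hgood
  -- step 2
  have s2 : ∀ g, Cz g → val g 4 = 4 → Good g := by
    intro g hg h4
    have h3 := (hg.fixz (i := 1) (by norm_num)).1 (by (rewrite [Cfsg.Agent.GolayF.papp_eq]; decide +kernel))
    have h5 := List.all_eq_true.1 cov2 _ (El.mem_pts (El.val_lt g 1))
    rw [h3, Nat.beq_refl] at h5
    simp only [Bool.not_true, Bool.false_or, Bool.or_eq_true, Nat.beq_eq] at h5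
    rcases h5 with (h5 | h5) | h5
    · exact absurd (El.val_inj (by norm_num) (by norm_num) (h5.trans hg.v23.symm)) (by norm_num)
    · exact absurd (El.val_inj (by norm_num) (by norm_num) (h5.trans hg.v0.symm)) (by norm_num)
    · obtain ⟨P, hP, h6⟩ := List.any_eq_true.1 h5
      have h7 := List.all_eq_true.1 R2_tst P hP
      rw [Bool.and_eq_true, Nat.beq_eq] at h7
      obtain ⟨hp, hc, hgood⟩ := of_tst h7.1
      have h10 := s3 _ (hc.inv.mul hg) (val_inv_mul hp (by norm_num) (by norm_num) (h7.2.trans h4.symm))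
        (val_inv_mul hp (by norm_num) (by norm_num) (Nat.eq_of_beq_eq_true h6))
      have h11 := hgood.mul h10 hc
      rwa [mul_inv_cancel_left] at h11
  -- step 1
  have h3 : ¬ papp zP (val g 4) = val g 4 := fun h => by
    have h4 := (hg.fixz (i := 4) (by norm_num)).2 h
    exact absurd h4 (by (rewrite [Cfsg.Agent.GolayF.papp_eq]; decide +kernel))
  have h5 := List.all_eq_true.1 cov1 _ (El.mem_pts (El.val_lt g 4))
  rw [Bool.or_eq_true, Nat.beq_eq] at h5
  rcases h5 with h5 | h5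
  · exact absurd h5 h3
  · obtain ⟨P, hP, h6⟩ := List.any_eq_true.1 h5
    obtain ⟨hp, hc, hgood⟩ := of_tst (List.all_eq_true.1 R1_tst P hP)
    have h10 := s2 _ (hc.inv.mul hg) (val_inv_mul hp (by norm_num) (by norm_num) (Nat.eq_of_beq_eq_true h6))
    have h11 := hgood.mul h10 hc
    rwa [mul_inv_cancel_left] at h11

/-- the elements of odd order of `C(zP)` commute with `aP` -/
theorem odd_comm {g : Equiv.Perm GolayPt} (hg : Cz g) (ho : Odd (orderOf g)) : g * pm aP = pm aP * g := by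
  rcases map_a hg with h | h
  · exact h
  · exfalso
    have h1 : ∀ n : ℕ, g ^ n * pm aP = pm aP * pm zP ^ n * g ^ n := by
      intro n
      induction n with
      | zero => simp
      | succ n ih =>
        have h2 : g * pm zP ^ n = pm zP ^ n * g := by
          have : Commute g (pm zP) := hg.2
          exact this.pow_right n
        calc g ^ (n + 1) * pm aP = g * (g ^ n * pm aP) := by rw [pow_succ', mul_assoc]
          _ = g * pm aP * pm zP ^ n * g ^ n := by rw [ih]; group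
          _ = pm aP * pm zP * (g * pm zP ^ n) * g ^ n := by rw [h]; group
          _ = pm aP * pm zP ^ (n + 1) * g ^ (n + 1) := by rw [h2, pow_succ', pow_succ']; group
    obtain ⟨m, hm⟩ := ho
    have h2 := h1 (orderOf g)
    rw [pow_orderOf_eq_one, one_mul, mul_one, hm, pow_succ, pow_mul, pow_two, z_sq, one_pow, one_mul,
      left_eq_mul] at h2
    exact InvM22.pm_ne h2

/-! ### Automorphisms -/

theorem D22_conj_mem {g x : Equiv.Perm GolayPt} (hg : g ∈ D22) (hx : x ∈ Spor.M22) : g * x * g⁻¹ ∈ Spor.M22 := by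
  have h1 : g * x * g⁻¹ ∈ D22 :=
    D22.mul_mem (D22.mul_mem hg (Cfsg.Agent.J4Type.Aut22.M22_le_D22 hx)) (D22.inv_mem hg)
  rw [Cfsg.Agent.J4Type.Aut22.mem_M22_iff_D22]
  refine ⟨h1, ?_⟩
  obtain ⟨-, hx0, hx1⟩ := (Cfsg.Agent.SporadicA.MathieuRecog.mem_M22_iff x).1 hx
  rcases ((Cfsg.Agent.J4Type.Aut22.mem_D22_iff g).1 hg).2 with h | h
  · have h2 : g⁻¹ none = none := by rw [Equiv.Perm.inv_eq_iff_eq, h.1]
    rw [Equiv.Perm.mul_apply, Equiv.Perm.mul_apply, h2, hx0, h.1]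
  · have h2 : g⁻¹ none = some 0 := by rw [Equiv.Perm.inv_eq_iff_eq, h.2]
    rw [Equiv.Perm.mul_apply, Equiv.Perm.mul_apply, h2, hx1, h.2]

/-- the automorphism of `M22` induced by an element of `D22` -/
def autD (g : Equiv.Perm GolayPt) (hg : g ∈ D22) : MulAut Spor.M22 where
  toFun x := ⟨g * x * g⁻¹, D22_conj_mem hg x.2⟩
  invFun x := ⟨g⁻¹ * x * g, by
    have := D22_conj_mem (D22.inv_mem hg) x.2
    rwa [inv_inv] at this⟩
  left_inv x := Subtype.ext (by
    change g⁻¹ * (g * x * g⁻¹) * g = x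
    group)
  right_inv x := Subtype.ext (by
    change g * (g⁻¹ * x * g) * g⁻¹ = x
    group)
  map_mul' x y := Subtype.ext (by
    change g * (x * y) * g⁻¹ = g * x * g⁻¹ * (g * y * g⁻¹)
    group)

theorem autD_apply {g : Equiv.Perm GolayPt} (hg : g ∈ D22) (x : Spor.M22) :
    (autD g hg x : Equiv.Perm GolayPt) = g * x * g⁻¹ := rfl

theorem autD_sq {g : Equiv.Perm GolayPt} (hg : g ∈ D22) (h2 : g * g = 1) : autD g hg * autD g hg = 1 := by
  apply MulEquiv.ext
  intro x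
  apply Subtype.ext
  change g * (g * (x : Equiv.Perm GolayPt) * g⁻¹) * g⁻¹ = x
  calc g * (g * (x : Equiv.Perm GolayPt) * g⁻¹) * g⁻¹ = (g * g) * x * (g * g)⁻¹ := by group
    _ = x := by rw [h2]; group

theorem autD_outer {g : Equiv.Perm GolayPt} (hg : g ∈ D22) (hn : g ∉ Spor.M22) (x : Spor.M22) :
    autD g hg ≠ MulAut.conj x := by
  intro h
  apply hn
  have h1 : g = x := by
    refine eq_of_conj hg (Cfsg.Agent.J4Type.Aut22.M22_le_D22 x.2) fun y => ?_
    have h2 := congrArg (fun f : MulAut Spor.M22 => (f y : Equiv.Perm GolayPt)) h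
    exact h2
  rw [h1]
  exact x.2

private noncomputable def _root_.Cfsg.Agent.GolayF.f1 : {f // @Cfsg.Agent.KFacts.MM.El.weq = f} :=
  ⟨_, by delta Cfsg.Agent.KFacts.MM.El.ev Cfsg.Agent.KFacts.MM.El.weq; rewrite [Cfsg.Agent.GolayF.papp_eq]; exact rfl⟩

theorem a_sq : pm aP * pm aP = 1 := eq_nil isPerm_a isPerm_a (by (rewrite [Cfsg.Agent.GolayF.f1.2]; decide +kernel))

theorem a_not_mem : pm aP ∉ Spor.M22 := by
  intro h
  have h1 := ((Cfsg.Agent.SporadicA.MathieuRecog.mem_M22_iff _).1 h).2.1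
  rw [pm_aP_none] at h1
  cases h1

theorem exists_conj_all (v : Spor.M22) (hv : v * v = 1) (hv1 : v ≠ 1) :
    ∃ g ∈ Spor.M22, (v : Equiv.Perm GolayPt) = g * pm zP * g⁻¹ :=
  InvM22.inv22 v v.2 (congrArg Subtype.val hv) (fun h => hv1 (Subtype.ext h))

/-- the field `fixv` -/
theorem fixv (v : Spor.M22) (hv : v * v = 1) (hv1 : v ≠ 1) : ∃ β : MulAut Spor.M22, β * β = 1 ∧
    (∀ x, β ≠ MulAut.conj x) ∧ β v = v ∧ ∀ x, Odd (orderOf x) → x * v = v * x → β x = x := by
  obtain ⟨g, hg, e⟩ := exists_conj_all v hv hv1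
  have hgD := Cfsg.Agent.J4Type.Aut22.M22_le_D22 hg
  have haD : g * pm aP * g⁻¹ ∈ D22 := D22.mul_mem (D22.mul_mem hgD pm_aP_D22) (D22.inv_mem hgD)
  have key : ∀ x : Equiv.Perm GolayPt, (g⁻¹ * x * g) * pm aP = pm aP * (g⁻¹ * x * g) →
      g * pm aP * g⁻¹ * x * (g * pm aP * g⁻¹)⁻¹ = x := by
    intro x hx
    calc g * pm aP * g⁻¹ * x * (g * pm aP * g⁻¹)⁻¹ = g * (pm aP * (g⁻¹ * x * g)) * (pm aP)⁻¹ * g⁻¹ := by group
      _ = g * ((g⁻¹ * x * g) * pm aP) * (pm aP)⁻¹ * g⁻¹ := by rw [hx]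
      _ = x := by group
  refine ⟨autD _ haD, autD_sq haD ?_, autD_outer haD ?_, ?_, ?_⟩
  · calc g * pm aP * g⁻¹ * (g * pm aP * g⁻¹) = g * (pm aP * pm aP) * g⁻¹ := by group
      _ = 1 := by rw [a_sq]; group
  · intro h
    apply a_not_mem
    have h1 := Spor.M22.mul_mem (Spor.M22.mul_mem (Spor.M22.inv_mem hg) h) hg
    have h2 : g⁻¹ * (g * pm aP * g⁻¹) * g = pm aP := by group
    rwa [h2] at h1
  · apply Subtype.ext
    rw [autD_apply]
    apply key
    have h1 : g⁻¹ * (v : Equiv.Perm GolayPt) * g = pm zP := by rw [e]; group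
    rw [h1, az_comm]
  · intro x hx hxv
    apply Subtype.ext
    rw [autD_apply]
    apply key
    apply odd_comm
    · refine ⟨Spor.M22.mul_mem (Spor.M22.mul_mem (Spor.M22.inv_mem hg) x.2) hg, ?_⟩
      have h1 : (x : Equiv.Perm GolayPt) * (g * pm zP * g⁻¹) = g * pm zP * g⁻¹ * x := by
        rw [← e]; exact congrArg Subtype.val hxv
      calc g⁻¹ * (x : Equiv.Perm GolayPt) * g * pm zP = g⁻¹ * (x * (g * pm zP * g⁻¹)) * g := by group
        _ = g⁻¹ * (g * pm zP * g⁻¹ * x) * g := by rw [h1]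
        _ = pm zP * (g⁻¹ * x * g) := by group
    · have h2 : orderOf (g⁻¹ * (x : Equiv.Perm GolayPt) * g⁻¹⁻¹) = orderOf (x : Equiv.Perm GolayPt) :=
        (MulAut.conj g⁻¹).orderOf_eq _
      rw [inv_inv] at h2
      rw [h2, Subgroup.orderOf_coe]
      exact hx

/-- the field `fix2` -/
theorem fix2 (v : Spor.M22) (hv : v * v = 1) (hv1 : v ≠ 1) (β : MulAut Spor.M22) (_ : β v = v)
    (hβ : ∀ x, Odd (orderOf x) → x * v = v * x → β x = x) : β * β = 1 := by
  obtain ⟨h, hh, hβh⟩ := exists_D β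
  obtain ⟨g, hg, e⟩ := exists_conj_all v hv hv1
  have hgD := Cfsg.Agent.J4Type.Aut22.M22_le_D22 hg
  have hsq : (g⁻¹ * h * g) * (g⁻¹ * h * g) = 1 := by
    apply sq_of_comm
    · exact D22.mul_mem (D22.mul_mem (D22.inv_mem hgD) hh) hgD
    · intro d hd hd3 hdz
      have hy : g * d * g⁻¹ ∈ Spor.M22 := Spor.M22.mul_mem (Spor.M22.mul_mem hg hd) (Spor.M22.inv_mem hg)
      have h3 : β ⟨g * d * g⁻¹, hy⟩ = ⟨g * d * g⁻¹, hy⟩ := by
        apply hβ
        · have h4 : orderOf (⟨g * d * g⁻¹, hy⟩ : Spor.M22) ∣ 3 := by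
            apply orderOf_dvd_of_pow_eq_one
            apply Subtype.ext
            show (g * d * g⁻¹) ^ 3 = 1
            calc (g * d * g⁻¹) ^ 3 = g * (d * d * d) * g⁻¹ := by rw [pow_succ, pow_two]; group
              _ = 1 := by rw [hd3]; group
          exact Odd.of_dvd_nat (by decide) h4
        · apply Subtype.ext
          show g * d * g⁻¹ * v = v * (g * d * g⁻¹)
          rw [e]
          calc g * d * g⁻¹ * (g * pm zP * g⁻¹) = g * (d * pm zP) * g⁻¹ := by group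
            _ = g * (pm zP * d) * g⁻¹ := by rw [hdz]
            _ = g * pm zP * g⁻¹ * (g * d * g⁻¹) := by group
      have h4 := congrArg Subtype.val h3
      rw [hβh] at h4
      have h5 : h * (g * d * g⁻¹) * h⁻¹ = g * d * g⁻¹ := h4
      have h6 : h * (g * d * g⁻¹) = g * d * g⁻¹ * h := by
        calc h * (g * d * g⁻¹) = h * (g * d * g⁻¹) * h⁻¹ * h := by group
          _ = g * d * g⁻¹ * h := by rw [h5]
      calc g⁻¹ * h * g * d = g⁻¹ * (h * (g * d * g⁻¹)) * g := by group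
        _ = g⁻¹ * (g * d * g⁻¹ * h) * g := by rw [h6]
        _ = d * (g⁻¹ * h * g) := by group
  have hh2 : h * h = 1 := by
    calc h * h = g * ((g⁻¹ * h * g) * (g⁻¹ * h * g)) * g⁻¹ := by group
      _ = 1 := by rw [hsq]; group
  apply MulEquiv.ext
  intro x
  apply Subtype.ext
  rw [MulAut.mul_apply, hβh, hβh]
  calc h * (h * (x : Equiv.Perm GolayPt) * h⁻¹) * h⁻¹ = (h * h) * x * (h * h)⁻¹ := by group
    _ = x := by rw [hh2]; group

end Cfsg.Agent.OddHalf.D9.M22.UFact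

end

-- merged: Cfsg.Agent.OddHalf.D9.M22.ConfM22
section

/-!
# The configurations `ConfB`, `ConfC` for the outer involutions of `M22.2`

`conf` : the field `conf` of `CovPair.PData Spor.M22 E22 a22 b22`. The tables are due to helper322.
-/

set_option autoImplicit false
set_option Elab.async false

namespace Cfsg.Agent.OddHalf.D9.M22.ConfM22

open Cfsg Cfsg.Agent.SporadicA.GolayBase Cfsg.Agent.SporadicA.GolayPerm
open Cfsg.Agent.SporadicStructure.M24El Cfsg.Agent.KFacts.MM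
open Cfsg.Agent.KFacts.MM.El (pm pr weq okl)
open Cfsg.Agent.KFacts.MM.Data (WL zP)
open Cfsg.Agent.OddHalf.D9.M22.Data (aP bP)
open Cfsg.Agent.J4Type.Aut22 (D22)
open Cfsg.Agent.OddHalf.D9.M22 Cfsg.Agent.OddHalf.D9.M22.EDataM22 Cfsg.Agent.OddHalf.D9.M22.CovPair
open Cfsg.Agent.KFacts.MM.InvM22 (isPerm_of_ok)

/-! ### Tables -/

/-- the elements `x i j` for `aP` -/
def xT : List (List ℕ) := [
  [984818244535754528103549039458486304,
   984818244535754528103549039458486304,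
   960831283963798152912375878980765728,
   972560815420533050926679905878345760,
   976934804572108675034832543981668384],
  [984818244535754528103549039458486304,
   984818244535754528103549039458486304,
   960884477435128931241433760505432096,
   976420838754479978627774237199763488,
   973054518210042674313238929715267616],
  [960831283963798152912375878980765728,
   960884477435128931241433760505432096,
   984818244535754528103549039458486304,
   961438956620049001677386430328277024,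
   961365507626256404119956257276790816],
  [972560815420533050926679905878345760,
   976420838754479978627774237199763488,
   961438956620049001677386430328277024,
   984818244535754528103549039458486304,
   984724508489452699215480746259449888],
  [976934804572108675034832543981668384,
   973054518210042674313238929715267616,
   961365507626256404119956257276790816,
   984724508489452699215480746259449888,
   984818244535754528103549039458486304]]

/-- the elements `n i j` for `aP` -/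
def nT : List (List ℕ) := [
  [984818244535754528103549039458486304,
   984818244535754528103549039458486304,
   981515887986994088769278604842469408,
   978318524216658799587490559007787040,
   972606645568131968584696805283956768],
  [984818244535754528103549039458486304,
   984818244535754528103549039458486304,
   975728708050008715525885598301784096,
   962781169961859770917597827557885984,
   976531636853126291160407323722221600],
  [981515887986994088769278604842469408,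
   975728708050008715525885598301784096,
   984818244535754528103549039458486304,
   979664649077166684931923499319691296,
   968708902336673183175954409307867168],
  [978318524216658799587490559007787040,
   962781169961859770917597827557885984,
   979664649077166684931923499319691296,
   984818244535754528103549039458486304,
   959732426763950752223113323844601888],
  [972606645568131968584696805283956768,
   976531636853126291160407323722221600,
   968708902336673183175954409307867168,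
   959732426763950752223113323844601888,
   984818244535754528103549039458486304]]

def mB : ℕ := 981557652331371326394331282385078304
def dB : ℕ := 963387251845851716769057140306020384

/-- the elements `x i` for `bP` -/
def xC : List ℕ := [
  977023451795203591179182037798520864,
  976448692869377735270425038196672544,
  973054518210042674313238929715267616,
  984724508489452699215480746259449888,
  972560815420533050926679905878345760]

/-- the elements `n i` for `bP` -/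
def nC : List ℕ := [
  972606645568131968584696805283956768,
  963721886883755259286232606933354528,
  983271302155371035984055114495264800,
  980504394422866046962412236452235296,
  976531636853126291160407323722221600]

def mC : ℕ := 967933930814660160276170748135048256
def dC : ℕ := 982096318998391814847189819862485024

/-! ### Elements of `M22` and outer automorphisms -/

open Classical in
/-- the packed element of `M22` -/
noncomputable def el22 (P : ℕ) : Spor.M22 := if h : ok22 P = true then ⟨pm P, pm_M22 h⟩ else 1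

theorem coe_el22 {P : ℕ} (h : ok22 P = true) : (el22 P : Equiv.Perm GolayPt) = pm P := by
  unfold el22
  rw [dif_pos h]

theorem isPerm22 {P : ℕ} (h : ok22 P = true) : isPerm P = true := isPerm_of_ok (ok_of_ok22 h)

private noncomputable def _root_.Cfsg.Agent.GolayF.f2 : {f // @Cfsg.Agent.OddHalf.D9.M22.ok22 = f} :=
  ⟨_, by delta Cfsg.Agent.OddHalf.D9.M22.ok22 Cfsg.Agent.SporadicStructure.M24El.ok; rewrite [Cfsg.Agent.GolayF.papp_eq, Cfsg.Agent.GolayF.isPerm_eq, Cfsg.Agent.GolayF.isAut_eq]; exact rfl⟩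

theorem el22_one : el22 idP = 1 := by
  apply Subtype.ext
  rw [coe_el22 (by (rewrite [Cfsg.Agent.GolayF.f2.2]; decide +kernel)), pm_idP]
  rfl

theorem D22_none {A : Equiv.Perm GolayPt} (hA : A ∈ D22) {x : Equiv.Perm GolayPt} (hx : x ∈ Spor.M22) :
    A * x * A⁻¹ ∈ Spor.M22 := by
  rw [Cfsg.Agent.J4Type.Aut22.mem_M22_iff_D22]
  have hxD := Cfsg.Agent.J4Type.Aut22.M22_le_D22 hx
  refine ⟨D22.mul_mem (D22.mul_mem hA hxD) (D22.inv_mem hA), ?_⟩
  obtain ⟨-, h1, h2⟩ := (Cfsg.Agent.SporadicA.MathieuRecog.mem_M22_iff x).1 hx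
  show A (x (A⁻¹ none)) = none
  rcases ((Cfsg.Agent.J4Type.Aut22.mem_D22_iff A).1 hA).2 with ⟨h3, -⟩ | ⟨-, h4⟩
  · have h5 : A⁻¹ none = none := by rw [Equiv.Perm.inv_eq_iff_eq, h3]
    rw [h5, h1, h3]
  · have h5 : A⁻¹ none = some 0 := by rw [Equiv.Perm.inv_eq_iff_eq, h4]
    rw [h5, h2, h4]

/-- conjugation by an element of `D22` as an automorphism of `M22` -/
noncomputable def cj (A : Equiv.Perm GolayPt) (hA : A ∈ D22) : MulAut Spor.M22 where
  toFun x := ⟨A * x * A⁻¹, D22_none hA x.2⟩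
  invFun x := ⟨A⁻¹ * x * A, by
    have h := D22_none (D22.inv_mem hA) x.2
    rwa [inv_inv] at h⟩
  left_inv x := Subtype.ext (by show A⁻¹ * (A * (x : Equiv.Perm GolayPt) * A⁻¹) * A = x; group)
  right_inv x := Subtype.ext (by show A * (A⁻¹ * (x : Equiv.Perm GolayPt) * A) * A⁻¹ = x; group)
  map_mul' x y := Subtype.ext (by
    show A * ((x : Equiv.Perm GolayPt) * y) * A⁻¹ = A * (x : Equiv.Perm GolayPt) * A⁻¹ * (A * y * A⁻¹)
    group)

theorem coe_cj {A : Equiv.Perm GolayPt} (hA : A ∈ D22) (x : Spor.M22) :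
    (cj A hA x : Equiv.Perm GolayPt) = A * x * A⁻¹ := rfl

theorem pm_bP_D22 : pm bP ∈ D22 := by
  rw [Cfsg.Agent.J4Type.Aut22.mem_D22_iff]
  refine ⟨pm_M24 ok_bP, Or.inr ⟨pm_bP_none, ?_⟩⟩
  rw [← pt_0, pm_pt ok_bP (by norm_num), b_0]
  rfl

theorem nm_of_nrm {n : ℕ} (h : nrm n = true) : Nm E22 (el22 n) := by
  have h1 := coe_el22 (ok22_of_nrm h)
  have h2 := nrm_pm h
  refine ⟨fun w hw => ?_, fun w hw => ?_⟩
  · rw [mem_E22]
    show (el22 n : Equiv.Perm GolayPt) * w * (el22 n : Equiv.Perm GolayPt)⁻¹ ∈ E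
    rw [h1]
    exact h2.2 _ hw
  · rw [mem_E22]
    show (el22 n : Equiv.Perm GolayPt)⁻¹ * w * (el22 n : Equiv.Perm GolayPt) ∈ E
    rw [h1]
    exact h2.inv_mem hw

theorem eq_three {P Q R S T U : ℕ} (h1 : isPerm P = true) (h2 : isPerm Q = true) (h3 : isPerm R = true)
    (h4 : isPerm S = true) (h5 : isPerm T = true) (h6 : isPerm U = true) (h : weq [P, Q, R] [S, T, U] = true) :
    pm P * pm Q * pm R = pm S * pm T * pm U := by
  have h7 := El.pr_of_weq (okl_three h1 h2 h3) (okl_three h4 h5 h6) h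
  simp only [El.pr_cons, El.pr_nil, mul_one] at h7
  rw [mul_assoc, mul_assoc]; exact h7

theorem eq_two_three {P Q S T U : ℕ} (h1 : isPerm P = true) (h2 : isPerm Q = true)
    (h4 : isPerm S = true) (h5 : isPerm T = true) (h6 : isPerm U = true) (h : weq [P, Q] [S, T, U] = true) :
    pm P * pm Q = pm S * pm T * pm U := by
  have h7 := El.pr_of_weq (okl_two h1 h2) (okl_three h4 h5 h6) h
  simp only [El.pr_cons, El.pr_nil, mul_one] at h7
  rw [mul_assoc (pm S)]; exact h7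

/-- `n⁻¹ A(n) = x` -/
theorem delta_eq {A : ℕ} (hA : ok A = true) (hAD : pm A ∈ D22) {n x : ℕ} (hn : ok22 n = true) (hx : ok22 x = true)
    (h : weq [A, n] [n, x, A] = true) : (el22 n)⁻¹ * cj (pm A) hAD (el22 n) = el22 x := by
  apply Subtype.ext
  show (el22 n : Equiv.Perm GolayPt)⁻¹ * (pm A * (el22 n : Equiv.Perm GolayPt) * (pm A)⁻¹) = el22 x
  rw [coe_el22 hn, coe_el22 hx, eq_two_three (isPerm_of_ok hA) (isPerm22 hn) (isPerm22 hn) (isPerm22 hx)
    (isPerm_of_ok hA) h]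
  group

/-- `m⁻¹ x m (m⁻¹ A(m)) = y` -/
theorem move_eq {A : ℕ} (hA : ok A = true) (hAD : pm A ∈ D22) {m x y : ℕ} (hm : ok22 m = true) (hx : ok22 x = true)
    (hy : ok22 y = true) (h : weq [x, A, m] [m, y, A] = true) :
    (el22 m)⁻¹ * el22 x * el22 m * ((el22 m)⁻¹ * cj (pm A) hAD (el22 m)) = el22 y := by
  apply Subtype.ext
  show (el22 m : Equiv.Perm GolayPt)⁻¹ * (el22 x : Equiv.Perm GolayPt) * (el22 m : Equiv.Perm GolayPt) *
    ((el22 m : Equiv.Perm GolayPt)⁻¹ * (pm A * (el22 m : Equiv.Perm GolayPt) * (pm A)⁻¹)) = el22 y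
  rw [coe_el22 hm, coe_el22 hx, coe_el22 hy]
  have h1 := eq_three (isPerm22 hx) (isPerm_of_ok hA) (isPerm22 hm) (isPerm22 hm) (isPerm22 hy) (isPerm_of_ok hA) h
  calc (pm m)⁻¹ * pm x * pm m * ((pm m)⁻¹ * (pm A * pm m * (pm A)⁻¹)) =
      (pm m)⁻¹ * (pm x * pm A * pm m) * (pm A)⁻¹ := by group
    _ = (pm m)⁻¹ * (pm m * pm y * pm A) * (pm A)⁻¹ := by rw [h1]
    _ = pm y := by group

theorem conj_eq' {m x y : ℕ} (hm : ok22 m = true) (hx : ok22 x = true)
    (hy : ok22 y = true) (h : weq [x, m] [m, y] = true) :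
    (el22 m)⁻¹ * el22 x * el22 m = el22 y := by
  apply Subtype.ext
  show (el22 m : Equiv.Perm GolayPt)⁻¹ * (el22 x : Equiv.Perm GolayPt) * (el22 m : Equiv.Perm GolayPt) = el22 y
  rw [coe_el22 hm, coe_el22 hx, coe_el22 hy, mul_assoc, eq_two (isPerm22 hx) (isPerm22 hm) (isPerm22 hm)
    (isPerm22 hy) h]
  group

theorem conj_mul_eq {m x y w : ℕ} (hm : ok22 m = true) (hx : ok22 x = true)
    (hy : ok22 y = true) (hw : ok22 w = true) (h : weq [x, m, w] [m, y] = true) :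
    (el22 m)⁻¹ * el22 x * el22 m * el22 w = el22 y := by
  apply Subtype.ext
  show (el22 m : Equiv.Perm GolayPt)⁻¹ * (el22 x : Equiv.Perm GolayPt) * (el22 m : Equiv.Perm GolayPt) *
    (el22 w : Equiv.Perm GolayPt) = el22 y
  rw [coe_el22 hm, coe_el22 hx, coe_el22 hy, coe_el22 hw]
  have h7 := El.pr_of_weq (okl_three (isPerm22 hx) (isPerm22 hm) (isPerm22 hw))
    (okl_two (isPerm22 hm) (isPerm22 hy)) h
  simp only [El.pr_cons, El.pr_nil, mul_one] at h7
  calc (pm m)⁻¹ * pm x * pm m * pm w = (pm m)⁻¹ * (pm x * (pm m * pm w)) := by group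
    _ = (pm m)⁻¹ * (pm m * pm y) := by rw [h7]
    _ = pm y := by group

theorem ok22_WL {P : ℕ} (h : WL.any (Nat.beq P) = true) : P ∈ WL := by
  obtain ⟨Q, hQ, h1⟩ := List.any_eq_true.1 h
  rwa [Nat.eq_of_beq_eq_true h1]

theorem el22_mem {P : ℕ} (h : P ∈ WL) : el22 P ∈ E22 := by
  rw [mem_E22, coe_el22 (ok22_of_WL h)]
  exact pm_mem_E h

theorem el22_ne {P : ℕ} (h : ok22 P = true) (hw : weq [P] [] = false) : el22 P ≠ 1 := by
  intro e
  refine El.pr_ne (okl_one (isPerm22 h)) rfl hw ?_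
  rw [El.pr_one, El.pr_nil, ← coe_el22 h, e]
  rfl

/-! ### `ConfB` -/

/-- the packed `x i j` -/
def xP (i j : ℕ) : ℕ := (xT.getD i []).getD j 0
/-- the packed `n i j` -/
def nP (i j : ℕ) : ℕ := (nT.getD i []).getD j 0

private noncomputable def _root_.Cfsg.Agent.GolayF.f3 : {f // @Cfsg.Agent.OddHalf.D9.M22.nrm = f} :=
  ⟨_, by delta Cfsg.Agent.KFacts.MM.El.ev Cfsg.Agent.KFacts.MM.El.weq Cfsg.Agent.OddHalf.D9.M22.nrm Cfsg.Agent.OddHalf.D9.M22.ok22 Cfsg.Agent.SporadicStructure.M24El.ok; rewrite [Cfsg.Agent.GolayF.papp_eq, Cfsg.Agent.GolayF.isPerm_eq, Cfsg.Agent.GolayF.isAut_eq]; exact rfl⟩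

theorem xB_ok : ((List.range 5).all fun i => (List.range 5).all fun j => Nat.beq i j ||
    (WL.any (Nat.beq (xP i j)) && Nat.beq (xP i j) (xP j i) && nrm (nP i j) &&
      weq [aP, nP i j] [nP i j, xP i j, aP] &&
      weq [xP i j, aP, mB] [mB, xP ((i + 1) % 5) ((j + 1) % 5), aP])) = true := by (rewrite [Cfsg.Agent.GolayF.f1.2, Cfsg.Agent.GolayF.f3.2]; decide +kernel)

theorem xB_spec {i j : ℕ} (hi : i < 5) (hj : j < 5) (hij : i ≠ j) : xP i j ∈ WL ∧ xP i j = xP j i ∧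
    nrm (nP i j) = true ∧ weq [aP, nP i j] [nP i j, xP i j, aP] = true ∧
    weq [xP i j, aP, mB] [mB, xP ((i + 1) % 5) ((j + 1) % 5), aP] = true := by
  have h1 := List.all_eq_true.1 (List.all_eq_true.1 xB_ok i (List.mem_range.2 hi)) j (List.mem_range.2 hj)
  rw [Bool.or_eq_true, Nat.beq_eq] at h1
  rcases h1 with h1 | h1
  · exact absurd h1 hij
  simp only [Bool.and_eq_true, Nat.beq_eq] at h1
  exact ⟨ok22_WL h1.1.1.1.1, h1.1.1.1.2, h1.1.1.2, h1.1.2, h1.2⟩

theorem mB_nrm : nrm mB = true := by (rewrite [Cfsg.Agent.GolayF.f3.2]; decide +kernel)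
theorem dB_nrm : nrm dB = true := by (rewrite [Cfsg.Agent.GolayF.f3.2]; decide +kernel)

theorem prod_three {P Q R : ℕ} (hP : ok22 P = true) (hQ : ok22 Q = true) (hR : ok22 R = true)
    (h : weq [P, Q, R] [] = true) : el22 P * el22 Q * el22 R = 1 := by
  apply Subtype.ext
  show (el22 P : Equiv.Perm GolayPt) * (el22 Q : Equiv.Perm GolayPt) * (el22 R : Equiv.Perm GolayPt) = 1
  rw [coe_el22 hP, coe_el22 hQ, coe_el22 hR]
  have h7 := El.pr_of_weq (okl_three (isPerm22 hP) (isPerm22 hQ) (isPerm22 hR)) rfl h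
  simp only [El.pr_cons, El.pr_nil, mul_one] at h7
  rw [mul_assoc]; exact h7

theorem confB : ConfB E22 (cj (pm aP) pm_aP_D22) := by
  have hval : ∀ i : Fin 5, (i + 1 : Fin 5).val = (i.val + 1) % 5 := by decide
  refine ⟨fun i j => el22 (xP i j), fun i j => el22 (nP i j), el22 mB, el22 dB, ?_, ?_, ⟨nm_of_nrm mB_nrm, ?_⟩,
    ?_, ?_, ?_, nm_of_nrm dB_nrm, ?_, ?_, ?_, ?_⟩
  · intro y hy
    apply Subtype.ext
    rw [coe_cj, aP_comm (mem_E22.1 hy), mul_inv_cancel_right]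
  · intro i j hij
    obtain ⟨h1, h2, h3, h4, -⟩ := xB_spec i.2 j.2 (fun e => hij (Fin.ext e))
    refine ⟨el22_mem h1, ?_, nm_of_nrm h3, delta_eq ok_aP pm_aP_D22 (ok22_of_nrm h3) (ok22_of_WL h1) h4⟩
    show el22 (xP i j) = el22 (xP j i)
    rw [h2]
  · intro i j hij
    obtain ⟨h1, -, -, -, h5⟩ := xB_spec i.2 j.2 (fun e => hij (Fin.ext e))
    have hij' : i + 1 ≠ j + 1 := fun e => hij (add_right_cancel e)
    obtain ⟨h1', -⟩ := xB_spec (i + 1).2 (j + 1).2 (fun e => hij' (Fin.ext e))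
    show (el22 mB)⁻¹ * el22 (xP i j) * el22 mB * ((el22 mB)⁻¹ * cj (pm aP) pm_aP_D22 (el22 mB)) =
      el22 (xP (i + 1 : Fin 5) (j + 1 : Fin 5))
    refine move_eq ok_aP pm_aP_D22 (ok22_of_nrm mB_nrm) (ok22_of_WL h1) (ok22_of_WL h1') ?_
    rw [hval i, hval j]
    exact h5
  · show el22 (xP 0 1) = 1
    rw [show xP 0 1 = idP by decide +kernel, el22_one]
  · exact el22_ne (P := xP 0 2) (by (rewrite [Cfsg.Agent.GolayF.f2.2]; decide +kernel)) (by (rewrite [Cfsg.Agent.GolayF.f1.2]; decide +kernel))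
  · exact prod_three (P := xP 0 2) (Q := xP 0 3) (R := xP 0 4) (by (rewrite [Cfsg.Agent.GolayF.f2.2]; decide +kernel)) (by (rewrite [Cfsg.Agent.GolayF.f2.2]; decide +kernel))
      (by (rewrite [Cfsg.Agent.GolayF.f2.2]; decide +kernel)) (by (rewrite [Cfsg.Agent.GolayF.f1.2]; decide +kernel))
  · rw [pow_succ, pow_two]
    exact prod_three (P := dB) (Q := dB) (R := dB) (by (rewrite [Cfsg.Agent.GolayF.f2.2]; decide +kernel)) (by (rewrite [Cfsg.Agent.GolayF.f2.2]; decide +kernel))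
      (by (rewrite [Cfsg.Agent.GolayF.f2.2]; decide +kernel)) (by (rewrite [Cfsg.Agent.GolayF.f1.2]; decide +kernel))
  · apply Subtype.ext
    rw [coe_cj, coe_el22 (ok22_of_nrm dB_nrm), eq_two (isPerm_of_ok ok_aP) (isPerm22 (ok22_of_nrm dB_nrm))
      (isPerm22 (ok22_of_nrm dB_nrm)) (isPerm_of_ok ok_aP) (by (rewrite [Cfsg.Agent.GolayF.f1.2]; decide +kernel)), mul_inv_cancel_right]
  · exact conj_eq' (m := dB) (x := xP 0 2) (y := xP 0 3) (by (rewrite [Cfsg.Agent.GolayF.f2.2]; decide +kernel)) (by (rewrite [Cfsg.Agent.GolayF.f2.2]; decide +kernel))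
      (by (rewrite [Cfsg.Agent.GolayF.f2.2]; decide +kernel)) (by (rewrite [Cfsg.Agent.GolayF.f1.2]; decide +kernel))
  · exact conj_eq' (m := dB) (x := xP 0 3) (y := xP 0 4) (by (rewrite [Cfsg.Agent.GolayF.f2.2]; decide +kernel)) (by (rewrite [Cfsg.Agent.GolayF.f2.2]; decide +kernel))
      (by (rewrite [Cfsg.Agent.GolayF.f2.2]; decide +kernel)) (by (rewrite [Cfsg.Agent.GolayF.f1.2]; decide +kernel))

/-! ### `ConfC` -/

theorem xC_ok : ((List.range 5).all fun i => (WL.any (Nat.beq (xC.getD i 0)) && nrm (nC.getD i 0) &&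
      weq [bP, nC.getD i 0] [nC.getD i 0, xC.getD i 0, bP] &&
      weq [xC.getD i 0, dC] [dC, xC.getD ((i + 1) % 5) 0])) = true := by (rewrite [Cfsg.Agent.GolayF.f1.2, Cfsg.Agent.GolayF.f3.2]; decide +kernel)

theorem xC_spec {i : ℕ} (hi : i < 5) : xC.getD i 0 ∈ WL ∧ nrm (nC.getD i 0) = true ∧
      weq [bP, nC.getD i 0] [nC.getD i 0, xC.getD i 0, bP] = true ∧
      weq [xC.getD i 0, dC] [dC, xC.getD ((i + 1) % 5) 0] = true := by
  have h1 := List.all_eq_true.1 xC_ok i (List.mem_range.2 hi)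
  simp only [Bool.and_eq_true] at h1
  exact ⟨ok22_WL h1.1.1.1, h1.1.1.2, h1.1.2, h1.2⟩

theorem mC_nrm : nrm mC = true := by (rewrite [Cfsg.Agent.GolayF.f3.2]; decide +kernel)
theorem dC_nrm : nrm dC = true := by (rewrite [Cfsg.Agent.GolayF.f3.2]; decide +kernel)

theorem five {P Q R S T : ℕ} (hP : ok22 P = true) (hQ : ok22 Q = true) (hR : ok22 R = true) (hS : ok22 S = true)
    (hT : ok22 T = true) (h : weq [P, Q, R, S, T] [] = true) :
    el22 P * el22 Q * el22 R * el22 S * el22 T = 1 := by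
  apply Subtype.ext
  show (el22 P : Equiv.Perm GolayPt) * (el22 Q : Equiv.Perm GolayPt) * (el22 R : Equiv.Perm GolayPt) *
    (el22 S : Equiv.Perm GolayPt) * (el22 T : Equiv.Perm GolayPt) = 1
  rw [coe_el22 hP, coe_el22 hQ, coe_el22 hR, coe_el22 hS, coe_el22 hT]
  have hl : okl [P, Q, R, S, T] = true := by
    unfold El.okl
    simp only [List.all_cons, List.all_nil, isPerm22 hP, isPerm22 hQ, isPerm22 hR, isPerm22 hS, isPerm22 hT,
      Bool.and_self]
  have h7 := El.pr_of_weq hl rfl h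
  simp only [El.pr_cons, El.pr_nil, mul_one] at h7
  rw [← h7]; group

theorem confC : ConfC E22 (cj (pm bP) pm_bP_D22) := by
  have hval : ∀ i : Fin 5, (i + 1 : Fin 5).val = (i.val + 1) % 5 := by decide
  refine ⟨fun i => el22 (xC.getD i 0), fun i => el22 (nC.getD i 0), el22 mC, el22 dC, ?_, ?_, ?_, ?_,
    ⟨nm_of_nrm dC_nrm, ?_, ?_, ?_⟩, nm_of_nrm mC_nrm, ?_, ?_, ?_, ?_⟩
  · intro y hy
    apply Subtype.ext
    rw [coe_cj, bP_comm (mem_E22.1 hy), mul_inv_cancel_right]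
  · intro i
    obtain ⟨h1, h2, h3, -⟩ := xC_spec i.2
    exact ⟨el22_mem h1, nm_of_nrm h2, delta_eq ok_bP pm_bP_D22 (ok22_of_nrm h2) (ok22_of_WL h1) h3⟩
  · exact el22_ne (P := xC.getD 0 0) (by (rewrite [Cfsg.Agent.GolayF.f2.2]; decide +kernel)) (by (rewrite [Cfsg.Agent.GolayF.f1.2]; decide +kernel))
  · exact five (P := xC.getD 0 0) (Q := xC.getD 1 0) (R := xC.getD 2 0) (S := xC.getD 3 0) (T := xC.getD 4 0)
      (by (rewrite [Cfsg.Agent.GolayF.f2.2]; decide +kernel)) (by (rewrite [Cfsg.Agent.GolayF.f2.2]; decide +kernel)) (by (rewrite [Cfsg.Agent.GolayF.f2.2]; decide +kernel)) (by (rewrite [Cfsg.Agent.GolayF.f2.2]; decide +kernel)) (by (rewrite [Cfsg.Agent.GolayF.f2.2]; decide +kernel))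
      (by (rewrite [Cfsg.Agent.GolayF.f1.2]; decide +kernel))
  · have h := five (P := dC) (Q := dC) (R := dC) (S := dC) (T := dC)
      (by (rewrite [Cfsg.Agent.GolayF.f2.2]; decide +kernel)) (by (rewrite [Cfsg.Agent.GolayF.f2.2]; decide +kernel)) (by (rewrite [Cfsg.Agent.GolayF.f2.2]; decide +kernel)) (by (rewrite [Cfsg.Agent.GolayF.f2.2]; decide +kernel)) (by (rewrite [Cfsg.Agent.GolayF.f2.2]; decide +kernel))
      (by (rewrite [Cfsg.Agent.GolayF.f1.2]; decide +kernel))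
    rw [← h, show (5 : ℕ) = 1 + 1 + 1 + 1 + 1 from rfl, pow_add, pow_add, pow_add, pow_add, pow_one]
  · apply Subtype.ext
    rw [coe_cj, coe_el22 (ok22_of_nrm dC_nrm), eq_two (isPerm_of_ok ok_bP) (isPerm22 (ok22_of_nrm dC_nrm))
      (isPerm22 (ok22_of_nrm dC_nrm)) (isPerm_of_ok ok_bP) (by (rewrite [Cfsg.Agent.GolayF.f1.2]; decide +kernel)), mul_inv_cancel_right]
  · intro i
    obtain ⟨h1, -, -, h4⟩ := xC_spec i.2
    obtain ⟨h1', -⟩ := xC_spec (i + 1).2
    refine conj_eq' (ok22_of_nrm dC_nrm) (ok22_of_WL h1) (ok22_of_WL h1') ?_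
    rw [hval i]
    exact h4
  · apply Subtype.ext
    show (el22 mC : Equiv.Perm GolayPt) * (el22 mC : Equiv.Perm GolayPt) = 1
    rw [coe_el22 (ok22_of_nrm mC_nrm)]
    exact eq_nil (isPerm22 (ok22_of_nrm mC_nrm)) (isPerm22 (ok22_of_nrm mC_nrm)) (by (rewrite [Cfsg.Agent.GolayF.f1.2]; decide +kernel))
  · exact delta_eq (x := xC.getD 0 0) ok_bP pm_bP_D22 (ok22_of_nrm mC_nrm) (by (rewrite [Cfsg.Agent.GolayF.f2.2]; decide +kernel)) (by (rewrite [Cfsg.Agent.GolayF.f1.2]; decide +kernel))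
  · exact conj_mul_eq (m := mC) (x := xC.getD 1 0) (y := xC.getD 2 0) (w := xC.getD 0 0) (by (rewrite [Cfsg.Agent.GolayF.f2.2]; decide +kernel))
      (by (rewrite [Cfsg.Agent.GolayF.f2.2]; decide +kernel)) (by (rewrite [Cfsg.Agent.GolayF.f2.2]; decide +kernel)) (by (rewrite [Cfsg.Agent.GolayF.f2.2]; decide +kernel)) (by (rewrite [Cfsg.Agent.GolayF.f1.2]; decide +kernel))
  · exact conj_mul_eq (m := mC) (x := xC.getD 3 0) (y := xC.getD 4 0) (w := xC.getD 0 0) (by (rewrite [Cfsg.Agent.GolayF.f2.2]; decide +kernel))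
      (by (rewrite [Cfsg.Agent.GolayF.f2.2]; decide +kernel)) (by (rewrite [Cfsg.Agent.GolayF.f2.2]; decide +kernel)) (by (rewrite [Cfsg.Agent.GolayF.f2.2]; decide +kernel)) (by (rewrite [Cfsg.Agent.GolayF.f1.2]; decide +kernel))

/-! ### All outer involutions -/

/-- the field `conf` of `PData` -/
theorem conf (β : MulAut Spor.M22) (h2 : β * β = 1) (hout : ∀ x, β ≠ MulAut.conj x) :
    ∃ g : Spor.M22, ConfB E22 (MulAut.conj g * β * (MulAut.conj g)⁻¹) ∨
      ConfC E22 (MulAut.conj g * β * (MulAut.conj g)⁻¹) := by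
  obtain ⟨h, hh, hβ⟩ := exists_D β
  have hn := not_mem_of_outer hβ hout
  have hsq : h * h = 1 := by
    refine eq_of_conj (D22.mul_mem hh hh) D22.one_mem fun x => ?_
    have h3 : ((β * β) x : Equiv.Perm GolayPt) = x := by rw [h2]; rfl
    rw [MulAut.mul_apply, hβ, hβ] at h3
    calc h * h * (x : Equiv.Perm GolayPt) * (h * h)⁻¹ = h * (h * x * h⁻¹) * h⁻¹ := by group
      _ = x := h3
      _ = 1 * x * 1⁻¹ := by group
  -- the conjugate of `β` is the conjugation by `A`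
  have key : ∀ (A : Equiv.Perm GolayPt) (hA : A ∈ D22) (g : Spor.M22),
      h = (g : Equiv.Perm GolayPt) * A * (g : Equiv.Perm GolayPt)⁻¹ →
      MulAut.conj g⁻¹ * β * (MulAut.conj g⁻¹)⁻¹ = cj A hA := by
    intro A hA g e
    apply MulEquiv.ext
    intro x
    apply Subtype.ext
    rw [coe_cj]
    have h4 : (MulAut.conj g⁻¹ * β * (MulAut.conj g⁻¹)⁻¹) x = g⁻¹ * β (g * x * g⁻¹) * g := by
      rw [← map_inv, inv_inv, MulAut.mul_apply, MulAut.mul_apply, MulAut.conj_apply, MulAut.conj_apply, inv_inv]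
    rw [h4]
    show (g : Equiv.Perm GolayPt)⁻¹ * (β (g * x * g⁻¹) : Equiv.Perm GolayPt) * (g : Equiv.Perm GolayPt) =
      A * x * A⁻¹
    rw [hβ, e]
    show (g : Equiv.Perm GolayPt)⁻¹ * ((g : Equiv.Perm GolayPt) * A * (g : Equiv.Perm GolayPt)⁻¹ *
      ((g : Equiv.Perm GolayPt) * x * (g : Equiv.Perm GolayPt)⁻¹) *
      ((g : Equiv.Perm GolayPt) * A * (g : Equiv.Perm GolayPt)⁻¹)⁻¹) * (g : Equiv.Perm GolayPt) = A * x * A⁻¹
    group
  obtain ⟨g, hg, e | e⟩ := outer_cases hh hn hsq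
  · refine ⟨(⟨g, hg⟩ : Spor.M22)⁻¹, Or.inl ?_⟩
    rw [key _ pm_aP_D22 ⟨g, hg⟩ e]
    exact confB
  · refine ⟨(⟨g, hg⟩ : Spor.M22)⁻¹, Or.inr ?_⟩
    rw [key _ pm_bP_D22 ⟨g, hg⟩ e]
    exact confC

end Cfsg.Agent.OddHalf.D9.M22.ConfM22

end

-- merged: Cfsg.Agent.OddHalf.D9.M22.PDataM22
section

/-!
# The facts `CovPair.PData` for `M22` (helper278)

`pdata : PData Spor.M22 E22 a22 b22`.
-/

set_option autoImplicit false
set_option Elab.async false

namespace Cfsg.Agent.OddHalf.D9.M22.PDataM22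

open Cfsg Cfsg.Agent.SporadicA.GolayBase Cfsg.Agent.SporadicA.GolayPerm
open Cfsg.Agent.SporadicStructure.M24El Cfsg.Agent.KFacts.MM
open Cfsg.Agent.KFacts.MM.El (pm pr ev val weq okl pts)
open Cfsg.Agent.KFacts.MM.Data (WL zP kW)
open Cfsg.Agent.OddHalf.D9.M22.DataU (nL)
open Cfsg.Agent.KFacts.MM.InvM22 (isPerm_of_ok)
open Cfsg.Agent.OddHalf.D9.M22 Cfsg.Agent.OddHalf.D9.M22.EDataM22 Cfsg.Agent.OddHalf.D9.M22.UFact
open Cfsg.Agent.OddHalf.D9.M22.CovPair (Nm PData)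

theorem nm_of_Nrm {g : Equiv.Perm GolayPt} (h : Nrm g) : Nm E22 (⟨g, h.1⟩ : Spor.M22) :=
  ⟨fun _ hw => h.2 _ hw, fun _ hw => h.inv_mem hw⟩

theorem Nm.mul {X : Type*} [Group X] {E : Subgroup X} {m n : X} (hm : Nm E m) (hn : Nm E n) : Nm E (m * n) := by
  refine ⟨fun w hw => ?_, fun w hw => ?_⟩
  · have h := hm.1 _ (hn.1 w hw)
    have e : m * (n * w * n⁻¹) * m⁻¹ = m * n * w * (m * n)⁻¹ := by group
    rwa [e] at h
  · have h := hn.2 _ (hm.2 w hw)
    have e : n⁻¹ * (m⁻¹ * w * m) * n = (m * n)⁻¹ * w * (m * n) := by group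
    rwa [e] at h

theorem Nm.inv {X : Type*} [Group X] {E : Subgroup X} {m : X} (hm : Nm E m) : Nm E m⁻¹ := by
  refine ⟨fun w hw => ?_, fun w hw => ?_⟩
  · rw [inv_inv]; exact hm.2 w hw
  · rw [inv_inv]; exact hm.1 w hw

theorem cent (x : Spor.M22) (h : ∀ y ∈ E22, x * y = y * x) : x ∈ E22 := by
  rw [mem_E22]
  apply mem_E_of_comm x.2
  intro w hw
  exact congrArg Subtype.val (h ⟨w, E_le hw⟩ hw)

/-- `z` as an element of `M22` -/
noncomputable def z22 : Spor.M22 := ⟨pm zP, E_le zP_mem⟩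

theorem tran_z (x : Spor.M22) (hx : x ∈ E22) (hx1 : x ≠ 1) : ∃ n : Spor.M22, Nm E22 n ∧ n * z22 * n⁻¹ = x := by
  obtain ⟨n, hn, h⟩ := exists_conj_z (mem_E22.1 hx) (fun h => hx1 (Subtype.ext h))
  exact ⟨⟨n, hn.1⟩, nm_of_Nrm hn, Subtype.ext h⟩

theorem tran (x : Spor.M22) (hx : x ∈ E22) (y : Spor.M22) (hy : y ∈ E22) (hx1 : x ≠ 1) (hy1 : y ≠ 1) :
    ∃ n : Spor.M22, Nm E22 n ∧ n * x * n⁻¹ = y := by
  obtain ⟨m, hm, h1⟩ := tran_z x hx hx1
  obtain ⟨n, hn, h2⟩ := tran_z y hy hy1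
  refine ⟨n * m⁻¹, Nm.mul hn (Nm.inv hm), ?_⟩
  rw [← h1, ← h2]
  group

/-! ### The packed elements of `E` -/

theorem coe_ne {P Q : ℕ} (hP : P ∈ WL) (hQ : Q ∈ WL) (h : weq [P] [Q] = false) : pm P ≠ pm Q := by
  have h1 := El.pr_ne (okl_one (perm_of_WL hP)) (okl_one (perm_of_WL hQ)) h
  rwa [El.pr_one, El.pr_one] at h1

def p1 : ℕ := 961365507626256404119956257276790816
def p2 : ℕ := 972512676110088067912772961567868960
def p3 : ℕ := 960831283963798152912375878980765728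

theorem m1 : p1 ∈ WL := by decide +kernel
theorem m2 : p2 ∈ WL := by decide +kernel
theorem m3 : p3 ∈ WL := by decide +kernel
theorem m0 : idP ∈ WL := by decide +kernel

theorem eight : ∃ x ∈ E22, ∃ y ∈ E22, ∃ w ∈ E22, x ≠ 1 ∧ y ≠ 1 ∧ w ≠ 1 ∧ x ≠ y ∧ x ≠ w ∧ y ≠ w ∧ w ≠ x * y := by
  have one : ∀ {P : ℕ}, P ∈ WL → weq [P] [idP] = false → pm P ≠ 1 := fun hP h => by
    rw [← pm_idP]; exact coe_ne hP m0 h
  refine ⟨⟨pm p1, E_le (pm_mem_E m1)⟩, pm_mem_E m1, ⟨pm p2, E_le (pm_mem_E m2)⟩, pm_mem_E m2,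
    ⟨pm p3, E_le (pm_mem_E m3)⟩, pm_mem_E m3, ?_, ?_, ?_, ?_, ?_, ?_, ?_⟩
  · exact fun h => one m1 (by (rewrite [Cfsg.Agent.GolayF.f1.2]; decide +kernel)) (congrArg Subtype.val h)
  · exact fun h => one m2 (by (rewrite [Cfsg.Agent.GolayF.f1.2]; decide +kernel)) (congrArg Subtype.val h)
  · exact fun h => one m3 (by (rewrite [Cfsg.Agent.GolayF.f1.2]; decide +kernel)) (congrArg Subtype.val h)
  · exact fun h => coe_ne m1 m2 (by (rewrite [Cfsg.Agent.GolayF.f1.2]; decide +kernel)) (congrArg Subtype.val h)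
  · exact fun h => coe_ne m1 m3 (by (rewrite [Cfsg.Agent.GolayF.f1.2]; decide +kernel)) (congrArg Subtype.val h)
  · exact fun h => coe_ne m2 m3 (by (rewrite [Cfsg.Agent.GolayF.f1.2]; decide +kernel)) (congrArg Subtype.val h)
  · intro h
    have h1 : pr [p3] = pr [p1, p2] := by
      rw [El.pr_one, El.pr_cons, El.pr_one]
      exact congrArg Subtype.val h
    exact El.pr_ne (okl_one (perm_of_WL m3)) (okl_two (perm_of_WL m1) (perm_of_WL m2)) (by (rewrite [Cfsg.Agent.GolayF.f1.2]; decide +kernel)) h1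

/-! ### The lines -/

theorem nL_nrm : (nL.all fun n => nrm n && weq [n, n] []) = true := by (rewrite [Cfsg.Agent.GolayF.f1.2, Cfsg.Agent.GolayF.f3.2]; decide +kernel)

theorem lines : (WL.all fun P => Nat.beq P idP || WL.all fun Q => Nat.beq Q idP || Nat.beq P Q ||
    nL.any fun n => weq [n, P] [Q, n] || weq [n, P] [P, Q, n] || weq [n, Q] [P, Q, n]) = true := by
  (rewrite [Cfsg.Agent.GolayF.f1.2]; decide +kernel)

theorem line (x : Spor.M22) (hx : x ∈ E22) (y : Spor.M22) (hy : y ∈ E22) (hx1 : x ≠ 1) (hy1 : y ≠ 1)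
    (hxy : x ≠ y) : ∃ n : Spor.M22, n * n = 1 ∧ Nm E22 n ∧
      (n * x * n⁻¹ = y ∨ n * x * n⁻¹ = x * y ∨ n * y * n⁻¹ = x * y) := by
  obtain ⟨P, hP, hPx⟩ := mem_E.1 (mem_E22.1 hx)
  obtain ⟨Q, hQ, hQy⟩ := mem_E.1 (mem_E22.1 hy)
  have h1 := List.all_eq_true.1 lines P hP
  rw [Bool.or_eq_true] at h1
  rcases h1 with h1 | h1
  · exfalso
    apply hx1
    apply Subtype.ext
    rw [← hPx, Nat.eq_of_beq_eq_true h1, pm_idP]
    rfl
  have h2 := List.all_eq_true.1 h1 Q hQ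
  rw [Bool.or_eq_true, Bool.or_eq_true] at h2
  rcases h2 with (h2 | h2) | h2
  · exfalso
    apply hy1
    apply Subtype.ext
    rw [← hQy, Nat.eq_of_beq_eq_true h2, pm_idP]
    rfl
  · exfalso
    apply hxy
    apply Subtype.ext
    rw [← hPx, ← hQy, Nat.eq_of_beq_eq_true h2]
  obtain ⟨n, hn, h3⟩ := List.any_eq_true.1 h2
  have h4 := List.all_eq_true.1 nL_nrm n hn
  rw [Bool.and_eq_true] at h4
  have hN := nrm_pm h4.1
  have hp : isPerm n = true := isPerm_of_ok (ok_of_ok22 (ok22_of_nrm h4.1))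
  have iP := perm_of_WL hP
  have iQ := perm_of_WL hQ
  refine ⟨⟨pm n, hN.1⟩, Subtype.ext (eq_nil hp hp h4.2), nm_of_Nrm hN, ?_⟩
  rw [Bool.or_eq_true, Bool.or_eq_true] at h3
  rcases h3 with (h3 | h3) | h3
  · left
    apply Subtype.ext
    change pm n * (x : Equiv.Perm GolayPt) * (pm n)⁻¹ = y
    rw [← hPx, ← hQy, eq_two hp iP iQ hp h3, mul_inv_cancel_right]
  · right; left
    apply Subtype.ext
    change pm n * (x : Equiv.Perm GolayPt) * (pm n)⁻¹ = x * y
    have h5 := El.pr_of_weq (okl_two hp iP) (okl_three iP iQ hp) h3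
    rw [El.pr_cons, El.pr_one, El.pr_cons, El.pr_cons, El.pr_one, ← mul_assoc] at h5
    rw [← hPx, ← hQy, h5, mul_inv_cancel_right]
  · right; right
    apply Subtype.ext
    change pm n * (y : Equiv.Perm GolayPt) * (pm n)⁻¹ = x * y
    have h5 := El.pr_of_weq (okl_two hp iQ) (okl_three iP iQ hp) h3
    rw [El.pr_cons, El.pr_one, El.pr_cons, El.pr_cons, El.pr_one, ← mul_assoc] at h5
    rw [← hPx, ← hQy, h5, mul_inv_cancel_right]

/-- **`M22` satisfies `PData`.** -/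
theorem pdata : PData Spor.M22 E22 a22 b22 :=
  { edata with
    cent := cent
    tran := fun x hx y hy hx1 hy1 => tran x hx y hy hx1 hy1
    eight := eight
    line := fun x hx y hy hx1 hy1 hxy => line x hx y hy hx1 hy1 hxy
    fixv := fixv
    fix2 := fix2
    conf := ConfM22.conf }

theorem exists_pdata : ∃ (E : Subgroup Spor.M22) (a b : Spor.M22), PData Spor.M22 E a b := ⟨_, _, _, pdata⟩

end Cfsg.Agent.OddHalf.D9.M22.PDataM22

end
end

private theorem dce_a8c813d0d390 : _root_.True := by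
  try have : _root_.True := by simp only [_root_.Cfsg.Agent.OddHalf.D9.M22.UFact.o3.eq_1]
  try have : _root_.True := by simp only [_root_.Cfsg.Agent.OddHalf.D9.M22.UFact.o1.eq_1]
  exact _root_.True.intro
end

-- part: OddHalf/SpN/Inst
section
set_option linter.all false
open scoped Cfsg.Agent.FastGrp

/-!
# D7, `K = Sp_2n(q)`, `q ≥ 4` even, `n ≥ 3`: the front (helper866)

* `equiv` : `PSp n F ≃* Sy n F` in characteristic 2;
* `Up_eq` : the flag group of `OutFlag.lean` is `Upos n F`;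
* `DatT.hcyc`, `DatT.not_iso` : the 2-part of the field automorphisms is cyclic, so `t` is not isolated in `Z(T)`;
* `Fro R T` : the output: `R : Frame n F G` (so `C(K) ∩ C(t) = ⟨t⟩`), `T` a Sylow 2-subgroup of `C(t)`, `T ∩ K = R.Up`,
  `t` not isolated in `Z(T)`;
* `exists_fro` (from `Front.FE.Start0`), `exists_fro_ctx` (from `Ctx`, `Std`, `Cyc`).
-/

set_option autoImplicit false
set_option linter.unusedSectionVars false

namespace Cfsg.Agent.OddHalf.SpN

open Cfsg Cfsg.Agent.ClassicalGeometry.SympBasic Cfsg.Agent.ClassicalGeometry.SympAutSemi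
open Cfsg.Agent.OddHalf.SpN Cfsg.Agent.OddHalf.D7Out
open scoped commutatorElement

namespace Inst

section KSide

variable {n : ℕ} {F : Type*} [Field F]

/-- `PSp = Sp` in characteristic 2 -/
theorem equiv [Finite F] [CharP F 2] (hn : 1 ≤ n) : Nonempty (PSp n F ≃* Sy n F) :=
  ⟨(QuotientGroup.quotientMulEquivOfEq (center_Sy hn)).trans QuotientGroup.quotientBot⟩

variable [Finite F] [CharP F 2]

theorem Upos_le_Up : Upos n F ≤ Out.Up n F := by
  rw [Upos, Subgroup.closure_le]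
  rintro A (⟨i, j, hij, h, a, rfl⟩ | ⟨i, h, a, rfl⟩)
  · -- short roots
    rcases i with i | i <;> rcases j with j | j
    · exact Out.sx_mem_Up i j a
    · refine Out.sx_mem_Up' ?_ a
      by_contra hle
      rcases lt_or_eq_of_le (not_lt.1 hle) with h1 | h1
      · have h2 := Fd_inl_lt h1
        have h3 : Fd (Sum.inr j : Ix n) = - Fd (Sum.inl j : Ix n) := Fd_neg (Sum.inl j)
        rw [h3] at h
        linarith
      · subst h1
        exact hij.2 rfl
    · rw [sx_symm]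
      refine Out.sx_mem_Up' ?_ a
      by_contra hle
      rcases lt_or_eq_of_le (not_lt.1 hle) with h1 | h1
      · have h2 := Fd_inl_lt h1
        have h3 : Fd (Sum.inr i : Ix n) = - Fd (Sum.inl i : Ix n) := Fd_neg (Sum.inl i)
        rw [h3] at h
        linarith
      · subst h1
        exact hij.2 rfl
    · exfalso
      have h3 : Fd (Sum.inr i : Ix n) = - Fd (Sum.inl i : Ix n) := Fd_neg (Sum.inl i)
      have h4 : Fd (Sum.inr j : Ix n) = - Fd (Sum.inl j : Ix n) := Fd_neg (Sum.inl j)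
      have := Fd_inl_pos i
      have := Fd_inl_pos j
      rw [h3, h4] at h
      linarith
  · rcases i with i | i
    · exact Out.sy_mem_Up i a
    · exfalso
      have h3 : Fd (Sum.inr i : Ix n) = - Fd (Sum.inl i : Ix n) := Fd_neg (Sum.inl i)
      have := Fd_inl_pos i
      rw [h3] at h
      linarith

/-- a 2-group containing `Upos` is `Upos` -/
theorem Upos_max {P : Subgroup (Sy n F)} (hP : IsPGroup 2 ↥P) (h : Upos n F ≤ P) : P ≤ Upos n F := by
  have : Fact (Nat.Prime 2) := ⟨Nat.prime_two⟩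
  rw [← Subgroup.relIndex_eq_one]
  have h1 : (Upos n F).relIndex P ∣ (Upos n F).index := Subgroup.relIndex_dvd_index_of_le h
  have h2 : Odd ((Upos n F).relIndex P) := odd_index_Upos.of_dvd_nat h1
  have h3 : (Upos n F).relIndex P ∣ Nat.card P := Subgroup.relIndex_dvd_card _ _
  obtain ⟨k, hk⟩ := IsPGroup.iff_card.1 hP
  rw [hk, Nat.dvd_prime_pow Nat.prime_two] at h3
  obtain ⟨j, -, hj⟩ := h3
  rw [hj] at h2 ⊢
  rcases j with _ | j
  · rfl
  · exfalso
    rw [pow_succ] at h2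
    exact (Nat.not_odd_iff_even.2 (even_two.mul_left _)) h2

theorem Up_eq : Out.Up n F = Upos n F :=
  le_antisymm (Upos_max Out.isPGroup_Up Upos_le_Up) Upos_le_Up

end KSide

section GSide

variable {n : ℕ} {F : Type*} [Field F] [Finite F] [CharP F 2] {G : Type*} [Group G] {ι : Sy n F →* G} {t v : G}
  {T : Subgroup G}

/-- the 2-part of the outer part is cyclic -/
theorem hcyc (D : Out.DatT ι t v T) (hn : 3 ≤ n) :
    ∃ s ∈ T, ∀ x ∈ T, ∃ k : ℤ, ∃ r ∈ Subgroup.zpowers v, ∃ u ∈ (Out.Up n F).map ι, x = s ^ k * r * u := by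
  have hc : IsCyclic (F ≃+* F) := Cfsg.Agent.LieRecognition.FieldSemilinear.isCyclic_ringAut F
  set f : ↥T →* (F ≃+* F) := (D.lf hn).comp (Subgroup.inclusion D.hT) with hf
  have h1 : IsCyclic ↥f.range := inferInstance
  obtain ⟨⟨_, s, rfl⟩, hs⟩ := IsCyclic.exists_generator (α := ↥f.range)
  refine ⟨s, s.2, fun x hx => ?_⟩
  obtain ⟨i, hi⟩ := Subgroup.mem_zpowers_iff.1 (hs ⟨f ⟨x, hx⟩, ⟨x, hx⟩, rfl⟩)
  have hi' : f s ^ i = f ⟨x, hx⟩ := congrArg Subtype.val hi
  have h2 : f (s ^ (-i) * ⟨x, hx⟩) = 1 := by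
    rw [map_mul, map_zpow, zpow_neg, hi', inv_mul_cancel]
  have hmem : (s : G) ^ (-i) * x ∈ T := (s ^ (-i) * ⟨x, hx⟩ : ↥T).2
  obtain ⟨A, hA, r, hr, e, -⟩ := D.mem_UR hn (x := (s : G) ^ (-i) * x) hmem h2
  refine ⟨i, r, hr, ι A, ⟨A, hA, rfl⟩, ?_⟩
  have e2 : ι A * r = r * ι A := D.QK hr A
  calc x = (s : G) ^ i * ((s : G) ^ (-i) * x) := by group
    _ = (s : G) ^ i * (r * ι A) := by rw [e, e2]
    _ = _ := by group

/-- `t` is not isolated in `Z(T)` -/
theorem not_iso [Finite G] (hG : commutator G = ⊤) (D : Out.DatT ι t v T) (hn : 3 ≤ n)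
    (hq : ∃ c : F, c ≠ 0 ∧ c ≠ 1) : ¬ Defs.Iso t T := fun hiso =>
  TransGen.false_of_cyclic hG (D.fr hn hq) hiso (hcyc D hn)

/-- `C(K) ∩ C(t) = ⟨t⟩` -/
theorem v_eq [Finite G] (hG : commutator G = ⊤) (D : Out.DatT ι t v T) (hn : 3 ≤ n)
    (hq : ∃ c : F, c ≠ 0 ∧ c ≠ 1) : v = t :=
  FrontN.v_eq (D.fr hn hq) (Front.exists_swap (D.fr hn hq) (not_iso hG D hn hq)).2

/-- the frame -/
def frame (D : Out.Dat ι t t) (hn : 1 ≤ n) : Frame n F G where
  t := t
  ι := ι
  tt := D.tt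
  t1 := D.t1
  inj := D.inj
  comm := D.Kt
  nK := fun g hg k => (Subgroup.mem_normalizer_iff.1 (D.nK g hg.eq) (ι k)).1 ⟨k, rfl⟩ |>.imp fun _ h => h.symm
  cK := fun g hg h => by
    have h1 := D.cK g hg.eq fun A => (h A).symm
    obtain ⟨i, rfl⟩ := Subgroup.mem_zpowers_iff.1 h1
    rcases Int.even_or_odd i with ⟨j, rfl⟩ | ⟨j, rfl⟩
    · left
      rw [← two_mul, zpow_mul, zpow_two, D.tt, one_zpow]
    · right
      rw [zpow_add, zpow_mul, zpow_two, D.tt, one_zpow, one_mul, zpow_one]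
  tK := fun k h => by
    have h1 := D.KR hn (A := k) (by rw [h]; exact Subgroup.mem_zpowers t)
    rw [h1, map_one] at h
    exact D.t1 h.symm

end GSide

/-- **The output of the front.** -/
structure Fro {n : ℕ} {F : Type*} [Field F] [Finite F] [CharP F 2] {G : Type*} [Group G] (R : Frame n F G)
    (T : Subgroup G) (hn : 3 ≤ n) : Prop where
  dat : Out.DatT R.ι R.t R.t T
  /-- `T ∩ K = U` -/
  U_eq : R.Up = T ⊓ R.K
  fr : Defs.Fr R.t R.t R.K R.Up ((Out.Zz hn).map R.ι) T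
  /-- `t` is not isolated in `Z(T)` -/
  ni : ¬ Defs.Iso R.t T

theorem exists_fro {n : ℕ} {F : Type*} [Field F] [Finite F] [CharP F 2] {G : Type*} [Group G] [Finite G]
    {ι : Sy n F →* G} (hι : Function.Injective ι) {t v : G} (hG : commutator G = ⊤)
    (S : Cfsg.Agent.OddHalf.Front.FE.Start0 ι.range t v) (hn : 3 ≤ n) (hq : ∃ c : F, c ≠ 0 ∧ c ≠ 1) :
    ∃ (R : Frame n F G) (T : Subgroup G), R.ι = ι ∧ R.t = t ∧ Fro R T hn := by
  obtain ⟨T, D⟩ := Out.exists_T hι S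
  have hv := v_eq hG D hn hq
  subst hv
  have hfr := D.fr hn hq
  refine ⟨frame D.toDat (by omega), T, rfl, rfl, ?_⟩
  have hU : (frame D.toDat (by omega)).Up = (Out.Up n F).map ι := by rw [Up_eq]; rfl
  exact ⟨D, by rw [hU]; exact D.U_eq, by rw [hU]; exact hfr, not_iso hG D hn hq⟩

section Ctx

open Cfsg.Agent.OddHalf.Iface

universe u

/-- **The front**, from the interface. -/
theorem exists_fro_ctx {G : Type u} [Group G] {K : Subgroup G} (C : Ctx G) (S : Std G K) (hc : Cyc K)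
    {n : ℕ} {F : Type} [Field F] [Finite F] [CharP F 2] (e : ↥K ≃* PSp n F) (hn : 3 ≤ n)
    (hq : ∃ c : F, c ≠ 0 ∧ c ≠ 1) :
    ∃ (R : Frame n F G) (T : Subgroup G), R.K = K ∧ Fro R T hn := by
  have := C.fin
  obtain ⟨e₀⟩ := equiv (n := n) (F := F) (by omega)
  set e' : Sy n F ≃* ↥K := (e.trans e₀).symm with he'
  have hcen : Subgroup.center ↥K = ⊥ := by
    have h1 := center_Sy (n := n) (F := F) (by omega)
    rw [eq_bot_iff]
    intro x hx
    have h2 : e'.symm x ∈ Subgroup.center (Sy n F) := by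
      rw [Subgroup.mem_center_iff]
      intro y
      apply e'.injective
      rw [map_mul, map_mul, e'.apply_symm_apply]
      exact Subgroup.mem_center_iff.1 hx (e' y)
    rw [h1, Subgroup.mem_bot] at h2
    rw [Subgroup.mem_bot, ← e'.apply_symm_apply x, h2, map_one]
  obtain ⟨t, v, hS⟩ := Cfsg.Agent.OddHalf.Front.FE.exists_start C S hc hcen
  set ι : Sy n F →* G := K.subtype.comp e'.toMonoidHom with hι
  have hιi : Function.Injective ι := K.subtype_injective.comp e'.injective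
  have hr : ι.range = K := by
    ext x
    constructor
    · rintro ⟨A, rfl⟩
      exact (e' A).2
    · intro hx
      exact ⟨e'.symm ⟨x, hx⟩, congrArg Subtype.val (e'.apply_symm_apply ⟨x, hx⟩)⟩
  have hS0 : Cfsg.Agent.OddHalf.Front.FE.Start0 ι.range t v := by rw [hr]; exact hS.toStart0
  obtain ⟨R, T, hRι, -, h⟩ := exists_fro hιi (Cfsg.Agent.OddHalf.Front.FE.commutator_eq_top C) hS0 hn hq
  exact ⟨R, T, by rw [Frame.K, hRι, hr], h⟩

end Ctx

end Inst

end Cfsg.Agent.OddHalf.SpN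
end

-- part: OddHalf/D9/J2/PFacts_mg
section
prune_inst 0x302c040922020000000010c0000440020000001040000080600102048044600502a02088200100080008040034006001440010420000000a000000011d01801000000291480100020008000000000000000000000000000000000000000000000000000
set_option linter.all false
open scoped Cfsg.Agent.FastGrp

-- part: OddHalf/D9/J2/PFacts
section
/-!
# D4, even cyclic centre: the facts (P1), (P2) for `2.J₂` (helper341)

For a finite perfect group `L` with centre of order 2 and `L / Z(L) ≃* J₂`: `PairFree L` and `SqDiff L`.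
-/

set_option autoImplicit false
set_option linter.style.haveILetI false

namespace Cfsg.Agent.OddHalf.D9.J2.PFacts

open Subgroup Cfsg.Agent.KFacts.MulTwo Cfsg.Agent.KFacts.MulDef Cfsg.Agent.KFacts.MulSpor.Class
open Cfsg.Agent.J2Type.Model Cfsg.Agent.J2Type.SPFacts Cfsg.Agent.J2Type.CStruct
open Cfsg.Agent.J3Type.OneClass Cfsg.Agent.J2Type.Base Cfsg.Agent.KFacts.J2.Basic
open Cfsg.Agent.OddHalf.D9.J2.Cover Cfsg.Agent.OddHalf.D9.J2.Facts
open Cfsg.Agent.OddHalf.D4.EvenCyc (PairFree SqDiff)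
open scoped commutatorElement

variable {L X : Type*} [Group L] [Group X] {π : L →* X} {c : L} {t u : X}
  {Q : Subgroup (centralizer ({t} : Set X))} {v : Fin 5 → centralizer ({t} : Set X)}
  {ρ : centralizer ({t} : Set X) →* SP}

/-! ### Fixed lifts -/

theorem fix_t [Finite X] (hd : Dbl π c) (D : Dat t u Q v ρ) {γ : MulAut L} (hγ : γ c = c) {x : L} (hx : π x = t)
    (h : π (γ x) = t) : γ x = x := by
  obtain ⟨δ, hδ⟩ := exists_bar hd γ hγ
  have hδt : δ t = t := by rw [← hx, hδ, h, hx]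
  obtain ⟨σ, s', hσ⟩ := D.exists_act δ hδt
  obtain ⟨Z, e, V, Λ⟩ := _root_.Cfsg.Agent.OddHalf.D9.J2.Cover.exists_lift hd D
  obtain ⟨hγZ, -⟩ := Λ.act hd D γ hγ σ s' (by
    intro i
    rw [← hδ, Λ.πV, hσ i])
  rcases eq_or hd (x := x) (y := Z) (by rw [hx, Λ.πZ]) with h1 | h1
  · rw [h1, hγZ]
  · rw [h1, map_mul, hγ, hγZ]

theorem conj_apply' (g : L) (α : MulAut L) (x : L) :
    ((MulAut.conj g)⁻¹ * α * MulAut.conj g) x = g⁻¹ * α (g * x * g⁻¹) * g := by
  show (MulAut.conj g)⁻¹ (α (g * x * g⁻¹)) = _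
  rw [← map_inv, MulAut.conj_apply, inv_inv]

theorem fix_c (hd : Dbl π c) (g : L) {α : MulAut L} (hα : α c = c) :
    ((MulAut.conj g)⁻¹ * α * MulAut.conj g) c = c := by
  rw [conj_apply', ← hd.cen g, mul_inv_cancel_right, hα, mul_assoc, hd.cen g, inv_mul_cancel_left]

/-- an automorphism fixing a conjugate of `t` fixes its lifts -/
theorem fix_conj [Finite X] (hd : Dbl π c) (D : Dat t u Q v ρ) {α : MulAut L} (hα : α c = c) {x : L}
    (hx : IsConj t (π x)) (h : π (α x) = π x) : α x = x := by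
  obtain ⟨g, hg⟩ := isConj_iff.1 hx
  obtain ⟨g, rfl⟩ := hd.surj g
  have h1 : π (g⁻¹ * x * g) = t := by
    rw [map_mul, map_mul, map_inv, ← hg]; group
  have h3 : g * (g⁻¹ * x * g) * g⁻¹ = x := by group
  have h2 := fix_t hd D (γ := (MulAut.conj g)⁻¹ * α * MulAut.conj g) (fix_c hd g hα) h1 (by
    rw [conj_apply', h3, map_mul, map_mul, map_inv, h, ← hg]; group)
  rw [conj_apply', h3] at h2
  calc α x = g * (g⁻¹ * α x * g) * g⁻¹ := by group
    _ = x := by rw [h2, h3]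

/-! ### Automorphisms trivial on `C(k)` -/

theorem cent_of_t [Finite X] (hd : Dbl π c) (D : Dat t u Q v ρ) {k : L} (hk : π k = t) {β : MulAut L}
    (hβc : β c = c) (hβ : ∀ x, k * x = x * k → β x = x) : β = 1 ∨ β = MulAut.conj k := by
  obtain ⟨δ, hδ⟩ := exists_bar hd β hβc
  have h1 : ∀ y : X, y * t = t * y → δ y = y := by
    intro y hy
    obtain ⟨y, rfl⟩ := hd.surj y
    rw [hδ, hβ y (_root_.Cfsg.Agent.OddHalf.D9.J2.Cover.comm_of hd D hk hy).symm]
  rcases Cfsg.Agent.KFacts.J2.Aut.cent_t D h1 with h | h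
  · left
    apply eq_one_of_bar hd
    intro x
    rw [← hδ, h]; rfl
  · right
    apply inner_of_bar hd
    intro x
    rw [← hδ, h, hk]; rfl

theorem cent_of_u [Finite L] [Finite X] (hd : Dbl π c) (D : Dat t u Q v ρ) {k : L} (hk : π k = u) {β : MulAut L}
    (hβc : β c = c) (hββ : ∀ x, β (β x) = x) (hβ : ∀ x, k * x = x * k → β x = x) :
    β = 1 ∨ β = MulAut.conj k := by
  obtain ⟨f, U, V, H0, FF⟩ := Cfsg.Agent.J2Type.CentU.main D.F
  obtain ⟨-, -, h60, hA5⟩ := Cfsg.Agent.J2Type.Order.order_of_fus D.F FF.str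
  obtain ⟨δ, hδ⟩ := exists_bar hd β hβc
  have hkc : k * k = c := sq_u hd D (by rw [hk])
  have hδu : δ u = u := by rw [← hk, hδ, hβ k rfl]
  -- the perfect subgroup
  set! M : Subgroup L := H0.comap π with hM
  have hMπ : M.map π = H0 := map_comap_eq_self_of_surjective hd.surj _
  obtain ⟨hp1, hp2⟩ := perfect_commutator hd (M := M) (by rw [hMπ]; exact perf_A5 hA5)
  have hcomm : ∀ y ∈ (⁅M, M⁆ : Subgroup L), y * k = k * y := by
    apply comm_commutator hd
    intro y hy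
    apply _root_.Cfsg.Agent.KFacts.MulSpor.Class.comm_or hd
    rw [hk]
    exact mem_cent.1 (FF.str.le hy)
  have hδH : ∀ y ∈ H0, δ y = y := by
    intro y hy
    have h1 : y ∈ (⁅M, M⁆ : Subgroup L).map π := by rw [hp2, hMπ]; exact hy
    obtain ⟨y, hy', rfl⟩ := h1
    rw [hδ, hβ y (hcomm y hy').symm]
  by_cases hin : ∃ b, β = MulAut.conj b
  · obtain ⟨b, rfl⟩ := hin
    have hbx : ∀ x, k * x = x * k → b * x = x * b := fun x hx => mul_inv_eq_iff_eq_mul.1 (hβ x hx)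
    have hbH : ∀ y ∈ H0, π b * y = y * π b := by
      intro y hy
      have h1 : y ∈ (⁅M, M⁆ : Subgroup L).map π := by rw [hp2, hMπ]; exact hy
      obtain ⟨y, hy', rfl⟩ := h1
      rw [← map_mul, hbx y (hcomm y hy').symm, map_mul]
    have hbu : π b * u = u * π b := by rw [← hk, ← map_mul, hbx k rfl, map_mul]
    -- `π b ∈ V`
    obtain ⟨a, ha, h, hh, hah⟩ := Cfsg.Agent.J2Type.Cent5.exists_mul FF (x := π b)
      (mem_centralizer_singleton_iff.2 hbu)
    have hhH : ∀ y ∈ H0, h * y = y * h := by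
      intro y hy
      have h1 : h = a⁻¹ * π b := by rw [hah]; group
      have h2 : a * y = y * a := Cfsg.Agent.J2Type.Cent5.V_comm D.F FF h60 ha hy
      have h3 : a⁻¹ * y = y * a⁻¹ := by
        rw [inv_mul_eq_iff_eq_mul, ← mul_assoc, h2, mul_inv_cancel_right]
      calc h * y = a⁻¹ * (π b * y) := by rw [h1]; group
        _ = (a⁻¹ * y) * π b := by rw [hbH y hy]; group
        _ = y * h := by rw [h3, h1]; group
    have hh1 : h = 1 := by
      by_contra hne
      exact FF.f_ne h (FF.cap h hh (hhH t (FF.U_le FF.zU))) hne (hhH f FF.f_mem).symm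
    have hbV : π b ∈ V := by rw [hah, hh1, mul_one]; exact ha
    have h5 : ∀ {y : X}, y ∈ V → y ≠ 1 → IsConj u y := fun hy hy1 =>
      Cfsg.Agent.J2Type.Cent5.isConj_of_mem_V D.F FF hy hy1
    by_cases hb1 : π b = 1
    · left
      apply eq_one_of_bar hd
      intro x
      show π (b * x * b⁻¹) = π x
      rw [map_mul, map_mul, map_inv, hb1]; group
    · by_cases hbu1 : π b = u
      · right
        apply inner_of_bar hd
        intro x
        show π (b * x * b⁻¹) = _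
        rw [map_mul, map_mul, map_inv, hbu1, hk]
      · exfalso
        have h6 : b * b = c := sq_u hd D (h5 hbV hb1)
        have h7 : (b * k) * (b * k) = c := by
          apply sq_u hd D
          rw [map_mul, hk]
          apply h5 (mul_mem hbV FF.uV)
          intro h8
          apply hbu1
          calc π b = π b * u * u := by rw [mul_assoc, D.uu, mul_one]
            _ = u := by rw [h8, one_mul]
        apply hd.ne
        calc c = (b * k) * (b * k) := h7.symm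
          _ = b * (k * b) * k := by group
          _ = b * (b * k) * k := by rw [hbx k rfl]
          _ = (b * b) * (k * k) := by group
          _ = 1 := by rw [h6, hkc, hd.sq]
  · exfalso
    push Not at hin
    refine Cfsg.Agent.KFacts.J2.Aut.no_outer_u D (α := δ) ?_ ?_ (hδH t (FF.U_le FF.zU)) hδu ?_
    · intro y hy
      obtain ⟨y, rfl⟩ := hd.surj y
      apply hin y
      apply inner_of_bar hd
      intro x
      rw [← hδ, hy]; rfl
    · intro x
      obtain ⟨x, rfl⟩ := hd.surj x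
      rw [hδ, hδ, hββ]
    · intro i hi
      exact hδH _ (FF.str.z_mem _ (D.isConj_v i) hi)

/-- **Automorphisms of order 2 trivial on `C(k)`.** -/
theorem cent_of [Finite L] [Finite X] (hd : Dbl π c) (D : Dat t u Q v ρ) {k : L} (hk2 : π k * π k = 1)
    (hk1 : π k ≠ 1) {β : MulAut L} (hβc : β c = c) (hββ : ∀ x, β (β x) = x)
    (hβ : ∀ x, k * x = x * k → β x = x) : β = 1 ∨ β = MulAut.conj k := by
  have key : ∀ g : L, (∀ γ : MulAut L, γ c = c → (∀ x, γ (γ x) = x) →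
      (∀ x, (g⁻¹ * k * g) * x = x * (g⁻¹ * k * g) → γ x = x) → γ = 1 ∨ γ = MulAut.conj (g⁻¹ * k * g)) →
      β = 1 ∨ β = MulAut.conj k := by
    intro g h
    have e1 : ∀ x, ((MulAut.conj g)⁻¹ * β * MulAut.conj g) (((MulAut.conj g)⁻¹ * β * MulAut.conj g) x) = x := by
      intro x
      rw [conj_apply', conj_apply']
      have h1 : g * (g⁻¹ * β (g * x * g⁻¹) * g) * g⁻¹ = β (g * x * g⁻¹) := by group
      rw [h1, hββ]; group
    have e2 : ∀ x, (g⁻¹ * k * g) * x = x * (g⁻¹ * k * g) →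
        ((MulAut.conj g)⁻¹ * β * MulAut.conj g) x = x := by
      intro x hx
      rw [conj_apply', hβ]
      · group
      · calc k * (g * x * g⁻¹) = g * ((g⁻¹ * k * g) * x) * g⁻¹ := by group
          _ = g * (x * (g⁻¹ * k * g)) * g⁻¹ := by rw [hx]
          _ = _ := by group
    have h2 : β = MulAut.conj g * ((MulAut.conj g)⁻¹ * β * MulAut.conj g) * (MulAut.conj g)⁻¹ := by group
    rcases h ((MulAut.conj g)⁻¹ * β * MulAut.conj g) (fix_c hd g hβc) e1 e2 with h1 | h1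
    · left
      rw [h2, h1]; group
    · right
      rw [h2, h1, map_mul, map_mul, map_inv]; group
  rcases D.F.cover _ (orderOf_two hk2 hk1) with h | h
  · obtain ⟨g, hg⟩ := isConj_iff.1 h
    obtain ⟨g, rfl⟩ := hd.surj g
    exact key g fun γ h1 h2 h3 => cent_of_t hd D (by rw [map_mul, map_mul, map_inv, ← hg]; group) h1 h3
  · obtain ⟨g, hg⟩ := isConj_iff.1 h
    obtain ⟨g, rfl⟩ := hd.surj g
    exact key g fun γ h1 h2 h3 => cent_of_u hd D (by rw [map_mul, map_mul, map_inv, ← hg]; group) h1 h2 h3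

/-! ### (P1) -/

variable (hd : Dbl π c) (D : Dat t u Q v ρ) (hZ : ∀ x ∈ center L, x = 1 ∨ x = c)

include hd hZ

theorem map_c (α : MulAut L) : α c = c := by
  have h1 : α c ∈ center L := by
    rw [mem_center_iff]
    intro x
    obtain ⟨y, rfl⟩ := α.surjective x
    rw [← map_mul, ← map_mul, hd.cen]
  rcases hZ _ h1 with h | h
  · exact absurd ((map_eq_one_iff α α.injective).1 h) hd.ne
  · exact h

theorem bar_invol {k : L} (h : MulAut.conj k * MulAut.conj k = 1) (h1 : MulAut.conj k ≠ 1) :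
    π k * π k = 1 ∧ π k ≠ 1 := by
  constructor
  · rw [← map_mul]
    have h2 : k * k ∈ center L := by
      rw [mem_center_iff]
      intro x
      have h3 := congrArg (fun γ : MulAut L => γ x) h
      have h4 : k * (k * x * k⁻¹) * k⁻¹ = x := h3
      calc x * (k * k) = (k * (k * x * k⁻¹) * k⁻¹) * (k * k) := by rw [h4]
        _ = _ := by group
    exact (hd.ker _).2 (hZ _ h2)
  · intro h2
    apply h1
    rcases (hd.ker k).1 h2 with h3 | h3
    · rw [h3, map_one]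
    · ext x
      show k * x * k⁻¹ = x
      rw [h3, hd.cen]; group

include D

/-- **(P1)** -/
theorem pairFree [Finite L] [Finite X] : PairFree L := by
  intro α β hαα hββ hαβ hα1 hβ1 hne h1 h2
  have hαx : ∀ x, α (α x) = x := fun x => congrArg (fun γ : MulAut L => γ x) hαα
  have hβx : ∀ x, β (β x) = x := fun x => congrArg (fun γ : MulAut L => γ x) hββ
  by_cases hin : ∃ k, α = MulAut.conj k
  · obtain ⟨k, rfl⟩ := hin
    obtain ⟨h3, h4⟩ := bar_invol hd hZ hαα hα1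
    rcases cent_of hd D h3 h4 (map_c hd hZ β) hβx
      (fun x hx => h1 x (by show k * x * k⁻¹ = x; rw [hx]; group)) with h | h
    · exact hβ1 h
    · exact hne h.symm
  · push Not at hin
    obtain ⟨δ, hδ⟩ := exists_bar hd α (map_c hd hZ α)
    have hδin : ∀ k, δ ≠ MulAut.conj k := by
      intro y hy
      obtain ⟨y, rfl⟩ := hd.surj y
      apply hin y
      apply inner_of_bar hd
      intro x
      rw [← hδ, hy]; rfl
    by_cases hin' : ∃ b, β = MulAut.conj b
    · obtain ⟨b, rfl⟩ := hin'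
      obtain ⟨h3, h4⟩ := bar_invol hd hZ hββ hβ1
      refine Cfsg.Agent.KFacts.J2.Aut.no_comm D hδin ?_ h3 h4 ?_
      · intro x
        obtain ⟨x, rfl⟩ := hd.surj x
        rw [hδ, hδ, hαx]
      · intro y hy hδy
        obtain ⟨y, rfl⟩ := hd.surj y
        rw [hδ] at hδy
        have h5 : b * y * b⁻¹ = y := h1 y (fix_conj hd D (map_c hd hZ α) hy hδy)
        rw [← map_mul, mul_inv_eq_iff_eq_mul.1 h5, map_mul]
    · push Not at hin'
      obtain ⟨ε, hε⟩ := exists_bar hd β (map_c hd hZ β)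
      have hεin : ∀ k, ε ≠ MulAut.conj k := by
        intro y hy
        obtain ⟨y, rfl⟩ := hd.surj y
        apply hin' y
        apply inner_of_bar hd
        intro x
        rw [← hε, hy]; rfl
      obtain ⟨k, hk⟩ := Cfsg.Agent.KFacts.J2.Aut.mul_inner D hδin hεin
      obtain ⟨k, rfl⟩ := hd.surj k
      have h3 : α * β = MulAut.conj k := by
        apply inner_of_bar hd
        intro x
        show π (α (β x)) = _
        rw [← hδ, ← hε]
        exact congrArg (fun γ : MulAut X => γ (π x)) hk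
      have h4 : MulAut.conj k * MulAut.conj k = 1 := by
        rw [← h3]
        calc α * β * (α * β) = α * (β * α) * β := by group
          _ = α * (α * β) * β := by rw [hαβ]
          _ = (α * α) * (β * β) := by group
          _ = 1 := by rw [hαα, hββ, mul_one]
      have h5 : MulAut.conj k ≠ 1 := by
        rw [← h3]
        intro h
        apply hne
        calc α = α * (β * β) := by rw [hββ, mul_one]
          _ = (α * β) * β := by group
          _ = β := by rw [h, one_mul]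
      obtain ⟨h6, h7⟩ := bar_invol hd hZ h4 h5
      rcases cent_of hd D h6 h7 (map_c hd hZ β) hβx (fun x hx => h2 x (by
        have h8 : (α * β) x = x := by
          rw [h3]
          show k * x * k⁻¹ = x
          rw [hx]; group
        exact h8)) with h | h
      · exact hβ1 h
      · apply hα1
        calc α = (α * β) * β⁻¹ := by group
          _ = 1 := by rw [h3, ← h, mul_inv_cancel]

/-! ### (P2) -/

/-- **(P2)** -/
theorem sqDiff [Finite L] [Finite X] : SqDiff L := by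
  intro α hαα hα1
  have hαx : ∀ x, α (α x) = x := fun x => congrArg (fun γ : MulAut L => γ x) hαα
  -- an element over a conjugate of `t`
  have key : ∀ y : L, IsConj t (π y) → y ∉ center L ∧ y * y = 1 := by
    intro y hy
    refine ⟨fun h => ?_, sq_t hd D hy⟩
    have h1 : π y = 1 := (hd.ker y).2 (hZ y h)
    rw [h1] at hy
    exact D.t_ne (isConj_one_left.1 hy)
  by_cases hin : ∃ k, α = MulAut.conj k
  · obtain ⟨k, rfl⟩ := hin
    obtain ⟨h3, h4⟩ := bar_invol hd hZ hαα hα1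
    rcases D.F.cover _ (orderOf_two h3 h4) with h | h
    · obtain ⟨g, hg⟩ := isConj_iff.1 h
      obtain ⟨n, hn, -⟩ := D.exists_n
      obtain ⟨g, rfl⟩ := hd.surj g
      obtain ⟨n, rfl⟩ := hd.surj n
      have hti : t⁻¹ = t := inv_eq_of_mul_eq_one_left D.tt
      refine ⟨g * n⁻¹ * g⁻¹, key _ ?_⟩
      have h5 : π ((MulAut.conj k (g * n⁻¹ * g⁻¹))⁻¹ * (g * n⁻¹ * g⁻¹)) = π g * (t * v 0) * (π g)⁻¹ := by
        show π ((k * (g * n⁻¹ * g⁻¹) * k⁻¹)⁻¹ * (g * n⁻¹ * g⁻¹)) = _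
        simp only [map_mul, map_inv]
        rw [← hg, ← hn]
        calc (π g * t * (π g)⁻¹ * (π g * (π n)⁻¹ * (π g)⁻¹) * (π g * t * (π g)⁻¹)⁻¹)⁻¹ *
              (π g * (π n)⁻¹ * (π g)⁻¹) = π g * (t * (π n * t⁻¹ * (π n)⁻¹)) * (π g)⁻¹ := by group
          _ = _ := by rw [hti]
      rw [h5]
      have h6 := D.isConj_zv 1 0
      rw [zp_one] at h6
      exact h6.trans (isConj_iff.2 ⟨π g, rfl⟩)
    · have hkc : k * k = c := sq_u hd D h
      obtain ⟨Y, -, hYc, x, hx, hxt, k0, hk0⟩ := four' hd D hkc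
      refine ⟨k0⁻¹, key _ ?_⟩
      have h5 : (MulAut.conj k k0⁻¹)⁻¹ * k0⁻¹ = x⁻¹ := by
        show (k * k0⁻¹ * k⁻¹)⁻¹ * k0⁻¹ = x⁻¹
        calc (k * k0⁻¹ * k⁻¹)⁻¹ * k0⁻¹ = k * (k0 * k * k0⁻¹)⁻¹ := by group
          _ = k * (k * x)⁻¹ := by rw [hk0]
          _ = k * (x * k)⁻¹ := by rw [hYc x hx]
          _ = x⁻¹ := by group
      rw [h5, inv_eq_of_mul_eq_one_left (sq_t hd D hxt)]
      exact hxt
  · push Not at hin
    obtain ⟨y, w, h1, h2, h3⟩ := aut_out' hd D (map_c hd hZ α) hαα hin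
    refine ⟨w, key _ ?_⟩
    have h4 : (α w)⁻¹ * w = w⁻¹ * (y * y) * w := by
      rw [h3, mul_inv_rev, inv_eq_of_mul_eq_one_left (sq_t hd D h2)]
    rw [h4]
    refine h2.trans (isConj_iff.2 ⟨(π w)⁻¹, ?_⟩)
    rw [inv_inv, map_mul π (w⁻¹ * (y * y)) w, map_mul π w⁻¹ (y * y), map_inv]

omit [Group L] hd D hZ in
/-- **(P1) and (P2) for `2.J₂`.** -/
theorem main {L : Type*} [Group L] [Finite L] (hp : commutator L = ⊤) (h2 : Nat.card ↥(center L) = 2)
    (hJ : Cfsg.Spor.IsoJ2 (L ⧸ center L)) : PairFree L ∧ SqDiff L := by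
  obtain ⟨c, hc1, -⟩ := (Nat.card_eq_two_iff' (1 : center L)).1 h2
  have hc1' : (c : L) ≠ 1 := fun h => hc1 (Subtype.ext h)
  obtain ⟨π, hd⟩ := Row.exists_dbl hp h2 hJ c.2 hc1'
  obtain ⟨t, u, Q, v, ρ, D⟩ := Cfsg.Agent.KFacts.J2.Basic.exists_dat
  have hfin : Finite Cfsg.Spor.J2 :=
    Nat.finite_of_card_ne_zero (by rw [Cfsg.Agent.S1619.result.2.2.2]; norm_num)
  have hZ : ∀ x ∈ center L, x = 1 ∨ x = (c : L) := fun x hx => (Row.mem_center_iff_of_card h2 c.2 hc1' x).1 hx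
  exact ⟨pairFree hd D hZ, sqDiff hd D hZ⟩

end Cfsg.Agent.OddHalf.D9.J2.PFacts
end

-- part: OddHalf/D4/M22/Main
section
/-!
# The covers of `M22`: (P1) and (P2)

`K` a perfect group with `K / Z(K) ≅ M22` (no other hypothesis on `Z(K)`).

* `pairFree` : (P1) `PairFree K`;
* `sqDiff` : (P2) `SqDiff K`.
-/

set_option autoImplicit false

namespace Cfsg.Agent.OddHalf.D4.M22.Main

open Cfsg Subgroup Cfsg.Agent.J4Type.Aut22 Cfsg.Agent.OddHalf.D4.M22.Inv
open Cfsg.Agent.OddHalf.D4.EvenCyc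

section Gen

variable {K X : Type*} [Group K] [Group X] {π : K →* X}

theorem mem_center_of_map (hk : π.ker = center K) {x : K} (h : π x = 1) : x ∈ center K := by
  rw [← hk]
  exact h

theorem comm_of_center {u : K} (h : u ∈ center K) (x : K) : u * x = x * u :=
  (mem_center_iff.1 h x).symm

/-- an automorphism fixing `p` and `q` modulo the centre fixes `[p, q]` -/
theorem fix_comm (hk : π.ker = center K) (α : MulAut K) {p q : K} (hp : π (α p) = π p)
    (hq : π (α q) = π q) : α (p * q * p⁻¹ * q⁻¹) = p * q * p⁻¹ * q⁻¹ := by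
  have hu : p⁻¹ * α p ∈ center K := mem_center_of_map hk (by rw [map_mul, map_inv, hp, inv_mul_cancel])
  have hv : q⁻¹ * α q ∈ center K := mem_center_of_map hk (by rw [map_mul, map_inv, hq, inv_mul_cancel])
  set u := p⁻¹ * α p with hud
  set v := q⁻¹ * α q with hvd
  have ep : α p = p * u := by rw [hud]; group
  have eq : α q = q * v := by rw [hvd]; group
  have cu := comm_of_center hu
  have cv := comm_of_center hv
  rw [map_mul, map_mul, map_mul, map_inv, map_inv, ep, eq]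
  calc p * u * (q * v) * (p * u)⁻¹ * (q * v)⁻¹
      = p * (u * q) * (v * u⁻¹) * p⁻¹ * (q * v)⁻¹ := by group
    _ = p * (q * u) * (v * u⁻¹) * p⁻¹ * (q * v)⁻¹ := by rw [cu]
    _ = p * q * (u * v) * u⁻¹ * p⁻¹ * (q * v)⁻¹ := by group
    _ = p * q * (v * u) * u⁻¹ * p⁻¹ * (q * v)⁻¹ := by rw [cu]
    _ = p * q * (v * p⁻¹) * (q * v)⁻¹ := by group
    _ = p * q * (p⁻¹ * v) * (q * v)⁻¹ := by rw [cv]
    _ = p * q * p⁻¹ * q⁻¹ := by group

/-- an automorphism trivial modulo the centre of a perfect group is trivial -/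
theorem eq_one (hk : π.ker = center K) (hK : commutator K = ⊤) {α : MulAut K}
    (h : ∀ x, π (α x) = π x) : α = 1 := by
  have h1 : commutator K ≤ MonoidHom.eqLocus (α : K →* K) (MonoidHom.id K) := by
    rw [commutator_def, commutator_le]
    intro p _ q _
    exact fix_comm hk α (h p) (h q)
  rw [hK] at h1
  ext x
  exact h1 (mem_top x)

end Gen

variable {K : Type*} [Group K] {π : K →* Spor.M22}

/-- `g` induces on `M22` what `α` induces modulo the centre -/
def Ind (π : K →* Spor.M22) (α : MulAut K) (g : Equiv.Perm GolayPt) : Prop :=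
  g ∈ D22 ∧ ∀ x, (π (α x) : Equiv.Perm GolayPt) = g * π x * g⁻¹

theorem exists_ind (hπ : Function.Surjective π) (hk : π.ker = center K) (α : MulAut K) :
    ∃ g, Ind π α g := by
  have hk' : π.ker.map ((α : MulAut K) : K →* K) = π.ker := by
    rw [hk]
    ext x
    rw [Subgroup.mem_map]
    constructor
    · rintro ⟨y, hy, rfl⟩
      rw [mem_center_iff] at hy ⊢
      intro w
      obtain ⟨w, rfl⟩ := α.surjective w
      change α w * α y = α y * α w
      rw [← map_mul, ← map_mul, hy]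
    · intro hx
      obtain ⟨y, rfl⟩ := α.surjective x
      refine ⟨y, ?_, rfl⟩
      rw [mem_center_iff] at hx ⊢
      intro w
      apply α.injective
      rw [map_mul, map_mul, hx]
  let e := QuotientGroup.quotientKerEquivOfSurjective π hπ
  let a := QuotientGroup.congr π.ker π.ker α hk'
  let β : Spor.M22 ≃* Spor.M22 := (e.symm.trans a).trans e
  have hβ : ∀ m : K, β (π m) = π (α m) := by
    intro m
    have h1 : e.symm (π m) = QuotientGroup.mk m := by
      rw [MulEquiv.symm_apply_eq]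
      rfl
    change e (a (e.symm (π m))) = _
    rw [h1]
    rfl
  obtain ⟨g, hg, hgm⟩ := exists_conj β
  refine ⟨g, hg, fun m => ?_⟩
  rw [← hβ, hgm]

theorem Ind.unique (hπ : Function.Surjective π) {α : MulAut K} {g g' : Equiv.Perm GolayPt}
    (h : Ind π α g) (h' : Ind π α g') : g = g' := by
  have h1 : g'⁻¹ * g = 1 := by
    apply eq_one_of_centralizes (mul_mem (inv_mem h'.1) h.1)
    intro y
    obtain ⟨m, rfl⟩ := hπ y
    have h2 := h.2 m
    rw [h'.2 m] at h2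
    have h3 : g'⁻¹ * (g' * (π m : Equiv.Perm GolayPt) * g'⁻¹) * g' = π m := by group
    rw [h2] at h3
    calc g'⁻¹ * g * (π m : Equiv.Perm GolayPt) * (g'⁻¹ * g)⁻¹
        = g'⁻¹ * (g * (π m : Equiv.Perm GolayPt) * g⁻¹) * g' := by group
      _ = π m := h3
  rw [inv_mul_eq_one] at h1
  exact h1.symm

theorem Ind.mul {α β : MulAut K} {g h : Equiv.Perm GolayPt} (hc : Ind π α g) (hd : Ind π β h) :
    Ind π (α * β) (g * h) := by
  refine ⟨mul_mem hc.1 hd.1, fun m => ?_⟩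
  rw [MulAut.mul_apply, hc.2, hd.2]
  group

theorem Ind.one : Ind π (1 : MulAut K) 1 := ⟨D22.one_mem, fun m => by
  rw [MulAut.one_apply, one_mul, inv_one, mul_one]⟩

theorem Ind.conj (k : K) : Ind π (MulAut.conj k) (π k) := by
  refine ⟨M22_le_D22 (π k).2, fun n => ?_⟩
  rw [MulAut.conj_apply, map_mul, map_mul, map_inv]
  rfl

theorem Ind.eq_one (hk : π.ker = center K) (hK : commutator K = ⊤) {α : MulAut K}
    (h : Ind π α 1) : α = 1 := Main.eq_one hk hK fun x => by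
  apply Subtype.ext
  rw [h.2 x, one_mul, inv_one, mul_one]

/-- `π (α x) = π x` if `π x` commutes with `g` -/
theorem Ind.fix {α : MulAut K} {g : Equiv.Perm GolayPt} (h : Ind π α g) {x : K}
    (hx : (π x : Equiv.Perm GolayPt) * g = g * π x) : π (α x) = π x := by
  apply Subtype.ext
  rw [h.2 x, ← hx, mul_inv_cancel_right]

/-- an automorphism fixing `x` is given by an element commuting with `π x` -/
theorem Ind.comm {α : MulAut K} {g : Equiv.Perm GolayPt} (h : Ind π α g) {x : K}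
    (hx : α x = x) : g * (π x : Equiv.Perm GolayPt) = π x * g := by
  have h1 := h.2 x
  rw [hx] at h1
  calc g * (π x : Equiv.Perm GolayPt) = (g * π x * g⁻¹) * g := by group
    _ = π x * g := by rw [← h1]

/-- the key step of (P1) -/
theorem Ind.cen (hπ : Function.Surjective π) (hk : π.ker = center K) {α β : MulAut K}
    {a b : Equiv.Perm GolayPt} (ha : Ind π α a) (hb : Ind π β b) (h2 : a * a = 1) (h1 : a ≠ 1)
    (hM : a ∈ Spor.M22 → b ∈ Spor.M22) (hfix : ∀ x, α x = x → β x = x) : b = 1 ∨ b = a := by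
  refine (both ha.1 h2 h1).1 b hb.1 hM ?_
  intro p hp q hq hpa hqa
  obtain ⟨p', hp'⟩ := hπ ⟨p, hp⟩
  obtain ⟨q', hq'⟩ := hπ ⟨q, hq⟩
  have ep : (π p' : Equiv.Perm GolayPt) = p := congrArg Subtype.val hp'
  have eq : (π q' : Equiv.Perm GolayPt) = q := congrArg Subtype.val hq'
  have h3 := fix_comm hk α (ha.fix (x := p') (by rw [ep]; exact hpa))
    (ha.fix (x := q') (by rw [eq]; exact hqa))
  have h4 := hb.comm (hfix _ h3)
  have h5 : (π (p' * q' * p'⁻¹ * q'⁻¹) : Equiv.Perm GolayPt) = p * q * p⁻¹ * q⁻¹ := by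
    rw [map_mul, map_mul, map_mul, map_inv, map_inv]
    change (π p' : Equiv.Perm GolayPt) * π q' * (π p' : Equiv.Perm GolayPt)⁻¹ *
      (π q' : Equiv.Perm GolayPt)⁻¹ = _
    rw [ep, eq]
  rwa [h5] at h4

/-- **(P1)** -/
theorem pairFree_aux (hπ : Function.Surjective π) (hk : π.ker = center K)
    (hK : commutator K = ⊤) : PairFree K := by
  intro α β hα hβ hcomm hα1 hβ1 hne hfix hfix'
  obtain ⟨a, ha⟩ := exists_ind hπ hk α
  obtain ⟨b, hb⟩ := exists_ind hπ hk β
  have hab := ha.mul hb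
  have one_of : ∀ {γ : MulAut K} {g : Equiv.Perm GolayPt}, Ind π γ g → γ * γ = 1 → g * g = 1 :=
    fun h h' => ((h' ▸ h.mul h : Ind π 1 _)).unique hπ Ind.one
  have ne_of : ∀ {γ : MulAut K} {g : Equiv.Perm GolayPt}, Ind π γ g → γ ≠ 1 → g ≠ 1 :=
    fun h h' e => h' (Ind.eq_one hk hK (e ▸ h))
  have eq_of : ∀ {γ δ : MulAut K} {g : Equiv.Perm GolayPt}, Ind π γ g → Ind π δ g → γ * γ = 1 →
      δ = γ := by
    intro γ δ g h h' h2
    have h3 : Ind π (γ * δ) 1 := by
      have := h.mul h'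
      rwa [one_of h h2] at this
    have h4 := h3.eq_one hk hK
    calc δ = (γ * γ) * δ := by rw [h2, one_mul]
      _ = γ * (γ * δ) := by rw [mul_assoc]
      _ = γ := by rw [h4, mul_one]
  have hαβ : (α * β) * (α * β) = 1 := by
    calc (α * β) * (α * β) = α * (β * α) * β := by group
      _ = α * (α * β) * β := by rw [hcomm]
      _ = (α * α) * (β * β) := by group
      _ = 1 := by rw [hα, hβ, one_mul]
  have hαβ1 : α * β ≠ 1 := by
    intro h
    apply hne
    calc α = α * (β * β) := by rw [hβ, mul_one]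
      _ = (α * β) * β := by rw [mul_assoc]
      _ = β := by rw [h, one_mul]
  have hb1 := ne_of hb hβ1
  by_cases h1 : a ∈ Spor.M22 → b ∈ Spor.M22
  · rcases ha.cen hπ hk hb (one_of ha hα) (ne_of ha hα1) h1 hfix with h | h
    · exact hb1 h
    · exact hne (eq_of ha (h ▸ hb) hα).symm
  · rw [Classical.not_imp] at h1
    have h2 : a * b ∈ Spor.M22 → b ∈ Spor.M22 := by
      intro h3
      have := Spor.M22.mul_mem (Spor.M22.inv_mem h1.1) h3
      rwa [inv_mul_cancel_left] at this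
    rcases hab.cen hπ hk hb (one_of hab hαβ) (ne_of hab hαβ1) h2 (fun x hx => hfix' x hx) with h | h
    · exact hb1 h
    · apply ne_of ha hα1
      calc a = (a * b) * b⁻¹ := by group
        _ = 1 := by rw [← h, mul_inv_cancel]

/-- **(P2)** -/
theorem sqDiff_aux (hπ : Function.Surjective π) (hk : π.ker = center K)
    (hK : commutator K = ⊤) : SqDiff K := by
  intro α hα hα1
  obtain ⟨γ, hγ⟩ := exists_ind hπ hk α
  have h2 : γ * γ = 1 := (hα ▸ hγ.mul hγ : Ind π 1 _).unique hπ Ind.one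
  have h1 : γ ≠ 1 := fun e => hα1 (Ind.eq_one hk hK (e ▸ hγ))
  obtain ⟨s, hs, p, hp, q, hq, p', hp', q', hq', hss, hps, hqs, hp's, hq's, ht, htn⟩ :=
    (both hγ.1 h2 h1).2
  obtain ⟨S, hS⟩ := hπ ⟨s, hs⟩
  obtain ⟨P, hP⟩ := hπ ⟨p, hp⟩
  obtain ⟨Q, hQ⟩ := hπ ⟨q, hq⟩
  obtain ⟨P', hP'⟩ := hπ ⟨p', hp'⟩
  obtain ⟨Q', hQ'⟩ := hπ ⟨q', hq'⟩
  have eS : (π S : Equiv.Perm GolayPt) = s := congrArg Subtype.val hS
  have eP : (π P : Equiv.Perm GolayPt) = p := congrArg Subtype.val hP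
  have eQ : (π Q : Equiv.Perm GolayPt) = q := congrArg Subtype.val hQ
  have eP' : (π P' : Equiv.Perm GolayPt) = p' := congrArg Subtype.val hP'
  have eQ' : (π Q' : Equiv.Perm GolayPt) = q' := congrArg Subtype.val hQ'
  -- `β`
  obtain ⟨β, hβ⟩ : ∃ β : MulAut K, β = α * MulAut.conj S := ⟨_, rfl⟩
  have hβi : Ind π β (γ * s) := by
    rw [← eS, hβ]
    exact hγ.mul (Ind.conj S)
  have hSS : S * S ∈ center K := by
    apply mem_center_of_map hk
    apply Subtype.ext
    rw [map_mul]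
    change (π S : Equiv.Perm GolayPt) * π S = 1
    rw [eS, hss]
  have hcomm22 : ∀ (A B : K), ((π (A * B * A⁻¹ * B⁻¹) : Spor.M22) : Equiv.Perm GolayPt) =
      (π A : Equiv.Perm GolayPt) * π B * (π A : Equiv.Perm GolayPt)⁻¹ * (π B : Equiv.Perm GolayPt)⁻¹ := by
    intro A B
    rw [map_mul, map_mul, map_mul, map_inv, map_inv]
    rfl
  obtain ⟨c, hc⟩ : ∃ c, c = P * Q * P⁻¹ * Q⁻¹ := ⟨_, rfl⟩
  have hβc : β c = c := by
    rw [hc]
    exact fix_comm hk β (hβi.fix (x := P) (by rw [eP]; exact hps))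
      (hβi.fix (x := Q) (by rw [eQ]; exact hqs))
  have ec : (π c : Equiv.Perm GolayPt) = p * q * p⁻¹ * q⁻¹ := by
    rw [hc, hcomm22, eP, eQ]
  -- `S` commutes with `c⁻¹ S c`
  have hSr : S * (c⁻¹ * S * c) = (c⁻¹ * S * c) * S := by
    have h3 : MulAut.conj S (P' * Q' * P'⁻¹ * Q'⁻¹) = P' * Q' * P'⁻¹ * Q'⁻¹ :=
      fix_comm hk (MulAut.conj S)
        ((Ind.conj S).fix (x := P') (by rw [eP', eS]; exact hp's))
        ((Ind.conj S).fix (x := Q') (by rw [eQ', eS]; exact hq's))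
    rw [MulAut.conj_apply] at h3
    have h4 : (P' * Q' * P'⁻¹ * Q'⁻¹)⁻¹ * (c⁻¹ * S * c) ∈ center K := by
      apply mem_center_of_map hk
      rw [map_mul, map_inv, inv_mul_eq_one]
      apply Subtype.ext
      rw [hcomm22, eP', eQ', ← ht, ← ec, ← eS, map_mul, map_mul, map_inv]
      rfl
    generalize P' * Q' * P'⁻¹ * Q'⁻¹ = w at h3 h4
    obtain ⟨u, hu⟩ : ∃ u, u = w⁻¹ * (c⁻¹ * S * c) := ⟨_, rfl⟩
    rw [← hu] at h4
    have e5 : c⁻¹ * S * c = w * u := by rw [hu]; group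
    have cu := comm_of_center h4
    have e6 : S * w = w * S := by
      calc S * w = (S * w * S⁻¹) * S := by group
        _ = w * S := by rw [h3]
    rw [e5]
    calc S * (w * u) = S * w * u := by group
      _ = w * (S * u) := by rw [e6, mul_assoc]
      _ = w * u * S := by rw [← cu S, mul_assoc]
  -- `t = β S`
  have hαc : α c = β S⁻¹ * c * β S := by
    have h3 : α c = β (S⁻¹ * c * S) := by
      rw [hβ, MulAut.mul_apply, MulAut.conj_apply]
      congr 1
      group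
    rw [h3, map_mul, map_mul, hβc]
  obtain ⟨t, htdef⟩ : ∃ t, t = β S := ⟨_, rfl⟩
  have ht' : β S⁻¹ = t⁻¹ := by rw [map_inv, htdef]
  rw [ht', ← htdef] at hαc
  have htt : t * t ∈ center K := by
    have h3 : t * t = β (S * S) := by rw [map_mul, htdef]
    rw [h3, mem_center_iff]
    intro w
    obtain ⟨w, rfl⟩ := β.surjective w
    rw [← map_mul, ← map_mul, mem_center_iff.1 hSS w]
  have htr : t * (c⁻¹ * t * c) = (c⁻¹ * t * c) * t := by
    have h3 := congrArg β hSr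
    simp only [map_mul, map_inv, hβc] at h3
    rw [← htdef] at h3
    exact h3
  have hy : (α c)⁻¹ * c = t⁻¹ * (c⁻¹ * t * c) := by
    rw [hαc]; group
  refine ⟨c, ?_, ?_⟩
  · -- not central
    intro hcen
    rw [← hk, MonoidHom.mem_ker, map_mul, map_inv, inv_mul_eq_one] at hcen
    have h3 : γ * (p * q * p⁻¹ * q⁻¹) * γ⁻¹ = p * q * p⁻¹ * q⁻¹ := by
      rw [← ec, ← hγ.2 c, hcen]
    apply htn
    have h4 : (p * q * p⁻¹ * q⁻¹) * (γ * s) = (γ * s) * (p * q * p⁻¹ * q⁻¹) := by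
      have h5 := hβi.comm hβc
      rw [ec] at h5
      exact h5.symm
    generalize p * q * p⁻¹ * q⁻¹ = d at h3 h4
    have h5 : γ * d = d * γ := by
      calc γ * d = (γ * d * γ⁻¹) * γ := by group
        _ = d * γ := by rw [h3]
    have h6 : γ * (d * s) = γ * (s * d) := by
      calc γ * (d * s) = (γ * d) * s := by group
        _ = d * (γ * s) := by rw [h5, mul_assoc]
        _ = γ * (s * d) := by rw [h4, mul_assoc]
    have h7 : d * s = s * d := mul_left_cancel h6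
    calc d⁻¹ * s * d = d⁻¹ * (s * d) := by group
      _ = s := by rw [← h7]; group
  · rw [hy]
    obtain ⟨r, hr⟩ : ∃ r, r = c⁻¹ * t * c := ⟨_, rfl⟩
    rw [← hr] at htr ⊢
    have hrr : r * r = t * t := by
      have h3 := comm_of_center htt c
      calc r * r = c⁻¹ * (t * t * c) := by rw [hr]; group
        _ = c⁻¹ * (c * (t * t)) := by rw [h3]
        _ = t * t := by group
    have h8 : r * t⁻¹ = t⁻¹ * r := by
      calc r * t⁻¹ = t⁻¹ * (t * r) * t⁻¹ := by group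
        _ = t⁻¹ * (r * t) * t⁻¹ := by rw [htr]
        _ = t⁻¹ * r := by group
    calc t⁻¹ * r * (t⁻¹ * r) = t⁻¹ * (r * t⁻¹) * r := by group
      _ = t⁻¹ * (t⁻¹ * r) * r := by rw [h8]
      _ = t⁻¹ * t⁻¹ * (r * r) := by group
      _ = 1 := by rw [hrr]; group

/-- the map onto `M22` -/
theorem exists_map {K : Type*} [Group K] (e : Nonempty (K ⧸ center K ≃* Spor.M22)) :
    ∃ π : K →* Spor.M22, Function.Surjective π ∧ π.ker = center K := by
  obtain ⟨e⟩ := e
  refine ⟨e.toMonoidHom.comp (QuotientGroup.mk' (center K)),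
    e.surjective.comp (QuotientGroup.mk'_surjective _), ?_⟩
  ext x
  rw [MonoidHom.mem_ker, MonoidHom.comp_apply]
  change e (QuotientGroup.mk' (center K) x) = 1 ↔ _
  rw [map_eq_one_iff e e.injective, QuotientGroup.mk'_apply, QuotientGroup.eq_one_iff]

/-- **(P1) for the perfect central extensions of `M22`.** -/
theorem pairFree {K : Type*} [Group K] (hK : commutator K = ⊤)
    (e : Nonempty (K ⧸ center K ≃* Spor.M22)) : PairFree K := by
  obtain ⟨π, hπ, hk⟩ := exists_map e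
  exact pairFree_aux hπ hk hK

/-- **(P2) for the perfect central extensions of `M22`.** -/
theorem sqDiff {K : Type*} [Group K] (hK : commutator K = ⊤)
    (e : Nonempty (K ⧸ center K ≃* Spor.M22)) : SqDiff K := by
  obtain ⟨π, hπ, hk⟩ := exists_map e
  exact sqDiff_aux hπ hk hK

end Cfsg.Agent.OddHalf.D4.M22.Main
end

-- part: OddHalf/D9/GamE6Inst
section
-- merged: Cfsg.Agent.OddHalf.D9.GamE6
section

/-!
# `¬ Tied E` for `E = ²E₆(2)` (helper919)

`E` a group with a class `R` of root involutions (`RootFacts`, `Key.Extra`). Every involution of `E` commutes with an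
opposite pair of root involutions (`op`); a tied pair centralises every opposite pair commuting with one of its members,
hence gives a tied pair of `PSU 6 F 2`.
-/

set_option autoImplicit false
set_option linter.unusedSectionVars false

namespace Cfsg.Agent.OddHalf.D9.GamE6

open Cfsg Cfsg.Agent.LieClassical.HermBasic Cfsg.Agent.R01.PSUSix Cfsg.Agent.BabyU.RootCfg
open Cfsg.Agent.ClassicalGeometry.UnitTransv
open Cfsg.Agent.ClassicalGeometry.UnitAutBasic (tau pr pr_surjective)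
open Cfsg.Agent.SporadicStructure.UnitTwo
open Cfsg.Agent.R01.InvForm Cfsg.Agent.BabyU.Key

/-! ### Unitary preliminaries -/

section Unitary

variable {F : Type*} [Field F] [Fintype F] (hF : Fintype.card F = 2 ^ 2)
include hF

/-- an isotropic vector is in a frame of length two -/
theorem exists_fr2 {u : Fin 6 → F} (u0 : u ≠ 0) (uu : hermForm 6 F 2 u u = 0) : ∃ v, Fr2 u v := by
  have hS := fr3_std (F := F) hF
  obtain ⟨g, c, hc, hg⟩ := exists_map hF _ u hS.u_ne u0 hS.uu uu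
  have h2 := Fr3_act hF hS g
  have h3 := Fr3_smul hF h2 (inv_ne_zero hc) one_ne_zero one_ne_zero
  rw [hg, smul_smul, inv_mul_cancel₀ hc, one_smul] at h3
  exact ⟨_, h3.fr2⟩

/-- transitivity on frames of length two, up to scalars -/
theorem trans_fr2 {u v : Fin 6 → F} (hf : Fr2 u v) :
    ∃ (g : SU 6 F 2) (a b : F), a ≠ 0 ∧ b ≠ 0 ∧ act g u = a • ![1, 1, 0, 0, 0, 0] ∧
      act g v = b • ![0, 0, 1, 1, 0, 0] := by
  have hS := fr3_std (F := F) hF
  obtain ⟨g1, a, ha, hg1⟩ := exists_map hF u _ hf.u_ne hS.u_ne hf.uu hS.uu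
  have k1 : hermForm 6 F 2 (act g1 v) (act g1 v) = 0 := by rw [herm_act, hf.vv]
  have k2 : hermForm 6 F 2 (act g1 v) ![1, 1, 0, 0, 0, 0] = 0 := by
    have h3 : hermForm 6 F 2 (act g1 v) (act g1 u) = 0 := by
      rw [herm_act]; exact herm_eq_zero_swap hF hf.uv
    rw [hg1, herm_smul_right] at h3
    exact (mul_eq_zero.1 h3).resolve_left (pow_ne_zero _ ha)
  have k3 : ¬ ∃ c : F, act g1 v = c • (![1, 1, 0, 0, 0, 0] : Fin 6 → F) := by
    rintro ⟨c, hc⟩
    apply hf.not_mul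
    refine ⟨c * a⁻¹, act_injective g1 ?_⟩
    rw [hc, act_smul, hg1, smul_smul, mul_assoc, inv_mul_cancel₀ ha, mul_one]
  obtain ⟨g2, hg2, b, hb, hg2v⟩ := trans_perp hF hS.u_ne k1 hS.vv k2
    (herm_eq_zero_swap hF hS.uv) k3 hS.fr2.not_mul hS.uu
  have hg2u : act g2 ![1, 1, 0, 0, 0, 0] = ![1, 1, 0, 0, 0, 0] := act_of_mem_Ru hF hg2
  exact ⟨g2 * g1, a, b, ha, hb, by rw [act_mul, hg1, act_smul, hg2u], by rw [act_mul, hg2v]⟩

/-- two isotropic vectors orthogonal to a frame of length two, not orthogonal to each other -/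
theorem exists_hyp {u v : Fin 6 → F} (hf : Fr2 u v) :
    ∃ p p' : Fin 6 → F, p ≠ 0 ∧ p' ≠ 0 ∧ hermForm 6 F 2 p p = 0 ∧ hermForm 6 F 2 p' p' = 0 ∧
      hermForm 6 F 2 p u = 0 ∧ hermForm 6 F 2 p v = 0 ∧ hermForm 6 F 2 p' u = 0 ∧
      hermForm 6 F 2 p' v = 0 ∧ hermForm 6 F 2 p p' ≠ 0 := by
  have h2 := two_eq_zero hF
  obtain ⟨w, w', w1, w1', ww, w3, w3', wv, e1, e2⟩ := GamUSix.exists_w hF
  obtain ⟨g, a, b, ha, hb, hgu, hgv⟩ := trans_fr2 hF hf
  have key : ∀ y z : Fin 6 → F, hermForm 6 F 2 (act g⁻¹ y) z = hermForm 6 F 2 y (act g z) := by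
    intro y z
    rw [← herm_act g (act g⁻¹ y) z, act_act_inv]
  have inj : ∀ y : Fin 6 → F, y ≠ 0 → act g⁻¹ y ≠ 0 := by
    intro y hy h
    apply hy
    apply act_injective g⁻¹
    rw [h, act_zero]
  refine ⟨act g⁻¹ ![0, 0, 0, 0, 1, 1], act g⁻¹ ![0, 0, 0, 0, 1, w], ?_, ?_, ?_, ?_, ?_, ?_, ?_, ?_, ?_⟩
  · apply inj
    intro h
    have := congrFun h 4
    simp at this
  · apply inj
    intro h
    have := congrFun h 4
    simp at this
  · rw [herm_act, herm_def]
    simp only [Fin.sum_univ_succ, _root_.Fin.isValue, _root_.Matrix.cons_val_zero, _root_.ne_eq, _root_.OfNat.ofNat_ne_zero, _root_.not_false_eq_true, _root_.zero_pow, _root_.MulZeroClass.mul_zero, _root_.Matrix.cons_val_succ, _root_.one_pow, _root_.mul_one, _root_.Finset.univ_unique, _root_.Fin.default_eq_zero, _root_.Matrix.cons_val_fin_one, _root_.Finset.sum_const, _root_.Finset.card_singleton, _root_.one_smul, _root_.zero_add]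
    linear_combination h2
  · rw [herm_act, herm_def]
    simp only [Fin.sum_univ_succ, _root_.Fin.isValue, _root_.Matrix.cons_val_zero, _root_.ne_eq, _root_.OfNat.ofNat_ne_zero, _root_.not_false_eq_true, _root_.zero_pow, _root_.MulZeroClass.mul_zero, _root_.Matrix.cons_val_succ, _root_.one_pow, _root_.mul_one, _root_.Finset.univ_unique, _root_.Fin.default_eq_zero, _root_.Matrix.cons_val_fin_one, _root_.Finset.sum_const, _root_.Finset.card_singleton, _root_.one_smul, _root_.zero_add]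
    linear_combination h2 + w3
  · rw [key, hgu, herm_smul_right, herm_def]
    simp [Fin.sum_univ_succ]
  · rw [key, hgv, herm_smul_right, herm_def]
    simp only [Fin.sum_univ_succ, _root_.Nat.succ_eq_add_one, _root_.Nat.reduceAdd, _root_.Fin.isValue, _root_.Matrix.cons_val_zero, _root_.ne_eq, _root_.OfNat.ofNat_ne_zero, _root_.not_false_eq_true, _root_.zero_pow, _root_.MulZeroClass.mul_zero, _root_.Matrix.cons_val_succ, _root_.one_pow, _root_.mul_one, _root_.Finset.univ_unique, _root_.Fin.default_eq_zero, _root_.Matrix.cons_val_fin_one, _root_.Finset.sum_const_zero, _root_.add_zero]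
  · rw [key, hgu, herm_smul_right, herm_def]
    simp [Fin.sum_univ_succ]
  · rw [key, hgv, herm_smul_right, herm_def]
    simp [Fin.sum_univ_succ]
  · rw [herm_act, herm_def]
    simp only [Fin.sum_univ_succ, _root_.Fin.isValue, _root_.Matrix.cons_val_zero, _root_.ne_eq, _root_.OfNat.ofNat_ne_zero, _root_.not_false_eq_true, _root_.zero_pow, _root_.MulZeroClass.mul_zero, _root_.Matrix.cons_val_succ, _root_.one_pow, _root_.mul_one, _root_.Finset.univ_unique, _root_.Fin.default_eq_zero, _root_.Matrix.cons_val_fin_one, _root_.one_mul, _root_.Finset.sum_const, _root_.Finset.card_singleton, _root_.one_smul, _root_.zero_add]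
    intro h
    apply w1
    have h3 : w ^ 2 = 1 := by linear_combination h - h2
    have h4 : w ^ 3 = w * w ^ 2 := by ring
    rw [w3, h3, mul_one] at h4
    exact h4.symm

end Unitary

/-! ### Opposite pairs commuting with an involution -/

section Op

variable {E : Type*} [Group E] {F : Type*} [Field F] [Fintype F]
variable {hF : Fintype.card F = 2 ^ 2} {R : Set E}

/-- some opposite pair commutes with `f` -/
def Op (R : Set E) (f : E) : Prop := ∃ c ∈ R, ∃ d ∈ R, Opp c d ∧ c * f = f * c ∧ d * f = f * d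

theorem Op.conj (hR : RootFacts hF R) {f : E} (h : Op R f) (g : E) : Op R (g * f * g⁻¹) := by
  obtain ⟨c, hc, d, hd, ho, h1, h2⟩ := h
  exact ⟨_, hR.conj c hc g, _, hR.conj d hd g, ho.conj g, conj_comm h1 g, conj_comm h2 g⟩

/-- the opposite pair from a frame of length two -/
theorem exists_pair (hR : RootFacts hF R) {p a : E}
    {ψ : Subgroup.centralizer ({p} : Set E) →* PSU 6 F 2} (C : ChartAt hF R p ψ) (ha : a ∈ R)
    (hpa : Opp p a) {u v : Fin 6 → F} (hf : Fr2 u v) :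
    ∃ c ∈ R, ∃ d ∈ R, Opp c d ∧ c * p = p * c ∧ d * p = p * d ∧
      ∀ q, q * a = a * q → (IsVec hF ψ q u ∨ IsVec hF ψ q v) → c * q = q * c ∧ d * q = q * d := by
  obtain ⟨x, y, x0, y0, xx, yy, xu, xv, yu, yv, hxy⟩ := exists_hyp hF hf
  obtain ⟨c, hc, ca, hcx⟩ := C.exists_root ha hpa x0 xx
  obtain ⟨d, hd, da, hdy⟩ := C.exists_root ha hpa y0 yy
  refine ⟨c, hc, d, hd, opp_of_not_comm hR hc hd hcx hdy hxy, mem_cent.1 hcx.2.2.1,
    mem_cent.1 hdy.2.2.1, fun q qa hq => ?_⟩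
  rcases hq with hq | hq
  · exact ⟨(C.comm_iff ha hpa hcx hq ca qa).2 xu, (C.comm_iff ha hpa hdy hq da qa).2 yu⟩
  · exact ⟨(C.comm_iff ha hpa hcx hq ca qa).2 xv, (C.comm_iff ha hpa hdy hq da qa).2 yv⟩

theorem op_of_mem (hR : RootFacts hF R) {p : E} (hp : p ∈ R) : Op R p := by
  obtain ⟨a, ha, hpa⟩ := hR.exists_opp' hp
  obtain ⟨ψ, C⟩ := hR.chart p hp
  obtain ⟨c, hc, d, hd, ho, cp, dp, -⟩ := exists_pair hR C ha hpa (fr3_std (F := F) hF).fr2
  exact ⟨c, hc, d, hd, ho, cp, dp⟩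

theorem op_of_sym (hR : RootFacts hF R) {p b a : E} (hp : p ∈ R) (hb : b ∈ R) (ha : a ∈ R)
    (hap : Opp a p) (hpb : p * b = b * p) (hab : a * b = b * a) : Op R (p * b) := by
  have hpa : Opp p a := hap.symm (hR.sq a ha) (hR.sq p hp)
  obtain ⟨ψ, C⟩ := hR.chart p hp
  obtain ⟨u, hu⟩ := C.exists_vec hR ha hpa hb hpb.symm hab.symm
  obtain ⟨v, hf⟩ := exists_fr2 hF hu.1 hu.2.1
  obtain ⟨c, hc, d, hd, ho, cp, dp, H⟩ := exists_pair hR C ha hpa hf
  obtain ⟨cb, db⟩ := H b hab.symm (Or.inl hu)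
  exact ⟨c, hc, d, hd, ho, (Commute.mul_right (show Commute c p from cp) (show Commute c b from cb)).eq,
    (Commute.mul_right (show Commute d p from dp) (show Commute d b from db)).eq⟩

theorem op_of_tri (hR : RootFacts hF R) {p q r : E} (h : Tri R p q r) : Op R (p * q * r) := by
  obtain ⟨a, ha, hap, haq, har⟩ := h.ex
  have hpa : Opp p a := hap.symm (hR.sq a ha) (hR.sq p h.pR)
  obtain ⟨ψ, C⟩ := hR.chart p h.pR
  obtain ⟨u, hu⟩ := C.exists_vec hR ha hpa h.qR h.pq.symm haq.symm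
  obtain ⟨v, hv⟩ := C.exists_vec hR ha hpa h.rR h.pr.symm har.symm
  have huv := (C.comm_iff ha hpa hu hv haq.symm har.symm).1 h.qr
  have hf : Fr2 u v := by
    refine ⟨hu.2.1, hv.2.1, huv, fun α β h3 => ?_⟩
    by_cases hα : α = 0
    · rw [hα, zero_smul, zero_add] at h3
      exact ⟨hα, (smul_eq_zero.1 h3).resolve_right hv.1⟩
    · exfalso
      apply h.qne
      have hβ : β ≠ 0 := by
        rintro rfl
        rw [zero_smul, add_zero] at h3
        exact hu.1 ((smul_eq_zero.1 h3).resolve_left hα)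
      refine C.eq_of_smul ha hpa hu hv haq.symm har.symm (c := β⁻¹ * α)
        (mul_ne_zero (inv_ne_zero hβ) hα) ?_
      have h4 : α • u = β • v := by
        have h5 : α • u + β • v + β • v = β • v := by rw [h3, zero_add]
        rwa [add_assoc, vadd_self hF, add_zero] at h5
      rw [mul_smul, h4, smul_smul, inv_mul_cancel₀ hβ, one_smul]
  obtain ⟨c, hc, d, hd, ho, cp, dp, H⟩ := exists_pair hR C ha hpa hf
  obtain ⟨cq, dq⟩ := H q haq.symm (Or.inl hu)
  obtain ⟨cr, dr⟩ := H r har.symm (Or.inr hv)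
  exact ⟨c, hc, d, hd, ho,
    (((show Commute c p from cp).mul_right (show Commute c q from cq)).mul_right
      (show Commute c r from cr)).eq,
    (((show Commute d p from dp).mul_right (show Commute d q from dq)).mul_right
      (show Commute d r from dr)).eq⟩

/-- an involution with a root involution opposite to its image (cf. `Key.types_of_opp`) -/
theorem op_of_opp (hR : RootFacts hF R) (X : Extra hF R) {f a : E} (ff : f * f = 1) (ha : a ∈ R)
    (h : Opp a (f * a * f)) : Op R f := by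
  have aa := hR.sq a ha
  have finv : f⁻¹ = f := inv_eq_of_mul_eq_one_left ff
  obtain ⟨a', ha'⟩ : ∃ a', f * a * f = a' := ⟨_, rfl⟩
  have haR : a' ∈ R := by
    rw [← ha']
    have := hR.conj a ha f
    rwa [finv] at this
  have aa' := hR.sq a' haR
  rw [ha'] at h
  have hbraid : a * a' * a = a' * a * a' := by
    have h8 : a * a' * a * (a' * a * a') = 1 := by
      rw [← h.2, pow_succ, pow_two]; group
    rw [eq_inv_of_mul_eq_one_left h8, mul_inv_rev, mul_inv_rev, hR.inv_eq ha, hR.inv_eq haR]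
    group
  obtain ⟨r0, hr0⟩ : ∃ r0, a * a' * a = r0 := ⟨_, rfl⟩
  have hrR : r0 ∈ R := by
    rw [← hr0]
    have := hR.conj a' haR a
    rwa [hR.inv_eq ha] at this
  have rr := hR.sq r0 hrR
  have fa : f * a' = a * f := by
    rw [← ha']
    calc f * (f * a * f) = (f * f) * a * f := by group
      _ = a * f := by rw [ff, one_mul]
  have fa' : f * a = a' * f := by
    rw [← ha', mul_assoc (f * a) f f, ff, mul_one]
  have fr : f * r0 = r0 * f := by
    calc f * r0 = f * (a' * a * a') := by rw [← hr0, hbraid]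
      _ = (f * a') * a * a' := by group
      _ = a * (f * a) * a' := by rw [fa]; group
      _ = a * a' * (f * a') := by rw [fa']; group
      _ = a * a' * a * f := by rw [fa]; group
      _ = r0 * f := by rw [hr0]
  obtain ⟨y, hy⟩ : ∃ y, f * r0 = y := ⟨_, rfl⟩
  have yr : y * r0 = r0 * y := by
    rw [← hy]
    calc f * r0 * r0 = r0 * f * r0 := by rw [fr]
      _ = r0 * (f * r0) := by group
  have ya : y * a = a * y := by
    rw [← hy]
    calc f * r0 * a = f * (a * a' * a) * a := by rw [hr0]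
      _ = f * (a * a') * (a * a) := by group
      _ = f * (1 * (a * a')) := by rw [aa, mul_one, one_mul]
      _ = f * ((a' * a') * (a * a')) := by rw [aa']
      _ = f * a' * (a' * a * a') := by group
      _ = a * f * (a * a' * a) := by rw [fa, hbraid]
      _ = a * (f * r0) := by rw [hr0]; group
  have yy : y * y = 1 := by
    rw [← hy]
    calc f * r0 * (f * r0) = f * (r0 * f) * r0 := by group
      _ = f * (f * r0) * r0 := by rw [fr]
      _ = (f * f) * (r0 * r0) := by group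
      _ = 1 := by rw [ff, rr, mul_one]
  have fy : f = r0 * y := by
    rw [← yr, ← hy, mul_assoc, rr, mul_one]
  have hor : Opp a r0 := by
    have h1 : r0 * a = a * a' := by rw [← hr0, mul_assoc, aa, mul_one]
    have h2 : Opp r0 a := by
      refine ⟨?_, by rw [h1, h.2]⟩
      intro h3
      rw [h3, aa] at h1
      apply h.1
      rw [eq_inv_of_mul_eq_one_left h1.symm, hR.inv_eq haR]
    exact h2.symm rr aa
  have hra : Opp r0 a := hor.symm aa rr
  obtain ⟨ψ, C⟩ := hR.chart r0 hrR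
  set! Y : Subgroup.centralizer ({r0} : Set E) := ⟨y, mem_cent.2 yr⟩ with hY
  have hYY : Y * Y = 1 := Subtype.ext yy
  obtain ⟨g, hg, hgY⟩ := exists_lift_sq hF (x := ψ Y) (by rw [← map_mul, hYY, map_one])
  rcases inv_form_SU hF hg with h1 | ⟨u, uu, u0, h1⟩ | ⟨u, v, hfr, h1⟩ | ⟨u, v, w, hfr, h1⟩
  · have h2 := C.inj a ha hra Y ya (by rw [← hgY, h1, map_one])
    have h3 : y = 1 := congrArg Subtype.val h2
    rw [fy, h3, mul_one]
    exact op_of_mem hR hrR
  · obtain ⟨s, hs, sa, hsu⟩ := C.exists_root ha hra u0 uu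
    obtain ⟨-, -, ms, es⟩ := hsu
    have h2 : y = s := C.inj' ha hra (mem_cent.2 yr) ms ya sa (by
      rw [es, tau_eq_pr hF uu, ← h1, ← hgY])
    have hsr : r0 * s = s * r0 := (mem_cent.1 ms).symm
    rw [fy, h2]
    exact op_of_sym hR hrR hs ha hor hsr sa.symm
  · obtain ⟨s, hs, sa, hsu⟩ := C.exists_root ha hra hfr.u_ne hfr.uu
    obtain ⟨s', hs', sa', hsv⟩ := C.exists_root ha hra hfr.v_ne hfr.vv
    have hss := (C.comm_iff ha hra hsu hsv sa sa').2 hfr.uv
    have hne : s ≠ s' := by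
      rintro rfl
      obtain ⟨-, -, m, e⟩ := hsu
      obtain ⟨-, -, m', e'⟩ := hsv
      obtain ⟨c, -, hc⟩ := (tau_eq_iff hF (by norm_num) hfr.uu hfr.vv hfr.u_ne).1 (e.symm.trans e')
      exact hfr.not_mul ⟨c, hc⟩
    obtain ⟨-, -, ms, es⟩ := hsu
    obtain ⟨-, -, ms', es'⟩ := hsv
    have hcs : (s * s') * a = a * (s * s') :=
      (Commute.mul_left (show Commute s a from sa) (show Commute s' a from sa')).eq
    have h2 : y = s * s' := C.inj' ha hra (mem_cent.2 yr) (mul_mem ms ms') ya hcs (by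
      have h3 : (⟨s * s', mul_mem ms ms'⟩ : Subgroup.centralizer ({r0} : Set E)) = ⟨s, ms⟩ * ⟨s', ms'⟩ := rfl
      rw [h3, map_mul, es, es', tau_eq_pr hF hfr.uu, tau_eq_pr hF hfr.vv, ← map_mul, ← h1, ← hgY])
    rw [fy, h2, ← mul_assoc]
    exact op_of_tri hR ⟨hrR, hs, hs', (mem_cent.1 ms).symm, (mem_cent.1 ms').symm, hss, hne,
      a, ha, hor, sa.symm, sa'.symm⟩
  · obtain ⟨s, hs, sa, hsu⟩ := C.exists_root ha hra hfr.u_ne hfr.uu
    obtain ⟨s', hs', sa', hsv⟩ := C.exists_root ha hra hfr.v_ne hfr.vv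
    obtain ⟨s'', hs'', sa'', hsw⟩ := C.exists_root ha hra hfr.w_ne hfr.ww
    obtain ⟨p1, q1, r1, t1, p2, q2, r2, hq, ht, heq⟩ := X.quad
    obtain ⟨k, k1, k2, k3, k4⟩ := quad_conj hR X C hrR ha hor sa sa' sa'' hsu hsv hsw hfr hq
    obtain ⟨-, -, ms, es⟩ := hsu
    obtain ⟨-, -, ms', es'⟩ := hsv
    obtain ⟨-, -, ms'', es''⟩ := hsw
    have hcs : (s * s' * s'') * a = a * (s * s' * s'') :=
      (Commute.mul_left (Commute.mul_left (show Commute s a from sa) (show Commute s' a from sa'))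
        (show Commute s'' a from sa'')).eq
    have h2 : y = s * s' * s'' := C.inj' ha hra (mem_cent.2 yr) (mul_mem (mul_mem ms ms') ms'') ya hcs (by
      have h3 : (⟨s * s' * s'', mul_mem (mul_mem ms ms') ms''⟩ : Subgroup.centralizer ({r0} : Set E)) =
        ⟨s, ms⟩ * ⟨s', ms'⟩ * ⟨s'', ms''⟩ := rfl
      rw [h3, map_mul, map_mul, es, es', es'', tau_eq_pr hF hfr.uu, tau_eq_pr hF hfr.vv, tau_eq_pr hF hfr.ww,
        ← map_mul, ← map_mul, ← h1, ← hgY])
    have h3 : k * f * k⁻¹ = p2 * q2 * r2 := by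
      rw [← heq, ← k1, ← k2, ← k3, ← k4, fy, h2]
      group
    have h4 : Op R (k * f * k⁻¹) := by rw [h3]; exact op_of_tri hR ht
    have h5 := h4.conj hR k⁻¹
    have h6 : k⁻¹ * (k * f * k⁻¹) * k⁻¹⁻¹ = f := by group
    rwa [h6] at h5

/-- **every involution commutes with an opposite pair** -/
theorem op (hR : RootFacts hF R) (X : Extra hF R) {f : E} (ff : f * f = 1) (hf1 : f ≠ 1) : Op R f := by
  obtain ⟨r, hr, hfr⟩ := X.odd f ff
  obtain ⟨ψ, C⟩ := hR.chart r hr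
  have rr := hR.sq r hr
  by_cases hψ : ψ ⟨f, mem_cent.2 hfr⟩ = 1
  · by_cases hfr1 : f = r
    · rw [hfr1]; exact op_of_mem hR hr
    obtain ⟨a, ha, h | h⟩ := opp_of_map_eq hR X hr C hfr ff hf1 hψ
    · exact op_of_opp hR X ff ha h
    · have h1 : (f * r) * (f * r) = 1 := by
        calc (f * r) * (f * r) = f * (r * f) * r := by group
          _ = f * (f * r) * r := by rw [hfr]
          _ = (f * f) * (r * r) := by group
          _ = 1 := by rw [ff, rr, mul_one]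
      have h2 := op_of_opp hR X h1 ha h
      obtain ⟨g, hg⟩ := X.ker r hr ψ C ⟨f, mem_cent.2 hfr⟩ (Subtype.ext ff) hψ hf1 hfr1
      have h3 := h2.conj hR g⁻¹
      have h4 : g⁻¹ * (f * r) * g⁻¹⁻¹ = f := by
        have hg' : g * f * g⁻¹ = f * r := hg
        rw [← hg']; group
      rwa [h4] at h3
  · obtain ⟨a, ha, h⟩ := opp_of_map_ne hR hr C hfr ff hψ
    exact op_of_opp hR X ff ha h

/-- a tied involution centralises the opposite pairs -/
theorem comm_of_tied (hR : RootFacts hF R) {a b c d : E} (hb : b * b = 1) (hab : a * b = b * a)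
    (H : ∀ x : E, Odd (orderOf x) → x * a = a * x → x * b = b * x) (hc : c ∈ R) (hd : d ∈ R)
    (ho : Opp c d) (hca : c * a = a * c) (hda : d * a = a * d) : c * b = b * c ∧ d * b = b * d := by
  have cc := hR.sq c hc
  have dd := hR.sq d hd
  have odd3 : ∀ x : E, x ^ 3 = 1 → Odd (orderOf x) := fun x hx =>
    Odd.of_dvd_nat (by decide) (orderOf_dvd_of_pow_eq_one hx)
  obtain ⟨h, hh⟩ : ∃ h, c * d = h := ⟨_, rfl⟩
  have h3 : h ^ 3 = 1 := by rw [← hh]; exact ho.2
  have hne : h ≠ 1 := by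
    intro h1
    apply ho.1
    rw [← hh] at h1
    rw [eq_inv_of_mul_eq_one_left h1, hR.inv_eq hd]
  have hha : h * a = a * h := by
    rw [← hh]
    exact (Commute.mul_left (show Commute c a from hca) (show Commute d a from hda)).eq
  have hhb : h * b = b * h := H h (odd3 h h3) hha
  have binv : b⁻¹ = b := inv_eq_of_mul_eq_one_left hb
  obtain ⟨c', hc'⟩ : ∃ c', b * c * b = c' := ⟨_, rfl⟩
  have hcR : c' ∈ R := by
    rw [← hc']
    have := hR.conj c hc b
    rwa [binv] at this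
  have cc' := hR.sq c' hcR
  obtain ⟨y, hy⟩ : ∃ y, c * c' = y := ⟨_, rfl⟩
  have hya : y * a = a * y := by
    have k1 : Commute c a := hca
    have k2 : Commute b a := hab.symm
    have k3 : Commute c' a := by rw [← hc']; exact (k2.mul_left k1).mul_left k2
    rw [← hy]
    exact (k1.mul_left k3).eq
  -- `c h c = h⁻¹`
  have hch : c * h = h⁻¹ * c := by
    rw [← hh, mul_inv_rev, hR.inv_eq hc, hR.inv_eq hd, ← mul_assoc, cc, one_mul, mul_assoc, cc, mul_one]
  have hch' : c' * h = h⁻¹ * c' := by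
    have hib : h⁻¹ * b = b * h⁻¹ := (show Commute h b from hhb).inv_left.eq
    calc c' * h = b * c * (b * h) := by rw [← hc']; group
      _ = b * (c * h) * b := by rw [← hhb]; group
      _ = (b * h⁻¹) * c * b := by rw [hch]; group
      _ = h⁻¹ * (b * c * b) := by rw [← hib]; group
      _ = h⁻¹ * c' := by rw [hc']
  have hyh : Commute y h := by
    show y * h = h * y
    have hci : c * h⁻¹ = h * c := by
      have : h⁻¹ * c = c * h := hch.symm
      calc c * h⁻¹ = h * (h⁻¹ * c) * h⁻¹ := by group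
        _ = h * c := by rw [this]; group
    calc y * h = c * (c' * h) := by rw [← hy]; group
      _ = (c * h⁻¹) * c' := by rw [hch']; group
      _ = h * y := by rw [hci, ← hy]; group
  have hcd' : c' * d = y⁻¹ * h := by
    rw [← hy, ← hh, mul_inv_rev, hR.inv_eq hc, hR.inv_eq hcR]
    calc c' * d = c' * (c * c) * d := by rw [cc, mul_one]
      _ = c' * c * (c * d) := by group
  have h4 : y ^ 4 = 1 ∨ y ^ 3 = 1 := by rw [← hy]; exact hR.ord c hc c' hcR
  have h5 : (y⁻¹ * h) ^ 4 = 1 ∨ (y⁻¹ * h) ^ 3 = 1 := by rw [← hcd']; exact hR.ord c' hcR d hd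
  have hyi : Commute y⁻¹ h := hyh.inv_left
  rw [hyi.mul_pow, hyi.mul_pow, h3, mul_one, inv_pow, inv_pow] at h5
  have h43 : h ^ 4 = h := by rw [pow_succ, h3, one_mul]
  rw [h43] at h5
  have hy3 : y ^ 3 = 1 := by
    rcases h4 with h4 | h4
    · rcases h5 with h5 | h5
      · exfalso
        rw [h4, inv_one, one_mul] at h5
        exact hne h5
      · exact inv_eq_one.1 h5
    · exact h4
  have hyb : y * b = b * y := H y (odd3 y hy3) hya
  have hy1 : y = 1 := by
    have k1 : b * y * b = y⁻¹ := by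
      rw [← hy, mul_inv_rev, hR.inv_eq hc, hR.inv_eq hcR, ← hc']
      calc b * (c * (b * c * b)) * b = b * c * b * c * (b * b) := by group
        _ = b * c * b * c := by rw [hb, mul_one]
    have k2 : b * y * b = y := by rw [← hyb, mul_assoc, hb, mul_one]
    have k3 : y * y = 1 := by
      have : y = y⁻¹ := k2.symm.trans k1
      calc y * y = y * y⁻¹ := by rw [← this]
        _ = 1 := mul_inv_cancel y
    rw [pow_succ, pow_two, k3, one_mul] at hy3
    exact hy3
  have hcc : c' = c := by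
    rw [hy1] at hy
    calc c' = (c * c) * c' := by rw [cc, one_mul]
      _ = c * (c * c') := by group
      _ = c := by rw [hy, mul_one]
  have hcb : c * b = b * c := by
    calc c * b = c' * b := by rw [hcc]
      _ = b * c * (b * b) := by rw [← hc']; group
      _ = b * c := by rw [hb, mul_one]
  refine ⟨hcb, ?_⟩
  have hd' : d = c * h := by rw [← hh, ← mul_assoc, cc, one_mul]
  rw [hd']
  exact (Commute.mul_left (show Commute c b from hcb) (show Commute h b from hhb)).eq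

/-- **`²E₆(2)` has no tied pair** -/
theorem not_tied (hR : RootFacts hF R) (X : Extra hF R) : ¬ Gamma.Tied E := by
  rintro ⟨a, b, ha, hb, ha1, hb1, hne, hab, H⟩
  obtain ⟨c, hc, d, hd, ho, hca, hda⟩ := op hR X ha ha1
  obtain ⟨hcb, hdb⟩ := comm_of_tied hR hb hab (fun x hx h => (H x hx (Or.inl h)).2) hc hd ho hca hda
  obtain ⟨ψ, -⟩ := Cfsg.Agent.TwoESix.LeviHyp.chart_equiv hR hc hd ho
  apply GamUSix.not_tied hF
  apply Gamma.Tied.of_equiv ψ
  have mem : ∀ x : E, c * x = x * c → d * x = x * d → x ∈ Subgroup.centralizer ({c, d} : Set E) := by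
    intro x h1 h2
    rw [Subgroup.mem_centralizer_iff]
    rintro y (rfl | hy)
    · exact h1
    · rw [Set.mem_singleton_iff] at hy; rw [hy]; exact h2
  refine ⟨⟨a, mem a hca hda⟩, ⟨b, mem b hcb hdb⟩, Subtype.ext ha, Subtype.ext hb,
    fun h => ha1 (congrArg Subtype.val h), fun h => hb1 (congrArg Subtype.val h),
    fun h => hne (congrArg Subtype.val h), Subtype.ext hab, ?_⟩
  intro x hx hxw
  have hx' : Odd (orderOf (x : E)) := by rw [Subgroup.orderOf_coe]; exact hx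
  obtain ⟨h1, h2⟩ := H x hx' (by
    rcases hxw with h | h | h
    · exact Or.inl (congrArg Subtype.val h)
    · exact Or.inr (Or.inl (congrArg Subtype.val h))
    · exact Or.inr (Or.inr (congrArg Subtype.val h)))
  exact ⟨Subtype.ext h1, Subtype.ext h2⟩

end Op

end Cfsg.Agent.OddHalf.D9.GamE6

end

-- merged: Cfsg.Agent.OddHalf.D9.GamE6Inst
section

/-!
# `¬ Tied (twistedE6 K 2)`, `|K| = 4` (helper919)
-/

set_option autoImplicit false

namespace Cfsg.Agent.OddHalf.D9.GamE6Inst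

open Cfsg Cfsg.Lie Cfsg.Agent.BabyU Cfsg.Agent.BabyU.RootCfg Cfsg.Agent.BabyU.Key
open Cfsg.Agent.TwoESix

/-- the facts of `Key.Extra` for the root involutions of `²E₆(2)` -/
theorem extra {K : Type*} [Field K] [Fintype K] (hK : Fintype.card K = 4) {F' : Type*} [Field F']
    [Fintype F'] (hF' : Fintype.card F' = 2 ^ 2) : Extra hF' (rootClass K) where
  opp_trans := fun r hr s hs r' hr' s' hs' h h' =>
    (ExtTwisted.basic K hK).opp_trans r hr s hs r' hr' s' hs' h.1 h.2 h'.1 h'.2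
  spe := KeyExtra.spe hK
  odd := KeyExtra.odd hK
  ker := KeyExtra.ker hK
  quad := KeyQuad.quad K hK

theorem not_tied {K : Type*} [Field K] [Fintype K] (hK : Fintype.card K = 4) :
    ¬ Gamma.Tied (twistedE6 K 2) := by
  have hK' : Fintype.card K = 2 ^ 2 := by rw [hK]; norm_num
  exact GamE6.not_tied (LeviG.rootFacts hK hK') (extra hK hK')

end Cfsg.Agent.OddHalf.D9.GamE6Inst

end
end

-- part: OddHalf/D9/GamO8
section
/-!
# `¬ Tied (Ω₈⁺(2))` (helper919)

`Fr`: two orthogonal hyperbolic pairs; `dl`: the element of order three of one of the factors of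
`Ω₄⁺(2) = S₃ × S₃` on their span. A tied pair, one of whose members commutes with `dl`, is trivial on the span
(`T3.fix`). So the members are products of two reflections (`normal`), and equal (`not_tied`).
-/

set_option autoImplicit false
set_option linter.unusedSimpArgs false

namespace Cfsg.Agent.OddHalf.D9.GamO8

open QuadraticMap Cfsg.Agent.LieClassical.OrthCore Cfsg.Agent.LieClassical.OrthTrans
  Cfsg.Agent.LieClassical.OrthFinite Cfsg.Agent.StdO8.Model
open Gamma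

/-! ### frames -/

/-- two orthogonal hyperbolic pairs -/
structure Fr (e1 e2 f1 f2 : V) : Prop where
  q1 : q e1 = 0
  q2 : q e2 = 0
  p1 : q f1 = 0
  p2 : q f2 = 0
  a11 : B e1 f1 = 1
  a22 : B e2 f2 = 1
  e : B e1 e2 = 0
  f : B f1 f2 = 0
  a12 : B e1 f2 = 0
  a21 : B e2 f1 = 0

/-- the element of order three -/
noncomputable def dl (e1 e2 f1 f2 : V) : V ≃ₗ[ZMod 2] V := X e1 f2 * X e2 f1

/-- another element of order three -/
noncomputable def dm (e1 e2 f1 f2 : V) : V ≃ₗ[ZMod 2] V := X e1 e2 * X f1 f2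

theorem cube {G : Type*} [Group G] {c d : G} (hc : c * c = 1) (hd : d * d = 1)
    (h : c * d * c = d * c * d) : (c * d) ^ 3 = 1 := by
  calc (c * d) ^ 3 = (c * d * c) * (d * c * d) := by rw [pow_succ, pow_two]; group
    _ = d * c * (d * d) * c * d := by rw [h]; group
    _ = d * (c * c) * d := by rw [hd]; group
    _ = 1 := by rw [hc, mul_one, hd]

/-- combinations -/
def L (e1 e2 f1 f2 : V) (a b c d : ZMod 2) : V := a • e1 + b • e2 + c • f1 + d • f2

section Frame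

variable {e1 e2 f1 f2 : V}

theorem dl_mem (e1 e2 f1 f2 : V) : dl e1 e2 f1 f2 ∈ Om := mul_mem (X_mem _ _) (X_mem _ _)
theorem dm_mem (e1 e2 f1 f2 : V) : dm e1 e2 f1 f2 ∈ Om := mul_mem (X_mem _ _) (X_mem _ _)

theorem Fr.a11' (h : Fr e1 e2 f1 f2) : B f1 e1 = 1 := by rw [B_comm]; exact h.a11
theorem Fr.a22' (h : Fr e1 e2 f1 f2) : B f2 e2 = 1 := by rw [B_comm]; exact h.a22
theorem Fr.e' (h : Fr e1 e2 f1 f2) : B e2 e1 = 0 := by rw [B_comm]; exact h.e
theorem Fr.f' (h : Fr e1 e2 f1 f2) : B f2 f1 = 0 := by rw [B_comm]; exact h.f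
theorem Fr.a12' (h : Fr e1 e2 f1 f2) : B f2 e1 = 0 := by rw [B_comm]; exact h.a12
theorem Fr.a21' (h : Fr e1 e2 f1 f2) : B f1 e2 = 0 := by rw [B_comm]; exact h.a21

theorem X_self_conj {g : V ≃ₗ[ZMod 2] V} (hg : g ∈ O8) (hgg : g * g = 1) (u w : V) :
    g * X u w * g = X (g u) (g w) := by
  have h := X_conj hg u w
  rwa [inv_eq_of_mul_eq_one_left hgg] at h

theorem Fr.X1 (h : Fr e1 e2 f1 f2) (v : V) : X e1 f2 v = v + B e1 v • f2 + B f2 v • e1 :=
  X_apply h.q1 h.p2 h.a12 v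

theorem Fr.X2 (h : Fr e1 e2 f1 f2) (v : V) : X e2 f1 v = v + B e2 v • f1 + B f1 v • e2 :=
  X_apply h.q2 h.p1 h.a21 v

theorem Fr.Y1 (h : Fr e1 e2 f1 f2) (v : V) : X e1 e2 v = v + B e1 v • e2 + B e2 v • e1 :=
  X_apply h.q1 h.q2 h.e v

theorem Fr.Y2 (h : Fr e1 e2 f1 f2) (v : V) : X f1 f2 v = v + B f1 v • f2 + B f2 v • f1 :=
  X_apply h.p1 h.p2 h.f v

theorem Fr.dl_cube (h : Fr e1 e2 f1 f2) : (dl e1 e2 f1 f2) ^ 3 = 1 := by
  apply cube (X_mul_self _ _) (X_mul_self _ _)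
  rw [X_self_conj (X_mem_O8 _ _) (X_mul_self _ _), X_self_conj (X_mem_O8 _ _) (X_mul_self _ _),
    h.X1, h.X1, h.X2, h.X2, h.e, h.a22', h.a11, h.f', h.e', h.a11', h.a22, h.f]
  simp only [zero_smul, one_smul, add_zero]
  rw [add_comm e2 e1, add_comm f2 f1]

theorem Fr.dm_cube (h : Fr e1 e2 f1 f2) : (dm e1 e2 f1 f2) ^ 3 = 1 := by
  apply cube (X_mul_self _ _) (X_mul_self _ _)
  rw [X_self_conj (X_mem_O8 _ _) (X_mul_self _ _), X_self_conj (X_mem_O8 _ _) (X_mul_self _ _),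
    h.Y1, h.Y1, h.Y2, h.Y2, h.a11, h.a21, h.a12, h.a22, h.a11', h.a12', h.a21', h.a22']
  simp only [zero_smul, one_smul, add_zero]
  rw [add_comm f1 e2, add_comm f2 e1]
  apply X_comm
  · rw [q_add, h.q2, h.p1, h.a21]; rfl
  · rw [q_add, h.q1, h.p2, h.a12]; rfl

/-- the action of `dl` -/
theorem Fr.dl_apply (h : Fr e1 e2 f1 f2) (v : V) : dl e1 e2 f1 f2 v =
    v + L e1 e2 f1 f2 (B f2 v + B f1 v) (B f1 v) (B e2 v) (B e1 v + B e2 v) := by
  show X e1 f2 (X e2 f1 v) = _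
  rw [h.X2, h.X1]
  simp only [B_add_right, B_smul_right, h.a11, h.e, h.f', h.a22', L]
  module

theorem L_add (a b c d a' b' c' d' : ZMod 2) : L e1 e2 f1 f2 a b c d + L e1 e2 f1 f2 a' b' c' d' =
    L e1 e2 f1 f2 (a + a') (b + b') (c + c') (d + d') := by
  simp only [L]; module

theorem L_smul (t a b c d : ZMod 2) : t • L e1 e2 f1 f2 a b c d = L e1 e2 f1 f2 (t * a) (t * b) (t * c) (t * d) := by
  simp only [L]; module

theorem L_e1 : L e1 e2 f1 f2 1 0 0 0 = e1 := by simp [L]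
theorem L_e2 : L e1 e2 f1 f2 0 1 0 0 = e2 := by simp [L]
theorem L_f1 : L e1 e2 f1 f2 0 0 1 0 = f1 := by simp [L]
theorem L_f2 : L e1 e2 f1 f2 0 0 0 1 = f2 := by simp [L]

theorem Fr.B_f1 (h : Fr e1 e2 f1 f2) (a b c d : ZMod 2) : B f1 (L e1 e2 f1 f2 a b c d) = a := by
  simp only [L, B_add_right, B_smul_right, h.a11', h.a21', h.f, B_self]; ring
theorem Fr.B_f2 (h : Fr e1 e2 f1 f2) (a b c d : ZMod 2) : B f2 (L e1 e2 f1 f2 a b c d) = b := by
  simp only [L, B_add_right, B_smul_right, h.a12', h.a22', h.f', B_self]; ring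
theorem Fr.B_e1 (h : Fr e1 e2 f1 f2) (a b c d : ZMod 2) : B e1 (L e1 e2 f1 f2 a b c d) = c := by
  simp only [L, B_add_right, B_smul_right, h.a11, h.a12, h.e, B_self]; ring
theorem Fr.B_e2 (h : Fr e1 e2 f1 f2) (a b c d : ZMod 2) : B e2 (L e1 e2 f1 f2 a b c d) = d := by
  simp only [L, B_add_right, B_smul_right, h.a22, h.a21, h.e', B_self]; ring

theorem Fr.inj (h : Fr e1 e2 f1 f2) {a b c d a' b' c' d' : ZMod 2}
    (e : L e1 e2 f1 f2 a b c d = L e1 e2 f1 f2 a' b' c' d') : a = a' ∧ b = b' ∧ c = c' ∧ d = d' := by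
  refine ⟨?_, ?_, ?_, ?_⟩
  · rw [← h.B_f1 a b c d, e, h.B_f1]
  · rw [← h.B_f2 a b c d, e, h.B_f2]
  · rw [← h.B_e1 a b c d, e, h.B_e1]
  · rw [← h.B_e2 a b c d, e, h.B_e2]

theorem Fr.B_L (h : Fr e1 e2 f1 f2) (a b c d a' b' c' d' : ZMod 2) :
    B (L e1 e2 f1 f2 a b c d) (L e1 e2 f1 f2 a' b' c' d') = a * c' + b * d' + c * a' + d * b' := by
  rw [show L e1 e2 f1 f2 a b c d = a • e1 + b • e2 + c • f1 + d • f2 from rfl, B_add_left, B_add_left, B_add_left, B_smul_left, B_smul_left, B_smul_left, B_smul_left,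
    h.B_e1, h.B_e2, h.B_f1, h.B_f2]

theorem Fr.q_L (h : Fr e1 e2 f1 f2) (a b c d : ZMod 2) : q (L e1 e2 f1 f2 a b c d) = a * c + b * d := by
  rw [L, q_add, q_add, q_add, QuadraticMap.map_smul, QuadraticMap.map_smul, QuadraticMap.map_smul,
    QuadraticMap.map_smul, h.q1, h.q2, h.p1, h.p2]
  simp only [B_add_left, B_smul_left, B_smul_right, h.a11, h.a12, h.a21, h.a22, h.e, h.f, smul_eq_mul]
  ring

theorem Fr.dl_L (h : Fr e1 e2 f1 f2) (a b c d : ZMod 2) :
    dl e1 e2 f1 f2 (L e1 e2 f1 f2 a b c d) = L e1 e2 f1 f2 b (a + b) (c + d) c := by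
  rw [h.dl_apply, h.B_f1, h.B_f2, h.B_e1, h.B_e2, L_add]
  have h1 : a + (b + a) = b := by revert a b; decide
  have h2 : b + a = a + b := add_comm _ _
  have h3 : d + (c + d) = c := by revert c d; decide
  rw [h1, h2, h3]

set_option synthInstance.maxHeartbeats 1000000 in
set_option synthInstance.maxSize 4096 in
/-- the finite computation -/
theorem key : ∀ a b c d a' b' c' d' : ZMod 2, (a * c + b * d = 0 ∧ a' * c' + b' * d' = 0 ∧
    a * c' + b * d' + c * a' + d * b' = 0 ∧ a * (c' + d') + b * c' + c * b' + d * (a' + b') = 1) →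
    (a * a + b * b + c * b' + d * a' = 1 ∧ a * b + b * (a + b) + c * (a' + b') + d * b' = 0 ∧
    a * c + b * (c + d) + c * (c' + d') + d * c' = 0 ∧ a * d + b * c + c * c' + d * d' = 0) →
    (a' * a + b' * b + c' * b' + d' * a' = 0 ∧ a' * b + b' * (a + b) + c' * (a' + b') + d' * b' = 0 ∧
    a' * c + b' * (c + d) + c' * (c' + d') + d' * c' = 0 ∧ a' * d + b' * c + c' * c' + d' * d' = 1) →
    (b = 0 ∧ c = 0 ∧ b' = 0 ∧ c' = 0) ∧ ((a = 1 ∧ d = 0 ∧ a' = 0 ∧ d' = 1) ∨ (a = 1 ∧ d = 0 ∧ a' = 1 ∧ d' = 1) ∨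
      (a = 1 ∧ d = 1 ∧ a' = 0 ∧ d' = 1) ∨ (a = 0 ∧ d = 1 ∧ a' = 1 ∧ d' = 0)) := by
  decide +kernel

theorem Fr.dl_e1 (h : Fr e1 e2 f1 f2) : dl e1 e2 f1 f2 e1 = e2 := by
  have := h.dl_L 1 0 0 0
  simpa only [L_e1, L_e2, add_zero, zero_add] using this

theorem Fr.dl_e2 (h : Fr e1 e2 f1 f2) : dl e1 e2 f1 f2 e2 = e1 + e2 := by
  have := h.dl_L 0 1 0 0
  rw [L_e2] at this
  rw [this]; simp [L]

theorem Fr.dl_f2 (h : Fr e1 e2 f1 f2) : dl e1 e2 f1 f2 f2 = f1 := by
  have := h.dl_L 0 0 0 1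
  rw [L_f2] at this
  rw [this]; simp [L]

theorem Fr.dl_f1 (h : Fr e1 e2 f1 f2) : dl e1 e2 f1 f2 f1 = f1 + f2 := by
  have := h.dl_L 0 0 1 0
  rw [L_f1] at this
  rw [this]; simp [L]

/-- involutions commuting with `dl` -/
theorem Fr.cases (h : Fr e1 e2 f1 f2) {g : V ≃ₗ[ZMod 2] V} (hg : g ∈ O8) (hgg : g * g = 1)
    (hc : dl e1 e2 f1 f2 * g = g * dl e1 e2 f1 f2) :
    (g e1 = e1 ∧ g f2 = f2) ∨ (g e1 = e1 ∧ g f2 = e1 + f2) ∨ (g e1 = e1 + f2 ∧ g f2 = f2) ∨
      (g e1 = f2 ∧ g f2 = e1) := by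
  have comm : ∀ v, dl e1 e2 f1 f2 (g v) = g (dl e1 e2 f1 f2 v) := fun v => LinearEquiv.congr_fun hc v
  have gg : ∀ v, g (g v) = v := fun v => LinearEquiv.congr_fun hgg v
  -- the images
  obtain ⟨a, b, c, d, hx⟩ : ∃ a b c d, g e1 = L e1 e2 f1 f2 a b c d := by
    have h1 : e1 = e2 + dl e1 e2 f1 f2 e2 := by
      rw [h.dl_e2]
      have := add_self e2
      calc e1 = e1 + (e2 + e2) := by rw [this, add_zero]
        _ = e2 + (e1 + e2) := by abel
    have h2 : g e1 = g e2 + dl e1 e2 f1 f2 (g e2) := by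
      rw [comm, ← map_add, ← h1]
    rw [h.dl_apply, ← add_assoc, add_self, zero_add] at h2
    exact ⟨_, _, _, _, h2⟩
  obtain ⟨a', b', c', d', hy⟩ : ∃ a b c d, g f2 = L e1 e2 f1 f2 a b c d := by
    have h1 : f2 = f1 + dl e1 e2 f1 f2 f1 := by
      rw [h.dl_f1, ← add_assoc, add_self, zero_add]
    have h2 : g f2 = g f1 + dl e1 e2 f1 f2 (g f1) := by
      rw [comm, ← map_add, ← h1]
    rw [h.dl_apply, ← add_assoc, add_self, zero_add] at h2
    exact ⟨_, _, _, _, h2⟩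
  have hx2 : g e2 = L e1 e2 f1 f2 b (a + b) (c + d) c := by
    have h1 : g e2 = g (dl e1 e2 f1 f2 e1) := by rw [h.dl_e1]
    rw [h1, ← comm, hx, h.dl_L]
  have hy1 : g f1 = L e1 e2 f1 f2 b' (a' + b') (c' + d') c' := by
    have h1 : g f1 = g (dl e1 e2 f1 f2 f2) := by rw [h.dl_f2]
    rw [h1, ← comm, hy, h.dl_L]
  have gL : ∀ x y z t : ZMod 2, g (L e1 e2 f1 f2 x y z t) =
      L e1 e2 f1 f2 (x * a + y * b + z * b' + t * a') (x * b + y * (a + b) + z * (a' + b') + t * b')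
        (x * c + y * (c + d) + z * (c' + d') + t * c') (x * d + y * c + z * c' + t * d') := by
    intro x y z t
    have : g (L e1 e2 f1 f2 x y z t) = x • g e1 + y • g e2 + z • g f1 + t • g f2 := by
      rw [L, map_add, map_add, map_add, map_smul, map_smul, map_smul, map_smul]
    rw [this, hx, hy, hx2, hy1, L_smul, L_smul, L_smul, L_smul, L_add, L_add, L_add]
  have k1 := gg e1
  rw [hx, gL] at k1
  have k1' := h.inj (k1.trans L_e1.symm)
  have k2 := gg f2
  rw [hy, gL] at k2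
  have k2' := h.inj (k2.trans L_f2.symm)
  have k3 : a * c + b * d = 0 := by rw [← h.q_L, ← hx, O8_q hg, h.q1]
  have k4 : a' * c' + b' * d' = 0 := by rw [← h.q_L, ← hy, O8_q hg, h.p2]
  have k5 : a * c' + b * d' + c * a' + d * b' = 0 := by rw [← h.B_L, ← hx, ← hy, O8_B hg, h.a12]
  have k6 : a * (c' + d') + b * c' + c * b' + d * (a' + b') = 1 := by
    rw [← h.B_L, ← hx, ← hy1, O8_B hg, h.a11]
  obtain ⟨⟨rfl, rfl, rfl, rfl⟩, h2⟩ := key a b c d a' b' c' d' ⟨k3, k4, k5, k6⟩ k1' k2'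
  rcases h2 with ⟨rfl, rfl, rfl, rfl⟩ | ⟨rfl, rfl, rfl, rfl⟩ | ⟨rfl, rfl, rfl, rfl⟩ | ⟨rfl, rfl, rfl, rfl⟩
  · left; exact ⟨by rw [hx, L_e1], by rw [hy, L_f2]⟩
  · right; left; exact ⟨by rw [hx, L_e1], by rw [hy]; simp [L]⟩
  · right; right; left; exact ⟨by rw [hx]; simp [L], by rw [hy, L_f2]⟩
  · right; right; right; exact ⟨by rw [hx, L_f2], by rw [hy, L_e1]⟩

/-- trivial on the frame -/
def Tr (g : V ≃ₗ[ZMod 2] V) (e1 e2 f1 f2 : V) : Prop := g e1 = e1 ∧ g e2 = e2 ∧ g f1 = f1 ∧ g f2 = f2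

theorem comm_X {g : V ≃ₗ[ZMod 2] V} (hg : g ∈ O8) {u w : V} (hu : g u = u) (hw : g w = w) :
    X u w * g = g * X u w := by
  have h := X_conj hg u w
  rw [hu, hw, mul_inv_eq_iff_eq_mul] at h
  exact h.symm

theorem Tr.dl {g : V ≃ₗ[ZMod 2] V} (hg : g ∈ O8) (h : Tr g e1 e2 f1 f2) :
    dl e1 e2 f1 f2 * g = g * dl e1 e2 f1 f2 :=
  (Commute.mul_left (show Commute (X e1 f2) g from comm_X hg h.1 h.2.2.2)
    (show Commute (X e2 f1) g from comm_X hg h.2.1 h.2.2.1)).eq

theorem Tr.dm {g : V ≃ₗ[ZMod 2] V} (hg : g ∈ O8) (h : Tr g e1 e2 f1 f2) :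
    dm e1 e2 f1 f2 * g = g * dm e1 e2 f1 f2 :=
  (Commute.mul_left (show Commute (X e1 e2) g from comm_X hg h.1 h.2.1)
    (show Commute (X f1 f2) g from comm_X hg h.2.2.1 h.2.2.2)).eq

theorem Fr.tr (h : Fr e1 e2 f1 f2) {g : V ≃ₗ[ZMod 2] V}
    (hc : GamO8.dl e1 e2 f1 f2 * g = g * GamO8.dl e1 e2 f1 f2) (h1 : g e1 = e1) (h2 : g f2 = f2) :
    Tr g e1 e2 f1 f2 := by
  have comm : ∀ v, GamO8.dl e1 e2 f1 f2 (g v) = g (GamO8.dl e1 e2 f1 f2 v) := fun v => LinearEquiv.congr_fun hc v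
  refine ⟨h1, ?_, ?_, h2⟩
  · have := comm e1
    rw [h1, h.dl_e1] at this
    exact this.symm
  · have := comm f2
    rw [h2, h.dl_f2] at this
    exact this.symm

theorem Fr.dm_e1 (h : Fr e1 e2 f1 f2) : GamO8.dm e1 e2 f1 f2 e1 = f2 := by
  show X e1 e2 (X f1 f2 e1) = _
  rw [h.Y2, h.Y1]
  simp only [B_add_right, B_smul_right, h.a11, h.e, h.f', h.a22', h.a11', h.a12, h.a22, h.a12', h.e', B_self,
    h.a21, zero_smul, one_smul, mul_zero, mul_one, add_zero, zero_add]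
  have := add_self e1
  calc e1 + f2 + e1 = (e1 + e1) + f2 := by abel
    _ = f2 := by rw [this, zero_add]

theorem Fr.dm_f2 (h : Fr e1 e2 f1 f2) : GamO8.dm e1 e2 f1 f2 f2 = e1 + f2 := by
  show X e1 e2 (X f1 f2 f2) = _
  rw [h.Y2, h.Y1]
  simp only [B_add_right, B_smul_right, h.a11, h.e, h.f', h.a22', h.a11', h.a12, h.a22, h.a12', h.e', B_self,
    h.a21, h.f, zero_smul, one_smul, mul_zero, mul_one, add_zero, zero_add]
  abel

theorem Fr.e1_ne (h : Fr e1 e2 f1 f2) : e1 ≠ 0 := by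
  rintro rfl
  have := h.a11
  rw [B_zero_left] at this
  exact zero_ne_one this

theorem Fr.f2_ne (h : Fr e1 e2 f1 f2) : f2 ≠ 0 := by
  rintro rfl
  have := h.a22
  rw [B_zero_right] at this
  exact zero_ne_one this

theorem Fr.e1_ne_f2 (h : Fr e1 e2 f1 f2) : e1 ≠ f2 := by
  rintro rfl
  have := h.a11
  rw [h.f'] at this
  exact zero_ne_one this

/-- involutions commuting with both elements of order three -/
theorem Fr.tr_of_comm (h : Fr e1 e2 f1 f2) {g : V ≃ₗ[ZMod 2] V} (hg : g ∈ O8) (hgg : g * g = 1)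
    (hc : GamO8.dl e1 e2 f1 f2 * g = g * GamO8.dl e1 e2 f1 f2)
    (hc' : GamO8.dm e1 e2 f1 f2 * g = g * GamO8.dm e1 e2 f1 f2) : Tr g e1 e2 f1 f2 := by
  have comm : ∀ v, GamO8.dm e1 e2 f1 f2 (g v) = g (GamO8.dm e1 e2 f1 f2 v) := fun v => LinearEquiv.congr_fun hc' v
  have k := comm e1
  rw [h.dm_e1] at k
  rcases h.cases hg hgg hc with ⟨h1, h2⟩ | ⟨h1, h2⟩ | ⟨h1, h2⟩ | ⟨h1, h2⟩
  · exact h.tr hc h1 h2
  · exfalso
    rw [h1, h2, h.dm_e1] at k
    exact h.e1_ne (by simpa using k.symm)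
  · exfalso
    rw [h1, h2, map_add, h.dm_e1, h.dm_f2] at k
    apply h.e1_ne_f2
    apply eq_of_add_eq_zero
    exact add_eq_left.1 k
  · exfalso
    rw [h1, h2, h.dm_f2] at k
    exact h.f2_ne (by simpa using k)

end Frame

/-! ### tied pairs -/

/-- a tied pair of `Ω₈⁺(2)` -/
structure T3 (a b : V ≃ₗ[ZMod 2] V) : Prop where
  ma : a ∈ Om
  mb : b ∈ Om
  aa : a * a = 1
  bb : b * b = 1
  a1 : a ≠ 1
  b1 : b ≠ 1
  ne : a ≠ b
  comm : a * b = b * a
  tied : ∀ x ∈ Om, x ^ 3 = 1 → (x * a = a * x ∨ x * b = b * x ∨ x * (a * b) = a * b * x) →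
    x * a = a * x ∧ x * b = b * x

theorem T3.symm {a b : V ≃ₗ[ZMod 2] V} (t : T3 a b) : T3 b a :=
  ⟨t.mb, t.ma, t.bb, t.aa, t.b1, t.a1, t.ne.symm, t.comm.symm, fun x hx h3 h => by
    rw [← t.comm] at h
    have := t.tied x hx h3 (by itauto)
    exact ⟨this.2, this.1⟩⟩

/-- a tied pair is trivial on the frame -/
theorem T3.fix {a b : V ≃ₗ[ZMod 2] V} (t : T3 a b) {e1 e2 f1 f2 : V} (h : Fr e1 e2 f1 f2)
    (hc : dl e1 e2 f1 f2 * a = a * dl e1 e2 f1 f2) : Tr a e1 e2 f1 f2 ∧ Tr b e1 e2 f1 f2 := by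
  have ma := Om_le t.ma
  have mb := Om_le t.mb
  obtain ⟨hca, hcb⟩ := t.tied _ (dl_mem e1 e2 f1 f2) h.dl_cube (Or.inl hc)
  suffices hs : dm e1 e2 f1 f2 * a = a * dm e1 e2 f1 f2 ∨ dm e1 e2 f1 f2 * b = b * dm e1 e2 f1 f2 ∨
      dm e1 e2 f1 f2 * (a * b) = a * b * dm e1 e2 f1 f2 by
    obtain ⟨ha, hb⟩ := t.tied _ (dm_mem e1 e2 f1 f2) h.dm_cube hs
    exact ⟨h.tr_of_comm ma t.aa hca ha, h.tr_of_comm mb t.bb hcb hb⟩
  have hab : ∀ v, a (b v) = b (a v) := fun v => LinearEquiv.congr_fun t.comm v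
  have hcab : dl e1 e2 f1 f2 * (a * b) = a * b * dl e1 e2 f1 f2 :=
    (Commute.mul_right (show Commute (dl e1 e2 f1 f2) a from hca) (show Commute (dl e1 e2 f1 f2) b from hcb)).eq
  rcases h.cases ma t.aa hca with ⟨p1, p2⟩ | p
  · exact Or.inl ((h.tr hca p1 p2).dm ma)
  rcases h.cases mb t.bb hcb with ⟨p1, p2⟩ | p'
  · exact Or.inr (Or.inl ((h.tr hcb p1 p2).dm mb))
  right; right
  have hfix : ∀ w : V, w + w = 0 := add_self
  have e1n := h.e1_ne
  have f2n := h.f2_ne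
  have e1f2 := h.e1_ne_f2
  have k1 := hab e1
  have k2 := hab f2
  suffices hs : a (b e1) = e1 ∧ a (b f2) = f2 from (h.tr (g := a * b) hcab hs.1 hs.2).dm (mul_mem ma mb)
  rcases p with ⟨p1, p2⟩ | ⟨p1, p2⟩ | ⟨p1, p2⟩ <;> rcases p' with ⟨r1, r2⟩ | ⟨r1, r2⟩ | ⟨r1, r2⟩ <;>
    simp only [p1, p2, r1, r2, map_add] at k1 k2 ⊢
  · exact ⟨trivial, by rw [← add_assoc, hfix, zero_add]⟩
  · exact absurd (left_eq_add.1 k2) f2n
  · exact absurd (add_eq_right.1 k1) e1n
  · exact absurd (add_eq_left.1 k2) f2n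
  · exact ⟨by rw [add_assoc, hfix, add_zero], trivial⟩
  · exact absurd (left_eq_add.1 k1) e1n
  · exact absurd (right_eq_add.1 k1) e1n
  · exact absurd (add_eq_left.1 k1) e1n
  · exact ⟨trivial, trivial⟩


/-! ### normal form -/

section Normal

variable {w : V ≃ₗ[ZMod 2] V}

theorem N_add (x y : V) : w (x + y) + (x + y) = (w x + x) + (w y + y) := by
  rw [map_add]; abel

theorem NN (hww : w * w = 1) (x : V) : w (w x + x) + (w x + x) = 0 := by
  have h : w (w x) = x := LinearEquiv.congr_fun hww x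
  rw [map_add, h]
  calc x + w x + (w x + x) = (x + x) + (w x + w x) := by abel
    _ = 0 := by rw [add_self, add_self, add_zero]

theorem BN (hw : w ∈ O8) (hww : w * w = 1) (x y : V) : B (w x + x) y = B x (w y + y) := by
  have h : w (w y) = y := LinearEquiv.congr_fun hww y
  have h1 : B (w x) y = B x (w y) := by
    rw [← O8_B hw x (w y), h]
  rw [B_add_left, B_add_right, h1]

theorem qN (hw : w ∈ O8) (x : V) : q (w x + x) = B x (w x + x) := by
  rw [q_add, O8_q hw, B_add_right, B_self, add_zero, B_comm]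
  have : ∀ a b : ZMod 2, a + a + b = b := by decide
  exact this _ _

theorem qN_add (hw : w ∈ O8) (hww : w * w = 1) (x y : V) :
    q (w (x + y) + (x + y)) = q (w x + x) + q (w y + y) := by
  rw [N_add, q_add, BN hw hww, NN hww, B_zero_right, add_zero]

theorem z2_ne {a : ZMod 2} (h : a ≠ 0) : a = 1 := (z2 a).resolve_left h

/-- an involution of the second type is a product of two reflections -/
theorem normal (hw : w ∈ Om) (hww : w * w = 1) (hw1 : w ≠ 1)
    (H : ∀ x y, q (w x + x) = 0 → q (w y + y) = 0 → B x (w y + y) = 0) :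
    ∃ u u', q u = 1 ∧ q u' = 1 ∧ B u u' = 0 ∧ u ≠ u' ∧ ∀ x, w x = x + (B u x • u + B u' x • u') := by
  have mw := Om_le hw
  have hN0 : ∀ {x : V}, w x + x = 0 → w x = x := fun {x} h => eq_of_add_eq_zero h
  -- a vector with nonsingular image
  obtain ⟨y, hy⟩ : ∃ y, q (w y + y) = 1 := by
    by_contra hcon
    push Not at hcon
    apply hw1
    ext x : 1
    apply hN0
    apply nondeg
    intro z
    rw [B_comm]
    exact H z x ((z2 _).resolve_right (hcon z)) ((z2 _).resolve_right (hcon x))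
  obtain ⟨u, hu⟩ : ∃ u, w y + y = u := ⟨_, rfl⟩
  have qu : q u = 1 := by rw [← hu]; exact hy
  have Buy : B y u = 1 := by rw [← hu, ← qN mw, hy]
  have Nu : w u + u = 0 := by rw [← hu]; exact NN hww y
  -- a vector with nonzero singular image
  obtain ⟨x, hx, hx0⟩ : ∃ x, q (w x + x) = 0 ∧ w x + x ≠ 0 := by
    by_contra hcon
    push Not at hcon
    apply Cfsg.Agent.StdO8.Gen.refl_notMem u (by rw [qu]; exact one_ne_zero)
    have : refl q u (by rw [qu]; exact one_ne_zero) = w := by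
      ext v : 1
      rw [refl_apply, sub_eq, qu, inv_one, one_mul]
      -- `N v = q (N v) u`
      have h1 : w v + v = q (w v + v) • u := by
        rcases z2 (q (w v + v)) with h2 | h2
        · rw [h2, zero_smul]; exact hcon v h2
        · rw [h2, one_smul]
          apply eq_of_add_eq_zero
          rw [← hu, ← N_add]
          apply hcon
          rw [qN_add mw hww, h2, hy]
          decide
      have h2 : B u v = q (w v + v) := by
        rw [B_comm, ← hu, ← BN mw hww, h1, B_smul_left, B_comm, Buy, mul_one]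
        rw [← h1]
      show v + B u v • u = w v
      rw [h2, ← h1, add_comm (w v) v, ← add_assoc, add_self, zero_add]
    rw [this]
    exact hw
  -- the functional `q (N z)`
  have dual : ∀ x, q (w x + x) = 0 → w x + x ≠ 0 → ∀ z, q (w z + z) = B z (w x + x) := by
    intro x hx hx0 z
    obtain ⟨z1, hz1⟩ : ∃ z1, B z1 (w x + x) = 1 := by
      by_contra hcon
      push Not at hcon
      exact hx0 (nondeg fun v => by rw [B_comm]; exact (z2 _).resolve_right (hcon v))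
    have f1 : q (w z1 + z1) = 1 := by
      apply z2_ne
      intro h
      rw [H z1 x h hx] at hz1
      exact zero_ne_one hz1
    rcases z2 (q (w z + z)) with h | h
    · rw [h, H z x h hx]
    · have h2 : q (w (z + z1) + (z + z1)) = 0 := by rw [qN_add mw hww, h, f1]; decide
      have h3 := H _ x h2 hx
      rw [B_add_left, hz1] at h3
      rw [h]
      have : ∀ a : ZMod 2, a + 1 = 0 → 1 = a := by decide
      exact this _ h3
  obtain ⟨s, hs⟩ : ∃ s, w x + x = s := ⟨_, rfl⟩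
  have ds := dual x hx hx0
  rw [hs] at ds hx hx0
  have Ns : w s + s = 0 := by rw [← hs]; exact NN hww x
  have uniq : ∀ z, q (w z + z) = 0 → w z + z = 0 ∨ w z + z = s := by
    intro z hz
    by_cases h0 : w z + z = 0
    · exact Or.inl h0
    · right
      apply eq_of_B
      intro v
      rw [B_comm, ← dual z hz h0, B_comm, ← ds]
  have Bsy : B y s = 1 := by rw [← ds, hy]
  have form : ∀ z, w z + z = B z s • u + (B z u + B z s) • s := by
    intro z
    have e1 : B z u = B (w z + z) y := by rw [BN mw hww, hu]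
    have e2 : w z + z = B z s • u + (w (z + B z s • y) + (z + B z s • y)) := by
      rcases z2 (B z s) with h | h
      · rw [h]; simp
      · rw [h, one_smul, one_smul, N_add, hu]
        have := add_self u
        calc w z + z = (u + u) + (w z + z) := by rw [this, zero_add]
          _ = _ := by abel
    have e3 : q (w (z + B z s • y) + (z + B z s • y)) = 0 := by
      rw [qN_add mw hww, ds]
      rcases z2 (B z s) with h | h
      · rw [h]; simp only [_root_.zero_smul, _root_.map_zero, _root_.add_zero]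
      · rw [h, one_smul, hy]; decide
    rcases uniq _ e3 with h | h
    · rw [h, add_zero] at e2
      rw [e1, e2, B_smul_left, B_comm u, Buy, mul_one]
      have : B z s + B z s = 0 := by
        have : ∀ a : ZMod 2, a + a = 0 := by decide
        exact this _
      rw [this, zero_smul, add_zero]
    · rw [h] at e2
      rw [e1, e2, B_add_left, B_smul_left, B_comm u, Buy, B_comm s, Bsy, mul_one]
      have : B z s + 1 + B z s = 1 := by
        have : ∀ a : ZMod 2, a + 1 + a = 1 := by decide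
        exact this _
      rw [this, one_smul]
  have Bus : B u s = 0 := by
    rw [← hu, BN mw hww, Ns, B_zero_right]
  refine ⟨u, u + s, qu, ?_, ?_, ?_, ?_⟩
  · rw [q_add, qu, hx, Bus]; decide
  · rw [B_add_right, B_self, Bus, add_zero]
  · intro h
    exact hx0 (left_eq_add.1 h)
  · intro z
    have e : w z = z + (w z + z) := by
      rw [add_comm (w z) z, ← add_assoc, add_self, zero_add]
    rw [e, form, B_add_left, B_comm u z, B_comm s z]
    (with_reducible congr 1)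
    rcases z2 (B z u) with h1 | h1 <;> rcases z2 (B z s) with h2 | h2 <;> rw [h1, h2]
    · simp
    · simp
    · rw [zero_smul, one_smul, add_zero, one_smul, zero_add, one_smul, ← add_assoc, add_self, zero_add]
    · have h3 : (1 : ZMod 2) + 1 = 0 := by decide
      rw [h3, zero_smul, zero_smul]

end Normal


/-! ### existence of frames -/

section Exists

variable {u u' : V}

theorem span_cases {v : V} (h : v ∈ Submodule.span (ZMod 2) ({u, u'} : Set V)) :
    v = 0 ∨ v = u ∨ v = u' ∨ v = u + u' := by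
  obtain ⟨a, b, rfl⟩ := Submodule.mem_span_pair.1 h
  rcases z2 a with h1 | h1 <;> rcases z2 b with h2 | h2 <;> rw [h1, h2] <;> simp only [_root_.zero_smul, _root_.add_zero, _root_.true_or, _root_.one_smul, _root_.zero_add, _root_.right_eq_add, _root_.or_true, _root_.left_eq_add, _root_.add_eq_left, _root_.add_eq_right]

theorem q_uu (hu : q u = 1) (hu' : q u' = 1) (huu : B u u' = 0) : q (u + u') = 0 := by
  rw [q_add, hu, hu', huu]; decide

theorem ne_of_q {v : V} (hv : q v = 0) (hu : q u = 1) : v ≠ u := by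
  rintro rfl
  rw [hv] at hu
  exact zero_ne_one hu

/-- a singular vector orthogonal to `u`, `u'` is in a frame orthogonal to `u`, `u'` -/
theorem exists_frame (hu : q u = 1) (hu' : q u' = 1) (hne : u ≠ u') {v : V} (hv : q v = 0)
    (v0 : v ≠ 0) (vu : v ≠ u + u') (uv : B u v = 0) (uv' : B u' v = 0) :
    ∃ e2 f1 f2, Fr v e2 f1 f2 ∧ (B u e2 = 0 ∧ B u f1 = 0 ∧ B u f2 = 0) ∧
      (B u' e2 = 0 ∧ B u' f1 = 0 ∧ B u' f2 = 0) := by
  have hvS : v ∉ Submodule.span (ZMod 2) ({u, u'} : Set V) := by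
    intro h
    rcases span_cases h with h | h | h | h
    · exact v0 h
    · exact ne_of_q hv hu h
    · exact ne_of_q hv hu' h
    · exact vu h
  obtain ⟨f, hf, hfS⟩ := Cfsg.Agent.ClassicalGeometry.OrthAutRoot.exists_sep_sub good.nondeg hvS
  replace hf : B v f = 1 := hf
  have uf : B u f = 0 := hfS u (Submodule.subset_span (by simp))
  have uf' : B u' f = 0 := hfS u' (Submodule.subset_span (by simp))
  obtain ⟨f1, hf1⟩ : ∃ f1, f + q f • v = f1 := ⟨_, rfl⟩
  have q1 : q f1 = 0 := by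
    rw [← hf1, q_add, QuadraticMap.map_smul, hv, smul_zero, B_smul_right, B_comm f, hf, mul_one, add_zero]
    have : ∀ a : ZMod 2, a + a = 0 := by decide
    exact this _
  have b1 : B v f1 = 1 := by rw [← hf1, B_add_right, B_smul_right, B_self, mul_zero, add_zero]; exact hf
  have uf1 : B u f1 = 0 := by rw [← hf1, B_add_right, B_smul_right, uf, uv, mul_zero, add_zero]
  have uf1' : B u' f1 = 0 := by rw [← hf1, B_add_right, B_smul_right, uf', uv', mul_zero, add_zero]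
  have hs0 : u + u' ≠ 0 := fun h => hne (eq_of_add_eq_zero h)
  obtain ⟨p, hp⟩ : ∃ p, B (u + u') p = 1 := by
    by_contra hcon
    push Not at hcon
    exact hs0 (nondeg fun z => (z2 _).resolve_right (hcon z))
  obtain ⟨e2, e20, qe2, he2⟩ := exists_sing_perp (Q := q) ![u, u', v, f1, p] (by rw [finrank_V])
  have g0 : B u e2 = 0 := he2 0
  have g1 : B u' e2 = 0 := he2 1
  have g2 : B v e2 = 0 := he2 2
  have g3 : B f1 e2 = 0 := he2 3
  have g4 : B p e2 = 0 := he2 4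
  have hS2 : e2 ∉ Submodule.span (ZMod 2) ({u, u', v, f1} : Set V) := by
    intro h
    obtain ⟨a, z, hz, rfl⟩ := Submodule.mem_span_insert.1 h
    obtain ⟨b, z', hz', rfl⟩ := Submodule.mem_span_insert.1 hz
    obtain ⟨c, d, rfl⟩ := Submodule.mem_span_pair.1 hz'
    have hd : d = 0 := by
      simpa only [B_add_right, B_smul_right, B_comm v u, B_comm v u', uv, uv', B_self, b1, mul_zero, mul_one,
        zero_add] using g2
    have hc : c = 0 := by
      simpa only [B_add_right, B_smul_right, B_comm f1 u, B_comm f1 u', B_comm f1 v, uf1, uf1', B_self, b1,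
        mul_zero, mul_one, zero_add, add_zero] using g3
    subst hd hc
    simp only [zero_smul, add_zero] at *
    rcases z2 a with h1 | h1 <;> rcases z2 b with h2 | h2 <;> subst h1 h2
    · simp at e20
    · simp only [zero_smul, zero_add, one_smul] at qe2
      rw [hu'] at qe2
      exact one_ne_zero qe2
    · simp only [zero_smul, add_zero, one_smul] at qe2
      rw [hu] at qe2
      exact one_ne_zero qe2
    · simp only [one_smul] at g4
      rw [B_comm, hp] at g4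
      exact one_ne_zero g4
  obtain ⟨g, hg, hgS⟩ := Cfsg.Agent.ClassicalGeometry.OrthAutRoot.exists_sep_sub good.nondeg hS2
  replace hg : B e2 g = 1 := hg
  have ug : B u g = 0 := hgS u (Submodule.subset_span (by simp))
  have ug' : B u' g = 0 := hgS u' (Submodule.subset_span (by simp))
  have vg : B v g = 0 := hgS v (Submodule.subset_span (by simp))
  have fg : B f1 g = 0 := hgS f1 (Submodule.subset_span (by simp))
  obtain ⟨f2, hf2⟩ : ∃ f2, g + q g • e2 = f2 := ⟨_, rfl⟩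
  have q2 : q f2 = 0 := by
    rw [← hf2, q_add, QuadraticMap.map_smul, qe2, smul_zero, B_smul_right, B_comm g, hg, mul_one, add_zero]
    have : ∀ a : ZMod 2, a + a = 0 := by decide
    exact this _
  have b2 : B e2 f2 = 1 := by rw [← hf2, B_add_right, B_smul_right, B_self, mul_zero, add_zero]; exact hg
  have uf2 : B u f2 = 0 := by rw [← hf2, B_add_right, B_smul_right, ug, g0, mul_zero, add_zero]
  have uf2' : B u' f2 = 0 := by rw [← hf2, B_add_right, B_smul_right, ug', g1, mul_zero, add_zero]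
  have vf2 : B v f2 = 0 := by rw [← hf2, B_add_right, B_smul_right, vg, g2, mul_zero, add_zero]
  have ff2 : B f1 f2 = 0 := by rw [← hf2, B_add_right, B_smul_right, fg, g3, mul_zero, add_zero]
  exact ⟨e2, f1, f2, ⟨hv, qe2, q1, q2, b1, b2, g2, ff2, vf2, by rw [B_comm]; exact g3⟩,
    ⟨g0, uf1, uf2⟩, ⟨g1, uf1', uf2'⟩⟩

/-- a singular vector orthogonal to `u`, `u'` -/
theorem exists_sing (hne : u ≠ u') : ∃ v, q v = 0 ∧ v ≠ 0 ∧ v ≠ u + u' ∧ B u v = 0 ∧ B u' v = 0 := by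
  have hs0 : u + u' ≠ 0 := fun h => hne (eq_of_add_eq_zero h)
  obtain ⟨p, hp⟩ : ∃ p, B (u + u') p = 1 := by
    by_contra hcon
    push Not at hcon
    exact hs0 (nondeg fun z => (z2 _).resolve_right (hcon z))
  obtain ⟨v, v0, qv, hv⟩ := exists_sing_perp (Q := q) ![u, u', p] (by rw [finrank_V]; norm_num)
  have g0 : B u v = 0 := hv 0
  have g1 : B u' v = 0 := hv 1
  have g2 : B p v = 0 := hv 2
  refine ⟨v, qv, v0, ?_, g0, g1⟩
  rintro rfl
  rw [B_comm, hp] at g2
  exact one_ne_zero g2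

/-- the partner is trivial on the orthogonal complement of `u`, `u'` -/
theorem T3.perp {a b : V ≃ₗ[ZMod 2] V} (t : T3 a b) (hu : q u = 1) (hu' : q u' = 1)
    (hne : u ≠ u') (ha : ∀ x, a x = x + (B u x • u + B u' x • u')) {x : V} (hx : B u x = 0) (hx' : B u' x = 0) :
    b x = x := by
  have ma := Om_le t.ma
  have afix : ∀ {x}, B u x = 0 → B u' x = 0 → a x = x := by
    intro x h h'
    rw [ha, h, h', zero_smul, zero_smul, add_zero, add_zero]
  have sing : ∀ {v}, q v = 0 → v ≠ 0 → v ≠ u + u' → B u v = 0 → B u' v = 0 → b v = v := by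
    intro v hv v0 vu uv uv'
    obtain ⟨e2, f1, f2, h, ⟨h1, h2, h3⟩, ⟨h1', h2', h3'⟩⟩ := exists_frame hu hu' hne hv v0 vu uv uv'
    have htr : Tr a v e2 f1 f2 := ⟨afix uv uv', afix h1 h1', afix h2 h2', afix h3 h3'⟩
    exact (t.fix h (htr.dl ma)).2.1
  obtain ⟨v, qv, v0, vu, uv, uv'⟩ := exists_sing hne
  obtain ⟨e2, f1, f2, h, ⟨h1, h2, h3⟩, ⟨h1', h2', h3'⟩⟩ := exists_frame hu hu' hne qv v0 vu uv uv'
  refine sing_induction_perp (Q := q) (x := v) (y := f1) (z := u) (w := u') (P := fun x => b x = x)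
    ⟨qv, h.p1, h.a11⟩ uv h2 uv' h2' ?_ ?_ x hx hx'
  · intro a c _ _ _ _ ha hc
    show b (a + c) = a + c
    rw [map_add, ha, hc]
  · intro z qz uz uz'
    replace uz : B u z = 0 := uz
    replace uz' : B u' z = 0 := uz'
    by_cases z0 : z = 0
    · rw [z0, map_zero]
    by_cases zu : z = u + u'
    · -- `z = (z + v) + v`
      have h3 : b (z + v) = z + v := by
        apply sing
        · rw [q_add, qz, qv, zu, B_add_left, uv, uv']; decide
        · intro h
          exact vu ((eq_of_add_eq_zero h).symm.trans zu)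
        · intro h
          rw [zu] at h
          exact v0 (add_eq_left.1 h)
        · rw [B_add_right, uz, uv, add_zero]
        · rw [B_add_right, uz', uv', add_zero]
      have h4 : b v = v := sing qv v0 vu uv uv'
      rw [map_add, h4] at h3
      exact add_right_cancel h3
    · exact sing qz z0 zu uz uz'

/-- the two reflections are determined -/
theorem eq_of_perp {v v' : V} {b : V ≃ₗ[ZMod 2] V} (hu : q u = 1) (hu' : q u' = 1) (huu : B u u' = 0)
    (hv : q v = 1) (hv' : q v' = 1) (hne : v ≠ v')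
    (hb : ∀ x, b x = x + (B v x • v + B v' x • v')) (H : ∀ x, B u x = 0 → B u' x = 0 → b x = x) :
    (v = u ∨ v = u') ∧ (v' = u ∨ v' = u') := by
  have v0 : v ≠ 0 := by
    rintro rfl
    rw [q_zero] at hv
    exact zero_ne_one hv
  have v0' : v' ≠ 0 := by
    rintro rfl
    rw [q_zero] at hv'
    exact zero_ne_one hv'
  have key : ∀ x, B u x = 0 → B u' x = 0 → B v x = 0 ∧ B v' x = 0 := by
    intro x h h'
    have h1 := H x h h'
    rw [hb] at h1
    have h2 := add_eq_left.1 h1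
    rcases z2 (B v x) with h3 | h3 <;> rcases z2 (B v' x) with h4 | h4
    · exact ⟨h3, h4⟩
    · rw [h3, h4, zero_smul, one_smul, zero_add] at h2
      exact absurd h2 v0'
    · rw [h3, h4, zero_smul, one_smul, add_zero] at h2
      exact absurd h2 v0
    · rw [h3, h4, one_smul, one_smul] at h2
      exact absurd (eq_of_add_eq_zero h2) hne
  have mem : ∀ z, q z = 1 → (∀ x, B u x = 0 → B u' x = 0 → B z x = 0) → z = u ∨ z = u' := by
    intro z hz hzx
    have hzS : z ∈ Submodule.span (ZMod 2) ({u, u'} : Set V) := by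
      by_contra hcon
      obtain ⟨x, hx, hxS⟩ := Cfsg.Agent.ClassicalGeometry.OrthAutRoot.exists_sep_sub good.nondeg hcon
      have h1 : B z x = 0 := hzx x (hxS u (Submodule.subset_span (by simp)))
        (hxS u' (Submodule.subset_span (by simp)))
      have h2 : B z x = 1 := hx
      rw [h1] at h2
      exact zero_ne_one h2
    rcases span_cases hzS with h | h | h | h
    · rw [h, q_zero] at hz
      exact absurd hz zero_ne_one
    · exact Or.inl h
    · exact Or.inr h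
    · rw [h, q_uu hu hu' huu] at hz
      exact absurd hz zero_ne_one
  exact ⟨mem v hv fun x h h' => (key x h h').1, mem v' hv' fun x h h' => (key x h h').2⟩

end Exists

/-! ### the end -/

/-- a member of a tied pair is of the second type -/
theorem T3.second {a b : V ≃ₗ[ZMod 2] V} (t : T3 a b) (x y : V) (hx : q (a x + x) = 0) (hy : q (a y + y) = 0) :
    B x (a y + y) = 0 := by
  have ma := Om_le t.ma
  by_contra hcon
  have hxy : B x (a y + y) = 1 := z2_ne hcon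
  have hyx : B y (a x + x) = 1 := by rw [← BN ma t.aa, B_comm]; exact hxy
  obtain ⟨e1, he1⟩ : ∃ e1, a x + x = e1 := ⟨_, rfl⟩
  obtain ⟨e2, he2⟩ : ∃ e2, a y + y = e2 := ⟨_, rfl⟩
  have N1 : a e1 + e1 = 0 := by rw [← he1]; exact NN t.aa x
  have N2 : a e2 + e2 = 0 := by rw [← he2]; exact NN t.aa y
  have a1 := eq_of_add_eq_zero N1
  have a2 := eq_of_add_eq_zero N2
  have x1 : B x e1 = 0 := by rw [← he1, ← qN ma, hx]
  have y2 : B y e2 = 0 := by rw [← he2, ← qN ma, hy]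
  have e12 : B e1 e2 = 0 := by rw [← he1, BN ma t.aa, N2, B_zero_right]
  rw [he1] at hx hyx
  rw [he2] at hy hxy
  have ss : ∀ c : ZMod 2, c + c = 0 := by decide
  obtain ⟨f1, hf1⟩ : ∃ f1, y + q y • e1 = f1 := ⟨_, rfl⟩
  obtain ⟨f2, hf2⟩ : ∃ f2, x + (q x • e2 + B x y • e1) = f2 := ⟨_, rfl⟩
  have h : Fr e1 e2 f1 f2 := by
    refine ⟨hx, hy, ?_, ?_, ?_, ?_, e12, ?_, ?_, ?_⟩
    · rw [← hf1, q_add, QuadraticMap.map_smul, hx, smul_zero, B_smul_right, hyx, mul_one, add_zero]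
      exact ss _
    · rw [← hf2, q_add, q_add, QuadraticMap.map_smul, QuadraticMap.map_smul, hx, hy, smul_zero, smul_zero]
      simp only [B_add_right, B_smul_right, B_smul_left, B_comm e2 e1, e12, hxy, x1]
      have : ∀ a b : ZMod 2, a + (0 + 0 + b * (a * 0)) + (a * 1 + b * 0) = 0 := by decide
      exact this _ _
    · rw [← hf1, B_add_right, B_smul_right, B_self, B_comm e1, hyx, mul_zero, add_zero]
    · rw [← hf2, B_add_right, B_add_right, B_smul_right, B_smul_right, B_self, B_comm e2 x, hxy, B_comm e2 e1, e12]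
      simp
    · rw [← hf1, ← hf2]
      simp only [B_add_right, B_add_left, B_smul_right, B_smul_left, B_self, B_comm y x, hyx, y2, e12,
        B_comm e1 x, x1]
      have : ∀ a b c : ZMod 2, a + b * 0 + (c * (0 + b * 0) + a * (1 + b * 0)) = 0 := by decide
      exact this _ _ _
    · rw [← hf2, B_add_right, B_add_right, B_smul_right, B_smul_right, B_self, B_comm e1 x, x1, e12]
      simp
    · rw [← hf1, B_add_right, B_smul_right, B_comm e2 y, y2, B_comm e2 e1, e12]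
      simp
  have ax : a x = x + e1 := by
    rw [← he1, add_comm (a x), ← add_assoc, add_self, zero_add]
  have ay : a y = y + e2 := by
    rw [← he2, add_comm (a y), ← add_assoc, add_self, zero_add]
  have af1 : a f1 = f1 + e2 := by
    rw [← hf1, map_add, map_smul, a1, ay]; abel
  have af2 : a f2 = f2 + e1 := by
    rw [← hf2, map_add, map_add, map_smul, map_smul, a1, a2, ax]; abel
  have hc : dl e1 e2 f1 f2 * a = a * dl e1 e2 f1 f2 := by
    have c1 : Commute (X e1 f2) a := by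
      have h1 := X_conj ma e1 f2
      rw [a1, af2, X_add_right hx, mul_inv_eq_iff_eq_mul] at h1
      exact h1.symm
    have c2 : Commute (X e2 f1) a := by
      have h1 := X_conj ma e2 f1
      rw [a2, af1, X_add_right hy, mul_inv_eq_iff_eq_mul] at h1
      exact h1.symm
    exact (c1.mul_left c2).eq
  have := (t.fix h hc).1.2.2.2
  rw [af2] at this
  exact h.e1_ne (add_eq_left.1 this)

/-- no tied pair -/
theorem not_T3 {a b : V ≃ₗ[ZMod 2] V} (t : T3 a b) : False := by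
  obtain ⟨u, u', hu, hu', huu, hne, ha⟩ := normal t.ma t.aa t.a1 t.second
  obtain ⟨v, v', hv, hv', hvv, hne', hb⟩ := normal t.mb t.bb t.b1 t.symm.second
  obtain ⟨h1, h2⟩ := eq_of_perp hu hu' huu hv hv' hne' hb fun x hx hx' => t.perp hu hu' hne ha hx hx'
  apply t.ne
  ext x : 1
  rw [ha, hb]
  rcases h1 with h1 | h1 <;> rcases h2 with h2 | h2
  · exact absurd (h1.trans h2.symm) hne'
  · rw [h1, h2]
  · rw [h1, h2, add_comm (B u' x • u')]
  · exact absurd (h1.trans h2.symm) hne'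

theorem not_tied_Om : ¬ Tied Om := by
  rintro ⟨a, b, ha, hb, ha1, hb1, hne, hab, H⟩
  refine not_T3 (a := a) (b := b) ⟨a.2, b.2, congrArg Subtype.val ha, congrArg Subtype.val hb,
    fun h => ha1 (Subtype.ext h), fun h => hb1 (Subtype.ext h), fun h => hne (Subtype.ext h),
    congrArg Subtype.val hab, fun x hx h3 h => ?_⟩
  have h4 := H ⟨x, hx⟩ (Odd.of_dvd_nat (by decide) (orderOf_dvd_of_pow_eq_one (n := 3) (Subtype.ext h3))) (by
    rcases h with h | h | h
    · exact Or.inl (Subtype.ext h)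
    · exact Or.inr (Or.inl (Subtype.ext h))
    · exact Or.inr (Or.inr (Subtype.ext h)))
  exact ⟨congrArg Subtype.val h4.1, congrArg Subtype.val h4.2⟩

/-- **`Ω₈⁺(2)` has no tied pair** -/
theorem not_tied {F : Type*} [Field F] [Fintype F] (hF : Fintype.card F = 2) :
    ¬ Tied (Cfsg.POmega F (Cfsg.quadFormPlus 4 F)) := by
  obtain ⟨e⟩ := exists_equiv hF
  exact fun h => not_tied_Om (h.of_equiv e)

end Cfsg.Agent.OddHalf.D9.GamO8
end

-- part: KFacts/Mult/TwESixInner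
section
-- merged: Cfsg.Agent.KFacts.Mult.TwESixArms
section

/-!
# Automorphisms of `2².²E₆(2)`: the abstract part

`X` is a finite perfect central extension of `E` by a 2-group of order 4, where `E` is generated by ten nodes satisfying
the relations `Good` and these relations bound the order by `|E|`.  An automorphism of `X` which acts trivially on the
kernel and preserves the preimage of the class of the nodes is inner (`inner'`).

The ten nodes lift to elements with the exact Coxeter relations; the values of the three `E₇` words are `z₁`, `1`, `z₃`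
with `z₁`, `z₃` generating the kernel.  An automorphism of `²E₆(2)` is inner up to a permutation of the three arms, and
this permutation is visible in the values of the words.
-/

set_option autoImplicit false

namespace Cfsg.Agent.KFacts.Mult.TwESixArms

open Subgroup Cfsg Cfsg.Agent.TwoESix Cfsg.Agent.TwoESix.Cox10 Cfsg.Agent.TwoESix.Lift
open Cfsg.Agent.R01.Lifts Cfsg.Agent.BabyU Cfsg.Agent.BabyU.OutCount Cfsg.Agent.BabyU.OutFree
open Cfsg.Agent.KFacts.Mult.TwESixLift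

universe u v

/-! ### The lifts -/

section Abs

variable {X : Type u} {E : Type v} [Group X] [Group E] {π : X →* E}

/-- The facts on the extension. -/
structure Cov (π : X →* E) : Prop where
  surj : Function.Surjective π
  cen : π.ker ≤ center X
  el : ∀ z, π z = 1 → z * z = 1
  card : Nat.card π.ker = 4

theorem Cov.comm (C : Cov π) {z : X} (hz : π z = 1) (g : X) : z * g = g * z :=
  (mem_center_iff.1 (C.cen hz) g).symm

/-- Lifts of a configuration of nodes. -/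
structure Basis (π : X →* E) (m : Fin 10 → X) : Prop where
  w : WGood m
  top : _root_.Subgroup.closure (Set.range m) = ⊤
  k1 : π (ev m W321 ^ 9) = 1
  k3 : π (ev m W213 ^ 9) = 1
  ne1 : ev m W321 ^ 9 ≠ 1
  ne3 : ev m W213 ^ 9 ≠ 1
  ne13 : ev m W321 ^ 9 ≠ ev m W213 ^ 9

theorem exists_basis [Finite X] {e : Fin 10 → E} (he : Good e) (hgen : _root_.Subgroup.closure (Set.range e) = ⊤)
    (hcard : ∀ (Y : Type u) [Group Y] (y : Fin 10 → Y), Good y → _root_.Subgroup.closure (Set.range y) = ⊤ →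
      Nat.card Y ≤ Nat.card E)
    (hperf : commutator X = ⊤) (C : Cov π) : ∃ m : Fin 10 → X, (∀ i, π (m i) = e i) ∧ Basis π m := by
  have hp : IsPGroup 2 π.ker := fun z => ⟨1, by
    rw [pow_one, pow_two]; exact Subtype.ext (C.el z z.2)⟩
  obtain ⟨m, hm, hw⟩ := exists_lift (WGood.of_good he) (Nat.card X) X π le_rfl C.surj C.cen hp
  have hme : (fun i => π (m i)) = e := funext hm
  have htop : _root_.Subgroup.closure (Set.range m) = ⊤ := closure_eq_top C.cen hperf (by rw [hme]; exact hgen)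
  have hk1 : π (ev m W321 ^ 9) = 1 := by rw [map_pow, ev_map, hme]; exact he.e321
  have hk3 : π (ev m W213 ^ 9) = 1 := by rw [map_pow, ev_map, hme]; exact he.e213
  refine ⟨m, hm, ?_⟩
  -- the order of a cyclic subgroup containing both words
  have key : ∀ z : X, π z = 1 → ev m W321 ^ 9 ∈ zpowers z → ev m W213 ^ 9 ∈ zpowers z → False := by
    intro z hz h1 h3
    have hAk : zpowers z ≤ π.ker := (zpowers_le).2 hz
    have hN : (zpowers z).Normal := normal_of_le_center (hAk.trans C.cen)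
    have hq : Good (fun i => QuotientGroup.mk' (zpowers z) (m i)) := by
      have h2 := hw.map (QuotientGroup.mk' (zpowers z))
      refine ⟨h2.lift, h2.spider, ?_, h2.e231, ?_⟩
      · rw [← ev_map, ← map_pow, QuotientGroup.mk'_apply, QuotientGroup.eq_one_iff]
        exact h1
      · rw [← ev_map, ← map_pow, QuotientGroup.mk'_apply, QuotientGroup.eq_one_iff]
        exact h3
    have hqt : _root_.Subgroup.closure (Set.range fun i => QuotientGroup.mk' (zpowers z) (m i)) = ⊤ := by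
      have h2 : (Set.range fun i => QuotientGroup.mk' (zpowers z) (m i)) =
          (QuotientGroup.mk' (zpowers z)) '' Set.range m := by
        rw [← Set.range_comp]; rfl
      rw [h2, ← MonoidHom.map_closure, htop, ← MonoidHom.range_eq_map, MonoidHom.range_eq_top]
      exact QuotientGroup.mk'_surjective _
    have hle := hcard (X ⧸ zpowers z) _ hq hqt
    have c1 : Nat.card X = Nat.card (X ⧸ zpowers z) * Nat.card (zpowers z) :=
      Subgroup.card_eq_card_quotient_mul_card_subgroup _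
    have c2 : Nat.card X = Nat.card E * Nat.card π.ker := by
      rw [Subgroup.card_eq_card_quotient_mul_card_subgroup π.ker]
      congr 1
      exact Nat.card_congr (QuotientGroup.quotientKerEquivOfSurjective π C.surj).toEquiv
    have hEpos : 0 < Nat.card E := by
      have : Finite E := Finite.of_surjective π C.surj
      exact Nat.card_pos
    have h2 : Nat.card (zpowers z) ≤ 2 := by
      rw [Nat.card_zpowers]
      exact orderOf_le_of_pow_eq_one (by norm_num) (by rw [pow_two]; exact C.el z hz)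
    rw [C.card, c1] at c2
    have h5 : Nat.card (X ⧸ zpowers z) * Nat.card (zpowers z) ≤ Nat.card E * 2 := Nat.mul_le_mul hle h2
    omega
  refine ⟨hw, htop, hk1, hk3, fun h => ?_, fun h => ?_, fun h => ?_⟩
  · exact key _ hk3 (by rw [h]; exact one_mem _) (mem_zpowers _)
  · exact key _ hk1 (mem_zpowers _) (by rw [h]; exact one_mem _)
  · exact key _ hk1 (mem_zpowers _) (by rw [← h]; exact mem_zpowers _)

theorem ev_mul_c {v : X} (hv : ∀ g, v * g = g * v) (s : Fin 10 → X) (w : List (Fin 10)) :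
    ev (fun i => s i * v) w = ev s w * v ^ w.length := by
  induction w with
  | nil => simp [ev_nil]
  | cons i w ih =>
    rw [ev_cons, ih, ev_cons, List.length_cons, pow_succ']
    calc s i * v * (ev s w * v ^ w.length) = s i * (v * ev s w) * v ^ w.length := by group
      _ = s i * (ev s w * v) * v ^ w.length := by rw [hv]
      _ = _ := by group

theorem sig_mul_c {v : X} (hv : ∀ g, v * g = g * v) (hvv : v * v = 1) (s : Fin 10 → X) (k : Fin 3) :
    sig (fun i => s i * v) k = sig s k * v := by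
  show ev (fun i => s i * v) (OutFree.W k) ^ 9 = _
  have hcom : Commute (ev s (OutFree.W k)) (v ^ 7) := Commute.pow_right (hv _).symm 7
  rw [ev_mul_c hv, W_length, hcom.mul_pow, ← pow_mul]
  congr 1
  show v ^ 63 = v
  rw [show 63 = 2 * 31 + 1 by norm_num, pow_succ, pow_mul, pow_two, hvv, one_pow, one_mul]

/-- **The arms are fixed.** -/
theorem arm_zero (C : Cov π) {m : Fin 10 → X} (B : Basis π m) (θ : X →* X) (hz : ∀ z, π z = 1 → θ z = z)
    {n : Fin 6} (hθ : ∀ i, π (θ (m i)) = π (m (P6 n i))) : n = 0 ∧ ∀ i, θ (m i) = m i := by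
  have hcs : CS m := ⟨B.w.lift, B.w.spider⟩
  have hu : ∀ i, ∃ u, π u = 1 ∧ θ (m i) = m (P6 n i) * u := fun i =>
    ⟨(m (P6 n i))⁻¹ * θ (m i), by rw [map_mul, map_inv, hθ, inv_mul_cancel], by group⟩
  choose u hu1 hu2 using hu
  have hcu : ∀ i g, u i * g = g * u i := fun i g => C.comm (hu1 i) g
  have h3 : ∀ {i j}, adj i j = true → (m i * m j) ^ 3 = 1 := by
    intro i j hij
    have := B.w.lift i j
    rwa [M10_apply, lab_adj i j hij] at this
  have hadj : ∀ i j, adj i j = true → u i = u j := by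
    intro i j hij
    have h4 : (θ (m i) * θ (m j)) ^ 3 = 1 := by rw [← map_mul, ← map_pow, h3 hij, map_one]
    have h5 : θ (m i) * θ (m j) = m (P6 n i) * m (P6 n j) * (u i * u j) := by
      rw [hu2, hu2]
      calc m (P6 n i) * u i * (m (P6 n j) * u j) = m (P6 n i) * (u i * m (P6 n j)) * u j := by group
        _ = m (P6 n i) * (m (P6 n j) * u i) * u j := by rw [hcu]
        _ = _ := by group
    have h6 : π (u i * u j) = 1 := by rw [map_mul, hu1, hu1, mul_one]
    have hcom : Commute (m (P6 n i) * m (P6 n j)) (u i * u j) := (C.comm h6 _).symm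
    rw [h5, hcom.mul_pow, h3 (by rw [adj_P6]; exact hij), one_mul, pow_succ, pow_two, C.el _ h6, one_mul] at h4
    have h7 : u j * u j = 1 := C.el _ (hu1 j)
    calc u i = u i * (u j * u j) := by rw [h7, mul_one]
      _ = u i * u j * u j := by group
      _ = u j := by rw [h4, one_mul]
  set! v := u 3 with hv
  have hall : ∀ i, u i = v := all_nodes (fun i => u i = v) (fun i j hij hi => by rw [← hadj i j hij]; exact hi) rfl
  have hθ' : ∀ i, θ (m i) = m (P6 n i) * v := fun i => by rw [hu2, hall]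
  have hvv : v * v = 1 := C.el _ (hu1 3)
  have hvc : ∀ g, v * g = g * v := hcu 3
  have hk : ∀ k, π (sig m k) = 1 := by
    intro k
    fin_cases k
    · exact B.k1
    · show π (ev m W231 ^ 9) = 1
      rw [B.w.e231, map_one]
    · exact B.k3
  have key : ∀ k, sig m k = sig m (Q6 n k) * v := by
    intro k
    have h4 : θ (sig m k) = sig (fun i => θ (m i)) k := by
      show θ (ev m (OutFree.W k) ^ 9) = _
      rw [map_pow, ev_map]; rfl
    have h5 : (fun i => θ (m i)) = fun i => m (P6 n i) * v := funext hθ'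
    rw [hz _ (hk k), h5, sig_mul_c hvc hvv, sig_P6 hcs] at h4
    exact h4
  have e0 : sig m 0 = ev m W321 ^ 9 := rfl
  have e1 : sig m 1 = 1 := B.w.e231
  have e2 : sig m 2 = ev m W213 ^ 9 := rfl
  have n1 := B.ne1
  have n3 := B.ne3
  have n13 := B.ne13
  rw [← e0] at n1 n13
  rw [← e2] at n3 n13
  have q0 := key 0
  have q1 := key 1
  have q2 := key 2
  have s0 : sig m 0 * sig m 0 = 1 := C.el _ (hk 0)
  have s2 : sig m 2 * sig m 2 = 1 := C.el _ (hk 2)
  have hvi : ∀ a : X, a = a * v → v = 1 := fun a h => by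
    have := h.symm
    exact mul_eq_left.1 this
  have hn : n = 0 ∧ v = 1 := by
    fin_cases n
    · exact ⟨rfl, hvi _ q0⟩
    · exfalso
      have h1 : v = 1 := hvi _ q2
      have h2 : sig m 0 = sig m 1 * v := q0
      rw [e1, h1, mul_one] at h2
      exact n1 h2
    · exfalso
      have h1 : v = 1 := hvi _ q1
      have h2 : sig m 0 = sig m 2 * v := q0
      rw [h1, mul_one] at h2
      exact n13 h2
    · exfalso
      have h1 : v = 1 := hvi _ q0
      have h2 : sig m 2 = sig m 1 * v := q2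
      rw [e1, h1, mul_one] at h2
      exact n3 h2
    · exfalso
      have h2 : sig m 2 = sig m 1 * v := q2
      have h3 : sig m 0 = sig m 2 * v := q0
      rw [e1, one_mul] at h2
      rw [h2, hvv] at h3
      exact n1 h3
    · exfalso
      have h2 : sig m 0 = sig m 1 * v := q0
      have h3 : sig m 1 = sig m 2 * v := q1
      rw [e1, one_mul] at h2
      rw [e1] at h3
      have h4 : v = sig m 2 := by
        calc v = sig m 2 * sig m 2 * v := by rw [s2, one_mul]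
          _ = sig m 2 * (sig m 2 * v) := by group
          _ = sig m 2 := by rw [← h3, mul_one]
      exact n13 (h2.trans h4)
  obtain ⟨rfl, hv1⟩ := hn
  exact ⟨rfl, fun i => by rw [hθ', hv1, mul_one, P6_zero]⟩

/-- Non-trivial permutations of the arms are not inner. -/
theorem not_inner' [Finite X] (hcard : ∀ (Y : Type u) [Group Y] (y : Fin 10 → Y), Good y →
      _root_.Subgroup.closure (Set.range y) = ⊤ → Nat.card Y ≤ Nat.card E)
    (hperf : commutator X = ⊤) (C : Cov π) {f : Fin 10 → E} (hf : GG f) {n : Fin 6} (hn : n ≠ 0) (x : E) :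
    ¬ ∀ i, x * f i * x⁻¹ = f (P6 n i) := by
  intro hx
  obtain ⟨m, hm, B⟩ := exists_basis hf.1 hf.2 hcard hperf C
  obtain ⟨y, rfl⟩ := C.surj x
  refine hn (arm_zero C B (MulAut.conj y).toMonoidHom (n := n) (fun z hz => ?_) fun i => ?_).1
  · show MulAut.conj y z = z
    rw [MulAut.conj_apply, ← C.comm hz y, mul_inv_cancel_right]
  · show π (MulAut.conj y (m i)) = _
    rw [MulAut.conj_apply, map_mul, map_mul, map_inv, hm, hm, hx]

variable {F : Type*} [Field F] [Fintype F] {hF : Fintype.card F = 2 ^ 2}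

/-- Two configurations are conjugate up to a permutation of the arms. -/
theorem arms' [Finite X] (hcard : ∀ (Y : Type u) [Group Y] (y : Fin 10 → Y), Good y →
      _root_.Subgroup.closure (Set.range y) = ⊤ → Nat.card Y ≤ Nat.card E)
    (hperf : commutator X = ⊤) (C : Cov π) (hE : ∃ a b : E, ¬ Commute a b) {R : Set E} (H : OutCount.Hyp hF R)
    {f f' : Fin 10 → E} (hf : GG f) (hfR : ∀ i, f i ∈ R) (hf' : GG f') (hfR' : ∀ i, f' i ∈ R) :
    ∃ (x : E) (k : Fin 6), ∀ i, x * f' i * x⁻¹ = f (P6 k i) := by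
  let g : Fin 7 → Fin 10 → E := Fin.snoc (α := fun _ => Fin 10 → E) (fun k : Fin 6 => fun i => f (P6 k i)) f'
  have hg1 : ∀ k : Fin 6, g k.castSucc = fun i => f (P6 k i) := fun k => by simp [g]
  have hg2 : g (Fin.last 6) = f' := Fin.snoc_last _ _
  have hgg : ∀ k, GG (g k) := by
    intro k
    refine Fin.lastCases ?_ (fun k => ?_) k
    · rw [hg2]; exact hf'
    · rw [hg1]; exact hf.P6 k
  have hgR : ∀ k i, g k i ∈ R := by
    intro k
    refine Fin.lastCases ?_ (fun k => ?_) k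
    · rw [hg2]; exact hfR'
    · rw [hg1]; exact fun i => hfR _
  have hfree : ∀ k h, Cj (g k) h → ∀ x : E, ¬ ∀ i, x * h i * x⁻¹ = h (pAC i) := by
    rintro k _ ⟨y, rfl⟩ x hx
    exact not_inner' hcard hperf C (Out.GG.cj (hgg k) y) (n := 2) (by decide) x hx
  -- two arm permutations of `f` are not conjugate
  have hperm : ∀ k l : Fin 6, k ≠ l → ¬ Cj (g k.castSucc) (g l.castSucc) := by
    rintro k l hkl ⟨x, hx⟩
    rw [hg1, hg1] at hx
    obtain ⟨n, hn, hnn⟩ := P6_div k l hkl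
    refine not_inner' hcard hperf C hf hn x fun j => ?_
    obtain ⟨i, rfl⟩ := P6_surj k j
    rw [← hnn]
    exact congrFun hx i
  obtain ⟨k, l, hkl, hc⟩ := seven H (f := g) (fun k => Out.cfg_of_gg (hgg k) (hgR k) hE) hfree
  have fin : ∀ k : Fin 6, Cj (g (Fin.last 6)) (g k.castSucc) → ∃ (x : E) (k : Fin 6), ∀ i, x * f' i * x⁻¹ = f (P6 k i) := by
    rintro k ⟨x, hx⟩
    rw [hg1, hg2] at hx
    exact ⟨x, k, fun i => congrFun hx i⟩
  revert hkl hc
  refine Fin.lastCases ?_ (fun k => ?_) k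
  · refine Fin.lastCases ?_ (fun l => ?_) l
    · intro h; exact absurd rfl h
    · intro _ hc; exact fin l hc
  · refine Fin.lastCases ?_ (fun l => ?_) l
    · intro _ hc; exact fin k hc.symm
    · intro hkl hc
      exact absurd hc (hperm k l fun h => hkl (by rw [h]))

/-- **Automorphisms acting trivially on the kernel are inner**, abstract form. -/
theorem inner' [Finite X] (hcard : ∀ (Y : Type u) [Group Y] (y : Fin 10 → Y), Good y →
      _root_.Subgroup.closure (Set.range y) = ⊤ → Nat.card Y ≤ Nat.card E)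
    (hperf : commutator X = ⊤) (C : Cov π) (hE : ∃ a b : E, ¬ Commute a b) {R : Set E} (H : OutCount.Hyp hF R)
    {e : Fin 10 → E} (he : GG e) (heR : ∀ i, e i ∈ R)
    (α : MulAut X) (hα : ∀ z, π z = 1 → α z = z) (hR : ∀ x, π x ∈ R → π (α x) ∈ R) :
    ∃ k : X, ∀ x, α x = k * x * k⁻¹ := by
  obtain ⟨m, hm, B⟩ := exists_basis he.1 he.2 hcard hperf C
  have hme : (fun i => π (m i)) = e := funext hm
  have hf' : GG (fun i => π (α (m i))) := by
    refine ⟨?_, ?_⟩
    · have h1 := B.w.map (π.comp α.toMonoidHom)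
      refine ⟨h1.lift, h1.spider, ?_, h1.e231, ?_⟩
      · show ev (fun i => (π.comp α.toMonoidHom) (m i)) W321 ^ 9 = 1
        rw [← ev_map, ← map_pow]
        show π (α _) = 1
        rw [hα _ B.k1, B.k1]
      · show ev (fun i => (π.comp α.toMonoidHom) (m i)) W213 ^ 9 = 1
        rw [← ev_map, ← map_pow]
        show π (α _) = 1
        rw [hα _ B.k3, B.k3]
    · have h2 : (Set.range fun i => π (α (m i))) = (π.comp α.toMonoidHom) '' Set.range m := by
        rw [← Set.range_comp]; rfl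
      rw [h2, ← MonoidHom.map_closure, B.top, ← MonoidHom.range_eq_map, MonoidHom.range_eq_top]
      exact C.surj.comp α.surjective
  have hfR' : ∀ i, π (α (m i)) ∈ R := fun i =>
    hR _ (by rw [hm]; exact heR i)
  obtain ⟨x, k, hx⟩ := arms' hcard hperf C hE H he heR hf' hfR'
  obtain ⟨y, rfl⟩ := C.surj x
  obtain ⟨-, hy⟩ := arm_zero C B ((MulAut.conj y).toMonoidHom.comp α.toMonoidHom) (n := k) (fun z hz => by
    show MulAut.conj y (α z) = z
    rw [hα z hz, MulAut.conj_apply, ← C.comm hz y, mul_inv_cancel_right]) fun i => by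
    show π (MulAut.conj y (α (m i))) = _
    rw [MulAut.conj_apply, map_mul, map_mul, map_inv, hx, hm]
  have hid : (MulAut.conj y).toMonoidHom.comp α.toMonoidHom = MonoidHom.id X := by
    refine MonoidHom.eq_of_eqOn_dense B.top ?_
    rintro _ ⟨i, rfl⟩
    exact hy i
  refine ⟨y⁻¹, fun x => ?_⟩
  have h1 : y * α x * y⁻¹ = x := DFunLike.congr_fun hid x
  rw [inv_inv]
  conv_rhs => rw [← h1]
  group

end Abs

end Cfsg.Agent.KFacts.Mult.TwESixArms

end

-- merged: Cfsg.Agent.KFacts.Mult.TwESixInner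
section

/-!
# Automorphisms of `2².²E₆(2)`

`K` is a finite perfect central extension of `²E₆(2)` by a 2-group of order 4.  An automorphism of `K` acting trivially
on the kernel is inner (`inner`, `center_inner`).
-/

set_option autoImplicit false

namespace Cfsg.Agent.KFacts.Mult.TwESixInner

open Subgroup Cfsg Cfsg.Lie Cfsg.Agent.TwoESix Cfsg.Agent.TwoESix.Cox10 Cfsg.Agent.TwoESix.Lift
open Cfsg.Agent.R01.Lifts Cfsg.Agent.BabyU Cfsg.Agent.BabyU.OutCount Cfsg.Agent.BabyU.OutFree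
open Cfsg.Agent.KFacts.Mult.TwESixLift Cfsg.Agent.KFacts.Mult.TwESixArms

universe u v

/-- **Automorphisms of `2².²E₆(2)` acting trivially on the kernel are inner.** -/
theorem inner {F : Type v} [Field F] [Fintype F] (hF : Fintype.card F = 4) {K : Type u} [Group K] [Finite K]
    (hperf : commutator K = ⊤) {π : K →* twistedE6 F 2} (hs : Function.Surjective π) (hc : π.ker ≤ center K)
    (hp : IsPGroup 2 π.ker) (h4 : Nat.card π.ker = 4) (α : MulAut K) (hα : ∀ z, π z = 1 → α z = z) :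
    ∃ k : K, ∀ x, α x = k * x * k⁻¹ := by
  have hcard : ∀ (Y : Type u) [Group Y] (y : Fin 10 → Y), Good y → _root_.Subgroup.closure (Set.range y) = ⊤ →
      Nat.card Y ≤ Nat.card (twistedE6 F 2) := fun Y _ y hy hty => by
    rw [BM.HBFinal.card_E F hF]; exact (BM.HBFinal.card_le hy hty).2
  obtain ⟨e, r, he, hgen, hr, -, hcl⟩ := GoodInst.exists_good F hF
  have heT : ∀ i, e i ∈ rootClass F := fun i => by
    obtain ⟨g, hg⟩ := hcl i
    exact ⟨g, r, hr, hg⟩
  have B0 := ExtTwisted.basic F hF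
  have hF2 : Fintype.card F = 2 ^ 2 := hF
  have H : OutCount.Hyp hF2 (rootClass F) := LeviHyp.outHyp (LeviG.rootFacts hF hF2) B0.opp_trans
  have : Finite (twistedE6 F 2) := Finite.of_surjective π hs
  obtain ⟨hel, -⟩ := TwESixLift.main he hgen hcard hperf hs hc hp
  have hk : ∀ x, π x = 1 ↔ π (α x) = 1 := by
    intro x
    constructor
    · intro h; rw [hα x h]; exact h
    · intro h
      have h1 := hα _ h
      have h2 := α.injective h1
      rw [← h2]; exact h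
  exact inner' hcard hperf ⟨hs, hc, hel, h4⟩ (FusFinal.exists_not_commute (RootsInst.roots F hF)) H
    ⟨he, hgen⟩ heT α hα fun x => (ExtTwisted.cover_auto B0 hs α hk x).1

/-- **The same for a group with centre of order 4.** -/
theorem center_inner {K : Type u} [Group K] [Finite K] (hperf : commutator K = ⊤)
    (h4 : Nat.card ↥(center K) = 4)
    (hX : ∃ (F : Type) (_ : Field F) (_ : Fintype F), Fintype.card F = 4 ∧
      Nonempty (K ⧸ center K ≃* ↥(Lie.twistedE6 F 2))) (α : MulAut K) (hα : ∀ z ∈ center K, α z = z) :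
    ∃ k : K, ∀ x, α x = k * x * k⁻¹ := by
  obtain ⟨F, _, _, hF, ⟨f⟩⟩ := hX
  let π : K →* Lie.twistedE6 F 2 := f.toMonoidHom.comp (QuotientGroup.mk' (center K))
  have hker : π.ker = center K := by
    ext x
    rw [MonoidHom.mem_ker]
    show f (QuotientGroup.mk' (center K) x) = 1 ↔ _
    rw [map_eq_one_iff f f.injective, QuotientGroup.mk'_apply, QuotientGroup.eq_one_iff]
  have hs : Function.Surjective π := f.surjective.comp (QuotientGroup.mk'_surjective _)
  have hp : IsPGroup 2 π.ker := IsPGroup.of_card (n := 2) (by rw [hker, h4]; norm_num)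
  refine inner hF hperf hs hker.le hp (by rw [hker]; exact h4) α fun z hz => hα z ?_
  rw [← hker]; exact hz

end Cfsg.Agent.KFacts.Mult.TwESixInner

end
end

private theorem dce_58366b60f490 : _root_.True := by
  try have : _root_.True := by simp only [_root_.Cfsg.Agent.OddHalf.D9.GamO8.L.eq_1]
  exact _root_.True.intro
end

-- part: OddHalf/NI3/Bad/RowC
section
set_option linter.all false
open scoped Cfsg.Agent.FastGrp

-- merged: Cfsg.Agent.KFacts.PSpFourThree.AltFour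
section

/-!
# `PSp₄(3)`: the subgroup `A₄ = Ω(345)` normal in the centraliser of the involution `π m1 = -1₁₂` (helper931)

`E4`: generated by `π m1 * z = -1₃₄` and an element of order three; `normal_E4`, `iso_E4`.
-/

set_option autoImplicit false
set_option linter.style.haveILetI false
set_option maxRecDepth 100000

namespace Cfsg.Agent.KFacts.PSpFourThree

open Matrix Subgroup Cfsg
open Cfsg.Agent.Lib.FieldThree (F3)
open Cfsg.Agent.SmallSimple.S1000.Order25920PSp (Mat Sp π π_mul π_one π_eq m1 m2 m3 m4)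
open Cfsg.Agent.OddHalf.Small.PSp43 (πh πh_apply comm_or eq_or_of_π_eq T8 exists_t8 m2_mul m21 inv_eq_of_mul
  exists_cnt_one mat_neg_one)

namespace PW

/-- the unit -/
def one : PW := ⟨T8.one, false⟩

/-- the involution `m1 m3` -/
def aa : PW := ⟨⟨.o, .m, .o, .o, .o, .o, .o, .i⟩, false⟩

/-- `d ^ 2` -/
def d2 : PW := dd.mul dd

/-- the twelve elements -/
def E12 : List PW := [one, dd, d2, aa, aa.mul dd, aa.mul d2, dd.mul aa, dd.mul (aa.mul dd), dd.mul (aa.mul d2),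
  d2.mul aa, d2.mul (aa.mul dd), d2.mul (aa.mul d2)]

/-- conjugation of the two generators -/
def cjE (p : PW) : Bool :=
  and (anyG (fun e => (p.mul aa).beqs (e.mul p)) E12) (anyG (fun e => (p.mul dd).beqs (e.mul p)) E12)

theorem cjE_check : ∀ p0 p1 q0 q1 : F3, p0 * p0 + p1 * p1 + q0 * q0 + q1 * q1 = 1 →
    ∀ r0 r1 s0 s1 : F3, r0 * r0 + r1 * r1 + s0 * s0 + s1 * s1 = 1 →
    p0 * r0 + p1 * r1 + q0 * s0 + q1 * s1 = 0 → p1 * r0 - p0 * r1 + q1 * s0 - q0 * s1 = 0 →
    (cjE ⟨⟨p0, p1, q0, q1, r0, r1, s0, s1⟩, false⟩ && cjE ⟨⟨p0, p1, q0, q1, r0, r1, s0, s1⟩, true⟩) = true := by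
  decide +kernel

theorem cjE_spec {p : PW} (h : p.x.Un) : cjE p = true := by
  obtain ⟨⟨p0, p1, q0, q1, r0, r1, s0, s1⟩, s⟩ := p
  obtain ⟨u1, u2, u3, u4⟩ := h
  have h1 := cjE_check p0 p1 q0 q1 u1 r0 r1 s0 s1 u2 u3 u4
  rw [Bool.and_eq_true] at h1
  cases s
  · exact h1.1
  · exact h1.2

/-- the generator `a` -/
noncomputable def aS : Sp := m1 * m3

theorem aS_rep : Rep aS aa := by
  show ((m1 : Sp) : Mat) * (m3 : Sp) = aa.x.mat * sw false
  rw [sf, mul_one]
  decide +kernel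

/-- the subgroup `A₄` -/
noncomputable def E4 : Subgroup (PSp 2 F3) := closure {π aS, π dS}

theorem a_mem : π aS ∈ E4 := subset_closure (Or.inl rfl)
theorem d_mem : π dS ∈ E4 := subset_closure (Or.inr rfl)

/-- represented in `E4` -/
def In (p : PW) : Prop := ∃ g : Sp, Rep g p ∧ π g ∈ E4

theorem In.mul {p q : PW} (hp : In p) (hq : In q) : In (p.mul q) := by
  obtain ⟨g, hg, hg'⟩ := hp
  obtain ⟨h, hh, hh'⟩ := hq
  exact ⟨g * h, hg.mul hh, mul_mem hg' hh'⟩

theorem one_rep : Rep 1 one := by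
  show (1 : Mat) = T8.one.mat * sw false
  rw [sf, mul_one, T8.mat_one]

theorem In.one : In one := ⟨1, one_rep, one_mem _⟩

theorem in_E12 {e : PW} (he : e ∈ E12) : In e := by
  have h1 : In one := In.one
  have hd : In dd := ⟨dS, dS_rep, d_mem⟩
  have ha : In aa := ⟨aS, aS_rep, a_mem⟩
  have hd2 : In d2 := hd.mul hd
  simp only [E12, List.mem_cons, List.not_mem_nil, or_false] at he
  rcases he with rfl | rfl | rfl | rfl | rfl | rfl | rfl | rfl | rfl | rfl | rfl | rfl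
  · exact h1
  · exact hd
  · exact hd2
  · exact ha
  · exact ha.mul hd
  · exact ha.mul hd2
  · exact hd.mul ha
  · exact hd.mul (ha.mul hd)
  · exact hd.mul (ha.mul hd2)
  · exact hd2.mul ha
  · exact hd2.mul (ha.mul hd)
  · exact hd2.mul (ha.mul hd2)

/-- conjugates -/
theorem conj_mem {g h : Sp} {p q : PW} (hg : Rep g p) (hh : Rep h q)
    (hc : anyG (fun e => (p.mul q).beqs (e.mul p)) E12 = true) : π g * π h * (π g)⁻¹ ∈ E4 := by
  rw [anyG_iff] at hc
  obtain ⟨e, he, h1⟩ := hc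
  obtain ⟨f, hf, hfE⟩ := in_E12 he
  have h2 : π (g * h) = π (f * g) := by
    have e1 : ((g * h : Sp) : Mat) = (p.mul q).mat := hg.mul hh
    have e2 : ((f * g : Sp) : Mat) = (e.mul p).mat := hf.mul hg
    unfold beqs at h1
    rw [Bool.or_eq_true, beq_iff, beq_iff] at h1
    refine π_eq ?_
    rcases h1 with h | h
    · left; rw [e1, e2, h]
    · right; rw [e1, e2, h, mat_neg]
  rw [π_mul, π_mul] at h2
  rw [h2, mul_inv_cancel_right]
  exact hfE

/-- `E4` is normal in `C(π m1)` -/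
theorem normal_E4 {g : PSp 2 F3} (hg : g * π m1 = π m1 * g) {e : PSp 2 F3} (he : e ∈ E4) : g * e * g⁻¹ ∈ E4 := by
  obtain ⟨g, rfl⟩ := QuotientGroup.mk_surjective g
  have hg' : π g * π m1 = π m1 * π g := hg
  obtain ⟨p, hu, hr⟩ := exists_rep hg'
  have hc := cjE_spec hu
  unfold cjE at hc
  rw [Bool.and_eq_true] at hc
  have h1 : E4 ≤ E4.comap (MulAut.conj (π g)).toMonoidHom := by
    unfold E4
    rw [closure_le]
    rintro x (rfl | rfl)
    · exact conj_mem hr aS_rep hc.1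
    · exact conj_mem hr dS_rep hc.2
  exact h1 he

theorem aS_comm : π aS * π m1 = π m1 * π aS := by
  rw [← π_mul, ← π_mul]
  refine π_eq (Or.inl ?_)
  show ((m1 : Sp) : Mat) * (m3 : Sp) * (m1 : Sp) = (m1 : Sp) * (((m1 : Sp) : Mat) * (m3 : Sp))
  decide +kernel

theorem E4_le : E4 ≤ centralizer ({π m1} : Set (PSp 2 F3)) := by
  unfold E4
  rw [closure_le]
  rintro x (rfl | rfl)
  · exact mem_centralizer_singleton_iff.2 aS_comm
  · exact mem_centralizer_singleton_iff.2 dS_comm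

theorem Rep.eq_of {g h : Sp} {p q : PW} (hg : Rep g p) (hh : Rep h q) (hb : p.beqs q = true) : π g = π h := by
  have e1 : (g : Mat) = p.mat := hg
  have e2 : (h : Mat) = q.mat := hh
  unfold beqs at hb
  rw [Bool.or_eq_true, beq_iff, beq_iff] at hb
  refine π_eq ?_
  rcases hb with h | h
  · left; rw [e1, e2, h]
  · right; rw [e1, e2, h, mat_neg]

theorem iso_E4 : Nonempty (↥E4 ≃* ↥(alternatingGroup (Fin 4))) := by
  refine Lib.VonDyck.closure_equiv_alternatingFour ?_ ?_ ?_ ?_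
  · rw [pow_two, ← π_mul, ← π_one]
    exact (aS_rep.mul aS_rep).eq_of one_rep (by decide +kernel)
  · rw [pow_succ, pow_two, ← π_mul, ← π_mul, ← π_one]
    exact ((dS_rep.mul dS_rep).mul dS_rep).eq_of one_rep (by decide +kernel)
  · rw [pow_succ, pow_two, ← π_mul, ← π_mul, ← π_mul, ← π_one]
    exact (((aS_rep.mul dS_rep).mul (aS_rep.mul dS_rep)).mul (aS_rep.mul dS_rep)).eq_of one_rep (by decide +kernel)
  · refine Cfsg.Agent.SmallSimple.S1000.Order25920PSp.π_ne_one ?_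
    show ∀ a : F3, ((m1 : Sp) : Mat) * (m3 : Sp) ≠ a • 1
    decide +kernel

end PW

end Cfsg.Agent.KFacts.PSpFourThree

end

-- merged: Cfsg.Agent.OddHalf.NI3.Bad.RowC
section

/-!
# THEOREM NIB, table (KD), `D = PSp₄(3)` (helper931)

`sp4 : XSp4 X → RowC X`.
-/

set_option autoImplicit false
set_option linter.style.haveILetI false
set_option maxRecDepth 100000

namespace Cfsg.Agent.KFacts.PSpFourThree

open Matrix Subgroup Cfsg
open Cfsg.Agent.Lib.FieldThree (F3)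
open Cfsg.Agent.SmallSimple.S1000.Order25920PSp (Mat Sp π π_mul π_one π_eq m1 m2 m3 m4)
open Cfsg.Agent.OddHalf.Small.PSp43 (bm m3_eq J_eq Pm m4_eq)
open Cfsg.Agent.OddHalf.NI3 Cfsg.Agent.OddHalf.NI3.Bad

namespace PE

/-- the diagonal involution -/
def e1 : PE := ⟨q1, q1, false⟩

theorem ok_e1 : e1.Ok := ⟨by decide, by decide⟩

theorem el_e1 : e1.el = π m1 := by
  rw [el_eq ok_e1]
  refine π_eq (Or.inl ?_)
  show bmm q1 q1 * sw false = m1
  rw [sf, mul_one]
  unfold bmm bm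
  decide +kernel

/-- the noncentral involutions of `R` are conjugate to `e1` -/
theorem w_check : allPE (fun p => or (not (and (inR p) (and (isOne (p.mul p)) (and (not (isOne p)) (not (p.beqs zz))))))
    (anyG (fun x => anyG (fun y => (PE.mul ⟨x, y, false⟩ e1).beqs (p.mul ⟨x, y, false⟩)) slL) slL)) = true := by
  decide +kernel

theorem exists_cj {r : PSp 2 F3} (hr : r ∈ R) (h2 : r * r = 1) (h1 : r ≠ 1) (hz : r ≠ z) :
    ∃ c : PSp 2 F3, c * z = z * c ∧ c * π m1 * c⁻¹ = r := by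
  obtain ⟨p, hp, rfl⟩ := exists_el (R_comm hr)
  have h := allPE_spec w_check hp
  rw [Bool.or_eq_true, Bool.not_eq_true'] at h
  rcases h with h | h
  · exfalso
    have e1' : inR p = true := (mem_R hp).1 hr
    have e2 : isOne (p.mul p) = true := by rw [← el_eq_one (hp.mul hp), el_mul hp hp, h2]
    have e3 : isOne p = false := by
      rw [Bool.eq_false_iff]
      intro h3
      exact h1 ((el_eq_one hp).2 h3)
    have e4 : p.beqs zz = false := by
      rw [Bool.eq_false_iff]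
      intro h3
      exact hz (eq_el hp ok_zz h3)
    rw [e1', e2, e3, e4] at h
    exact absurd h (by decide)
  · rw [anyG_iff] at h
    obtain ⟨x, hx, h⟩ := h
    rw [anyG_iff] at h
    obtain ⟨y, hy, h⟩ := h
    have hc : Ok ⟨x, y, false⟩ := ⟨slL_det x hx, slL_det y hy⟩
    refine ⟨(PE.mk x y false).el, z_comm hc, ?_⟩
    have h3 := eq_el (hc.mul ok_e1) (hp.mul hc) h
    rw [el_mul hc ok_e1, el_mul hp hc, el_e1] at h3
    rw [h3, mul_inv_cancel_right]

theorem m1z_mem : π m1 * z ∈ PW.E4 := by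
  have h : π m1 * z = π PW.aS := by
    rw [z, el_zz]; rfl
  rw [h]
  exact PW.a_mem

end PE

open PE (z R)

/-- conjugates of a classical pair at `z` -/
theorem rowC_z {w : PSp 2 F3} (hwR : w ∈ R) (h2 : w * w = 1) (h1 : w ≠ 1) (hz : w ≠ z) :
    ∃ E : Subgroup (PSp 2 F3), Sn E (centralizer ({w} : Set (PSp 2 F3))) ∧ w * z ∈ E ∧
      Nonempty (↥E ≃* ↥(alternatingGroup (Fin 4))) := by
  obtain ⟨c, hcz, hcw⟩ := PE.exists_cj hwR h2 h1 hz
  refine ⟨PW.E4.map (MulAut.conj c).toMonoidHom, ?_, ?_, ?_⟩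
  · have h3 : Sn PW.E4 (centralizer ({π m1} : Set (PSp 2 F3))) := by
      refine Sn.of_normal PW.E4_le ?_
      intro g hg
      rw [mem_centralizer_singleton_iff] at hg
      rw [mem_normalizer_iff]
      intro x
      constructor
      · exact fun hx => PW.normal_E4 hg hx
      · intro hx
        have hg' : g⁻¹ * π m1 = π m1 * g⁻¹ := (show Commute g (π m1) from hg).inv_left.eq
        have h4 := PW.normal_E4 hg' hx
        have e : g⁻¹ * (g * x * g⁻¹) * g⁻¹⁻¹ = x := by group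
        rwa [e] at h4
    have h4 := h3.map (MulAut.conj c).toMonoidHom
    have h5 := cent_mapE (MulAut.conj c) (π m1)
    have h6 : (MulAut.conj c) (π m1) = w := hcw
    rw [h6] at h5
    rw [← h5]
    exact h4
  · refine ⟨π m1 * z, PE.m1z_mem, ?_⟩
    show c * (π m1 * z) * c⁻¹ = w * z
    have h7 : c * z * c⁻¹ = z := by rw [hcz, mul_inv_cancel_right]
    calc c * (π m1 * z) * c⁻¹ = (c * π m1 * c⁻¹) * (c * z * c⁻¹) := by group
      _ = w * z := by rw [hcw, h7]
  · obtain ⟨f⟩ := PW.iso_E4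
    exact ⟨(PW.E4.equivMapOfInjective (MulAut.conj c).toMonoidHom (MulAut.conj c).injective).symm.trans f⟩

/-- the elements of order four of a classical `SL₂(3)` -/
theorem mem_core {D : Type*} [Group D] [Finite D] {x : D} {A : Subgroup D} (h : Cl x A) {p : D} (hp : p ∈ A)
    (hpp : p * p = x) : p ∈ (pCore 2 ↥(centralizer ({x} : Set D))).map (centralizer ({x} : Set D)).subtype := by
  have h1 : IsPr (A.subgroupOf (centralizer ({x} : Set D))) (⟨x, h.sn.1 h.pr.mem⟩ : ↥(centralizer ({x} : Set D))) :=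
    h.pr.subgroupOf h.sn.1
  exact ⟨⟨p, h.sn.1 hp⟩, h1.mem_pCore h.sn.2 (y := ⟨p, h.sn.1 hp⟩) hp (Subtype.ext hpp), rfl⟩

theorem core_norm {D : Type*} [Group D] [Finite D] {x g n : D} (hg : g * x = x * g)
    (hn : n ∈ (pCore 2 ↥(centralizer ({x} : Set D))).map (centralizer ({x} : Set D)).subtype) :
    g * n * g⁻¹ ∈ (pCore 2 ↥(centralizer ({x} : Set D))).map (centralizer ({x} : Set D)).subtype := by
  obtain ⟨m, hm, rfl⟩ := hn
  have h1 : (pCore 2 ↥(centralizer ({x} : Set D))).Normal := Lib.Cores.pCore_normal 2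
  exact ⟨_, h1.conj_mem m hm ⟨g, mem_centralizer_singleton_iff.2 hg⟩, rfl⟩

theorem rowC_model : RowC (PSp 2 F3) := by
  intro x A B w hp
  -- `x` is conjugate to `z`
  have hx2 : x * x = 1 := hp.a.pr.t3.z_sq
  have hcls := classes x hx2 hp.a.pr.t3.z_ne
  have hc : ∃ k, k * z * k⁻¹ = x := by
    rcases hcls with h | h
    · exact h
    · exfalso
      obtain ⟨a, ha, b, hb, haz, hbz, hab⟩ := hp.a.pr.t3.ex4
      apply hab
      refine h ((pCore 2 ↥(centralizer ({x} : Set (PSp 2 F3)))).map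
        (centralizer ({x} : Set (PSp 2 F3))).subtype) ?_ ?_ ?_ a (mem_core hp.a ha haz) b (mem_core hp.a hb hbz)
      · exact (Lib.Cores.pCore_isPGroup 2).map _
      · rintro _ ⟨n, -, rfl⟩
        exact mem_centralizer_singleton_iff.1 n.2
      · intro g hg n hn
        exact core_norm hg hn
  obtain ⟨k, hk⟩ := hc
  -- transport to `z`
  have hp' := hp.mapE (MulAut.conj k⁻¹)
  have hkx : (MulAut.conj k⁻¹) x = z := by
    show k⁻¹ * x * k⁻¹⁻¹ = z
    rw [← hk]; group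
  rw [hkx] at hp'
  set w' := (MulAut.conj k⁻¹) w with hw'
  obtain ⟨p, hpA, q, hqB, hpp, hqq, hpq⟩ := hp'.dec
  have hcore : (pCore 2 ↥(centralizer ({z} : Set (PSp 2 F3)))).map (centralizer ({z} : Set (PSp 2 F3))).subtype ≤ R := by
    refine PE.max_R _ ((Lib.Cores.pCore_isPGroup 2).map _) ?_ ?_
    · rintro _ ⟨n, -, rfl⟩
      exact mem_centralizer_singleton_iff.1 n.2
    · intro g hg n hn
      exact core_norm hg hn
  have hpR : p ∈ R := hcore (mem_core hp'.a hpA hpp)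
  have hqR : q ∈ R := hcore (mem_core hp'.b hqB hqq)
  have hpqc : p * q = q * p := mem_centralizer_iff.1 (hp'.comm hqB) p hpA
  have hzz : z * z = 1 := PE.z_mul_z
  have hwR : w' ∈ R := by rw [hpq]; exact mul_mem hpR hqR
  have hw2 : w' * w' = 1 := by
    rw [hpq]
    calc p * q * (p * q) = p * (q * p) * q := by group
      _ = (p * p) * (q * q) := by rw [← hpqc]; group
      _ = 1 := by rw [hpp, hqq, hzz]
  -- `p` is not in `B`
  have hpB : ∀ c : PSp 2 F3, (c = 1 ∨ c = z) → p * q ≠ c := by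
    intro c hc' hpc
    have h3 : p = c * q⁻¹ := by rw [← hpc]; group
    have hzB : z ∈ B.map (MulAut.conj k⁻¹).toMonoidHom := hp'.b.pr.mem
    have hpB' : p ∈ B.map (MulAut.conj k⁻¹).toMonoidHom := by
      rw [h3]
      refine mul_mem ?_ (inv_mem hqB)
      rcases hc' with rfl | rfl
      · exact one_mem _
      · exact hzB
    rcases hp'.a.pr.t3.cen p hpA (fun y hy _ => mem_centralizer_iff.1 (hp'.comm hpB') y hy |>.symm) with h4 | h4
    · rw [h4, mul_one] at hpp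
      exact hp'.a.pr.t3.z_ne hpp.symm
    · rw [h4, hzz] at hpp
      exact hp'.a.pr.t3.z_ne hpp.symm
  have hw1 : w' ≠ 1 := by rw [hpq]; exact hpB 1 (Or.inl rfl)
  have hwz : w' ≠ z := by rw [hpq]; exact hpB z (Or.inr rfl)
  obtain ⟨E, hE, hwE, ⟨f⟩⟩ := rowC_z hwR hw2 hw1 hwz
  refine ⟨E.map (MulAut.conj k).toMonoidHom, ?_, ?_, ?_⟩
  · have h3 := hE.map (MulAut.conj k).toMonoidHom
    have h4 := cent_mapE (MulAut.conj k) w'
    have h5 : (MulAut.conj k) w' = w := by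
      rw [hw']
      show k * (k⁻¹ * w * k⁻¹⁻¹) * k⁻¹ = w
      group
    rw [h5] at h4
    rw [← h4]
    exact h3
  · refine ⟨w' * z, hwE, ?_⟩
    show k * (w' * z) * k⁻¹ = w * x
    rw [hw', ← hk]
    show k * (k⁻¹ * w * k⁻¹⁻¹ * z) * k⁻¹ = w * (k * z * k⁻¹)
    group
  · exact ⟨(E.equivMapOfInjective (MulAut.conj k).toMonoidHom (MulAut.conj k).injective).symm.trans f⟩

/-- **(KD), `PSp₄(3)`** -/
theorem sp4 (X : Type*) [Group X] (h : XSp4 X) : RowC X := by
  obtain ⟨F, _, _, hF, ⟨e⟩⟩ := h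
  exact rowC_model.congr (e.trans
    (Cfsg.Agent.LieClassical.FieldTransfer.pspCongr 2 (Cfsg.Agent.Lib.FieldThree.equivOfCard hF)))

end Cfsg.Agent.KFacts.PSpFourThree

end

private theorem dce_a8311f9fbb3d : _root_.True := by
  try have : _root_.True := by simp only [_root_.Cfsg.Agent.KFacts.PSpFourThree.PW.E12.eq_1]
  exact _root_.True.intro
end

-- part: OddHalf/D7/Uni/FaceRF
section
prune_inst 0x10302d440d22020000180090c100046036000090104000000020050204c1846025078021b820150018088844203c006001440080420800000a000000011d0180100002000040a100020008000000000000000000000000000000000000000004000000000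
set_option linter.all false
open scoped Cfsg.Agent.FastGrp

-- merged: Cfsg.Agent.OddHalf.D7.Uni.RvCard
section

/-!
# `|R_v| = |Q_v|²`, `[R_v, R_v] = W_v`, and `RData` from the lines through `v` (helper371, bb ODD 10033, section 4)
-/

set_option autoImplicit false

namespace Cfsg.Agent.OddHalf.D7.Uni.Quad

open Defs

variable {G : Type*} [Group G] {ι : Type*}

section card

/-- `|K| = |f K| |K ∩ ker f|` -/
theorem card_map_ker {H : Type*} [Group H] (f : G →* H) (K : Subgroup G) :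
    Nat.card K = Nat.card (K.map f) * Nat.card (f.ker ⊓ K : Subgroup G) := by
  have h1 := Subgroup.card_mul_index (f.comp K.subtype).ker
  rw [Subgroup.index_ker] at h1
  have h2 : (f.comp K.subtype).range = K.map f := by
    rw [MonoidHom.range_comp, Subgroup.range_subtype]
  have h3 : Nat.card (f.comp K.subtype).ker = Nat.card (f.ker ⊓ K : Subgroup G) := by
    refine Nat.card_congr ⟨fun x => ⟨x.1.1, x.2, x.1.2⟩, fun x => ⟨⟨x.1, x.2.2⟩, x.2.1⟩,
      fun x => rfl, fun x => rfl⟩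
  rw [h2, h3] at h1
  rw [← h1, mul_comm]

end card

namespace RData

variable {t : G} {X W Q : Subgroup G} {A : ι → Subgroup G}

/-- `|W| = |X|²` -/
theorem card_W (D : RData t X W Q A) : Nat.card W = Nat.card X ^ 2 := by
  let f : W →* G :=
    { toFun := fun w => w.1⁻¹ * (t * w.1 * t)
      map_one' := by simp [D.tt]
      map_mul' := fun a b => by
        obtain ⟨x, hx, ex⟩ := D.W_brk a.1 a.2
        have h := D.W_ab x (D.XW hx) _ (W.inv_mem b.2)
        change (a.1 * b.1)⁻¹ * (t * (a.1 * b.1) * t) = _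
        rw [D.t_mul, ex]
        calc (a.1 * b.1)⁻¹ * (a.1 * x * (t * b.1 * t)) = (b.1⁻¹ * x) * (t * b.1 * t) := by group
          _ = _ := by rw [← h]; group }
  have h1 := Subgroup.card_mul_index f.ker
  rw [Subgroup.index_ker] at h1
  have h2 : f.range = X := by
    ext x
    constructor
    · rintro ⟨w, rfl⟩
      obtain ⟨y, hy, ey⟩ := D.W_brk w.1 w.2
      change w.1⁻¹ * (t * w.1 * t) ∈ X
      rw [ey, inv_mul_cancel_left]
      exact hy
    · intro hx
      obtain ⟨w, hw, ew⟩ := D.W_surj x hx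
      refine ⟨⟨w, hw⟩, ?_⟩
      change w⁻¹ * (t * w * t) = x
      rw [ew, inv_mul_cancel_left]
  have h3 : Nat.card f.ker = Nat.card X := by
    refine Nat.card_congr ⟨fun w => ⟨w.1.1, D.W_cent _ w.1.2 ?_⟩,
      fun x => ⟨⟨x.1, D.XW x.2⟩, ?_⟩, fun x => rfl, fun x => rfl⟩
    · rw [D.comm_iff]
      have h : w.1.1⁻¹ * (t * w.1.1 * t) = 1 := w.2
      exact (inv_mul_eq_one.mp h).symm
    · change x.1⁻¹ * (t * x.1 * t) = 1
      rw [D.comm_iff.mp (D.Qt _ (D.XQ x.2)), inv_mul_cancel]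
  rw [h2, h3] at h1
  rw [← h1, sq]

/-- `|R| = |Q|²` -/
theorem card_R [Finite G] (D : RData t X W Q A) : Nat.card (Rv W Q A) = Nat.card Q ^ 2 := by
  set R := Rv W Q A with hR
  have hn : (W.subgroupOf R).Normal := ⟨fun w hw r => by
    rw [Subgroup.mem_subgroupOf] at hw ⊢
    have h := D.R_W r.2 w.1 hw
    have : ((r * w * r⁻¹ : R) : G) = w.1 := by
      push_cast
      rw [h, mul_inv_cancel_right]
    rw [this]
    exact hw⟩
  let mk : R →* R ⧸ W.subgroupOf R := QuotientGroup.mk' _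
  let ψ : R →* R ⧸ W.subgroupOf R :=
    { toFun := fun r => mk ⟨r.1⁻¹ * (t * r.1 * t), R.mul_mem (R.inv_mem r.2) (D.t_R r.2)⟩
      map_one' := by
        rw [← map_one mk]
        congr 1
        apply Subtype.ext
        simp [D.tt]
      map_mul' := fun a b => by
        rw [← map_mul]
        refine QuotientGroup.eq.mpr ?_
        rw [Subgroup.mem_subgroupOf]
        push_cast
        have ha : a.1⁻¹ * (t * a.1 * t) ∈ R := R.mul_mem (R.inv_mem a.2) (D.t_R a.2)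
        have h1 := D.R_R (R.inv_mem (D.t_R b.2)) (R.inv_mem ha)
        have h2 := D.R_R (R.inv_mem b.2) ha
        -- `(s⁻¹ c s c')⁻¹ (c c')`, `c' = s⁻¹ s^t`
        have e : ((a.1 * b.1)⁻¹ * (t * (a.1 * b.1) * t))⁻¹ *
            (a.1⁻¹ * (t * a.1 * t) * (b.1⁻¹ * (t * b.1 * t))) =
            (t * b.1 * t)⁻¹ * ((a.1⁻¹ * (t * a.1 * t))⁻¹ * b.1 * (a.1⁻¹ * (t * a.1 * t)) * b.1⁻¹) *
              (t * b.1 * t) := by
          rw [D.t_mul]
          group
        rw [e]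
        have h3 := D.R_R (R.inv_mem ha) b.2
        rw [inv_inv] at h3
        have h4 := D.R_W (R.inv_mem (D.t_R b.2)) _ h3
        rw [h4, inv_mul_cancel_right]
        exact h3 }
  have hker : ∀ r : R, r ∈ ψ.ker ↔ ∃ w ∈ W, r.1 * w ∈ Q := by
    intro r
    rw [MonoidHom.mem_ker]
    have h0 : ψ r = 1 ↔ r.1⁻¹ * (t * r.1 * t) ∈ W := by
      change QuotientGroup.mk _ = _ ↔ _
      rw [QuotientGroup.eq_one_iff, Subgroup.mem_subgroupOf]
    rw [h0]
    constructor
    · intro h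
      exact D.fix_R r.2 h (by group)
    · rintro ⟨w, hw, h⟩
      have h1 := D.comm_iff.mp (D.Qt _ h)
      obtain ⟨x, hx, ex⟩ := D.W_brk w hw
      rw [D.t_mul, ex] at h1
      have h2 : t * r.1 * t = r.1 * (w * (w * x)⁻¹) := by
        calc t * r.1 * t = (t * r.1 * t) * (w * x) * (w * x)⁻¹ := by group
          _ = _ := by rw [h1]; group
      rw [h2, inv_mul_cancel_left]
      exact W.mul_mem hw (W.inv_mem (W.mul_mem hw (D.XW hx)))
  have hrange : ψ.range = (Q.subgroupOf R).map mk := by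
    ext z
    constructor
    · rintro ⟨r, rfl⟩
      obtain ⟨q, hq, w, hw, e⟩ := D.brk_R r.2
      refine ⟨⟨q, D.Q_R hq⟩, hq, ?_⟩
      refine QuotientGroup.eq.mpr ?_
      rw [Subgroup.mem_subgroupOf]
      push_cast
      rw [e]
      have : q⁻¹ * (r.1⁻¹ * (r.1 * (q * w))) = w := by group
      rw [this]
      exact hw
    · rintro ⟨q, hq, rfl⟩
      obtain ⟨r, hr, w, hw, e⟩ := D.surj_R (Subgroup.mem_subgroupOf.mp hq)
      refine ⟨⟨r, hr⟩, ?_⟩
      refine QuotientGroup.eq.mpr ?_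
      rw [Subgroup.mem_subgroupOf]
      push_cast
      rw [e]
      have : (r⁻¹ * (r * (q.1 * w)))⁻¹ * q.1 = w⁻¹ := by group
      rw [this]
      exact W.inv_mem hw
  have hkerc : ψ.ker.map mk = (Q.subgroupOf R).map mk := by
    ext z
    constructor
    · rintro ⟨r, hr, rfl⟩
      obtain ⟨w, hw, h⟩ := (hker r).mp hr
      refine ⟨⟨r.1 * w, D.Q_R h⟩, h, ?_⟩
      refine QuotientGroup.eq.mpr ?_
      rw [Subgroup.mem_subgroupOf]
      push_cast
      have : (r.1 * w)⁻¹ * r.1 = w⁻¹ := by group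
      rw [this]
      exact W.inv_mem hw
    · rintro ⟨q, hq, rfl⟩
      exact ⟨q, (hker q).mpr ⟨1, W.one_mem, by rw [mul_one]; exact hq⟩, rfl⟩
  have hmkker : mk.ker = W.subgroupOf R := QuotientGroup.ker_mk' _
  have c1 := Subgroup.card_mul_index ψ.ker
  rw [Subgroup.index_ker, hrange] at c1
  have c2 := card_map_ker mk ψ.ker
  have c3 := card_map_ker mk (Q.subgroupOf R)
  have c4 : Nat.card (mk.ker ⊓ ψ.ker : Subgroup R) = Nat.card W := by
    rw [hmkker]
    refine Nat.card_congr ⟨fun x => ⟨x.1.1, x.2.1⟩, fun x => ⟨⟨x.1, D.W_R x.2⟩, x.2, ?_⟩,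
      fun x => rfl, fun x => rfl⟩
    exact (hker _).mpr ⟨x.1⁻¹, W.inv_mem x.2, by rw [mul_inv_cancel]; exact Q.one_mem⟩
  have c5 : Nat.card (mk.ker ⊓ Q.subgroupOf R : Subgroup R) = Nat.card X := by
    rw [hmkker]
    exact Nat.card_congr ⟨fun x => ⟨x.1.1, D.Q_W x.2.2 x.2.1⟩,
      fun x => ⟨⟨x.1, D.Q_R (D.XQ x.2)⟩, D.XW x.2, D.XQ x.2⟩, fun x => rfl, fun x => rfl⟩
  have c6 : Nat.card (Q.subgroupOf R) = Nat.card Q :=
    Nat.card_congr (Subgroup.subgroupOfEquivOfLe D.Q_R).toEquiv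
  rw [hkerc, c4] at c2
  rw [c5, c6] at c3
  rw [← c1, c2, c3, D.card_W]
  ring

end RData

variable {F : Type*} [Field F]

/-- `RData` from the lines through `v` -/
theorem RData.of_lines {σ : F →+* F} {t : G} {X W Q : Subgroup G} {E : ι → Subgroup G}
    {np nr m g : ι → F → G} (L : ∀ i, EL σ t (E i) W Q (np i) (nr i) (m i) (g i))
    (tt : t * t = 1) (hne : ∃ x ∈ X, x ≠ 1) (i₀ : ι)
    (hX : ∀ i x, x ∈ X ↔ ∃ a, σ a = a ∧ x = np i a)
    (Qt : ∀ q ∈ Q, t * q = q * t) (Q_comm : ∀ a ∈ Q, ∀ b ∈ Q, a * b * a⁻¹ * b⁻¹ ∈ X)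
    (Q_sq : ∀ q ∈ Q, q * q ∈ X) (Q_cen : ∀ z ∈ Q, (∀ q ∈ Q, z * q = q * z) → z ∈ X)
    (k2 : ∀ c, c * t = t * c → (∀ q ∈ Q, q * c * q⁻¹ * c⁻¹ ∈ X) → c ∈ Q ∨ t * c ∈ Q)
    (Q_gen : Q ≤ Subgroup.closure {q | ∃ i x μ, σ x = x ∧ q = np i x * m i μ}) :
    RData t X W Q (fun i => Evl (E i) W Q) where
  tt := tt
  X_ne := hne
  XQ := fun x hx => by
    obtain ⟨a, ha, rfl⟩ := (hX i₀ x).mp hx
    exact (L i₀).npQ a ha
  Qt := Qt
  Q_comm := Q_comm
  Q_sq := Q_sq
  Q_cen := Q_cen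
  k2 := k2
  W_ab := fun v hv w hw => (L i₀).ab v ((L i₀).WE hv) w ((L i₀).WE hw)
  W_sq := fun w hw => (L i₀).sq w ((L i₀).WE hw)
  W_Q := fun w hw q hq => ((L i₀).q_W hq hw).symm
  W_brk := fun w hw => by
    obtain ⟨x, hx, e⟩ := (L i₀).dW.brk w hw
    exact ⟨_, (hX i₀ _).mpr ⟨x, hx, rfl⟩, e⟩
  W_surj := fun x hx => by
    obtain ⟨a, ha, rfl⟩ := (hX i₀ x).mp hx
    exact (L i₀).dW.surj a ha
  W_cent := fun w hw h => by
    obtain ⟨x, hx, rfl⟩ := (L i₀).dW.cent w hw h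
    exact (hX i₀ _).mpr ⟨x, hx, rfl⟩
  XW := fun x hx => by
    obtain ⟨a, ha, rfl⟩ := (hX i₀ x).mp hx
    exact (L i₀).dW.mem a ha
  A_ab := fun i a ha b hb => (L i).ab a ((L i).Evl_le ha) b ((L i).Evl_le hb)
  A_sq := fun i a ha => by
    rw [(L i).sq a ((L i).Evl_le ha)]
    exact W.one_mem
  A_W := fun i a ha w hw => (L i).ab a ((L i).Evl_le ha) w ((L i).WE hw)
  A_Q := fun i a ha q hq => ((L i).mem_Evl.mp ha).2 q hq
  A_brk := fun i a ha => by
    obtain ⟨x, μ, hx, e⟩ := (L i).brk_Evl ha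
    exact ⟨_, (L i).mem_Q hx, (L i).V_le hx, e⟩
  Q_gen := Q_gen.trans (Subgroup.closure_mono (by
    rintro _ ⟨i, x, μ, hx, rfl⟩
    obtain ⟨e, he, h⟩ := (L i).surj_Evl (x := x) (μ := μ) hx
    exact Or.inr ⟨i, e, he, h⟩))

end Cfsg.Agent.OddHalf.D7.Uni.Quad

end

-- merged: Cfsg.Agent.OddHalf.D7.Uni.RvPt
section

/-!
# The input of `Norm` from sections 3 and 4 (helper371, text: bb ODD 10033)

`RData.pt : Norm.Pt`, `RData.gen`, `RData.pair_of : Norm.Pair`.
-/

set_option autoImplicit false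

namespace Cfsg.Agent.OddHalf.D7.Uni.Quad

open Defs

variable {G : Type*} [Group G] {ι : Type*}

namespace RData

variable {t : G} {X W Q : Subgroup G} {A : ι → Subgroup G}

theorem pt (D : RData t X W Q A) : Norm.Pt t X W Q (Rv W Q A) where
  tt := D.tt
  WR := D.W_R
  QR := D.Q_R
  tQ := D.Qt
  Wc := fun w hw r hr => (D.R_W hr w hw).symm
  com := fun r hr s hs => D.R_R hr hs
  sq := fun r hr => D.R_sq hr
  brk := fun r hr => D.brk_R hr
  onto := fun q hq => D.surj_R hq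
  Wt := fun w hw => by
    obtain ⟨x, hx, e⟩ := D.W_brk w hw
    rw [e]
    exact W.mul_mem hw (D.XW hx)
  Wfix := fun w hw h => D.W_cent w hw h
  Winv := fun w hw h => by
    have h1 : w⁻¹ = w := inv_eq_of_mul_eq_one_left (D.W_sq w hw)
    rw [h1] at h
    exact D.W_surj w (D.W_cent w hw (D.comm_iff.mpr h))
  k2 := fun c ht hQ hW => by
    refine D.mem_Q_of (fun w hw => hW w hw) (fun q hq => ?_) ht
    exact swapc (D.XW (hQ q hq))

theorem gen (D : RData t X W Q A) : Rv W Q A ≤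
    Subgroup.closure {e | e ∈ Rv W Q A ∧ ∃ q ∈ Q, t * e * t = e * q ∧ q * e = e * q} := by
  refine Subgroup.closure_mono ?_
  rintro a (⟨i, ha⟩ | ha | ha)
  · obtain ⟨q, hq, hqA, e⟩ := D.A_brk i a ha
    exact ⟨D.A_R i ha, q, hq, e, D.A_ab i q hqA a ha⟩
  · exact ⟨D.Q_R ha, 1, Q.one_mem, by rw [mul_one]; exact D.comm_iff.mp (D.Qt a ha),
      by rw [one_mul, mul_one]⟩
  · obtain ⟨x, hx, e⟩ := D.W_brk a ha
    exact ⟨D.W_R ha, x, D.XQ hx, e, D.W_ab x (D.XW hx) a ha⟩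

variable {F : Type*} [Field F] {σ : F →+* F} {E : Subgroup G} {np nr m g : F → G}

/-- the pair `(v, u)`, `u` on the line `l` through `v` -/
theorem pair_of (D : RData t X W Q A) (L : EL σ t E W Q np nr m g) (hA : Evl E W Q ≤ Rv W Q A)
    {Xu Wu : Subgroup G} (hWu : Wu ≤ E) (hXu : Xu ≤ Wu) (tXu : ∀ z ∈ Xu, t * z = z * t)
    (brk : ∀ w ∈ Wu, ∃ z ∈ Xu, t * w * t = w * z)
    (hQ : ∀ z ∈ Xu, ∀ q ∈ Q, z * q * z⁻¹ ∈ Q)
    (perp : ∀ z ∈ Xu, z ≠ 1 → ∀ q ∈ Q, q⁻¹ * z⁻¹ * q * z ∈ X → ∀ w ∈ Wu, w * q = q * w) :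
    Norm.Pair t X W Q (Rv W Q A) Xu Wu where
  tXu := tXu
  Xu2 := fun z hz => L.sq z (hWu (hXu hz))
  XWu := hXu
  Wuc := fun w hw z hz => L.ab w (hWu hw) z (hWu (hXu hz))
  brk := brk
  WW := fun w hw v hv => L.ab w (hWu hw) v (L.WE hv)
  nQ := fun w hw q hq => by
    have h1 := L.comm_Q (E.inv_mem (hWu hw)) (Q.inv_mem hq)
    have h2 : w⁻¹ * q⁻¹ * w * q ∈ Evl E W Q := by
      -- `[w⁻¹ , q⁻¹]`
      have h3 := (Evl E W Q).inv_mem (L.comm_Q (e := w⁻¹) (q := q⁻¹) (E.inv_mem (hWu hw)) (Q.inv_mem hq))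
      have e : (q⁻¹ * w⁻¹ * (q⁻¹)⁻¹ * (w⁻¹)⁻¹)⁻¹ = w⁻¹ * q⁻¹ * w * q := by group
      rwa [e] at h3
    exact ⟨hA h2, fun w' hw' => L.ab w' (hWu hw') _ (L.Evl_le h2)⟩
  nR := fun z hz r hr => by
    have hzW : ∀ w ∈ W, z * w = w * z := fun w hw => L.ab z (hWu (hXu hz)) w (L.WE hw)
    have hzi : z⁻¹ = z := L.inv_E (hWu (hXu hz))
    refine D.conj_mem D (tXu z hz) ?_ ?_ ?_ ?_ hr
    · intro w hw
      rw [mul_assoc, ← hzW w hw, inv_mul_cancel_left]
      exact hw
    · intro w hw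
      rw [hzW w hw, mul_inv_cancel_right]
      exact hw
    · intro q hq
      have := hQ z⁻¹ (Xu.inv_mem hz) q hq
      rwa [inv_inv] at this
    · intro q hq
      exact hQ z hz q hq
  lift := fun z hz q hq => by
    have hzE := hWu (hXu hz)
    have h2 : q⁻¹ * z⁻¹ * q * z ∈ Evl E W Q := by
      have h3 := L.comm_Q (e := z⁻¹) (q := q⁻¹) (E.inv_mem hzE) (Q.inv_mem hq)
      have e : q⁻¹ * z⁻¹ * (q⁻¹)⁻¹ * (z⁻¹)⁻¹ = q⁻¹ * z⁻¹ * q * z := by group
      rwa [e] at h3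
    have c1 : Commute t z := tXu z hz
    have c2 : Commute t q := D.Qt q hq
    have h3 : t * (q⁻¹ * z⁻¹ * q * z) = (q⁻¹ * z⁻¹ * q * z) * t :=
      (((c2.inv_right.mul_right c1.inv_right).mul_right c2).mul_right c1).eq
    obtain ⟨x, μ, hx, e⟩ := L.cent_Evl h2 h3
    obtain ⟨y, hy, hyt⟩ := L.surj_Evl (x := x) (μ := μ) hx
    refine ⟨y, hA hy, fun w hw => L.ab w (hWu hw) y (L.Evl_le hy), 1, W.one_mem, ?_⟩
    rw [mul_one, e]
    exact hyt
  perp := perp
  gen := D.gen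

end RData

end Cfsg.Agent.OddHalf.D7.Uni.Quad

end

-- merged: Cfsg.Agent.OddHalf.D7.Uni.FaceQ
section

/-!
# The point side over `Face.Dbl` (helper371): `X_p`, `Q_p` in `G`, the fields of `Quad.RData` and `Norm.Pair`

`XP = j(RR p)`, `QP = j(QQ p)`.
-/

set_option autoImplicit false
set_option linter.unusedSectionVars false

namespace Cfsg.Agent.OddHalf.D7.Uni.Face

open Cfsg Cfsg.Agent.LieClassical.HermBasic Cfsg.Agent.LieClassical.HermSiegel
  Cfsg.Agent.LieClassical.HermGen Cfsg.Agent.LieClassical.SUBasic Matrix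
  Cfsg.Agent.ClassicalGeometry.PSUAutBasic Cfsg.Agent.ClassicalGeometry.PSUAutSylow
  Cfsg.Agent.ClassicalGeometry.PSUAutUnip Cfsg.Agent.ClassicalGeometry.PSUAutPhi
  Cfsg.Agent.KFacts.Unit

variable {F : Type*} [Field F] [Fintype F] {q n : ℕ} {G : Type*} [Group G]

/-- `X_p` in `G` -/
def XP (hF : Fintype.card F = q ^ 2) (j : PSU n F q →* G) (p : Fin n → F) (hp : hermForm n F q p p = 0) :
    Subgroup G := (RR hF p hp).map j

/-- `Q_p` in `G` -/
def QP (hF : Fintype.card F = q ^ 2) (j : PSU n F q →* G) (p : Fin n → F) (hp : hermForm n F q p p = 0) :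
    Subgroup G := (QQ hF p hp).map j

section mem

variable [CharP F 2] {hF : Fintype.card F = q ^ 2} {j : PSU n F q →* G} {p : Fin n → F}
  {hp : hermForm n F q p p = 0}

omit [Fintype F] in
theorem fix_iff {μ : F} : μ + μ ^ q = 0 ↔ μ ^ q = μ := by
  rw [CharTwo.add_eq_zero]
  exact eq_comm

theorem mem_XP {x : G} : x ∈ XP hF j p hp ↔ ∃ a, a ^ q = a ∧ x = fj n F q j (Np hF p a) := by
  constructor
  · rintro ⟨y, hy, rfl⟩
    obtain ⟨μ, hμ, rfl⟩ := mem_RR.1 hy
    refine ⟨μ, fix_iff.1 hμ, ?_⟩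
    rw [Np, Sg_eq hF (isSiegel_zero hp hμ)]
    rfl
  · rintro ⟨a, ha, rfl⟩
    refine ⟨_, mem_RR.2 ⟨a, fix_iff.2 ha, rfl⟩, ?_⟩
    rw [Np, Sg_eq hF (isSiegel_zero hp (fix_iff.2 ha))]
    rfl

theorem mem_QP {x : G} : x ∈ QP hF j p hp ↔ ∃ w μ, IsSiegel q p w μ ∧ x = fj n F q j (Sg hF p w μ) := by
  constructor
  · rintro ⟨y, hy, rfl⟩
    obtain ⟨w, μ, h, rfl⟩ := mem_QQ.1 hy
    exact ⟨w, μ, h, by rw [Sg_eq hF h]; rfl⟩
  · rintro ⟨w, μ, h, rfl⟩
    exact ⟨_, mem_QQ.2 ⟨w, μ, h, rfl⟩, by rw [Sg_eq hF h]; rfl⟩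

end mem

section Q

variable [CharP F 2] (hF : Fintype.card F = q ^ 2) {j : PSU n F q →* G} {p : Fin n → F}
  (hp : hermForm n F q p p = 0)

theorem QP_comm {a b : G} (ha : a ∈ QP hF j p hp) (hb : b ∈ QP hF j p hp) :
    a * b * a⁻¹ * b⁻¹ ∈ XP hF j p hp := by
  obtain ⟨_, ⟨a, ⟨w, μ, h, rfl⟩, rfl⟩, rfl⟩ := ha
  obtain ⟨_, ⟨b, ⟨w', μ', h', rfl⟩, rfl⟩, rfl⟩ := hb
  rw [← map_inv, ← map_inv, ← map_inv, ← map_inv, ← map_mul, ← map_mul, ← map_mul, ← map_mul, ← map_mul,
    ← map_mul, ← commutatorElement_def, Cfsg.Agent.LieClassical.HermSimple.commutator_siegel hF h h']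
  refine ⟨_, ⟨_, ⟨_, ?_, rfl⟩, rfl⟩, rfl⟩
  have := (Cfsg.Agent.LieClassical.HermSimple.IsSiegel.comm hF h h').tr
  rwa [herm_zero_left, add_zero] at this

theorem QP_sq {a : G} (ha : a ∈ QP hF j p hp) : a * a ∈ XP hF j p hp := by
  obtain ⟨_, ⟨a, ⟨w, μ, h, rfl⟩, rfl⟩, rfl⟩ := ha
  rw [← map_mul, ← map_mul, siegel_mul hF h h]
  have hw : w + w = 0 := by
    funext i
    exact CharTwo.add_self_eq_zero _
  have h1 : IsSiegel q p 0 (μ + μ - hermForm n F q w w) := by
    have := h.mul hF h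
    rwa [hw] at this
  rw [siegel_congr hF _ h1 rfl hw rfl]
  refine ⟨_, ⟨_, ⟨_, ?_, rfl⟩, rfl⟩, rfl⟩
  have := h1.tr
  rwa [herm_zero_left, add_zero] at this

variable {t : G}

theorem QP_t (S : Sit n F q t j) {a : G} (ha : a ∈ QP hF j p hp) : t * a = a * t := by
  obtain ⟨a, -, rfl⟩ := ha
  exact S.tj a

theorem XP_ne (S : Sit n F q t j) (hn : 3 ≤ n) (hp0 : p ≠ 0) : ∃ x ∈ XP hF j p hp, x ≠ 1 := by
  refine ⟨_, mem_XP.2 ⟨1, one_pow q, rfl⟩, fun h => ?_⟩
  obtain ⟨f, hff, hpf, hfp⟩ := exists_partner hF hp0 hp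
  have h1 := S.eq_one hF hn hp0 (by
    rw [act_Np hF hp (one_pow q), hp, mul_zero, zero_smul, add_zero]) h
  have h2 := congrArg (fun g => act g f) h1
  simp only [act_one] at h2
  rw [act_Np hF hp (one_pow q), hfp, mul_one, one_smul] at h2
  exact hp0 (add_eq_left.1 h2)

/-- (k1) on `Q` -/
theorem QP_cen (S : Sit n F q t j) (hn : 3 ≤ n) (hp0 : p ≠ 0) {z : G} (hz : z ∈ QP hF j p hp)
    (h : ∀ y ∈ QP hF j p hp, z * y = y * z) : z ∈ XP hF j p hp := by
  obtain ⟨_, ⟨a, ⟨w, μ, hs, rfl⟩, rfl⟩, rfl⟩ := hz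
  refine ⟨_, ⟨_, mem_transvG_of_commute hF hp0 hp (act_siegel_self hF hs) ?_, rfl⟩, rfl⟩
  rintro _ ⟨w', μ', h', rfl⟩
  have h1 := h _ ⟨_, ⟨_, ⟨w', μ', h', rfl⟩, rfl⟩, rfl⟩
  rw [← map_mul, ← map_mul, ← map_mul, ← map_mul] at h1
  have h2 : fj n F q j (siegel hF p w μ hs * siegel hF p w' μ' h' * (siegel hF p w μ hs)⁻¹) =
      fj n F q j (siegel hF p w' μ' h') := by
    rw [map_mul, map_inv, mul_inv_eq_iff_eq_mul, ← map_mul]
    exact h1
  refine S.eq_of hF hn hp0 ?_ h2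
  rw [act_mul, act_mul, ← (act_eq_iff _).1 (act_siegel_self hF hs), act_siegel_self hF h',
    act_siegel_self hF hs]

/-- (k2) -/
theorem QP_k2 (S : Sit n F q t j) (hn : 6 ≤ n) (hp0 : p ≠ 0) {c : G} (hc : c * t = t * c)
    (h : ∀ y ∈ QP hF j p hp, y * c * y⁻¹ * c⁻¹ ∈ XP hF j p hp) :
    c ∈ QP hF j p hp ∨ t * c ∈ QP hF j p hp := by
  obtain ⟨α, hα⟩ := S.exists_aut hc
  -- `α x x⁻¹ ∈ X` for `x ∈ Q`
  have h2 : ∀ x ∈ QQ hF p hp, α x * x⁻¹ ∈ RR hF p hp := by
    intro x hx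
    obtain ⟨y, hy, e⟩ := h _ ⟨x, hx, rfl⟩
    have h3 : j (α x * x⁻¹) = j y⁻¹ := by
      rw [map_mul, map_inv, map_inv, ← hα, e]
      group
    rw [S.inj h3]
    exact (RR hF p hp).inv_mem hy
  have hcen : ∀ x ∈ RR hF p hp, ∀ y ∈ QQ hF p hp, x * y = y * x := fun x hx y hy =>
    (PP_comm_RR hF hp (QQ_le_PP hF hp hy) hx).symm
  have h1 : ∀ x ∈ RR hF p hp, α x = x := by
    intro x hx
    obtain ⟨μ, hμ, rfl⟩ := mem_RR.1 hx
    obtain ⟨e1, e2, he1, he2, he12, h1p, h2p, -, -⟩ := exists_pair_perp hF hn hp0 hp hp hp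
    obtain ⟨ν, g, g', e⟩ := transv_eq_commutator hF (s := p) hp hμ he1 he2 he12 h1p h2p
    rw [e, map_commutatorElement, map_commutatorElement]
    set a := pr n F q (siegel hF p (ν • e1) 0 g) with ha
    set b := pr n F q (siegel hF p e2 0 g') with hb
    have haQ : a ∈ QQ hF p hp := mem_QQ.2 ⟨_, _, g, rfl⟩
    have hbQ : b ∈ QQ hF p hp := mem_QQ.2 ⟨_, _, g', rfl⟩
    obtain ⟨x, hx, ex⟩ : ∃ x ∈ RR hF p hp, α a = x * a := ⟨_, h2 a haQ, by group⟩
    obtain ⟨y, hy, ey⟩ : ∃ y ∈ RR hF p hp, α b = y * b := ⟨_, h2 b hbQ, by group⟩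
    have c1 : Commute x a := hcen x hx a haQ
    have c2 : Commute x b := hcen x hx b hbQ
    have c3 : Commute y a := hcen y hy a haQ
    have c4 : Commute y b := hcen y hy b hbQ
    have c5 : Commute x y := hcen x hx y (RR_le_QQ hF hp hy)
    rw [ex, ey, commutatorElement_def, commutatorElement_def, _root_.mul_inv_rev, _root_.mul_inv_rev]
    calc x * a * (y * b) * (a⁻¹ * x⁻¹) * (b⁻¹ * y⁻¹)
        = x * (a * y) * b * a⁻¹ * (x⁻¹ * b⁻¹) * y⁻¹ := by group
      _ = x * (y * a) * b * a⁻¹ * (b⁻¹ * x⁻¹) * y⁻¹ := by rw [c3.eq, c2.inv_inv.eq]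
      _ = x * (y * (a * b * a⁻¹ * b⁻¹)) * x⁻¹ * y⁻¹ := by group
      _ = x * ((a * b * a⁻¹ * b⁻¹) * y) * x⁻¹ * y⁻¹ := by
          rw [(((c3.mul_right c4).mul_right c3.inv_right).mul_right c4.inv_right).eq]
      _ = (x * (a * b * a⁻¹ * b⁻¹)) * (y * x⁻¹) * y⁻¹ := by group
      _ = ((a * b * a⁻¹ * b⁻¹) * x) * (x⁻¹ * y) * y⁻¹ := by
          rw [(((c1.mul_right c2).mul_right c1.inv_right).mul_right c2.inv_right).eq,
            c5.symm.inv_right.eq]
      _ = a * b * a⁻¹ * b⁻¹ := by group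
  obtain ⟨s, hs, rfl⟩ := autCent_mod hF (by omega) hp0 hp α h1 h2
  rcases S.eq_or hc hα with h3 | h3
  · left
    rw [h3]
    exact ⟨_, ⟨s, hs, rfl⟩, rfl⟩
  · right
    rw [h3, ← mul_assoc, S.tt, one_mul]
    exact ⟨_, ⟨s, hs, rfl⟩, rfl⟩

/-- every Siegel element at `p` is a product of Siegel elements of the lines through `p` -/
theorem QP_gen_aux (hn : 6 ≤ n) {p' : Fin n → F} (H : Hyp q p p') (B : Subgroup G)
    (hX : ∀ a, a ^ q = a → fj n F q j (Np hF p a) ∈ B)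
    (hM : ∀ r r', P2 q p p' r r' → fj n F q j (Mm hF p r 1) ∈ B) : QP hF j p hp ≤ B := by
  have hS : ∀ w μ ν, IsSiegel q p w μ → IsSiegel q p w ν → fj n F q j (Sg hF p w μ) ∈ B →
      fj n F q j (Sg hF p w ν) ∈ B := by
    intro w μ ν h h' hB
    have h1 : (ν + μ) ^ q = ν + μ := by
      rw [← fix_iff]
      have e1 := h.tr
      have e2 := h'.tr
      have e3 : hermForm n F q w w + hermForm n F q w w = 0 := CharTwo.add_self_eq_zero _
      rw [add_pow_q hF]
      linear_combination e1 + e2 - e3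
    have h2 : Sg hF p w ν = Np hF p (ν + μ) * Sg hF p w μ := by
      have h3 := isS_np hp h1
      rw [Np, Sg_eq hF h, Sg_eq hF h', Sg_eq hF h3, siegel_mul hF h3 h]
      apply siegel_congr hF _ _ rfl (zero_add w).symm
      rw [herm_zero_right hF, sub_zero, add_assoc, CharTwo.add_self_eq_zero, add_zero]
    rw [h2, map_mul]
    exact B.mul_mem (hX _ h1) hB
  obtain ⟨x, hx, y, hy, Hxy⟩ := exists_pair_NN hF hn H
  have key : ∀ w ∈ NN q p p', ∀ μ, IsSiegel q p w μ → fj n F q j (Sg hF p w μ) ∈ B := by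
    refine iso_induction hF hx hy Hxy.ee Hxy.ff Hxy.ef ?_ ?_
    · intro a b ha hb h1 h2 μ h
      obtain ⟨α, hα⟩ := exists_isSiegel_of_orth hF hp ha.1
      obtain ⟨β, hβ⟩ := exists_isSiegel_of_orth hF hp hb.1
      have h3 := hα.mul hF hβ
      refine hS _ _ _ h3 h ?_
      have h4 : Sg hF p (a + b) (α + β - hermForm n F q b a) = Sg hF p a α * Sg hF p b β := by
        rw [Sg_eq hF hα, Sg_eq hF hβ, Sg_eq hF h3, siegel_mul hF hα hβ]
      rw [h4, map_mul]
      exact B.mul_mem (h1 α hα) (h2 β hβ)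
    · intro s hs hss μ h
      by_cases hs0 : s = 0
      · subst hs0
        refine hX μ ?_
        have := h.tr
        rw [herm_zero_left, add_zero] at this
        exact fix_iff.1 this
      · obtain ⟨s', hs', Hs⟩ := exists_partner_NN hF H hs hs0 hss
        have HP : P2 q p p' s s' :=
          { pp := H.ee
            p'p' := H.ff
            pp' := H.ef
            p'p := H.fe hF
            rr := Hs.ee
            r'r' := Hs.ff
            rr' := Hs.ef
            r'r := Hs.fe hF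
            pr := herm_eq_zero_swap hF hs.1
            rp := hs.1
            pr' := herm_eq_zero_swap hF hs'.1
            r'p := hs'.1
            p'r := herm_eq_zero_swap hF hs.2
            rp' := hs.2
            p'r' := herm_eq_zero_swap hF hs'.2
            r'p' := hs'.2 }
        have h1 := hM s s' HP
        rw [Mm, one_pow, one_smul] at h1
        refine hS _ _ _ ?_ h h1
        have := isS_vec hF hp hs.1 hss 1
        rwa [one_smul] at this
  intro z hz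
  obtain ⟨w, μ, h, rfl⟩ := mem_QP.1 hz
  obtain ⟨a, h', e⟩ := exists_norm_siegel hF H h
  rw [Sg_eq hF h, e, ← Sg_eq hF h']
  exact key _ (NN_prN hF H w) a h'

/-- `g l` lies in `Q_p` -/
theorem Gg_mem {p' r r' : Fin n → F} (H : P2 q p p' r r') (l : F) :
    fj n F q j (Mm hF p r' l) ∈ QP hF j p hp :=
  mem_QP.2 ⟨_, _, isS_vec hF H.pp H.r'p H.r'r' _, rfl⟩

theorem Mm_mem {p' r r' : Fin n → F} (H : P2 q p p' r r') (l : F) :
    fj n F q j (Mm hF p r l) ∈ QP hF j p hp :=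
  mem_QP.2 ⟨_, _, isS_vec hF H.pp H.rp H.rr _, rfl⟩

theorem Np_mem {x : F} (hx : x ^ q = x) : fj n F q j (Np hF p x) ∈ QP hF j p hp :=
  mem_QP.2 ⟨_, _, isS_np hp hx, rfl⟩

/-- an element of `Q_p` is `g l` times a Siegel element at `p` with vector orthogonal to `⟨p, r⟩` -/
theorem QP_line {p' r r' : Fin n → F} (H : P2 q p p' r r') {y : G} (hy : y ∈ QP hF j p hp) :
    ∃ l w μ, IsSiegel q p w μ ∧ hermForm n F q w r = 0 ∧
      y = fj n F q j (Mm hF p r' l) * fj n F q j (Sg hF p w μ) := by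
  obtain ⟨w, μ, h, rfl⟩ := mem_QP.1 hy
  set l : F := (hermForm n F q w r) ^ q with hl
  have hs := isS_vec hF H.pp H.r'p H.r'r' (l ^ q)
  have h1 := (hs.inv hF).mul hF h
  refine ⟨l, _, _, h1, ?_, ?_⟩
  · rw [herm_add_left, herm_neg_left, herm_smul_left, H.r'r, hl, pow_q_pow_q hF, mul_one, neg_add_cancel]
  · rw [← map_mul]
    congr 1
    rw [Mm, Sg_eq hF hs, Sg_eq hF h1, Sg_eq hF h, ← siegel_mul hF (hs.inv hF) h, ← siegel_inv hF hs,
      mul_inv_cancel_left]

/-- `perp` -/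
theorem QP_perp (S : Sit n F q t j) (hn : 3 ≤ n) {p' r r' : Fin n → F} (H : P2 q p p' r r') {z y : G}
    (hz : z ∈ XP hF j r H.rr) (hz1 : z ≠ 1) (hy : y ∈ QP hF j p hp)
    (h : y⁻¹ * z⁻¹ * y * z ∈ XP hF j p hp) : ∃ g : SU n F q, act g r = r ∧ y = fj n F q j g := by
  obtain ⟨w, μ, hs, rfl⟩ := mem_QP.1 hy
  obtain ⟨a, ha, rfl⟩ := mem_XP.1 hz
  obtain ⟨b, hb, e⟩ := mem_XP.1 h
  refine ⟨_, ?_, rfl⟩
  rw [act_Sg hF hs, H.rp, zero_smul, mul_zero, zero_sub, add_zero]
  -- `z y = y z (Np b)⁻¹`; evaluate at `p'`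
  have h1 : fj n F q j (Sg hF p w μ * Np hF r a) = fj n F q j (Np hF r a * Sg hF p w μ * Np hF p b) := by
    rw [map_mul, map_mul, map_mul, ← e]
    group
  have h2 : act (Sg hF p w μ * Np hF r a) p = act (Np hF r a * Sg hF p w μ * Np hF p b) p := by
    simp only [act_mul]
    rw [act_Np hF H.rr ha, H.pr, mul_zero, zero_smul, add_zero, act_Np hF H.pp hb, H.pp, mul_zero, zero_smul,
      add_zero, act_Sg hF hs, H.pp, hs.orth' hF, zero_smul, mul_zero, sub_zero, zero_smul, add_zero, add_zero,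
      act_Np hF H.rr ha, H.pr, mul_zero, zero_smul, add_zero]
  have h3 := S.eq_of hF hn H.p_ne h2 h1
  have h4 := congrArg (fun g => act g p') h3
  simp only [act_mul] at h4
  rw [act_Np hF H.rr ha, H.p'r, mul_zero, zero_smul, add_zero, act_Np hF H.pp hb, H.p'p, mul_one,
    act_Sg hF hs, H.p'p, one_smul, mul_one, act_add, act_smul, act_Sg hF hs, act_Sg hF hs, H.p'p, H.pp,
    hs.orth' hF, one_smul, mul_one, zero_smul, mul_zero, sub_zero, zero_smul, add_zero, add_zero,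
    act_Np hF H.rr ha] at h4
  -- pair with `p`-dual and `r'`
  have h5 := congrArg (fun v => hermForm n F q v r') h4
  simp only [herm_add_left, herm_smul_left, H.pr', H.p'r', H.rr', H.pr, H.p'r, mul_zero, add_zero, zero_add,
    mul_one] at h5
  have h6 : a * hermForm n F q w r = 0 := by
    have h7 : hermForm n F q w r' = hermForm n F q w r' + a * hermForm n F q w r := h5
    exact (add_eq_left.1 h7.symm)
  have ha0 : a ≠ 0 := by
    rintro rfl
    apply hz1
    rw [Np, Sg_eq hF (IsSiegel.zero hF H.rr), siegel_zero, map_one]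
  have h7 := (mul_eq_zero.1 h6).resolve_left ha0
  rw [herm_eq_zero_swap hF h7, neg_zero, zero_smul, add_zero]

end Q

end Cfsg.Agent.OddHalf.D7.Uni.Face

end

-- merged: Cfsg.Agent.OddHalf.D7.Uni.FacePt
section

/-!
# `R_p` over `Face.Dbl` (helper371)

`RP hF j W p`: the double of `Q_p`. Input: `Cm` = all `W s` of a t.i. line commute and are elementary abelian.
Output: `rdata : Quad.RData`, `pt : Norm.Pt`, `pair : Norm.Pair` (for every `P2 q p p' r r'`), `RP_conj`.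
-/

set_option autoImplicit false
set_option linter.unusedSectionVars false

namespace Cfsg.Agent.OddHalf.D7.Uni.Face

open Cfsg Cfsg.Agent.LieClassical.HermBasic Cfsg.Agent.LieClassical.HermSiegel
  Cfsg.Agent.LieClassical.HermGen Cfsg.Agent.LieClassical.SUBasic Matrix
  Cfsg.Agent.ClassicalGeometry.PSUAutBasic Cfsg.Agent.ClassicalGeometry.PSUAutSylow
  Cfsg.Agent.ClassicalGeometry.PSUAutUnip Cfsg.Agent.ClassicalGeometry.PSUAutPhi
  Cfsg.Agent.KFacts.Unit

variable {F : Type*} [Field F] [Fintype F] {q n : ℕ} {G : Type*} [Group G]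

/-- the frames of the t.i. lines through `p` -/
abbrev Fr (q : ℕ) (p : Fin n → F) : Type _ :=
  {x : (Fin n → F) × (Fin n → F) × (Fin n → F) // P2 q p x.1 x.2.1 x.2.2}

/-- `E_l` for `l = ⟨p, r⟩` -/
noncomputable def EP (hF : Fintype.card F = q ^ 2) (j : PSU n F q →* G) (W : (Fin n → F) → Subgroup G)
    (p r r' : Fin n → F) : Subgroup G :=
  Subgroup.closure (LineGrp.gens (W p) (W r) (fun μ => fj n F q j (Mm hF p r μ))
    (fun l => fj n F q j (Mm hF p r' l)))

/-- `E_{p,l}` -/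
noncomputable def AP (hF : Fintype.card F = q ^ 2) (j : PSU n F q →* G) (W : (Fin n → F) → Subgroup G)
    (p : Fin n → F) (hp : hermForm n F q p p = 0) (i : Fr q p) : Subgroup G :=
  Quad.Evl (EP hF j W p i.1.2.1 i.1.2.2) (W p) (QP hF j p hp)

/-- `R_p` -/
noncomputable def RP (hF : Fintype.card F = q ^ 2) (j : PSU n F q →* G) (W : (Fin n → F) → Subgroup G)
    (p : Fin n → F) (hp : hermForm n F q p p = 0) : Subgroup G :=
  Quad.Rv (W p) (QP hF j p hp) (AP hF j W p hp)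

/-- all the `W s`, `s` on a t.i. line, commute and are elementary abelian -/
structure Cm (hF : Fintype.card F = q ^ 2) (j : PSU n F q →* G) (W : (Fin n → F) → Subgroup G) : Prop where
  comm : ∀ {p p' r r' : Fin n → F}, P2 q p p' r r' →
    LineGrp.Comm (W p) (W r) (fun l => fj n F q j (Mm hF p r' l))
  sq : ∀ {u : Fin n → F}, u ≠ 0 → hermForm n F q u u = 0 → ∀ w ∈ W u, w * w = 1

variable {t : G} {j : PSU n F q →* G} {W : (Fin n → F) → Subgroup G} {hF : Fintype.card F = q ^ 2}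

/-- `Cm` holds (`FaceComm`) -/
theorem Dbl.cm [CharP F 2] (D : Dbl hF t j W) (hn : 6 ≤ n) : Cm hF j W where
  comm := fun H => D.comm (by omega) (D.pr hn) H
  sq := fun hu0 hu _ hw => D.elem (by omega) (D.pr hn) hu0 hu hw

/-- `Quad.EL` of the line `⟨p, r⟩` -/
theorem el [CharP F 2] (D : Dbl hF t j W) (C : Cm hF j W) (hn : 4 ≤ n) {p p' r r' : Fin n → F}
    (H : P2 q p p' r r') :
    Quad.EL (sig hF) t (EP hF j W p r r') (W p) (QP hF j p H.pp) (fun x => fj n F q j (Np hF p x))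
      (fun y => fj n F q j (Np hF r y)) (fun μ => fj n F q j (Mm hF p r μ))
      (fun l => fj n F q j (Mm hF p r' l)) := by
  refine Quad.EL.of_line (D.line hn H) (C.comm H) (C.sq H.p_ne H.pp) (C.sq H.r_ne H.rr)
    (fun l => Gg_mem hF H.pp H l) (fun x hx => Np_mem hF H.pp hx) (fun x => Mm_mem hF H.pp H x) ?_
  intro y hy
  obtain ⟨l, w, μ, h, hwr, rfl⟩ := QP_line hF H.pp H hy
  refine ⟨l, _, mem_OE.2 ⟨_, ?_, ?_, rfl⟩, rfl⟩
  · rw [Sg_eq hF h]
    exact act_siegel_self hF h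
  · rw [Sg_eq hF h]
    exact act_siegel_of_orth hF h H.rp (herm_eq_zero_swap hF hwr)

theorem exists_P2' (hF : Fintype.card F = q ^ 2) (hn : 6 ≤ n) {p : Fin n → F} (hp0 : p ≠ 0)
    (hp : hermForm n F q p p = 0) [CharP F 2] : ∃ p' r r' : Fin n → F, Hyp q p p' ∧ P2 q p p' r r' := by
  obtain ⟨p', h1, h2, -⟩ := exists_partner hF hp0 hp
  have H : Hyp q p p' := ⟨hp, h1, h2⟩
  obtain ⟨r, hr, r', hr', Hs⟩ := exists_pair_NN hF hn H
  exact ⟨p', r, r', H,
    { pp := H.ee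
      p'p' := H.ff
      pp' := H.ef
      p'p := H.fe hF
      rr := Hs.ee
      r'r' := Hs.ff
      rr' := Hs.ef
      r'r := Hs.fe hF
      pr := herm_eq_zero_swap hF hr.1
      rp := hr.1
      pr' := herm_eq_zero_swap hF hr'.1
      r'p := hr'.1
      p'r := herm_eq_zero_swap hF hr.2
      rp' := hr.2
      p'r' := herm_eq_zero_swap hF hr'.2
      r'p' := hr'.2 }⟩

/-- **`Quad.RData` at the point `p`.** -/
theorem rdata [CharP F 2] (D : Dbl hF t j W) (C : Cm hF j W) (hn : 6 ≤ n) {p : Fin n → F} (hp0 : p ≠ 0)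
    (hp : hermForm n F q p p = 0) :
    Quad.RData t (XP hF j p hp) (W p) (QP hF j p hp) (AP hF j W p hp) := by
  obtain ⟨p', r, r', Hp, H⟩ := exists_P2' hF hn hp0 hp
  refine Quad.RData.of_lines (σ := sig hF) (E := fun i : Fr q p => EP hF j W p i.1.2.1 i.1.2.2)
    (np := fun _ x => fj n F q j (Np hF p x)) (nr := fun i y => fj n F q j (Np hF i.1.2.1 y))
    (m := fun i μ => fj n F q j (Mm hF p i.1.2.1 μ)) (g := fun i l => fj n F q j (Mm hF p i.1.2.2 l))
    (fun i => el D C (by omega) i.2) D.tt (XP_ne hF hp D.toSit (by omega) hp0) ⟨(p', r, r'), H⟩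
    (fun i x => mem_XP) (fun y hy => QP_t hF hp D.toSit hy) (fun a ha b hb => QP_comm hF hp ha hb)
    (fun a ha => QP_sq hF hp ha) (fun z hz h => QP_cen hF hp D.toSit (by omega) hp0 hz h)
    (fun c hc h => QP_k2 hF hp D.toSit hn hp0 hc h) ?_
  refine QP_gen_aux hF hp hn Hp _ (fun a ha => ?_) (fun s s' Hs => ?_)
  · refine Subgroup.subset_closure ⟨⟨(p', r, r'), H⟩, a, 0, ha, ?_⟩
    rw [Quad.Coord.m_zero (coord D.toSit hF (by omega) H), mul_one]
  · refine Subgroup.subset_closure ⟨⟨(p', s, s'), Hs⟩, 0, 1, map_zero _, ?_⟩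
    rw [Quad.Coord.np_zero (coord D.toSit hF (by omega) Hs), one_mul]

/-- **`Norm.Pt` at the point `p`.** -/
theorem pt [CharP F 2] (D : Dbl hF t j W) (C : Cm hF j W) (hn : 6 ≤ n) {p : Fin n → F} (hp0 : p ≠ 0)
    (hp : hermForm n F q p p = 0) :
    Norm.Pt t (XP hF j p hp) (W p) (QP hF j p hp) (RP hF j W p hp) := (rdata D C hn hp0 hp).pt

theorem QP_conj [CharP F 2] {p p₁ : Fin n → F} (hp : hermForm n F q p p = 0) (hp₁ : hermForm n F q p₁ p₁ = 0)
    {g : SU n F q} (hg : act g p = p₁) {x : G} (hx : x ∈ QP hF j p hp) :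
    fj n F q j g * x * (fj n F q j g)⁻¹ ∈ QP hF j p₁ hp₁ := by
  obtain ⟨w, μ, h, rfl⟩ := mem_QP.1 hx
  have h1 := h.map g
  rw [hg] at h1
  refine mem_QP.2 ⟨act g w, μ, h1, ?_⟩
  rw [← map_inv, ← map_mul, ← map_mul, conj_Sg hF h, hg]

theorem QP_smul [CharP F 2] {p : Fin n → F} (hp : hermForm n F q p p = 0) {c : F} (hc : c ≠ 0)
    (hcp : hermForm n F q (c • p) (c • p) = 0) : QP hF j (c • p) hcp = QP hF j p hp := by
  have key : ∀ (c : F) (p : Fin n → F) (hp : hermForm n F q p p = 0)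
      (hcp : hermForm n F q (c • p) (c • p) = 0), QP hF j (c • p) hcp ≤ QP hF j p hp := by
    intro c p hp hcp x hx
    obtain ⟨w, μ, h, rfl⟩ := mem_QP.1 hx
    by_cases hc : c = 0
    · subst hc
      have : Sg hF ((0 : F) • p) w μ = Sg hF p 0 0 := by
        rw [Sg_eq hF h, Sg_eq hF (IsSiegel.zero hF hp), siegel_zero]
        apply ext_act
        intro v
        rw [act_siegel, act_one, zero_smul, herm_zero_right hF, zero_smul, smul_zero, add_zero, add_zero]
      rw [this]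
      exact mem_QP.2 ⟨_, _, IsSiegel.zero hF hp, rfl⟩
    · have h' : IsSiegel q p w μ :=
        ⟨hp, by
          have := h.orth
          rw [herm_smul_right] at this
          exact (mul_eq_zero.1 this).resolve_left (pow_ne_zero _ hc), h.tr⟩
      refine mem_QP.2 ⟨_, _, h'.smul' hF (c := c), ?_⟩
      rw [Sg_eq hF h, Sg_eq hF (h'.smul' hF), ← siegel_smul hF h']
  apply le_antisymm (key c p hp hcp)
  have h1 : c⁻¹ • (c • p) = p := by rw [smul_smul, inv_mul_cancel₀ hc, one_smul]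
  have h2 := key c⁻¹ (c • p) hcp (by rw [h1]; exact hp)
  simp only [h1] at h2
  exact h2

/-- `g R_p g⁻¹ ≤ R_{g p}` -/
theorem RP_conj [CharP F 2] (D : Dbl hF t j W) (C : Cm hF j W) (hn : 6 ≤ n) {p p₁ : Fin n → F} (hp0 : p ≠ 0)
    (hp : hermForm n F q p p = 0) (hp₁ : hermForm n F q p₁ p₁ = 0) {g : SU n F q} (hg : act g p = p₁)
    {x : G} (hx : x ∈ RP hF j W p hp) :
    fj n F q j g * x * (fj n F q j g)⁻¹ ∈ RP hF j W p₁ hp₁ := by
  have hp₁0 : p₁ ≠ 0 := by
    rintro rfl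
    apply hp0
    have h1 := congrArg (act g⁻¹) hg
    rwa [act_inv_act, act_zero] at h1
  have hg' : act g⁻¹ p₁ = p := by rw [← hg, act_inv_act]
  refine (rdata D C hn hp0 hp).conj_mem (rdata D C hn hp₁0 hp₁) (D.tj _) ?_ ?_ ?_ ?_ hx
  · intro w hw
    have h1 := D.conj hp₁0 hp₁ g⁻¹ w hw
    rwa [hg', map_inv, inv_inv] at h1
  · intro w hw
    have h1 := D.conj hp0 hp g w hw
    rwa [hg] at h1
  · intro y hy
    have h1 := QP_conj (hF := hF) (j := j) hp₁ hp hg' hy
    rwa [map_inv, inv_inv] at h1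
  · intro y hy
    exact QP_conj hp hp₁ hg hy

/-- `R_p` depends only on the point -/
theorem RP_smul [CharP F 2] (D : Dbl hF t j W) (C : Cm hF j W) (hn : 6 ≤ n) {p : Fin n → F} (hp0 : p ≠ 0)
    (hp : hermForm n F q p p = 0) {c : F} (hc : c ≠ 0) (hcp : hermForm n F q (c • p) (c • p) = 0) :
    RP hF j W (c • p) hcp = RP hF j W p hp := by
  have hcp0 : c • p ≠ 0 := smul_ne_zero hc hp0
  ext x
  rw [RP, RP, (rdata D C hn hcp0 hcp).mem_iff, (rdata D C hn hp0 hp).mem_iff, D.smul hp0 hp hc, QP_smul hp hc hcp]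

/-- **`Norm.Pair` for the pair `(p, r)`.** -/
theorem pair [CharP F 2] (D : Dbl hF t j W) (C : Cm hF j W) (hn : 6 ≤ n) {p p' r r' : Fin n → F}
    (H : P2 q p p' r r') :
    Norm.Pair t (XP hF j p H.pp) (W p) (QP hF j p H.pp) (RP hF j W p H.pp) (XP hF j r H.rr) (W r) := by
  have L := el D C (by omega) H
  refine (rdata D C hn H.p_ne H.pp).pair_of L ?_ ?_ ?_ ?_ ?_ ?_ ?_
  · exact (rdata D C hn H.p_ne H.pp).A_R ⟨(p', r, r'), H⟩
  · intro w hw
    refine Subgroup.subset_closure (Or.inr (Or.inl ⟨0, w, hw, ?_⟩))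
    have h0 := Quad.Coord.g_zero L.toCoord
    simp only at h0 ⊢
    rw [h0]
    group
  · exact D.X_le H.r_ne H.rr
  · rintro _ ⟨z, -, rfl⟩
    exact D.tj z
  · intro w hw
    obtain ⟨x, hx, e⟩ := D.brk H.r_ne H.rr w hw
    exact ⟨_, ⟨x, hx, rfl⟩, e⟩
  · intro z hz y hy
    obtain ⟨a, ha, rfl⟩ := mem_XP.1 hz
    exact QP_conj H.pp H.pp (Np_r hF H ha) hy
  · intro z hz hz1 y hy h w hw
    obtain ⟨g, hg, rfl⟩ := QP_perp hF H.pp D.toSit (by omega) H hz hz1 hy h
    exact D.cent H.r_ne H.rr w hw g hg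

/-- **`W_r` normalises `R_p`.** -/
theorem W_norm [CharP F 2] (D : Dbl hF t j W) (C : Cm hF j W) (hn : 6 ≤ n) {p p' r r' : Fin n → F}
    (H : P2 q p p' r r') {w x : G} (hw : w ∈ W r) (hx : x ∈ RP hF j W p H.pp) :
    w * x * w⁻¹ ∈ RP hF j W p H.pp :=
  (pair D C hn H).conj_mem (pt D C hn H.p_ne H.pp) hw hx

end Cfsg.Agent.OddHalf.D7.Uni.Face

end

-- merged: Cfsg.Agent.OddHalf.D7.Uni.FaceRF
section

/-!
# `FaceR.RF` from `Face.Dbl` (helper371)

`Rt hF j W u = R_u` for every isotropic `u`. `rf : FaceR.RF hF t j W (Rt hF j W)`.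
-/

set_option autoImplicit false
set_option linter.unusedSectionVars false

namespace Cfsg.Agent.OddHalf.D7.Uni.Face

open Cfsg Cfsg.Agent.LieClassical.HermBasic Cfsg.Agent.LieClassical.HermSiegel
  Cfsg.Agent.LieClassical.HermGen Cfsg.Agent.LieClassical.SUBasic Matrix
  Cfsg.Agent.ClassicalGeometry.PSUAutBasic Cfsg.Agent.ClassicalGeometry.PSUAutSylow
  Cfsg.Agent.ClassicalGeometry.PSUAutUnip Cfsg.Agent.ClassicalGeometry.PSUAutPhi
  Cfsg.Agent.KFacts.Unit

variable {F : Type*} [Field F] [Fintype F] {q n : ℕ} {G : Type*} [Group G]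

open Classical in
/-- `R_u` as a total function -/
noncomputable def Rt (hF : Fintype.card F = q ^ 2) (j : PSU n F q →* G) (W : (Fin n → F) → Subgroup G)
    (u : Fin n → F) : Subgroup G :=
  if h : hermForm n F q u u = 0 then RP hF j W u h else ⊥

theorem Rt_eq (hF : Fintype.card F = q ^ 2) (j : PSU n F q →* G) (W : (Fin n → F) → Subgroup G)
    {u : Fin n → F} (h : hermForm n F q u u = 0) : Rt hF j W u = RP hF j W u h := dif_pos h

variable {t : G} {j : PSU n F q →* G} {W : (Fin n → F) → Subgroup G} {hF : Fintype.card F = q ^ 2}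

theorem Np_W [CharP F 2] (D : Dbl hF t j W) {p : Fin n → F} (hp0 : p ≠ 0) (hp : hermForm n F q p p = 0) {x : F}
    (hx : x ^ q = x) : fj n F q j (Np hF p x) ∈ W p :=
  D.X_le hp0 hp (mem_XP.2 ⟨x, hx, rfl⟩)

/-- `E_l ≤ ⟨W s : s ∈ l⟩` -/
theorem EP_le [CharP F 2] (D : Dbl hF t j W) (hn : 6 ≤ n) {p p' r r' : Fin n → F} (H : P2 q p p' r r') :
    EP hF j W p r r' ≤ Subgroup.closure {w | ∃ a b : F, a • p + b • r ≠ 0 ∧ w ∈ W (a • p + b • r)} := by
  have L := el D (D.cm hn) (by omega) H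
  set B := Subgroup.closure {w | ∃ a b : F, a • p + b • r ≠ 0 ∧ w ∈ W (a • p + b • r)} with hB
  have hp : W p ≤ B := fun w hw => by
    refine Subgroup.subset_closure ⟨1, 0, ?_, ?_⟩
    · rw [one_smul, zero_smul, add_zero]; exact H.p_ne
    · rw [one_smul, zero_smul, add_zero]; exact hw
  have hr : ∀ l, ∀ u ∈ W r, fj n F q j (Mm hF p r' l) * u * (fj n F q j (Mm hF p r' l))⁻¹ ∈ B := by
    intro l u hu
    have h1 := D.conj H.r_ne H.rr (Mm hF p r' l) u hu
    rw [Gg_r hF H] at h1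
    refine Subgroup.subset_closure ⟨l, 1, ?_, ?_⟩
    · intro h
      have h2 := congrArg (fun v => hermForm n F q v r') h
      simp only [herm_add_left, herm_smul_left, H.pr', H.rr', herm_zero_left, one_smul, mul_zero, zero_add] at h2
      exact one_ne_zero h2
    · rw [one_smul, add_comm]; exact h1
  rw [EP, Subgroup.closure_le]
  rintro x (hx | ⟨l, u, hu, rfl⟩ | ⟨μ, rfl⟩)
  · exact hp hx
  · exact hr l u hu
  · -- `m μ` is a product of elements of `W p`, `W (r + μ p)`, `W r`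
    have h1 : (1 : F) ^ q = 1 := one_pow q
    have e := L.g_nr μ 1 h1
    have hX : fj n F q j (Np hF r 1) ∈ W r := Np_W D H.r_ne H.rr h1
    have h2 := hr μ _ hX
    have h3 := hr 0 _ hX
    have h0 : fj n F q j (Mm hF p r' 0) = 1 := Quad.Coord.g_zero L.toCoord
    rw [h0, one_mul, inv_one, mul_one] at h3
    have h4 : fj n F q j (Np hF p (μ * sig hF μ * 1)) ∈ B := by
      refine hp (Np_W D H.p_ne H.pp ?_)
      rw [sig_apply, mul_one, mul_pow, pow_q_pow_q hF, mul_comm]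
    rw [mul_one] at e
    have e2 : fj n F q j (Mm hF p r μ) = (fj n F q j (Np hF r 1))⁻¹ *
        (fj n F q j (Mm hF p r' μ) * fj n F q j (Np hF r 1) * (fj n F q j (Mm hF p r' μ))⁻¹) *
        (fj n F q j (Np hF p (μ * sig hF μ * 1)))⁻¹ := by
      rw [e]; group
    change fj n F q j (Mm hF p r μ) ∈ B
    rw [e2]
    exact B.mul_mem (B.mul_mem (B.inv_mem h3) h2) (B.inv_mem h4)

/-- elements of `R_v` above `S(v; x, 0)` -/
theorem lift_R [CharP F 2] (D : Dbl hF t j W) (hn : 6 ≤ n) {p p' r r' : Fin n → F} (H : P2 q p p' r r') :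
    ∃ e ∈ RP hF j W p H.pp,
      e ∈ Subgroup.closure {w | ∃ a b : F, a • p + b • r ≠ 0 ∧ w ∈ W (a • p + b • r)} ∧
      ∃ w ∈ W p, t * e * t = e * (fj n F q j (Sg hF p r 0) * w) := by
  have L := el D (D.cm hn) (by omega) H
  obtain ⟨e, he, h⟩ := L.surj_Evl (x := 0) (μ := 1) (map_zero _)
  refine ⟨e, (rdata D (D.cm hn) hn H.p_ne H.pp).A_R ⟨(p', r, r'), H⟩ he, EP_le D hn H (L.Evl_le he), 1,
    one_mem _, ?_⟩
  have h0 : fj n F q j (Np hF p 0) = 1 := Quad.Coord.np_zero L.toCoord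
  have h1 : Mm hF p r 1 = Sg hF p r 0 := by rw [Mm, one_pow, one_smul]
  simp only [h0, h1, one_mul] at h
  rw [mul_one]
  exact h

/-- **The growth of `Q_v` at every isotropic point.** -/
theorem rf [CharP F 2] (D : Dbl hF t j W) (hn : 6 ≤ n) : FaceR.RF hF t j W (Rt hF j W) where
  toDbl := D
  Wsq := fun hu0 hu => (D.cm hn).sq hu0 hu
  pt := fun hu0 hu => by
    rw [Rt_eq hF j W hu]
    exact pt D (D.cm hn) hn hu0 hu
  conjR := fun {u} hu0 hu g x hx => by
    have hu' : hermForm n F q (act g u) (act g u) = 0 := by rw [herm_act, hu]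
    rw [Rt_eq hF j W hu] at hx
    rw [Rt_eq hF j W hu']
    exact RP_conj D (D.cm hn) hn hu0 hu hu' rfl hx
  norm' := fun {u v} hu0 hu hv0 hv huv w hw x hx => by
    rw [Rt_eq hF j W hv] at hx ⊢
    by_cases h : ∃ c : F, u = c • v
    · obtain ⟨c, rfl⟩ := h
      have hc : c ≠ 0 := by
        rintro rfl
        exact hu0 (zero_smul _ _)
      rw [D.smul hv0 hv hc] at hw
      have h1 := (rdata D (D.cm hn) hn hv0 hv).R_W hx w hw
      rw [← h1, mul_inv_cancel_right]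
      exact hx
    · obtain ⟨v', u', H⟩ := exists_P2_of (q := q) hF hv hu (herm_eq_zero_swap hF huv) (by
        intro a b hab
        have hb : b = 0 := by
          by_contra hb
          apply h
          refine ⟨-(b⁻¹ * a), ?_⟩
          have h2 : b • u = -(a • v) := by
            rw [eq_neg_iff_add_eq_zero, add_comm]
            exact hab
          calc u = b⁻¹ • (b • u) := by rw [smul_smul, inv_mul_cancel₀ hb, one_smul]
            _ = _ := by rw [h2, smul_neg, smul_smul, neg_smul]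
        subst hb
        rw [zero_smul, add_zero] at hab
        exact ⟨(smul_eq_zero.1 hab).resolve_right hv0, rfl⟩)
      exact W_norm D (D.cm hn) hn H hw hx
  lift := fun {v x} hv0 hv hx hxv hne => by
    obtain ⟨v', x', H⟩ := exists_P2_of (q := q) hF hv hx (herm_eq_zero_swap hF hxv) (by
      intro a b hab
      have hb : b = 0 := by
        by_contra hb
        apply hne (-(b⁻¹ * a))
        have h2 : b • x = -(a • v) := by
          rw [eq_neg_iff_add_eq_zero, add_comm]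
          exact hab
        calc x = b⁻¹ • (b • x) := by rw [smul_smul, inv_mul_cancel₀ hb, one_smul]
          _ = _ := by rw [h2, smul_neg, smul_smul, neg_smul]
      subst hb
      rw [zero_smul, add_zero] at hab
      exact ⟨(smul_eq_zero.1 hab).resolve_right hv0, rfl⟩)
    obtain ⟨e, he, h1, h2⟩ := lift_R D hn H
    exact ⟨e, by rw [Rt_eq hF j W hv]; exact he, h1, h2⟩

end Cfsg.Agent.OddHalf.D7.Uni.Face

end

private theorem dce_6a264cbbcf13 : _root_.True := by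
  try have : _root_.True := by simp only [_root_.Cfsg.Agent.OddHalf.D7.Uni.Face.Sg.congr_simp]
  try have : _root_.True := by simp only [_root_.Cfsg.Agent.OddHalf.D7.Uni.Face.EP.eq_1]
  try have : _root_.True := by simp only [_root_.Cfsg.Agent.OddHalf.D7.Uni.Face.RP.eq_1]
  try have : _root_.True := by simp only [_root_.Cfsg.Agent.OddHalf.D7.Uni.Face.QP.congr_simp]
  exact _root_.True.intro
end
end
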